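import Mathlib.GroupTheory.Sylow
import Mathlib.GroupTheory.SchurZassenhaus
import Mathlib.GroupTheory.OrderOfElement
import Cfsg.Prelude.Def_Transfer

/-!
# `O^p(G)` (`Cfsg.pResidual`) and normal `p`-complements

Basic API for `Cfsg.pResidual` and `Cfsg.HasNormalPComplement`.
-/

namespace Cfsg.Agent.Fusion

open Subgroup

universe u v

variable {G : Type u} [Group G] {p : ℕ}

theorem mem_pResidual_of_coprime {g : G} (h : Nat.Coprime (orderOf g) p) :
    g ∈ pResidual p G :=
  subset_closure h

theorem map_pResidual_le {H : Type v} [Group H] (f : G →* H) :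
    (pResidual p G).map f ≤ pResidual p H := by
  rw [pResidual, MonoidHom.map_closure, closure_le]
  rintro _ ⟨g, hg, rfl⟩
  exact mem_pResidual_of_coprime (Nat.Coprime.coprime_dvd_left (orderOf_map_dvd f g) hg)

theorem pResidual_characteristic : (pResidual p G).Characteristic := by
  rw [characteristic_iff_map_le]
  intro ϕ
  exact map_pResidual_le ϕ.toMonoidHom

instance pResidualNormal : (pResidual p G).Normal :=
  haveI := pResidual_characteristic (G := G) (p := p)
  inferInstance

/-- The `p`-part and the `p'`-part of an element of finite order. -/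
theorem exists_pPart_mul [Fact p.Prime] (g : G) (hg : IsOfFinOrder g) :
    ∃ a b : G, g = a * b ∧ Commute a b ∧ a ∈ zpowers g ∧ b ∈ zpowers g ∧
      (∃ k, orderOf a ∣ p ^ k) ∧ Nat.Coprime (orderOf b) p := by
  have hn : orderOf g ≠ 0 := (orderOf_pos_iff.mpr hg).ne'
  obtain ⟨k, m, hm, hkm⟩ := Nat.exists_eq_pow_mul_and_not_dvd hn p (Fact.out : p.Prime).ne_one
  have hcop : Nat.Coprime m (p ^ k) :=
    Nat.Coprime.pow_right _ ((Nat.Prime.coprime_iff_not_dvd Fact.out).mpr hm).symm
  obtain ⟨x, y, hxy⟩ : ∃ x y : ℤ, (m : ℤ) * x + ((p ^ k : ℕ) : ℤ) * y = 1 :=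
    ⟨_, _, (Nat.gcd_eq_gcd_ab m (p ^ k)).symm.trans (by rw [hcop.gcd_eq_one]; rfl)⟩
  have hdvd : ∀ (z : ℤ) (d e : ℕ), orderOf g = d * e → orderOf (g ^ ((e : ℤ) * z)) ∣ d := by
    intro z d e hde
    rw [orderOf_dvd_iff_pow_eq_one, ← zpow_natCast, ← zpow_mul,
      show (e : ℤ) * z * (d : ℤ) = ((orderOf g : ℕ) : ℤ) * z by rw [hde]; push_cast; ring,
      zpow_mul, zpow_natCast, pow_orderOf_eq_one, one_zpow]
  refine ⟨g ^ ((m : ℤ) * x), g ^ (((p ^ k : ℕ) : ℤ) * y), ?_, ?_, zpow_mem_zpowers _ _,
    zpow_mem_zpowers _ _, ⟨k, hdvd x (p ^ k) m hkm⟩, ?_⟩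
  · rw [← zpow_add, hxy, zpow_one]
  · exact ((Commute.refl g).zpow_zpow _ _)
  · exact Nat.Coprime.coprime_dvd_left (hdvd y m (p ^ k) (hkm.trans (mul_comm _ _)))
      ((Nat.Prime.coprime_iff_not_dvd Fact.out).mpr hm).symm

theorem isPGroup_quotient_pResidual [Finite G] [Fact p.Prime] :
    IsPGroup p (G ⧸ pResidual p G) := by
  rw [isPGroup_iff_orderOf_dvd_pow]
  intro x
  obtain ⟨g, rfl⟩ := QuotientGroup.mk_surjective x
  obtain ⟨a, b, hab, -, -, -, ⟨k, hk⟩, hb⟩ := exists_pPart_mul (p := p) g (isOfFinOrder_of_finite g)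
  refine ⟨k, ?_⟩
  have : (g : G ⧸ pResidual p G) = (a : G ⧸ pResidual p G) := by
    rw [hab, QuotientGroup.mk_mul,
      (QuotientGroup.eq_one_iff b).mpr (mem_pResidual_of_coprime hb), mul_one]
  rw [this]
  exact (orderOf_map_dvd (QuotientGroup.mk' (pResidual p G)) a).trans hk

theorem pResidual_le_ker {A : Type v} [Group A] [Fact p.Prime] (f : G →* A) (hA : IsPGroup p A) :
    pResidual p G ≤ f.ker := by
  rw [pResidual, closure_le]
  intro g hg
  obtain ⟨k, hk⟩ := IsPGroup.iff_orderOf.mp hA (f g)
  have h1 : orderOf (f g) ∣ Nat.gcd (orderOf g) (p ^ k) :=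
    Nat.dvd_gcd (orderOf_map_dvd f g) hk.dvd
  rw [Nat.Coprime.gcd_eq_one (Nat.Coprime.pow_right k hg), Nat.dvd_one] at h1
  exact MonoidHom.mem_ker.mpr (orderOf_eq_one_iff.mp h1)

theorem pResidual_le_of_isPGroup_quotient [Fact p.Prime] (N : Subgroup G) [N.Normal]
    (h : IsPGroup p (G ⧸ N)) : pResidual p G ≤ N :=
  (pResidual_le_ker (QuotientGroup.mk' N) h).trans_eq (QuotientGroup.ker_mk' N)

theorem isPGroup_quotient_of_pResidual_le [Finite G] [Fact p.Prime] (N : Subgroup G) [N.Normal]
    (h : pResidual p G ≤ N) : IsPGroup p (G ⧸ N) :=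
  (isPGroup_quotient_pResidual (G := G) (p := p)).of_surjective
    (QuotientGroup.map (pResidual p G) N (MonoidHom.id G) (by simpa using h))
    (fun x => by
      obtain ⟨g, rfl⟩ := QuotientGroup.mk_surjective x
      exact ⟨(g : G ⧸ pResidual p G), by simp⟩)

theorem index_pResidual_eq_pow [Finite G] [Fact p.Prime] :
    ∃ k, (pResidual p G).index = p ^ k := by
  rw [index_eq_card]
  exact IsPGroup.iff_card.mp isPGroup_quotient_pResidual

theorem map_pResidual_of_surjective [Finite G] [Fact p.Prime] {H : Type v} [Group H]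
    (f : G →* H) (hf : Function.Surjective f) : (pResidual p G).map f = pResidual p H := by
  refine le_antisymm (map_pResidual_le f) ?_
  have : ((pResidual p G).map f).Normal := Normal.map inferInstance f hf
  refine pResidual_le_of_isPGroup_quotient _ ?_
  exact (isPGroup_quotient_pResidual (G := G) (p := p)).of_surjective
    (QuotientGroup.map (pResidual p G) _ f (le_comap_map f _))
    (fun x => by
      obtain ⟨y, rfl⟩ := QuotientGroup.mk_surjective x
      obtain ⟨g, rfl⟩ := hf y
      exact ⟨(g : G ⧸ pResidual p G), by simp⟩)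

theorem map_pResidual_subgroup_le (H : Subgroup G) :
    (pResidual p H).map H.subtype ≤ pResidual p G ⊓ H :=
  le_inf (map_pResidual_le H.subtype) (map_subtype_le _)

theorem mem_pResidual_subgroup {H : Subgroup G} {g : G} (hgH : g ∈ H)
    (hg : Nat.Coprime (orderOf g) p) : g ∈ (pResidual p H).map H.subtype :=
  ⟨⟨g, hgH⟩, mem_pResidual_of_coprime (by rwa [Subgroup.orderOf_mk]), rfl⟩

/-- A Sylow `p`-subgroup covers every `p`-group quotient. -/
theorem sylow_sup_eq_top_of_isPGroup_quotient [Finite G] [Fact p.Prime] (P : Sylow p G)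
    (N : Subgroup G) [N.Normal] (h : IsPGroup p (G ⧸ N)) : (P : Subgroup G) ⊔ N = ⊤ := by
  rw [← index_eq_one]
  obtain ⟨k, hk⟩ := IsPGroup.iff_card.mp h
  obtain ⟨j, -, hj⟩ := (Nat.dvd_prime_pow (Fact.out : p.Prime)).mp
    ((index_dvd_of_le (le_sup_right : N ≤ (P : Subgroup G) ⊔ N)).trans
      (by rw [index_eq_card, hk]))
  rcases j with _ | j
  · simpa using hj
  · exact absurd ((dvd_pow_self p (Nat.succ_ne_zero j)).trans
      (hj ▸ index_dvd_of_le (le_sup_left : (P : Subgroup G) ≤ _))) P.not_dvd_index

theorem sylow_sup_pResidual [Finite G] [Fact p.Prime] (P : Sylow p G) :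
    (P : Subgroup G) ⊔ pResidual p G = ⊤ :=
  sylow_sup_eq_top_of_isPGroup_quotient P _ isPGroup_quotient_pResidual

theorem pResidual_pResidual [Finite G] [Fact p.Prime] :
    pResidual p (pResidual p G) = ⊤ := by
  rw [eq_top_iff]
  rintro ⟨x, hx⟩ -
  have key : pResidual p G ≤ (pResidual p (pResidual p G)).map (pResidual p G).subtype := by
    rw [pResidual, closure_le]
    intro g hg
    exact mem_pResidual_subgroup (mem_pResidual_of_coprime hg) hg
  obtain ⟨y, hy, hyx⟩ := key hx
  exact (show y = ⟨x, hx⟩ from Subtype.ext hyx) ▸ hy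

/-! ### Normal `p`-complements -/

section Complement

variable [Finite G] [Fact p.Prime]

theorem coprime_card_pResidual_of_hasNormalPComplement (h : HasNormalPComplement p G) :
    (Nat.card (pResidual p G)).Coprime p := by
  obtain ⟨P, N, hN, hc⟩ := h
  have hcop : (Nat.card N).Coprime p := by
    rw [← hc.index_eq_card]
    exact ((Nat.Prime.coprime_iff_not_dvd Fact.out).mpr P.not_dvd_index).symm
  obtain ⟨n, hn⟩ := IsPGroup.iff_card.mp P.2
  have : IsPGroup p (G ⧸ N) := IsPGroup.of_card (n := n) (by
    rw [← index_eq_card, hc.symm.index_eq_card]; exact hn)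
  exact hcop.coprime_dvd_left (card_dvd_of_le (pResidual_le_of_isPGroup_quotient N this))

theorem isComplement'_pResidual_of_coprime (h : (Nat.card (pResidual p G)).Coprime p)
    (P : Sylow p G) : (pResidual p G).IsComplement' (P : Subgroup G) := by
  obtain ⟨n, hn⟩ := IsPGroup.iff_card.mp P.2
  refine isComplement'_of_disjoint_and_mul_eq_univ ?_ ?_
  · refine disjoint_of_coprime_natCard ?_
    rw [hn]
    exact h.pow_right n
  · rw [← normal_mul, sup_comm, sylow_sup_pResidual P, coe_top]

theorem hasNormalPComplement_iff :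
    HasNormalPComplement p G ↔ (Nat.card (pResidual p G)).Coprime p :=
  ⟨coprime_card_pResidual_of_hasNormalPComplement, fun h =>
    have ⟨P⟩ := (inferInstance : Nonempty (Sylow p G))
    ⟨P, pResidual p G, inferInstance, isComplement'_pResidual_of_coprime h P⟩⟩

theorem hasNormalPComplement_iff_exists :
    HasNormalPComplement p G ↔
      ∃ N : Subgroup G, N.Normal ∧ (Nat.card N).Coprime p ∧ ∃ k, N.index = p ^ k := by
  rw [hasNormalPComplement_iff]
  refine ⟨fun h => ⟨_, inferInstance, h, index_pResidual_eq_pow⟩, ?_⟩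
  rintro ⟨N, hN, hc, k, hk⟩
  refine hc.coprime_dvd_left (card_dvd_of_le (pResidual_le_of_isPGroup_quotient N ?_))
  exact IsPGroup.of_card (n := k) (by rw [← index_eq_card, hk])

theorem hasNormalPComplement_of_normal_isPGroup_quotient (N : Subgroup G) [N.Normal]
    (hc : (Nat.card N).Coprime p) (hq : IsPGroup p (G ⧸ N)) : HasNormalPComplement p G :=
  hasNormalPComplement_iff.mpr
    (hc.coprime_dvd_left (card_dvd_of_le (pResidual_le_of_isPGroup_quotient N hq)))

theorem isComplement'_pResidual (h : HasNormalPComplement p G) (P : Sylow p G) :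
    (pResidual p G).IsComplement' (P : Subgroup G) :=
  isComplement'_pResidual_of_coprime (coprime_card_pResidual_of_hasNormalPComplement h) P

theorem mem_pResidual_iff (h : HasNormalPComplement p G) {x : G} :
    x ∈ pResidual p G ↔ Nat.Coprime (orderOf x) p := by
  refine ⟨fun hx => ?_, mem_pResidual_of_coprime⟩
  exact (coprime_card_pResidual_of_hasNormalPComplement h).coprime_dvd_left
    (orderOf_dvd_natCard (pResidual p G) hx)

theorem eq_pResidual_of_isComplement' {N : Subgroup G} [N.Normal] (P : Sylow p G)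
    (hN : N.IsComplement' (P : Subgroup G)) : N = pResidual p G := by
  have hc := isComplement'_pResidual ⟨P, N, inferInstance, hN⟩ P
  obtain ⟨n, hn⟩ := IsPGroup.iff_card.mp P.2
  have hq : IsPGroup p (G ⧸ N) := IsPGroup.of_card (n := n) (by
    rw [← index_eq_card, hN.symm.index_eq_card]; exact hn)
  refine (eq_of_le_of_card_ge (pResidual_le_of_isPGroup_quotient N hq) ?_).symm
  rw [← hN.index_eq_card, hc.index_eq_card]

theorem hasNormalPComplement_of_coprime (h : (Nat.card G).Coprime p) :
    HasNormalPComplement p G :=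
  hasNormalPComplement_iff.mpr (h.coprime_dvd_left (card_subgroup_dvd_card _))

theorem hasNormalPComplement_of_isPGroup (h : IsPGroup p G) : HasNormalPComplement p G := by
  refine hasNormalPComplement_of_normal_isPGroup_quotient ⊥ ?_ (h.to_quotient ⊥)
  simp

theorem hasNormalPComplement_of_injective {H : Type v} [Group H] [Finite H] (f : H →* G)
    (hf : Function.Injective f) (h : HasNormalPComplement p G) : HasNormalPComplement p H := by
  rw [hasNormalPComplement_iff]
  refine (coprime_card_pResidual_of_hasNormalPComplement h).coprime_dvd_left ?_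
  rw [← card_map_of_injective hf]
  exact card_dvd_of_le (map_pResidual_le f)

theorem hasNormalPComplement_subgroup (h : HasNormalPComplement p G) (H : Subgroup G) :
    HasNormalPComplement p H :=
  hasNormalPComplement_of_injective H.subtype H.subtype_injective h

theorem hasNormalPComplement_of_surjective {H : Type v} [Group H] (f : G →* H)
    (hf : Function.Surjective f) (h : HasNormalPComplement p G) : HasNormalPComplement p H := by
  have : Finite H := Finite.of_surjective f hf
  rw [hasNormalPComplement_iff, ← map_pResidual_of_surjective f hf]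
  exact (coprime_card_pResidual_of_hasNormalPComplement h).coprime_dvd_left (card_map_dvd _ f)

theorem hasNormalPComplement_quotient (h : HasNormalPComplement p G) (N : Subgroup G) [N.Normal] :
    HasNormalPComplement p (G ⧸ N) :=
  hasNormalPComplement_of_surjective (QuotientGroup.mk' N) (QuotientGroup.mk'_surjective N) h

theorem hasNormalPComplement_congr {H : Type v} [Group H] (e : G ≃* H) :
    HasNormalPComplement p G ↔ HasNormalPComplement p H :=
  ⟨hasNormalPComplement_of_surjective e.toMonoidHom e.surjective,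
    fun h => haveI : Finite H := Finite.of_equiv G e.toEquiv
      hasNormalPComplement_of_surjective e.symm.toMonoidHom e.symm.surjective h⟩

theorem hasNormalPComplement_of_quotient (N : Subgroup G) [N.Normal]
    (hN : (Nat.card N).Coprime p) (h : HasNormalPComplement p (G ⧸ N)) :
    HasNormalPComplement p G := by
  set K : Subgroup G := (pResidual p (G ⧸ N)).comap (QuotientGroup.mk' N) with hK
  have : K.Normal := Normal.comap inferInstance _
  obtain ⟨k, hk⟩ := index_pResidual_eq_pow (G := G ⧸ N) (p := p)
  refine hasNormalPComplement_iff_exists.mpr ⟨K, inferInstance, ?_, k, ?_⟩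
  · have hle : N ≤ K := fun x hx => by
      rw [hK, mem_comap, QuotientGroup.mk'_apply, (QuotientGroup.eq_one_iff x).mpr hx]
      exact one_mem _
    have hi : K.index = (pResidual p (G ⧸ N)).index :=
      index_comap_of_surjective _ (QuotientGroup.mk'_surjective N)
    have e1 := K.card_mul_index
    have e2 := (pResidual p (G ⧸ N)).card_mul_index
    have e3 := N.card_mul_index
    rw [index_eq_card] at e3
    rw [hi, ← e3, ← e2, ← mul_assoc] at e1
    rw [Nat.mul_right_cancel (Nat.pos_of_ne_zero (index_ne_zero_of_finite (H := pResidual p _))) e1]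
    exact hN.mul_left (coprime_card_pResidual_of_hasNormalPComplement h)
  · rw [hK, index_comap_of_surjective _ (QuotientGroup.mk'_surjective N), hk]

theorem hasNormalPComplement_iff_mul_closed :
    HasNormalPComplement p G ↔ ∀ x y : G, Nat.Coprime (orderOf x) p → Nat.Coprime (orderOf y) p →
      Nat.Coprime (orderOf (x * y)) p := by
  refine ⟨fun h x y hx hy => ?_, fun h => ?_⟩
  · rw [← mem_pResidual_iff h] at hx hy ⊢
    exact mul_mem hx hy
  · have hmem : ∀ x ∈ pResidual p G, Nat.Coprime (orderOf x) p := by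
      intro x hx
      rw [pResidual] at hx
      induction hx using closure_induction with
      | mem z hz => exact hz
      | one => simp
      | mul a b _ _ ha hb => exact h a b ha hb
      | inv a _ ha => simpa using ha
    rw [hasNormalPComplement_iff]
    refine ((Nat.Prime.coprime_iff_not_dvd Fact.out).mpr fun hp => ?_).symm
    obtain ⟨x, hx⟩ := exists_prime_orderOf_dvd_card' (G := pResidual p G) p hp
    have := hmem x x.2
    rw [Subgroup.orderOf_coe, hx, Nat.coprime_self] at this
    exact (Fact.out : p.Prime).ne_one this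

end Complement

end Cfsg.Agent.Fusion
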