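import Mathlib.GroupTheory.Focal
import Mathlib.GroupTheory.IndexNormal
import Mathlib.GroupTheory.Nilpotent
import Mathlib.GroupTheory.IsPerfect
import Mathlib.GroupTheory.Transfer
import Cfsg.Agent.Fusion.Residual

/-!
# Consequences of the focal subgroup theorem
-/

namespace Cfsg.Agent.Fusion

set_option linter.unusedSectionVars false

open Subgroup
open scoped commutatorElement

universe u

variable {G : Type u} [Group G] [Finite G] {p : ℕ} [Fact p.Prime] (P : Sylow p G)

theorem inf_pResidual_le_focal :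
    (P : Subgroup G) ⊓ pResidual p G ≤ focalSubgroup (P : Subgroup G) := by
  rw [← ker_transferFocal_inf_eq_focalSubgroup P]
  exact le_inf (inf_le_right.trans (pResidual_le_ker _ (P.2.to_quotient _))) inf_le_left

theorem inf_pResidual_le_commutator :
    (P : Subgroup G) ⊓ pResidual p G ≤ commutator G ⊓ (P : Subgroup G) := by
  rw [commutator_inf_eq_focalSubgroup P]
  exact inf_pResidual_le_focal P

/-- An abelian Sylow subgroup makes the largest `p`-quotient abelian. -/
theorem commutator_le_pResidual_of_isMulCommutative (hP : IsMulCommutative (P : Subgroup G)) :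
    commutator G ≤ pResidual p G :=
  haveI := hP
  Normal.commutator_le_of_self_sup_commutative_eq_top
    (by rw [sup_comm]; exact sylow_sup_pResidual P) inferInstance

theorem inf_pResidual_eq_of_isMulCommutative (hP : IsMulCommutative (P : Subgroup G)) :
    (P : Subgroup G) ⊓ pResidual p G = commutator G ⊓ (P : Subgroup G) :=
  le_antisymm (inf_pResidual_le_commutator P)
    (le_inf inf_le_right (inf_le_left.trans (commutator_le_pResidual_of_isMulCommutative P hP)))

/-- If `H` controls the fusion of elements of `P` then the focal subgroup lies in `H'`. -/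
theorem focalSubgroup_le_commutator_of_controls (H : Subgroup G) (hPH : (P : Subgroup G) ≤ H)
    (h : ∀ x ∈ P, ∀ g : G, g * x * g⁻¹ ∈ P → ∃ t ∈ H, t * x * t⁻¹ = g * x * g⁻¹) :
    focalSubgroup (P : Subgroup G) ≤ ⁅H, H⁆ ⊓ (P : Subgroup G) := by
  rw [focalSubgroup_def, closure_le]
  rintro _ ⟨hgP, x, hx, u, rfl⟩
  refine ⟨?_, hgP⟩
  have hz : u * x⁻¹ * u⁻¹ ∈ P := by
    rw [show u * x⁻¹ * u⁻¹ = x⁻¹ * ⁅x, u⁆ by rw [commutatorElement_def]; group]
    exact mul_mem (inv_mem hx) hgP
  obtain ⟨t, ht, hteq⟩ := h x⁻¹ (inv_mem hx) u hz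
  have : ⁅x, u⁆ = ⁅x, t⁆ := by
    rw [commutatorElement_def, commutatorElement_def]
    calc x * u * x⁻¹ * u⁻¹ = x * (u * x⁻¹ * u⁻¹) := by group
      _ = x * (t * x⁻¹ * t⁻¹) := by rw [hteq]
      _ = x * t * x⁻¹ * t⁻¹ := by group
  rw [this]
  exact commutator_mem_commutator (hPH hx) ht

theorem focalSubgroup_le_commutator_right_of_controls (H : Subgroup G)
    (h : ∀ x ∈ P, ∀ g : G, g * x * g⁻¹ ∈ P → ∃ t ∈ H, t * x * t⁻¹ = g * x * g⁻¹) :
    focalSubgroup (P : Subgroup G) ≤ ⁅(P : Subgroup G), H⁆ := by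
  rw [focalSubgroup_def, closure_le]
  rintro _ ⟨hgP, x, hx, u, rfl⟩
  obtain ⟨t, ht, hteq⟩ := h x⁻¹ (inv_mem hx) u (by
    rw [show u * x⁻¹ * u⁻¹ = x⁻¹ * ⁅x, u⁆ by rw [commutatorElement_def]; group]
    exact mul_mem (inv_mem hx) hgP)
  have : ⁅x, u⁆ = ⁅x, t⁆ := by
    rw [commutatorElement_def, commutatorElement_def]
    calc x * u * x⁻¹ * u⁻¹ = x * (u * x⁻¹ * u⁻¹) := by group
      _ = x * (t * x⁻¹ * t⁻¹) := by rw [hteq]
      _ = x * t * x⁻¹ * t⁻¹ := by group
  rw [this]
  exact commutator_mem_commutator hx ht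

theorem commutator_inf_eq_of_controls (H : Subgroup G) (hPH : (P : Subgroup G) ≤ H)
    (h : ∀ x ∈ P, ∀ g : G, g * x * g⁻¹ ∈ P → ∃ t ∈ H, t * x * t⁻¹ = g * x * g⁻¹) :
    commutator G ⊓ (P : Subgroup G) = ⁅H, H⁆ ⊓ (P : Subgroup G) := by
  refine le_antisymm ?_ (inf_le_inf_right _ (commutator_mono le_top le_top))
  rw [commutator_inf_eq_focalSubgroup P]
  exact focalSubgroup_le_commutator_of_controls P H hPH h

/-- Burnside: an abelian Sylow subgroup has its fusion controlled by its normalizer. -/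
theorem exists_mem_normalizer_conj_of_isMulCommutative (hP : IsMulCommutative (P : Subgroup G))
    {x : G} (hx : x ∈ P) (g : G) (hy : g * x * g⁻¹ ∈ P) :
    ∃ t ∈ normalizer (P : Set G), t * x * t⁻¹ = g * x * g⁻¹ := by
  have := hP
  obtain ⟨n, hn, hn'⟩ := P.conj_eq_normalizer_conj_of_mem x g⁻¹ hx (by simpa using hy)
  refine ⟨n⁻¹, inv_mem hn, ?_⟩
  simpa using hn'.symm

/-- Burnside's normal `p`-complement theorem. -/
theorem hasNormalPComplement_of_normalizer_le_centralizer
    (h : normalizer (P : Set G) ≤ centralizer (P : Set G)) : HasNormalPComplement p G :=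
  ⟨P, (MonoidHom.transferSylow P h).ker, inferInstance,
    MonoidHom.ker_transferSylow_isComplement' P h⟩

/-- A nontrivial finite `p`-group has a proper derived subgroup. -/
theorem isPGroup_commutator_lt {Q : Subgroup G} [Finite Q] (hQ : IsPGroup p Q) (h : Q ≠ ⊥) :
    ⁅Q, Q⁆ < Q := by
  refine lt_of_le_of_ne Q.commutator_le_self fun he => ?_
  have : Nontrivial Q := (nontrivial_iff_ne_bot Q).mpr h
  have := hQ.isNilpotent
  have : Group.IsPerfect Q := Subgroup.isPerfect_iff.mpr he
  exact Group.IsPerfect.not_isNilpotent (G := Q) inferInstance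

theorem pResidual_ne_top_of_not_le_commutator (h : ¬ (P : Subgroup G) ≤ commutator G) :
    pResidual p G ≠ ⊤ := by
  intro ht
  refine h ?_
  have := inf_pResidual_le_commutator P
  rw [ht, inf_top_eq] at this
  exact this.trans inf_le_left

/-- A group with a proper `O^p` has a normal subgroup of index `p`. -/
theorem exists_normal_index_eq_of_pResidual_ne_top (h : pResidual p G ≠ ⊤) :
    ∃ M : Subgroup G, M.Normal ∧ M.index = p ∧ pResidual p G ≤ M := by
  set R := pResidual p G
  obtain ⟨n, hn⟩ := IsPGroup.iff_card.mp (isPGroup_quotient_pResidual (G := G) (p := p))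
  obtain ⟨m, rfl⟩ : ∃ m, n = m + 1 := Nat.exists_eq_succ_of_ne_zero (by
    rintro rfl
    exact h (index_eq_one.mp (by rw [index_eq_card, hn, pow_zero])))
  obtain ⟨K, hK⟩ := Sylow.exists_subgroup_card_pow_prime p (G := G ⧸ R) (n := m)
    (hn ▸ pow_dvd_pow p m.le_succ)
  have hKi : K.index = p := by
    have := K.card_mul_index
    rw [hK, hn, pow_succ] at this
    exact Nat.eq_of_mul_eq_mul_left (pow_pos (Fact.out : p.Prime).pos m) this
  have : K.Normal := normal_of_index_eq_minFac_card (by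
    rw [hKi, hn, Nat.Prime.pow_minFac Fact.out m.succ_ne_zero])
  refine ⟨K.comap (QuotientGroup.mk' R), Normal.comap inferInstance _, ?_, ?_⟩
  · rw [index_comap_of_surjective _ (QuotientGroup.mk'_surjective R), hKi]
  · exact (QuotientGroup.ker_mk' R).ge.trans (comap_mono bot_le)

end Cfsg.Agent.Fusion
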