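import Mathlib.GroupTheory.Nilpotent
import Mathlib.Data.Set.Finite.Lemmas
import Cfsg.Agent.Fusion.Residual

/-!
# Alperin's fusion theorem

`AlperinChain P A g`: `g` is a product of elements normalizing tame intersections `P ⊓ Q`, with the
successive conjugates of the set `A` inside these intersections.
-/

namespace Cfsg.Agent.Fusion

set_option linter.unusedSectionVars false

open Subgroup

universe u

variable {G : Type u} [Group G] {p : ℕ}

/-- `A` conjugated by `g` on the right. -/
def conjSet (g : G) (A : Set G) : Set G := (fun a => g⁻¹ * a * g) '' A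

theorem mem_conjSet {g : G} {A : Set G} {x : G} : x ∈ conjSet g A ↔ g * x * g⁻¹ ∈ A := by
  constructor
  · rintro ⟨a, ha, rfl⟩
    simpa [mul_assoc] using ha
  · intro h
    exact ⟨_, h, by simp [mul_assoc]⟩

theorem conjSet_one (A : Set G) : conjSet 1 A = A := by ext; simp [mem_conjSet]

theorem conjSet_mul (g h : G) (A : Set G) : conjSet (g * h) A = conjSet h (conjSet g A) := by
  ext; simp [mem_conjSet, mul_assoc]

theorem conjSet_mono {g : G} {A B : Set G} (h : A ⊆ B) : conjSet g A ⊆ conjSet g B :=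
  Set.image_mono h

theorem conjSet_eq_of_mem_normalizer {g : G} {H : Subgroup G}
    (hg : g ∈ normalizer (H : Set G)) : conjSet g (H : Set G) = (H : Set G) := by
  ext x
  rw [mem_conjSet]
  exact (mem_normalizer_iff.mp hg x).symm

/-- The subgroup `H` conjugated by `g` on the right. -/
def conjSub (g : G) (H : Subgroup G) : Subgroup G := H.map (MulAut.conj g⁻¹).toMonoidHom

theorem mem_conjSub {g : G} {H : Subgroup G} {x : G} :
    x ∈ conjSub g H ↔ g * x * g⁻¹ ∈ H := by
  rw [conjSub, mem_map_equiv]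
  simp [mul_assoc]

theorem coe_conjSub (g : G) (H : Subgroup G) :
    (conjSub g H : Set G) = conjSet g (H : Set G) := by
  ext; simp [mem_conjSub, mem_conjSet]

theorem card_conjSub (g : G) (H : Subgroup G) : Nat.card (conjSub g H) = Nat.card H :=
  card_map_of_injective (MulAut.conj g⁻¹).injective

theorem conjSub_mono {g : G} {H K : Subgroup G} (h : H ≤ K) : conjSub g H ≤ conjSub g K :=
  map_mono h

theorem conjSub_conjSub (g h : G) (H : Subgroup G) :
    conjSub h (conjSub g H) = conjSub (g * h) H := by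
  ext; simp [mem_conjSub, mul_assoc]

theorem conjSub_one (H : Subgroup G) : conjSub 1 H = H := by ext; simp [mem_conjSub]

theorem conjSub_le_iff {g : G} {H K : Subgroup G} : conjSub g H ≤ K ↔ H ≤ conjSub g⁻¹ K := by
  constructor <;> intro h x hx
  · rw [mem_conjSub]
    simpa using h (mem_conjSub.mpr (show g * (g⁻¹ * x * g) * g⁻¹ ∈ H by simpa [mul_assoc] using hx))
  · simpa [mem_conjSub, mul_assoc] using h (mem_conjSub.mp hx)

theorem conjSub_eq_of_mem_normalizer {g : G} {H : Subgroup G}
    (hg : g ∈ normalizer (H : Set G)) : conjSub g H = H := by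
  ext x
  rw [mem_conjSub]
  exact (mem_normalizer_iff.mp hg x).symm

theorem mem_normalizer_of_conjSub_eq {g : G} {H : Subgroup G} (h : conjSub g H = H) :
    g ∈ normalizer (H : Set G) := by
  rw [mem_normalizer_iff]
  intro x
  conv_lhs => rw [← h, mem_conjSub]

theorem isPGroup_conjSub {g : G} {H : Subgroup G} (h : IsPGroup p H) :
    IsPGroup p (conjSub g H) :=
  h.map _

theorem conjSub_normalizer (g : G) (H : Subgroup G) :
    conjSub g (normalizer (H : Set G)) = normalizer (conjSub g H : Set G) :=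
  map_equiv_normalizer_eq H (MulAut.conj g⁻¹)

variable [Finite G] [hp : Fact p.Prime]

theorem lt_inf_normalizer_of_isPGroup {T F : Subgroup G} (hT : IsPGroup p T) (h : F < T) :
    F < T ⊓ normalizer (F : Set G) := by
  refine lt_of_le_of_ne (le_inf h.le le_normalizer) fun he => ?_
  have := hT.isNilpotent
  have h1 : F.subgroupOf T < ⊤ := lt_top_iff_ne_top.mpr fun e =>
    h.not_ge (subgroupOf_eq_top.mp e)
  have h2 := Group.normalizerCondition_of_isNilpotent (G := T) _ h1
  rw [← subgroupOf_normalizer_eq h.le] at h2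
  obtain ⟨x, hx, hxF⟩ := SetLike.exists_of_lt h2
  exact hxF (show (x : G) ∈ F from he.symm ▸ (show (x : G) ∈ T ⊓ normalizer (F : Set G) from ⟨x.2, hx⟩))

/-- A `p`-subgroup of `N` of index prime to `p` contains a conjugate of every `p`-subgroup
of `N`. -/
theorem exists_conjSub_le_of_not_dvd_relIndex {S T N : Subgroup G} (hSN : S ≤ N)
    (hS : IsPGroup p S) (hSi : ¬ p ∣ S.relIndex N) (hTN : T ≤ N) (hT : IsPGroup p T) :
    ∃ m ∈ N, conjSub m T ≤ S := by
  let S' : Sylow p N :=
    (hS.comap_subtype (K := N)).toSylow hSi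
  obtain ⟨T', hT'⟩ := (hT.comap_subtype (K := N)).exists_le_sylow
  obtain ⟨m, hm⟩ := MulAction.exists_smul_eq N T' S'
  refine ⟨(m : G)⁻¹, inv_mem m.2, fun x hx => ?_⟩
  rw [mem_conjSub, inv_inv] at hx
  have hxN : x ∈ N := by
    have := mul_mem (mul_mem m.2 (hTN hx)) (inv_mem m.2)
    simpa [mul_assoc] using this
  have hy : (⟨(m : G)⁻¹ * x * m, hTN hx⟩ : N) ∈ T' := hT' hx
  have : (⟨x, hxN⟩ : N) ∈ (m • T' : Sylow p N) := by
    refine ⟨⟨(m : G)⁻¹ * x * m, hTN hx⟩, hy, ?_⟩
    apply Subtype.ext
    simp [mul_assoc]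
  rw [hm] at this
  exact this

theorem eq_of_isPGroup_of_not_dvd_relIndex {S T N : Subgroup G} (hSN : S ≤ N)
    (hS : IsPGroup p S) (hSi : ¬ p ∣ S.relIndex N) (hTN : T ≤ N) (hT : IsPGroup p T)
    (hST : S ≤ T) : T = S := by
  obtain ⟨m, -, hle⟩ := exists_conjSub_le_of_not_dvd_relIndex hSN hS hSi hTN hT
  exact (eq_of_le_of_card_ge hST (card_conjSub m T ▸ card_le_of_le hle)).symm

theorem not_dvd_relIndex_conjSub {m : G} {S N : Subgroup G} (hm : m ∈ N)
    (hSi : ¬ p ∣ S.relIndex N) : ¬ p ∣ (conjSub m S).relIndex N := by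
  have hN : conjSub m N = N := conjSub_eq_of_mem_normalizer (le_normalizer hm)
  rw [← hN, conjSub, conjSub, relIndex_map_map_of_injective _ _ (MulAut.conj m⁻¹).injective]
  exact hSi

/-- `P ⊓ Q` is a tame intersection. -/
def IsTame (P Q : Sylow p G) : Prop :=
  ¬ p ∣ ((P : Subgroup G) ⊓ normalizer (((P : Subgroup G) ⊓ (Q : Subgroup G) : Subgroup G) :
      Set G)).relIndex (normalizer (((P : Subgroup G) ⊓ (Q : Subgroup G) : Subgroup G) : Set G)) ∧
  ¬ p ∣ ((Q : Subgroup G) ⊓ normalizer (((P : Subgroup G) ⊓ (Q : Subgroup G) : Subgroup G) :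
      Set G)).relIndex (normalizer (((P : Subgroup G) ⊓ (Q : Subgroup G) : Subgroup G) : Set G))

/-- A chain of conjugations through tame intersections. -/
inductive AlperinChain (P : Sylow p G) : Set G → G → Prop
  | nil (A : Set G) : AlperinChain P A 1
  | cons {A : Set G} {g : G} (x : G) (Q : Sylow p G)
      (hA : A ⊆ ((P : Subgroup G) ⊓ (Q : Subgroup G) : Subgroup G))
      (hx : x ∈ normalizer (((P : Subgroup G) ⊓ (Q : Subgroup G) : Subgroup G) : Set G))
      (hQ : IsTame P Q) (h : AlperinChain P (conjSet x A) g) : AlperinChain P A (x * g)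

variable {P : Sylow p G}

theorem AlperinChain.mono {A B : Set G} {g : G} (h : AlperinChain P A g) (hBA : B ⊆ A) :
    AlperinChain P B g := by
  induction h generalizing B with
  | nil A => exact .nil B
  | cons x Q hA hx hQ _ ih => exact .cons x Q (hBA.trans hA) hx hQ (ih (conjSet_mono hBA))

theorem AlperinChain.trans {A : Set G} {g h : G} (h1 : AlperinChain P A g)
    (h2 : AlperinChain P (conjSet g A) h) : AlperinChain P A (g * h) := by
  induction h1 with
  | nil A => simpa [conjSet_one] using h2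
  | cons x Q hA hx hQ _ ih =>
    rw [mul_assoc]
    exact .cons x Q hA hx hQ (ih (by rwa [← conjSet_mul]))

theorem AlperinChain.inv {A : Set G} {g : G} (h : AlperinChain P A g) :
    AlperinChain P (conjSet g A) g⁻¹ := by
  induction h with
  | nil A => simpa using AlperinChain.nil (P := P) _
  | @cons A g x Q hA hx hQ _ ih =>
    rw [mul_inv_rev]
    rw [← conjSet_mul] at ih
    refine ih.trans ?_
    have e : conjSet g⁻¹ (conjSet (x * g) A) = conjSet x A := by
      rw [← conjSet_mul]; simp
    rw [e, ← mul_one x⁻¹]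
    refine .cons x⁻¹ Q ?_ (inv_mem hx) hQ (.nil _)
    rw [← conjSet_eq_of_mem_normalizer hx]
    exact conjSet_mono hA

/-- Every conjugate of `D` has its conjugate inside `P` with normalizer in `P` a Sylow subgroup of
its normalizer. -/
theorem exists_fully_normalized (P : Sylow p G) {D : Subgroup G} (hD : D ≤ (P : Subgroup G)) :
    ∃ h : G, conjSub h D ≤ (P : Subgroup G) ∧
      ¬ p ∣ ((P : Subgroup G) ⊓ normalizer (conjSub h D : Set G)).relIndex
        (normalizer (conjSub h D : Set G)) := by
  classical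
  obtain ⟨h, hh, hmax⟩ := Set.exists_max_image {h : G | conjSub h D ≤ (P : Subgroup G)}
    (fun h => Nat.card ((P : Subgroup G) ⊓ normalizer (conjSub h D : Set G) : Subgroup G))
    (Set.toFinite _) ⟨1, by simpa [conjSub_one] using hD⟩
  refine ⟨h, hh, fun hdvd => ?_⟩
  set F := conjSub h D with hF
  set N := normalizer (F : Set G) with hN
  set S := (P : Subgroup G) ⊓ N with hS
  obtain ⟨T, hT⟩ := ((P.2.to_inf_left (K := N)).comap_subtype (K := N)).exists_le_sylow
  set T' := (T : Subgroup N).map N.subtype with hT'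
  have hST : S ≤ T' := fun x hx => ⟨⟨x, hx.2⟩, hT hx, rfl⟩
  obtain ⟨R, hR⟩ := (T.2.map N.subtype).exists_le_sylow
  obtain ⟨k, hk⟩ := MulAction.exists_smul_eq G P R
  have hTk : conjSub k T' ≤ (P : Subgroup G) := by
    intro x hx
    have h1 := hR (mem_conjSub.mp hx)
    rw [← hk] at h1
    obtain ⟨y, hy, hyx⟩ := h1
    simp at hyx
    rwa [← hyx]
  have hFS : F ≤ S := le_inf hh le_normalizer
  have h2 : conjSub (h * k) D ≤ (P : Subgroup G) := by
    rw [← conjSub_conjSub]
    exact (conjSub_mono (hFS.trans hST)).trans hTk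
  have h3 : conjSub k T' ≤ (P : Subgroup G) ⊓ normalizer (conjSub (h * k) D : Set G) := by
    refine le_inf hTk ?_
    rw [← conjSub_conjSub, ← conjSub_normalizer]
    exact conjSub_mono (map_subtype_le _)
  have h4 : Nat.card T' ≤ Nat.card S := by
    rw [← card_conjSub k]
    exact (card_le_of_le h3).trans (hmax (h * k) h2)
  have h5 : S = T' := eq_of_le_of_card_ge hST h4
  refine T.not_dvd_index ?_
  rwa [show (T : Subgroup N) = S.subgroupOf N from ?_]
  rw [h5, hT', subgroupOf, comap_map_eq_self_of_injective N.subtype_injective]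

theorem alperinChain_of_conjSub_le (P : Sylow p G) (D : Subgroup G) (g : G)
    (hD : D ≤ (P : Subgroup G)) (hg : conjSub g D ≤ (P : Subgroup G)) :
    AlperinChain P (D : Set G) g := by
  induction hn : Nat.card G - Nat.card D using Nat.strong_induction_on generalizing D g with
  | _ n IH =>
  subst hn
  have IH' : ∀ (D' : Subgroup G) (g' : G), Nat.card D < Nat.card D' → D' ≤ (P : Subgroup G) →
      conjSub g' D' ≤ (P : Subgroup G) → AlperinChain P (D' : Set G) g' := by
    intro D' g' hlt h1 h2
    refine IH _ ?_ D' g' h1 h2 rfl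
    have := Nat.le_of_dvd Nat.card_pos (card_subgroup_dvd_card D')
    omega
  rcases hD.eq_or_lt with rfl | hlt
  · have hgN : g ∈ normalizer ((P : Subgroup G) : Set G) :=
      mem_normalizer_of_conjSub_eq
        (eq_of_le_of_card_ge hg (card_conjSub g (P : Subgroup G)).ge)
    rw [← mul_one g]
    refine .cons g P ?_ (by simpa using hgN) ?_ (.nil _)
    · simp
    · unfold IsTame
      rw [inf_idem, inf_eq_left.mpr (le_normalizer : (P : Subgroup G) ≤ _)]
      exact ⟨fun hd => P.not_dvd_index (hd.trans (relIndex_dvd_index_of_le le_normalizer)),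
        fun hd => P.not_dvd_index (hd.trans (relIndex_dvd_index_of_le le_normalizer))⟩
  obtain ⟨h, hF, hFS⟩ := exists_fully_normalized P hD
  set F := conjSub h D with hFdef
  set N := normalizer (F : Set G) with hNdef
  set S := (P : Subgroup G) ⊓ N with hSdef
  have hSp : IsPGroup p S := P.2.to_inf_left
  -- moving a conjugate of `D` onto `F` by a chain
  have move : ∀ (E : Subgroup G) (k : G), E ≤ (P : Subgroup G) → conjSub k E = F →
      ∃ k', conjSub k' E = F ∧ AlperinChain P (E : Set G) k' := by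
    intro E k hEP hkE
    have hEcard : Nat.card E = Nat.card D := by
      rw [← card_conjSub k E, hkE, hFdef, card_conjSub]
    have hEP' : E < (P : Subgroup G) := lt_of_le_of_ne hEP fun he => by
      have := eq_of_le_of_card_ge hD (by rw [← hEcard, he])
      exact hlt.ne this
    set T := (P : Subgroup G) ⊓ normalizer (E : Set G) with hTdef
    have hTk : conjSub k T ≤ N := by
      rw [hNdef, ← hkE, ← conjSub_normalizer]
      exact conjSub_mono inf_le_right
    obtain ⟨m, hm, hm'⟩ := exists_conjSub_le_of_not_dvd_relIndex inf_le_right hSp hFS hTk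
      (isPGroup_conjSub P.2.to_inf_left)
    refine ⟨k * m, by rw [← conjSub_conjSub, hkE, conjSub_eq_of_mem_normalizer hm], ?_⟩
    have hET : E < T := lt_inf_normalizer_of_isPGroup P.2 hEP'
    refine (IH' T (k * m) ?_ inf_le_left ?_).mono (SetLike.coe_subset_coe.mpr hET.le)
    · rw [← hEcard]
      exact Set.Finite.card_lt_card (Set.toFinite _) (SetLike.coe_ssubset_coe.mpr hET)
    · rw [← conjSub_conjSub]
      exact hm'.trans inf_le_left
  obtain ⟨h', hh', hc1⟩ := move D h hD rfl
  obtain ⟨h'', hh'', hc2⟩ := move (conjSub g D) (g⁻¹ * h) hg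
    (by rw [conjSub_conjSub]; simp [hFdef])
  set n := h'⁻¹ * g * h'' with hndef
  have hnN : n ∈ N := by
    refine mem_normalizer_of_conjSub_eq ?_
    conv_lhs => rw [← hh']
    rw [conjSub_conjSub, hndef, show h' * (h'⁻¹ * g * h'') = g * h'' by group,
      ← conjSub_conjSub, hh'']
  have hFP : F ≤ S := le_inf hF le_normalizer
  have hc3 : AlperinChain P (F : Set G) n := by
    have hmem : ∀ a : G, n * a * n⁻¹ ∈ N ↔ a ∈ N := fun a =>
      ((mem_normalizer_iff).mp (le_normalizer hnN) a).symm
    set R := S ⊓ conjSub n⁻¹ S with hR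
    have hFR : F ≤ R := le_inf hFP (by
      conv_lhs => rw [← conjSub_eq_of_mem_normalizer (inv_mem hnN : n⁻¹ ∈ N)]
      exact conjSub_mono hFP)
    rcases hFR.eq_or_lt with hRe | hRlt
    · obtain ⟨Q, hQ⟩ := (isPGroup_conjSub (g := n⁻¹) hSp).exists_le_sylow
      have hnS : ¬ p ∣ (conjSub n⁻¹ S).relIndex N := not_dvd_relIndex_conjSub (inv_mem hnN) hFS
      have hSN : conjSub n⁻¹ S ≤ N := by
        intro x hx
        have hx' := (mem_conjSub.mp hx).2
        rw [inv_inv, show n⁻¹ * x * n = n⁻¹ * x * n⁻¹⁻¹ by rw [inv_inv]] at hx'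
        exact ((mem_normalizer_iff).mp (le_normalizer (inv_mem hnN : n⁻¹ ∈ N)) x).mpr hx'
      have hQN : (Q : Subgroup G) ⊓ N = conjSub n⁻¹ S :=
        eq_of_isPGroup_of_not_dvd_relIndex hSN (isPGroup_conjSub hSp) hnS inf_le_right
          Q.2.to_inf_left (le_inf hQ hSN)
      have hPQ : (P : Subgroup G) ⊓ (Q : Subgroup G) = F := by
        by_contra hne
        have hlt' : F < (P : Subgroup G) ⊓ (Q : Subgroup G) := lt_of_le_of_ne
          (le_inf hF ((hFR.trans inf_le_right).trans hQ)) (Ne.symm hne)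
        refine (lt_inf_normalizer_of_isPGroup P.2.to_inf_left hlt').not_ge ?_
        rintro x ⟨⟨hxP, hxQ⟩, hxN⟩
        exact hRe.ge ⟨⟨hxP, hxN⟩, hQN.le ⟨hxQ, hxN⟩⟩
      rw [← mul_one n]
      refine .cons n Q ?_ ?_ ?_ (.nil _)
      · rw [hPQ]
      · rw [hPQ]; exact hnN
      · unfold IsTame
        rw [hPQ, ← hNdef, hQN, ← hSdef]
        exact ⟨hFS, hnS⟩
    · refine (IH' R n ?_ (inf_le_left.trans inf_le_left) ?_).mono
        (SetLike.coe_subset_coe.mpr hFR)
      · rw [← card_conjSub h D, ← hFdef]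
        exact Set.Finite.card_lt_card (Set.toFinite _) (SetLike.coe_ssubset_coe.mpr hRlt)
      · refine le_trans (conjSub_mono (inf_le_right : R ≤ conjSub n⁻¹ S)) ?_
        rw [conjSub_conjSub, inv_mul_cancel, conjSub_one]
        exact inf_le_left
  have hgeq : g = h' * (n * h''⁻¹) := by rw [hndef]; group
  rw [hgeq]
  refine hc1.trans ?_
  rw [← coe_conjSub, hh']
  refine hc3.trans ?_
  rw [conjSet_eq_of_mem_normalizer hnN, ← hh'', coe_conjSub h'']
  exact hc2.inv

/-- Alperin's fusion theorem. -/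
theorem alperinChain_of_subset (P : Sylow p G) {A : Set G} {g : G}
    (hA : A ⊆ ((P : Subgroup G) : Set G)) (hg : conjSet g A ⊆ ((P : Subgroup G) : Set G)) :
    AlperinChain P A g := by
  refine (alperinChain_of_conjSub_le P (closure A) g ((closure_le _).mpr hA) ?_).mono
    subset_closure
  rw [conjSub_le_iff, closure_le]
  intro a ha
  rw [SetLike.mem_coe, mem_conjSub, inv_inv]
  exact hg ⟨a, ha, rfl⟩

end Cfsg.Agent.Fusion
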