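import Mathlib.GroupTheory.PGroup
import Mathlib.GroupTheory.Nilpotent
import Mathlib.GroupTheory.Sylow
import Mathlib.Data.Nat.Choose.Basic
import Mathlib.Data.Nat.Choose.Dvd
import Cfsg.Prelude.Def_Transfer
import Cfsg.Agent.Core.MinimalNormal

/-!
# Elementary facts about finite `p`-groups
-/

namespace Cfsg.Agent.Fusion

set_option linter.unusedSectionVars false

open Subgroup
open scoped commutatorElement

universe u

variable {G : Type u} [Group G] [Finite G] {p : ℕ} [Fact p.Prime]

/-- A nontrivial normal subgroup of a finite `p`-group meets the centre nontrivially. -/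
theorem pGroup_inf_center_ne_bot (hG : IsPGroup p G) (N : Subgroup G) [N.Normal] (hN : N ≠ ⊥) :
    N ⊓ center G ≠ ⊥ := by
  have := hG.isNilpotent
  obtain ⟨M, hMN, hM⟩ := Core.exists_isMinNormal_le hN
  intro hb
  exact hM.ne_bot (le_bot_iff.mp (hb ▸ le_inf hMN hM.le_center))

/-- A nontrivial normal subgroup contains a central subgroup of order `p`. -/
theorem exists_central_card_prime (hG : IsPGroup p G) (N : Subgroup G) [N.Normal] (hN : N ≠ ⊥) :
    ∃ Z : Subgroup G, Z ≤ N ∧ Z ≤ center G ∧ Z.Normal ∧ Nat.card Z = p := by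
  have hdvd : p ∣ Nat.card (N ⊓ center G : Subgroup G) :=
    ((hG.to_subgroup _).card_eq_or_dvd).resolve_left fun h =>
      pGroup_inf_center_ne_bot hG N hN (card_eq_one.mp h)
  obtain ⟨x, hx⟩ := exists_prime_orderOf_dvd_card' p hdvd
  have hle : zpowers (x : G) ≤ N ⊓ center G := zpowers_le.mpr x.2
  refine ⟨zpowers (x : G), hle.trans inf_le_left, hle.trans inf_le_right, ⟨fun y hy g => ?_⟩,
    by rw [Nat.card_zpowers, Subgroup.orderOf_coe, hx]⟩
  rwa [mem_center_iff.mp (hle hy).2 g, mul_inv_cancel_right]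

/-- A normal subgroup of order `p` of a finite `p`-group is central. -/
theorem le_center_of_card_eq_prime (hG : IsPGroup p G) (N : Subgroup G) [N.Normal]
    (hN : Nat.card N = p) : N ≤ center G := by
  obtain ⟨Z, hZN, hZ, -, hc⟩ := exists_central_card_prime hG N
    (fun h => (Fact.out : p.Prime).ne_one (by rw [← hN, h, card_bot]))
  exact (eq_of_le_of_card_ge hZN (by rw [hc, hN])) ▸ hZ

/-- Between two normal subgroups `M < N` there is a normal subgroup containing `M` with index
`p`. -/
theorem exists_normal_card_succ (hG : IsPGroup p G) (M N : Subgroup G) [M.Normal] [N.Normal]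
    (hlt : M < N) :
    ∃ L : Subgroup G, L.Normal ∧ M ≤ L ∧ L ≤ N ∧ Nat.card L = p * Nat.card M ∧
      ⁅L, (⊤ : Subgroup G)⁆ ≤ M := by
  set f := QuotientGroup.mk' M
  have hf := QuotientGroup.mk'_surjective M
  have : (N.map f).Normal := Normal.map inferInstance f hf
  have hne : N.map f ≠ ⊥ := by
    rw [Ne, Subgroup.map_eq_bot_iff, QuotientGroup.ker_mk']
    exact hlt.not_ge
  obtain ⟨Z, hZN, hZc, hZn, hZcard⟩ := exists_central_card_prime (hG.to_quotient M) _ hne
  refine ⟨Z.comap f, hZn.comap f, (QuotientGroup.ker_mk' M).ge.trans (comap_mono bot_le), ?_, ?_, ?_⟩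
  · refine (comap_mono hZN).trans ?_
    rw [comap_map_eq, QuotientGroup.ker_mk', sup_eq_left.mpr hlt.le]
  · have h1 := card_mul_index (Z.comap f)
    have h2 := Z.card_mul_index
    have h3 := M.card_mul_index
    rw [index_comap_of_surjective _ hf] at h1
    rw [index_eq_card M, ← h2, ← h1, ← mul_assoc] at h3
    rw [← hZcard, mul_comm]
    exact (Nat.eq_of_mul_eq_mul_right (Nat.pos_of_ne_zero index_ne_zero_of_finite) h3).symm
  · refine le_of_le_of_eq ((Subgroup.map_eq_bot_iff (f := f) _).mp ?_) (QuotientGroup.ker_mk' M)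
    rw [map_commutator, map_top_of_surjective _ hf, commutator_top_right_eq_bot_iff_le_center]
    exact (map_comap_le f Z).trans hZc

/-- There are normal subgroups of every possible order inside a normal subgroup. -/
theorem exists_normal_le_card_eq (hG : IsPGroup p G) (N : Subgroup G) [N.Normal] {i : ℕ}
    (hi : p ^ i ≤ Nat.card N) : ∃ L : Subgroup G, L.Normal ∧ L ≤ N ∧ Nat.card L = p ^ i := by
  induction i with
  | zero => exact ⟨⊥, inferInstance, bot_le, by simp⟩
  | succ i ih =>
    obtain ⟨L, hL, hLN, hLc⟩ := ih ((Nat.pow_le_pow_right (Fact.out : p.Prime).pos i.le_succ).trans hi)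
    have hlt : L < N := lt_of_le_of_ne hLN fun e => by
      subst e
      rw [hLc] at hi
      exact Nat.lt_irrefl _ ((Nat.pow_lt_pow_succ (Fact.out : p.Prime).one_lt).trans_le hi)
    obtain ⟨L', hL', -, hLN', hL'c, -⟩ := exists_normal_card_succ hG L N hlt
    exact ⟨L', hL', hLN', by rw [hL'c, hLc, pow_succ']⟩

/-- The join of commuting commutative subgroups is commutative. -/
theorem isMulCommutative_sup_of_le_centralizer {A B : Subgroup G} (hA : IsMulCommutative A)
    (hB : IsMulCommutative B) (h : A ≤ centralizer (B : Set G)) :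
    IsMulCommutative (A ⊔ B : Subgroup G) := by
  rw [← le_centralizer_iff_isMulCommutative] at hA hB ⊢
  refine sup_le ?_ ?_
  · rw [le_centralizer_iff]
    exact sup_le hA (le_centralizer_iff.mp h)
  · rw [le_centralizer_iff]
    exact sup_le h hB

/-- A maximal normal abelian subgroup of a finite `p`-group is self-centralizing. -/
theorem centralizer_eq_of_maximal_normal_abelian (hG : IsPGroup p G) (A : Subgroup G) [A.Normal]
    (hA : IsMulCommutative A)
    (hmax : ∀ B : Subgroup G, B.Normal → IsMulCommutative B → A ≤ B → B = A) :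
    centralizer (A : Set G) = A := by
  refine le_antisymm ?_ (le_centralizer_iff_isMulCommutative.mpr hA)
  by_contra hne
  have hlt : A < centralizer (A : Set G) :=
    (le_centralizer_iff_isMulCommutative.mpr hA).lt_of_not_ge hne
  obtain ⟨L, hLn, hAL, hLC, hLc, -⟩ := exists_normal_card_succ hG A _ hlt
  have hLne : L ≠ A := fun e => by
    rw [e] at hLc
    exact absurd hLc (Nat.ne_of_lt (lt_mul_of_one_lt_left Nat.card_pos (Fact.out : p.Prime).one_lt))
  obtain ⟨x, hxL, hxA⟩ := SetLike.exists_of_lt (hAL.lt_of_ne hLne.symm)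
  have hsup : A ⊔ zpowers x = L := by
    have hle : A ⊔ zpowers x ≤ L := sup_le hAL (zpowers_le.mpr hxL)
    refine eq_of_le_of_card_ge hle ?_
    obtain ⟨k, hk⟩ := Subgroup.card_dvd_of_le (le_sup_left : A ≤ A ⊔ zpowers x)
    have hd := Subgroup.card_dvd_of_le hle
    rw [hk, hLc, mul_comm p] at hd
    rcases (Nat.dvd_prime (Fact.out : p.Prime)).mp ((Nat.mul_dvd_mul_iff_left Nat.card_pos).mp hd)
      with rfl | rfl
    · rw [mul_one] at hk
      exact absurd ((eq_of_le_of_card_ge le_sup_left hk.le) ▸
        (mem_sup_right (mem_zpowers x) : x ∈ A ⊔ zpowers x)) hxA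
    · rw [hLc, hk, mul_comm]
  refine hLne (hmax L hLn ?_ hAL)
  rw [← hsup]
  exact isMulCommutative_sup_of_le_centralizer hA inferInstance
    (le_centralizer_iff.mp (zpowers_le.mpr (hLC hxL)))

/-- Every finite group has a maximal normal abelian subgroup containing a given one. -/
theorem exists_maximal_normal_abelian (A₀ : Subgroup G) [A₀.Normal] (hA₀ : IsMulCommutative A₀) :
    ∃ A : Subgroup G, A₀ ≤ A ∧ A.Normal ∧ IsMulCommutative A ∧
      ∀ B : Subgroup G, B.Normal → IsMulCommutative B → A ≤ B → B = A := by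
  obtain ⟨A, hA, hmax⟩ := Set.Finite.exists_maximal
    (Set.toFinite {B : Subgroup G | A₀ ≤ B ∧ B.Normal ∧ IsMulCommutative B})
    ⟨A₀, le_rfl, inferInstance, hA₀⟩
  exact ⟨A, hA.1, hA.2.1, hA.2.2,
    fun B hB hBc hle => le_antisymm (hmax ⟨hA.1.trans hle, hB, hBc⟩ hle) hle⟩

/-! ### Commutator identities in class 2 -/

theorem commute_pow_eq {x y c : G} (hc : c = ⁅y, x⁆) (hcx : Commute c x) (n : ℕ) :
    y * x ^ n = c ^ n * x ^ n * y := by
  induction n with
  | zero => simp
  | succ n ih =>
    have h1 : y * x = c * x * y := by rw [hc, commutatorElement_def]; group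
    calc y * x ^ (n + 1) = y * x ^ n * x := by rw [pow_succ, mul_assoc]
      _ = c ^ n * x ^ n * (y * x) := by rw [ih]; group
      _ = c ^ n * (x ^ n * c) * x * y := by rw [h1]; group
      _ = c ^ n * (c * x ^ n) * x * y := by rw [(hcx.pow_right n).eq]
      _ = c ^ (n + 1) * x ^ (n + 1) * y := by rw [pow_succ c n, pow_succ x n]; group

/-- `(xy)^n = x^n y^n [y,x]^(n choose 2)` when `[y,x]` commutes with `x` and `y`. -/
theorem mul_pow_of_commute_commutator {x y : G} (hx : Commute ⁅y, x⁆ x) (hy : Commute ⁅y, x⁆ y)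
    (n : ℕ) : (x * y) ^ n = x ^ n * y ^ n * ⁅y, x⁆ ^ (n.choose 2) := by
  set c := ⁅y, x⁆ with hc
  induction n with
  | zero => simp
  | succ n ih =>
    have hcxy : Commute (c ^ (n.choose 2)) (x * y) := (hx.mul_right hy).pow_left _
    have h2 : y ^ n * x = c ^ n * x * y ^ n := by
      have hyc : Commute c⁻¹ y := hy.inv_left
      have h := commute_pow_eq (x := y) (y := x) (c := c⁻¹) (by rw [hc, commutatorElement_inv]) hyc n
      calc y ^ n * x = c ^ n * ((c⁻¹) ^ n * y ^ n * x) := by rw [inv_pow]; group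
        _ = c ^ n * (x * y ^ n) := by rw [← h]
        _ = c ^ n * x * y ^ n := by group
    calc (x * y) ^ (n + 1) = x ^ n * y ^ n * c ^ (n.choose 2) * (x * y) := by rw [pow_succ, ih]
      _ = x ^ n * (y ^ n * x) * y * c ^ (n.choose 2) := by rw [mul_assoc _ (c ^ _), hcxy.eq]; group
      _ = x ^ n * (c ^ n * x) * y ^ n * y * c ^ (n.choose 2) := by rw [h2]; group
      _ = x ^ (n + 1) * c ^ n * y ^ (n + 1) * c ^ (n.choose 2) := by
        rw [(hx.pow_left n).eq, pow_succ x, pow_succ y]; group
      _ = x ^ (n + 1) * y ^ (n + 1) * (c ^ n * c ^ (n.choose 2)) := by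
        rw [mul_assoc (x ^ (n + 1)), (hy.pow_pow n (n + 1)).eq]; group
      _ = x ^ (n + 1) * y ^ (n + 1) * c ^ ((n + 1).choose 2) := by
        rw [← pow_add, Nat.choose_succ_succ n 1, Nat.choose_one_right]

/-- In a group with central derived subgroup the commutator is multiplicative in the first
variable. -/
theorem commutatorElement_mul_left_of_le_center (h : commutator G ≤ center G) (a b c : G) :
    ⁅a * b, c⁆ = ⁅a, c⁆ * ⁅b, c⁆ := by
  have hb : ⁅b, c⁆ ∈ center G := h (commutator_mem_commutator (mem_top b) (mem_top c))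
  have ha : ⁅a, c⁆ ∈ center G := h (commutator_mem_commutator (mem_top a) (mem_top c))
  calc ⁅a * b, c⁆ = (a * ⁅b, c⁆) * a⁻¹ * ⁅a, c⁆ := by
        simp only [commutatorElement_def]; group
    _ = ⁅b, c⁆ * ⁅a, c⁆ := by rw [mem_center_iff.mp hb a]; group
    _ = ⁅a, c⁆ * ⁅b, c⁆ := mem_center_iff.mp ha _

theorem commutatorElement_mul_right_of_le_center (h : commutator G ≤ center G) (a b c : G) :
    ⁅a, b * c⁆ = ⁅a, b⁆ * ⁅a, c⁆ := by
  rw [← commutatorElement_inv (b * c) a, commutatorElement_mul_left_of_le_center h,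
    mul_inv_rev, commutatorElement_inv, commutatorElement_inv]
  exact (mem_center_iff.mp (h (commutator_mem_commutator (mem_top a) (mem_top b))) _)

theorem commutatorElement_pow_left_of_le_center (h : commutator G ≤ center G) (a c : G) (n : ℕ) :
    ⁅a ^ n, c⁆ = ⁅a, c⁆ ^ n := by
  induction n with
  | zero => simp
  | succ n ih => rw [pow_succ, commutatorElement_mul_left_of_le_center h, ih, pow_succ]

/-- In a `p`-group of class at most two, `p` odd, the elements of order dividing `p` form a
subgroup. -/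
theorem pow_prime_eq_one_of_mem_closure (hp : p ≠ 2) (h : commutator G ≤ center G) {g : G}
    (hg : g ∈ closure {x : G | x ^ p = 1}) : g ^ p = 1 := by
  induction hg using closure_induction with
  | mem x hx => exact hx
  | one => exact one_pow p
  | mul a b _ _ ha hb =>
    have hc : ⁅b, a⁆ ∈ center G := h (commutator_mem_commutator (mem_top b) (mem_top a))
    rw [mul_pow_of_commute_commutator (mem_center_iff.mp hc a).symm (mem_center_iff.mp hc b).symm,
      ha, hb]
    have h1 : ⁅b, a⁆ ^ p = 1 := by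
      rw [← commutatorElement_pow_left_of_le_center h, hb, commutatorElement_one_left]
    have hodd : p ∣ p.choose 2 :=
      Nat.Prime.dvd_choose_self (Fact.out : p.Prime) two_ne_zero
        (lt_of_le_of_ne (Fact.out : p.Prime).two_le (Ne.symm hp))
    obtain ⟨k, hk⟩ := hodd
    rw [hk, pow_mul, h1, one_pow, one_mul, one_mul]
  | inv a _ ha => rw [inv_pow, ha, inv_one]

end Cfsg.Agent.Fusion
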