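import Mathlib.GroupTheory.Focal
import Mathlib.Algebra.Group.TypeTags.Finite
import Mathlib.Data.ZMod.Basic
import Mathlib.GroupTheory.SpecificGroups.Cyclic
import Mathlib.Tactic.Group
import Mathlib.Tactic.Abel
import Cfsg.Agent.Fusion.PGroup
import Cfsg.Agent.Core.Frattini
import Cfsg.Agent.Fusion.Transfer

/-!
# Tate's theorem on the largest `p`-quotient, by averaging a 2-cocycle
-/

namespace Cfsg.Agent.Fusion

set_option linter.unusedSectionVars false

open Subgroup
open scoped commutatorElement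

universe u v

variable {G : Type u} [Group G]

/-- A 2-cocycle which is a coboundary on a subgroup `H` has its `|G:H|`-th power a coboundary. -/
theorem exists_coboundary_pow_index [Finite G] {A : Type v} [CommGroup A] (H : Subgroup G)
    (c : G → G → A) (hc : ∀ g h k, c h k * c g (h * k) = c g h * c (g * h) k)
    (f : G → A) (hf : ∀ x ∈ H, ∀ y ∈ H, c x y = f x * f y / f (x * y)) :
    ∃ φ : G → A, ∀ g h, c g h ^ H.index = φ g * φ h / φ (g * h) := by
  classical
  let _ := H.fintypeQuotientOfFiniteIndex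
  let t : G ⧸ H → G := Quotient.out
  let x : G → G ⧸ H → G := fun g q => (t (g • q))⁻¹ * g * t q
  have hx : ∀ g q, x g q ∈ H := by
    intro g q
    show (t (g • q))⁻¹ * g * t q ∈ H
    rw [mul_assoc]
    refine QuotientGroup.eq.mp ?_
    rw [← smul_eq_mul, ← MulAction.Quotient.smul_coe]
    simp [t]
  have hgt : ∀ g q, g * t q = t (g • q) * x g q := by
    intro g q; simp only [x]; group
  have hxm : ∀ g h q, x (g * h) q = x g (h • q) * x h q := by
    intro g h q; simp only [x, mul_smul]; group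
  have key : ∀ g h q, c g h = c h (t q) / c (g * h) (t q) * c g (t (h • q)) *
      (c (t ((g * h) • q)) (x (g * h) q) / c (t (g • h • q)) (x g (h • q)) /
        c (t (h • q)) (x h q)) *
      (f (x g (h • q)) * f (x h q) / f (x (g * h) q)) := by
    intro g h q
    have e1 := hc g h (t q)
    rw [hgt h q] at e1
    have e2 := hc g (t (h • q)) (x h q)
    rw [hgt g (h • q)] at e2
    have e3 := hc (t (g • h • q)) (x g (h • q)) (x h q)
    rw [hf _ (hx g (h • q)) _ (hx h q), ← hxm g h q] at e3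
    rw [mul_smul]
    have a1 : c g h = c h (t q) * c g (t (h • q) * x h q) / c (g * h) (t q) :=
      eq_div_iff_mul_eq'.mpr e1.symm
    have a2 : c g (t (h • q) * x h q) =
        c g (t (h • q)) * c (t (g • h • q) * x g (h • q)) (x h q) / c (t (h • q)) (x h q) :=
      eq_div_iff_mul_eq'.mpr (by rw [mul_comm]; exact e2)
    have a3 : c (t (g • h • q) * x g (h • q)) (x h q) =
        f (x g (h • q)) * f (x h q) / f (x (g * h) q) * c (t (g • h • q)) (x (g * h) q) /
          c (t (g • h • q)) (x g (h • q)) :=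
      eq_div_iff_mul_eq'.mpr (by rw [mul_comm]; exact e3.symm)
    rw [a1, a2, a3]
    apply Additive.ofMul.injective
    simp only [ofMul_mul, ofMul_div]
    abel
  let φ : G → A := fun g => (∏ q, c g (t q)) / (∏ q, c (t (g • q)) (x g q)) * ∏ q, f (x g q)
  refine ⟨φ, fun g h => ?_⟩
  have hperm : ∀ F : G ⧸ H → A, (∏ q, F (h • q)) = ∏ q, F q :=
    fun F => Equiv.prod_comp (MulAction.toPerm h) F
  rw [index_eq_card, Nat.card_eq_fintype_card, ← Finset.card_univ, ← Finset.prod_const,
    Finset.prod_congr rfl fun q _ => key g h q]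
  simp only [Finset.prod_mul_distrib, Finset.prod_div_distrib]
  rw [hperm fun q => c g (t q), hperm fun q => c (t (g • q)) (x g q), hperm fun q => f (x g q)]
  simp only [φ]
  apply Additive.ofMul.injective
  simp only [ofMul_mul, ofMul_div]
  abel

variable [Finite G] {p : ℕ} [Fact p.Prime]

/-- A homomorphism to an abelian `p`-group defined on a Sylow subgroup and trivial on the focal
subgroup extends to the whole group. -/
theorem exists_extension_of_focal_le_ker (P : Sylow p G) {A : Type v} [CommGroup A]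
    (hA : IsPGroup p A) (χ : (P : Subgroup G) →* A) (h : (P : Subgroup G).focalSubgroupOf ≤ χ.ker) :
    ∃ ψ : G →* A, ∀ x : (P : Subgroup G), ψ x = χ x := by
  have hcop : p.Coprime (P : Subgroup G).index :=
    (Nat.Prime.coprime_iff_not_dvd Fact.out).mpr P.not_dvd_index
  refine ⟨MonoidHom.mk' (fun g => (hA.powEquiv hcop).symm
    (QuotientGroup.lift _ χ h ((P : Subgroup G).transferFocal g))) fun a b => ?_, fun x => ?_⟩
  · apply (hA.powEquiv hcop).injective
    rw [Equiv.apply_symm_apply, IsPGroup.powEquiv_apply, mul_pow, ← hA.powEquiv_apply hcop,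
      ← hA.powEquiv_apply hcop, Equiv.apply_symm_apply, Equiv.apply_symm_apply, map_mul, map_mul]
  · show (hA.powEquiv hcop).symm _ = _
    rw [transferFocal_eq_pow (P : Subgroup G) x, map_pow, QuotientGroup.lift_mk,
      ← hA.powEquiv_apply hcop, Equiv.symm_apply_apply]

theorem isPGroup_zmod : IsPGroup p (Multiplicative (ZMod p)) :=
  IsPGroup.of_card (n := 1) (by simp)

/-- Tate's theorem: if the homomorphisms to the group of order `p` on `P` that extend to `H ≥ P`
extend to `G`, then `H` and `G` have the same largest `p`-quotient. -/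
theorem inf_pResidual_le_of_hom_extension (P : Sylow p G) (H : Subgroup G)
    (hPH : (P : Subgroup G) ≤ H)
    (hext : ∀ χ : H →* Multiplicative (ZMod p), ∃ ψ : G →* Multiplicative (ZMod p),
      ∀ x (hx : x ∈ P), ψ x = χ ⟨x, hPH hx⟩) :
    (P : Subgroup G) ⊓ pResidual p G ≤ (pResidual p H).map H.subtype := by
  classical
  set M := pResidual p G with hMdef
  set M₀ := (pResidual p H).map H.subtype with hM₀def
  have hM₀M : M₀ ≤ M := (map_pResidual_subgroup_le H).trans inf_le_left
  by_contra hne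
  have hPn : ∀ (K : Subgroup G), (∀ y ∈ P, ∀ x ∈ K, y * x * y⁻¹ ∈ K) →
      (((P : Subgroup G) ⊓ K).subgroupOf P).Normal := fun K hK =>
    ⟨fun x hx y => ⟨mul_mem (mul_mem y.2 x.2) (Subgroup.inv_mem _ y.2), hK _ y.2 _ hx.2⟩⟩
  have hQn : (((P : Subgroup G) ⊓ M).subgroupOf P).Normal :=
    hPn M fun y _ x hx => (inferInstance : (pResidual p G).Normal).conj_mem x hx y
  have hRn : (((P : Subgroup G) ⊓ M₀).subgroupOf P).Normal := hPn M₀ (by
    rintro y hy _ ⟨x, hx, rfl⟩
    exact ⟨⟨y, hPH hy⟩ * x * ⟨y, hPH hy⟩⁻¹,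
      (inferInstance : (pResidual p H).Normal).conj_mem x hx _, rfl⟩)
  set Q := ((P : Subgroup G) ⊓ M).subgroupOf P with hQdef
  set R := ((P : Subgroup G) ⊓ M₀).subgroupOf P with hRdef
  have hlt : R < Q := by
    refine lt_of_le_of_ne (comap_mono (inf_le_inf_left _ hM₀M)) fun e => hne ?_
    intro x hx
    have : (⟨x, hx.1⟩ : (P : Subgroup G)) ∈ R := e.symm ▸ (show _ ∈ Q from hx)
    exact (mem_subgroupOf.mp this).2
  -- a `P`-invariant homomorphism `Q → C_p`, trivial on `R`
  obtain ⟨k, hk⟩ := IsPGroup.iff_card.mp (P.2.to_subgroup Q)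
  obtain ⟨U, ⟨hUn, hRU, hUQ⟩, hUmax⟩ := Set.Finite.exists_maximal
    (Set.toFinite {U : Subgroup (P : Subgroup G) | U.Normal ∧ R ≤ U ∧ U < Q})
    ⟨R, hRn, le_rfl, hlt⟩
  obtain ⟨U', hU'n, hUU', hU'Q, hU'c, hU'comm⟩ := exists_normal_card_succ P.2 U Q hUQ
  have hU'eq : U' = Q := by
    by_contra hne'
    have hle := hUmax ⟨hU'n, hRU.trans hUU', lt_of_le_of_ne hU'Q hne'⟩ hUU'
    have hc := card_le_of_le hle
    rw [hU'c] at hc
    exact Nat.lt_irrefl _ (lt_of_lt_of_le
      (lt_mul_of_one_lt_left Nat.card_pos (Fact.out : p.Prime).one_lt) hc)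
  rw [hU'eq] at hU'c hU'comm
  have hidx : Nat.card (Q ⧸ U.subgroupOf Q) = p := by
    have := (U.subgroupOf Q).card_mul_index
    rw [Nat.card_congr (subgroupOfEquivOfLe hUQ.le).toEquiv, hU'c, mul_comm p, index_eq_card]
      at this
    exact Nat.eq_of_mul_eq_mul_left Nat.card_pos this
  have hUQn : (U.subgroupOf Q).Normal := hUn.subgroupOf Q
  let l : Q →* Multiplicative (ZMod p) :=
    (mulEquivOfPrimeCardEq hidx (by simp : Nat.card (Multiplicative (ZMod p)) = p)).toMonoidHom.comp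
      (QuotientGroup.mk' _)
  have hlker : ∀ z : Q, l z = 1 ↔ (z : (P : Subgroup G)) ∈ U := fun z => by
    simp only [l, MonoidHom.coe_comp, Function.comp_apply, MulEquiv.coe_toMonoidHom,
      map_eq_one_iff _ (MulEquiv.injective _), QuotientGroup.mk'_apply, QuotientGroup.eq_one_iff]
    rfl
  let lam : G → Multiplicative (ZMod p) := fun z =>
    if h : z ∈ (P : Subgroup G) ⊓ M then l ⟨⟨z, h.1⟩, h⟩ else 1
  have lam_mul : ∀ a b, a ∈ (P : Subgroup G) ⊓ M → b ∈ (P : Subgroup G) ⊓ M →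
      lam (a * b) = lam a * lam b := by
    intro a b ha hb
    simp only [lam, dif_pos ha, dif_pos hb, dif_pos (mul_mem ha hb), ← map_mul]
    rfl
  have lam_R : ∀ a ∈ (P : Subgroup G) ⊓ M₀, lam a = 1 := by
    intro a ha
    have ha' : a ∈ (P : Subgroup G) ⊓ M := ⟨ha.1, hM₀M ha.2⟩
    simp only [lam, dif_pos ha']
    exact (hlker _).mpr (hRU (show (⟨a, ha.1⟩ : (P : Subgroup G)) ∈ R from ha))
  have lam_conj : ∀ y ∈ (P : Subgroup G), ∀ a ∈ (P : Subgroup G) ⊓ M,
      lam (y * a * y⁻¹) = lam a := by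
    intro y hy a ha
    have hconj : y * a * y⁻¹ ∈ (P : Subgroup G) ⊓ M :=
      ⟨mul_mem (mul_mem hy ha.1) (Subgroup.inv_mem _ hy),
        (inferInstance : (pResidual p G).Normal).conj_mem a ha.2 y⟩
    simp only [lam, dif_pos ha, dif_pos hconj]
    rw [← div_eq_one, ← map_div, hlker]
    have := inv_mem (hU'comm (commutator_mem_commutator
      (show (⟨a, ha.1⟩ : (P : Subgroup G)) ∈ Q from ha) (mem_top (⟨y, hy⟩ : (P : Subgroup G)))))
    convert this using 1
    apply Subtype.ext
    simp [commutatorElement_def, div_eq_mul_inv, mul_assoc]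
  -- sections
  have hr : ∀ g : G, ∃ x, x ∈ P ∧ g⁻¹ * x ∈ M ∧ (g ∈ M → x = 1) := by
    intro g
    by_cases hg : g ∈ M
    · exact ⟨1, one_mem _, by rw [mul_one]; exact inv_mem hg, fun _ => rfl⟩
    have hg' : g ∈ (((P : Subgroup G) ⊔ M : Subgroup G) : Set G) := by
      rw [sylow_sup_pResidual]; trivial
    rw [mul_normal] at hg'
    obtain ⟨x, hx, m, hm, rfl⟩ := hg'
    exact ⟨x, hx, by rw [mul_inv_rev, mul_assoc, inv_mul_cancel, mul_one]; exact inv_mem hm,
      fun h => absurd h hg⟩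
  choose r hrP hrM hr1 using hr
  have hr' : ∀ g : G, ∃ x, g ∈ H → x ∈ P ∧ g⁻¹ * x ∈ M₀ := by
    intro g
    by_cases hg : g ∈ H
    · have hP' := sylow_sup_pResidual (P.subtype hPH)
      rw [Sylow.coe_subtype] at hP'
      have hg' : (⟨g, hg⟩ : H) ∈
          (((P : Subgroup G).subgroupOf H ⊔ pResidual p H : Subgroup H) : Set H) := by
        rw [hP']; trivial
      rw [mul_normal] at hg'
      obtain ⟨x, hx, m, hm, hxm⟩ := hg'
      refine ⟨(x : G), fun _ => ⟨hx, ⟨m⁻¹, inv_mem hm, ?_⟩⟩⟩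
      have : g = (x : G) * m := congrArg (fun z : H => (z : G)) hxm.symm
      rw [this]
      simp
    · exact ⟨1, fun h => absurd h hg⟩
  choose r' hr' using hr'
  have hmod : ∀ {g a b : G}, g⁻¹ * a ∈ M → g⁻¹ * b ∈ M → a⁻¹ * b ∈ M := fun {g a b} h1 h2 => by
    have := mul_mem (inv_mem h1) h2
    rwa [show (g⁻¹ * a)⁻¹ * (g⁻¹ * b) = a⁻¹ * b by group] at this
  have hMn : M.Normal := inferInstance
  let a : G → G → G := fun g h => r g * r h * (r (g * h))⁻¹
  have ha : ∀ g h, a g h ∈ (P : Subgroup G) ⊓ M := fun g h => by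
    refine ⟨mul_mem (mul_mem (hrP g) (hrP h)) (Subgroup.inv_mem _ (hrP _)), ?_⟩
    have h1 : (g * h)⁻¹ * (r g * r h) ∈ M := by
      rw [show (g * h)⁻¹ * (r g * r h) = h⁻¹ * (g⁻¹ * r g) * h⁻¹⁻¹ * (h⁻¹ * r h) by group]
      exact mul_mem (hMn.conj_mem _ (hrM g) _) (hrM h)
    have h2 := hMn.conj_mem _ (hmod (hrM (g * h)) h1) (r (g * h))
    simpa [a, mul_assoc] using h2
  let c : G → G → Multiplicative (ZMod p) := fun g h => lam (a g h)
  have hcoc : ∀ g h k, c h k * c g (h * k) = c g h * c (g * h) k := by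
    intro g h k
    have h1 : r g * a h k * (r g)⁻¹ ∈ (P : Subgroup G) ⊓ M :=
      ⟨mul_mem (mul_mem (hrP g) (ha h k).1) (Subgroup.inv_mem _ (hrP g)), hMn.conj_mem _ (ha h k).2 _⟩
    show lam (a h k) * lam (a g (h * k)) = lam (a g h) * lam (a (g * h) k)
    rw [← lam_conj _ (hrP g) _ (ha h k), ← lam_mul _ _ h1 (ha g (h * k)),
      ← lam_mul _ _ (ha g h) (ha (g * h) k)]
    congr 1
    simp only [a, mul_assoc g h k]
    group
  let u : G → G := fun g => r' g * (r g)⁻¹
  have hu : ∀ g ∈ H, u g ∈ (P : Subgroup G) ⊓ M := fun g hg => by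
    refine ⟨mul_mem (hr' g hg).1 (Subgroup.inv_mem _ (hrP g)), ?_⟩
    have := hMn.conj_mem _ (hmod (hrM g) (hM₀M (hr' g hg).2)) (r g)
    simpa [u, mul_assoc] using this
  have hM₀n : ∀ y ∈ H, ∀ x ∈ M₀, y * x * y⁻¹ ∈ M₀ := by
    rintro y hy _ ⟨x, hx, rfl⟩
    exact ⟨⟨y, hy⟩ * x * ⟨y, hy⟩⁻¹, (inferInstance : (pResidual p H).Normal).conj_mem x hx _, rfl⟩
  let f : G → Multiplicative (ZMod p) := fun g => (lam (u g))⁻¹
  have hf : ∀ x ∈ H, ∀ y ∈ H, c x y = f x * f y / f (x * y) := by
    intro x hx y hy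
    have hxy := mul_mem hx hy
    -- `ρ` is the defect of `r'` from being multiplicative
    set ρ := r' x * r' y * (r' (x * y))⁻¹ with hρdef
    have hρ : ρ ∈ (P : Subgroup G) ⊓ M₀ := by
      refine ⟨mul_mem (mul_mem (hr' x hx).1 (hr' y hy).1) (Subgroup.inv_mem _ (hr' _ hxy).1), ?_⟩
      have h1 : (x * y)⁻¹ * (r' x * r' y) ∈ M₀ := by
        rw [show (x * y)⁻¹ * (r' x * r' y) = y⁻¹ * (x⁻¹ * r' x) * y⁻¹⁻¹ * (y⁻¹ * r' y) by group]
        exact mul_mem (hM₀n _ (inv_mem hy) _ (hr' x hx).2) (hr' y hy).2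
      have h2 := hM₀n _ (hPH (hr' _ hxy).1) _ (mul_mem (inv_mem (hr' _ hxy).2) h1)
      simpa [hρdef, mul_assoc] using h2
    have hconj : r x * u y * (r x)⁻¹ ∈ (P : Subgroup G) ⊓ M :=
      ⟨mul_mem (mul_mem (hrP x) (hu y hy).1) (Subgroup.inv_mem _ (hrP x)), hMn.conj_mem _ (hu y hy).2 _⟩
    have e : u x * (r x * u y * (r x)⁻¹) * a x y = ρ * u (x * y) := by
      simp only [u, a, hρdef]; group
    have e2 := congrArg lam e
    rw [lam_mul _ _ (mul_mem (hu x hx) hconj) (ha x y), lam_mul _ _ (hu x hx) hconj,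
      lam_conj _ (hrP x) _ (hu y hy), lam_mul _ _ ⟨hρ.1, hM₀M hρ.2⟩ (hu _ hxy), lam_R _ hρ,
      one_mul] at e2
    show lam (a x y) = (lam (u x))⁻¹ * (lam (u y))⁻¹ / (lam (u (x * y)))⁻¹
    rw [← e2, div_inv_eq_mul, ← mul_inv, inv_mul_cancel_left]
  obtain ⟨φ, hφ⟩ := exists_coboundary_pow_index H c hcoc f hf
  have hHcop : Nat.Coprime H.index (Nat.card (Multiplicative (ZMod p))) := by
    rw [show Nat.card (Multiplicative (ZMod p)) = p by simp]
    exact ((Nat.Prime.coprime_iff_not_dvd Fact.out).mpr fun hd =>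
      P.not_dvd_index (hd.trans (index_dvd_of_le hPH))).symm
  let φ₁ := fun g => (powCoprime hHcop.symm).symm (φ g)
  have hφ₁ : ∀ g h, c g h = φ₁ g * φ₁ h / φ₁ (g * h) := by
    intro g h
    have hp' : ∀ z, (φ₁ z) ^ H.index = φ z := fun z => (powCoprime hHcop.symm).apply_symm_apply _
    apply (powCoprime hHcop.symm).injective
    show c g h ^ H.index = (φ₁ g * φ₁ h / φ₁ (g * h)) ^ H.index
    rw [div_pow, mul_pow, hp', hp', hp', hφ]
  let χ : H →* Multiplicative (ZMod p) := MonoidHom.mk' (fun x => φ₁ x / f x) fun x y => by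
    show φ₁ ((x : G) * y) / f ((x : G) * y) = _
    have e1 := (hφ₁ (x : G) y).symm.trans (hf _ x.2 _ y.2)
    rw [div_eq_div_iff_mul_eq_mul] at e1
    rw [div_mul_div_comm, div_eq_div_iff_mul_eq_mul, mul_comm]
    exact e1.symm
  obtain ⟨ψ, hψ⟩ := hext χ
  -- on `M` the corrected `φ₁` is a homomorphism, hence trivial
  let θ : M →* Multiplicative (ZMod p) := MonoidHom.mk' (fun m => φ₁ m / ψ m) fun m n => by
    show φ₁ ((m : G) * n) / ψ ((m : G) * n) = _
    have h1 : c (m : G) n = 1 := by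
      show lam (a (m : G) n) = 1
      rw [show a (m : G) n = 1 by
        simp [a, hr1 _ m.2, hr1 _ n.2, hr1 _ (mul_mem m.2 n.2)]]
      exact lam_R 1 (one_mem _)
    have h2 := hφ₁ (m : G) n
    rw [h1, eq_comm, div_eq_one] at h2
    rw [map_mul, ← h2, mul_div_mul_comm]
  have hθ : ∀ m, θ m = 1 := fun m =>
    MonoidHom.mem_ker.mp (pResidual_le_ker θ isPGroup_zmod
      ((pResidual_pResidual (G := G) (p := p)).ge (mem_top m)))
  have hQU : Q ≤ U := by
    intro z hz
    have hzz : (z : G) ∈ (P : Subgroup G) ⊓ M := hz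
    have h1 : φ₁ (z : G) / ψ (z : G) = 1 := hθ ⟨z, hzz.2⟩
    rw [hψ z z.2] at h1
    change φ₁ (z : G) / (φ₁ (z : G) / f (z : G)) = 1 at h1
    rw [div_div_cancel] at h1
    have h2 : lam (u (z : G)) = 1 := inv_eq_one.mp h1
    have hzH : (z : G) ∈ H := hPH z.2
    have hd : (z : G)⁻¹ * r' (z : G) ∈ (P : Subgroup G) ⊓ M₀ :=
      ⟨mul_mem (Subgroup.inv_mem _ z.2) (hr' _ hzH).1, (hr' _ hzH).2⟩
    have hu' : u (z : G) = z * ((z : G)⁻¹ * r' z) := by simp [u, hr1 _ hzz.2]
    rw [hu', lam_mul _ _ hzz ⟨hd.1, hM₀M hd.2⟩, lam_R _ hd, mul_one] at h2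
    simp only [lam, dif_pos hzz] at h2
    exact (hlker _).mp h2
  exact hUQ.not_ge hQU

/-- Tate's theorem with the focal subgroup hypothesis. -/
theorem inf_pResidual_eq_of_commutator_inf_eq (P : Sylow p G) (H : Subgroup G)
    (hPH : (P : Subgroup G) ≤ H)
    (h : commutator G ⊓ (P : Subgroup G) ≤ ⁅H, H⁆) :
    (P : Subgroup G) ⊓ pResidual p G = (P : Subgroup G) ⊓ (pResidual p H).map H.subtype := by
  refine le_antisymm (le_inf inf_le_left (inf_pResidual_le_of_hom_extension P H hPH fun χ => ?_))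
    (inf_le_inf_left _ ((map_pResidual_subgroup_le H).trans inf_le_left))
  have hker : (P : Subgroup G).focalSubgroupOf ≤ (χ.comp (inclusion hPH)).ker := by
    intro x hx
    have hx' : (x : G) ∈ ⁅H, H⁆ := h (by rw [commutator_inf_eq_focalSubgroup P]; exact hx)
    rw [← map_subtype_commutator] at hx'
    obtain ⟨y, hy, hyx⟩ := hx'
    rw [MonoidHom.mem_ker, MonoidHom.comp_apply, show inclusion hPH x = y from Subtype.ext hyx.symm]
    exact MonoidHom.mem_ker.mp (Abelianization.commutator_subset_ker χ hy)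
  obtain ⟨ψ, hψ⟩ := exists_extension_of_focal_le_ker P isPGroup_zmod _ hker
  exact ⟨ψ, fun x hx => hψ ⟨x, hx⟩⟩

/-- If `P ∩ O^p(G)` lies in the Frattini subgroup of `P` then `G` has a normal `p`-complement. -/
theorem hasNormalPComplement_of_inf_pResidual_le_frattini (P : Sylow p G)
    (h : (P : Subgroup G) ⊓ pResidual p G ≤ (frattini P).map (P : Subgroup G).subtype) :
    HasNormalPComplement p G := by
  have key := inf_pResidual_le_of_hom_extension P (P : Subgroup G) le_rfl fun χ => by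
    -- a homomorphism to a group of order `p` kills the Frattini subgroup
    have hfr : frattini P ≤ χ.ker := by
      by_cases htriv : ∀ x, χ x = 1
      · exact fun x _ => htriv x
      push Not at htriv
      obtain ⟨x₀, hx₀⟩ := htriv
      have hsurj : χ.range = ⊤ := by
        rcases (Nat.dvd_prime (Fact.out : p.Prime)).mp
            ((card_subgroup_dvd_card χ.range).trans (by simp)) with h1 | h1
        · refine absurd ?_ hx₀
          have h0 : χ x₀ ∈ χ.range := ⟨x₀, rfl⟩
          rw [card_eq_one.mp h1, mem_bot] at h0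
          exact h0
        · exact eq_top_of_card_eq _ (h1.trans (by simp))
      refine frattini_le_coatom ⟨?_, fun K hK => ?_⟩
      · exact fun e => hx₀ (MonoidHom.mem_ker.mp (e ▸ mem_top x₀))
      · have hidx : χ.ker.index = p := by rw [index_ker, hsurj, card_top]; simp
        rcases (Nat.dvd_prime (Fact.out : p.Prime)).mp (hidx ▸ index_dvd_of_le hK.le) with h1 | h1
        · exact index_eq_one.mp h1
        · have h2 := index_strictAnti hK
          rw [hidx, h1] at h2
          exact absurd h2 (lt_irrefl p)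
    have hker : (pResidual p G).subgroupOf (P : Subgroup G) ≤ χ.ker := by
      intro x hx
      obtain ⟨y, hy, hyx⟩ := h ⟨x.2, hx⟩
      exact hfr ((show y = x from Subtype.ext hyx) ▸ hy)
    have hfoc : ∀ a b : (P : Subgroup G), χ (a * b * a⁻¹ * b⁻¹) = 1 := fun a b => by
      simp [mul_comm]
    have hr : ∀ g : G, ∃ x : (P : Subgroup G), g⁻¹ * x ∈ pResidual p G := by
      intro g
      have hg : g ∈ (((P : Subgroup G) ⊔ pResidual p G : Subgroup G) : Set G) := by
        rw [sylow_sup_pResidual]; trivial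
      rw [mul_normal] at hg
      obtain ⟨x, hx, m, hm, rfl⟩ := hg
      exact ⟨⟨x, hx⟩, by rw [mul_inv_rev, mul_assoc, inv_mul_cancel, mul_one]; exact inv_mem hm⟩
    choose r hr using hr
    have hwd : ∀ (g : G) (x : (P : Subgroup G)), g⁻¹ * (x : G) ∈ pResidual p G → χ (r g) = χ x := by
      intro g x hx
      have : (r g)⁻¹ * x ∈ χ.ker := hker (by
        have := mul_mem (inv_mem (hr g)) hx
        simpa [mem_subgroupOf, mul_assoc] using this)
      rw [MonoidHom.mem_ker, map_mul, map_inv, inv_mul_eq_one] at this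
      exact this
    refine ⟨MonoidHom.mk' (fun g => χ (r g)) fun g k => ?_, fun x hx => ?_⟩
    · rw [← map_mul]
      refine hwd (g * k) (r g * r k) ?_
      rw [Subgroup.coe_mul, show (g * k)⁻¹ * ((r g : G) * r k) =
        k⁻¹ * (g⁻¹ * r g) * k⁻¹⁻¹ * (k⁻¹ * r k) by group]
      exact mul_mem ((inferInstance : (pResidual p G).Normal).conj_mem _ (hr g) _) (hr k)
    · exact hwd x ⟨x, hx⟩ (by simp)
  have hb : (P : Subgroup G) ⊓ pResidual p G = ⊥ := by
    rw [eq_bot_iff]
    refine key.trans ?_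
    have : pResidual p (P : Subgroup G) = ⊥ := by
      rw [eq_bot_iff]
      exact pResidual_le_of_isPGroup_quotient ⊥ (P.2.to_quotient ⊥)
    rw [this, Subgroup.map_bot]
  refine hasNormalPComplement_iff.mpr ?_
  have hcomp : (pResidual p G).IsComplement' (P : Subgroup G) :=
    isComplement'_of_disjoint_and_mul_eq_univ (disjoint_iff.mpr (by rwa [inf_comm] at hb))
      (by rw [← normal_mul, sup_comm, sylow_sup_pResidual, coe_top])
  rw [← hcomp.index_eq_card]
  exact ((Nat.Prime.coprime_iff_not_dvd Fact.out).mpr P.not_dvd_index).symm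

/-- Tate: a normal subgroup meeting a Sylow subgroup inside its Frattini subgroup has a normal
`p`-complement. -/
theorem hasNormalPComplement_of_normal_inf_le_frattini (P : Sylow p G) (N : Subgroup G) [N.Normal]
    (h : N ⊓ (P : Subgroup G) ≤ (frattini P).map (P : Subgroup G).subtype) :
    HasNormalPComplement p N := by
  set H := (P : Subgroup G) ⊔ N with hH
  let S : Sylow p H := P.subtype le_sup_left
  have hScoe : (S : Subgroup H) = (P : Subgroup G).subgroupOf H := Sylow.coe_subtype _ _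
  have hq : IsPGroup p (H ⧸ N.subgroupOf H) := by
    refine S.2.of_surjective ((QuotientGroup.mk' (N.subgroupOf H)).comp (S : Subgroup H).subtype) ?_
    intro z
    obtain ⟨⟨z, hz⟩, rfl⟩ := QuotientGroup.mk_surjective z
    have hz' : z ∈ (((P : Subgroup G) ⊔ N : Subgroup G) : Set G) := hz
    rw [mul_normal] at hz'
    obtain ⟨x, hx, n, hn, rfl⟩ := hz'
    refine ⟨⟨⟨x, mem_sup_left hx⟩, by rw [hScoe]; exact hx⟩, QuotientGroup.eq.mpr ?_⟩
    show x⁻¹ * (x * n) ∈ N
    rwa [inv_mul_cancel_left]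
  have hle : (S : Subgroup H) ⊓ pResidual p H ≤ (frattini S).map (S : Subgroup H).subtype := by
    rintro ⟨z, hz⟩ ⟨hzS, hzR⟩
    have hzP : z ∈ (P : Subgroup G) := by
      rw [SetLike.mem_coe, hScoe] at hzS
      exact hzS
    obtain ⟨y, hy, hyz⟩ := h ⟨pResidual_le_of_isPGroup_quotient _ hq hzR, hzP⟩
    let e : (P : Subgroup G) ≃* (S : Subgroup H) :=
      (subgroupOfEquivOfLe (le_sup_left : (P : Subgroup G) ≤ H)).symm.trans
        (MulEquiv.subgroupCongr hScoe.symm)
    refine ⟨e y, ?_, Subtype.ext hyz⟩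
    exact Core.map_frattini_le_of_surjective (f := e.toMonoidHom) e.surjective ⟨y, hy, rfl⟩
  exact hasNormalPComplement_of_injective (inclusion (le_sup_right : N ≤ H))
    (inclusion_injective _) (hasNormalPComplement_of_inf_pResidual_le_frattini S hle)

end Cfsg.Agent.Fusion
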