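import Cfsg.Agent.Fusion.Alperin
import Cfsg.Agent.Fusion.Transfer

/-!
# The Frobenius normal `p`-complement theorem
-/

namespace Cfsg.Agent.Fusion

open Subgroup
open scoped commutatorElement

universe u

variable {G : Type u} [Group G] [Finite G] {p : ℕ} [Fact p.Prime]

/-- In a group with a normal `p`-complement, `p'`-elements centralize the `p`-subgroups they
normalize. -/
theorem mem_centralizer_of_hasNormalPComplement (h : HasNormalPComplement p G) {Q : Subgroup G}
    (hQ : IsPGroup p Q) {g : G} (hg : g ∈ normalizer (Q : Set G))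
    (hgo : Nat.Coprime (orderOf g) p) : g ∈ centralizer (Q : Set G) := by
  rw [mem_centralizer_iff]
  intro x hx
  have h1 : ⁅g, x⁆ ∈ pResidual p G := by
    rw [commutatorElement_def, mul_assoc, mul_assoc, ← mul_assoc x]
    exact mul_mem (mem_pResidual_of_coprime hgo)
      ((inferInstance : (pResidual p G).Normal).conj_mem g⁻¹
        (inv_mem (mem_pResidual_of_coprime hgo)) x)
  have h2 : ⁅g, x⁆ ∈ Q := by
    rw [commutatorElement_def]
    exact mul_mem ((mem_normalizer_iff.mp hg x).mp hx) (inv_mem hx)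
  have h3 : orderOf ⁅g, x⁆ = 1 := by
    obtain ⟨k, hk⟩ := IsPGroup.iff_orderOf.mp hQ ⟨⁅g, x⁆, h2⟩
    rw [Subgroup.orderOf_mk] at hk
    have := ((mem_pResidual_iff h).mp h1).pow_right k
    rwa [hk, Nat.coprime_self, ← hk] at this
  exact (commutatorElement_eq_one_iff_mul_comm.mp (orderOf_eq_one_iff.mp h3)).symm

/-- If `N(Q)/C(Q)` is a `p`-group and `S` is a Sylow `p`-subgroup of `N(Q)`, then
`N(Q) = C(Q) S`. -/
theorem exists_mem_centralizer_mul {Q S N : Subgroup G} (hN : N ≤ normalizer (Q : Set G))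
    (hS : S ≤ N) (hSi : ¬ p ∣ S.relIndex N)
    (h : ∀ g ∈ N, Nat.Coprime (orderOf g) p → g ∈ centralizer (Q : Set G)) {x : G} (hx : x ∈ N) :
    ∃ c ∈ centralizer (Q : Set G), ∃ s ∈ S, x = c * s := by
  set M : Subgroup N := (centralizer (Q : Set G)).subgroupOf N with hM
  have hMn : M.Normal := by
    refine ⟨fun c hc g => ?_⟩
    rw [hM, mem_subgroupOf, mem_centralizer_iff] at hc ⊢
    intro y hy
    have hy' : (g : G)⁻¹ * y * g ∈ Q := ((mem_normalizer_iff''.mp (hN g.2)) y).mp hy
    have := hc _ hy'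
    push_cast
    calc y * ((g : G) * c * (g : G)⁻¹) = g * (((g : G)⁻¹ * y * g) * c) * (g : G)⁻¹ := by group
      _ = g * (c * ((g : G)⁻¹ * y * g)) * (g : G)⁻¹ := by rw [this]
      _ = (g : G) * c * (g : G)⁻¹ * y := by group
  have hres : pResidual p N ≤ M := by
    rw [pResidual, closure_le]
    intro g hg
    refine h g g.2 ?_
    rwa [Subgroup.orderOf_coe]
  have hsup : S.subgroupOf N ⊔ M = ⊤ := by
    rw [← index_eq_one]
    obtain ⟨k, hk⟩ := index_pResidual_eq_pow (G := N) (p := p)
    obtain ⟨j, -, hj⟩ := (Nat.dvd_prime_pow (Fact.out : p.Prime)).mp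
      (hk ▸ index_dvd_of_le (hres.trans (le_sup_right : M ≤ S.subgroupOf N ⊔ M)))
    rcases j with _ | j
    · simpa using hj
    · exact absurd ((dvd_pow_self p (Nat.succ_ne_zero j)).trans
        (hj ▸ index_dvd_of_le (le_sup_left : S.subgroupOf N ≤ S.subgroupOf N ⊔ M))) hSi
  have hmem : (⟨x, hx⟩ : N) ∈ ((M ⊔ S.subgroupOf N : Subgroup N) : Set N) := by
    rw [sup_comm, hsup]; trivial
  rw [normal_mul] at hmem
  obtain ⟨c, hc, s, hs, hcs⟩ := hmem
  exact ⟨c, hc, s, hs, (congrArg (fun y : N => (y : G)) hcs).symm⟩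

/-- If all `p'`-elements of `N(Q)` centralize `Q` for every `Q ≤ P` then `P` controls its own
fusion. -/
theorem exists_mem_conj_eq_of_frobenius (P : Sylow p G)
    (h : ∀ Q : Subgroup G, Q ≤ (P : Subgroup G) → ∀ g ∈ normalizer (Q : Set G),
      Nat.Coprime (orderOf g) p → g ∈ centralizer (Q : Set G))
    {A : Set G} {g : G} (hA : AlperinChain P A g) :
    ∃ s ∈ P, ∀ a ∈ A, g⁻¹ * a * g = s⁻¹ * a * s := by
  induction hA with
  | nil A => exact ⟨1, one_mem _, fun a _ => rfl⟩
  | @cons A g x Q hA hx hQ _ ih =>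
    obtain ⟨t, ht, hteq⟩ := ih
    obtain ⟨c, hc, s, hs, rfl⟩ := exists_mem_centralizer_mul (le_refl _) inf_le_right hQ.1
      (fun y hy hy' => h _ inf_le_left y hy hy') hx
    refine ⟨s * t, mul_mem hs.1 ht, fun a ha => ?_⟩
    have h2 : a * c = c * a := mem_centralizer_iff.mp hc a (hA ha)
    have h1 := hteq _ ⟨a, ha, rfl⟩
    have h3 : (c * s)⁻¹ * a * (c * s) = s⁻¹ * a * s := by
      rw [show (c * s)⁻¹ * a * (c * s) = s⁻¹ * c⁻¹ * (a * c) * s by group, h2]; group
    calc (c * s * g)⁻¹ * a * (c * s * g) = g⁻¹ * ((c * s)⁻¹ * a * (c * s)) * g := by group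
      _ = t⁻¹ * ((c * s)⁻¹ * a * (c * s)) * t := h1
      _ = (s * t)⁻¹ * a * (s * t) := by rw [h3]; group

/-- The Frobenius normal `p`-complement theorem. -/
theorem hasNormalPComplement_of_frobenius
    (h : ∀ Q : Subgroup G, IsPGroup p Q → ∀ g ∈ normalizer (Q : Set G),
      Nat.Coprime (orderOf g) p → g ∈ centralizer (Q : Set G)) :
    HasNormalPComplement p G := by
  induction hn : Nat.card G using Nat.strong_induction_on generalizing G with
  | _ n IH =>
  subst hn
  rcases eq_or_ne (pResidual p G) ⊤ with ht | ht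
  · obtain ⟨P⟩ := (inferInstance : Nonempty (Sylow p G))
    refine hasNormalPComplement_of_coprime ?_
    by_contra hcop
    have hP : (P : Subgroup G) ≠ ⊥ := P.ne_bot_of_dvd_card (by
      by_contra hd
      exact hcop ((Nat.Prime.coprime_iff_not_dvd Fact.out).mpr hd).symm)
    refine (isPGroup_commutator_lt (p := p) P.2 hP).not_ge ?_
    have hle := inf_pResidual_le_focal P
    rw [ht, inf_top_eq] at hle
    refine hle.trans ((focalSubgroup_le_commutator_of_controls P _ le_rfl ?_).trans inf_le_left)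
    intro x hx g hgx
    obtain ⟨s, hs, hseq⟩ := exists_mem_conj_eq_of_frobenius P
      (fun Q hQ => h Q (P.2.to_le hQ))
      (alperinChain_of_subset P (A := {x}) (g := g⁻¹) (by simpa using hx)
        (by simpa [conjSet] using hgx))
    exact ⟨s⁻¹, inv_mem hs, by simpa using (hseq x rfl).symm⟩
  · set K := pResidual p G with hK
    have hlt : Nat.card K < Nat.card G :=
      lt_of_le_of_ne (Nat.le_of_dvd Nat.card_pos (card_subgroup_dvd_card K))
        fun e => ht (eq_top_of_card_eq K e)
    have hKc : HasNormalPComplement p K := by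
      refine IH _ hlt ?_ rfl
      intro Q hQ g hg hgo
      have hg' : (g : G) ∈ normalizer ((Q.map K.subtype : Subgroup G) : Set G) := by
        rw [mem_normalizer_iff_map_conj_eq, Subgroup.map_map]
        rw [mem_normalizer_iff_map_conj_eq] at hg
        conv_rhs => rw [← hg, Subgroup.map_map]
        exact congrArg (Subgroup.map · Q) (MonoidHom.ext fun y => by simp)
      have := h (Q.map K.subtype) (hQ.map _) (g : G) hg' (by rwa [Subgroup.orderOf_coe])
      rw [mem_centralizer_iff] at this ⊢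
      intro y hy
      exact Subtype.ext (this (y : G) ⟨y, hy, rfl⟩)
    rw [hasNormalPComplement_iff]
    have := coprime_card_pResidual_of_hasNormalPComplement hKc
    rwa [hK, pResidual_pResidual, card_top] at this

/-- Frobenius' criterion in the local form. -/
theorem hasNormalPComplement_of_local
    (h : ∀ Q : Subgroup G, IsPGroup p Q → Q ≠ ⊥ →
      HasNormalPComplement p (normalizer (Q : Set G))) :
    HasNormalPComplement p G := by
  refine hasNormalPComplement_of_frobenius fun Q hQ g hg hgo => ?_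
  rcases eq_or_ne Q ⊥ with rfl | hQ1
  · rw [mem_centralizer_iff]
    intro x hx
    rw [SetLike.mem_coe, mem_bot] at hx
    simp [hx]
  have hnQ : (Q.subgroupOf (normalizer (Q : Set G))).Normal := normal_in_normalizer
  have := mem_centralizer_of_hasNormalPComplement (h Q hQ hQ1)
    (hQ.comap_subtype (K := normalizer (Q : Set G))) (g := ⟨g, hg⟩)
    ((normalizer_eq_top_iff.mpr hnQ).ge (mem_top _))
    (by rwa [Subgroup.orderOf_mk])
  rw [mem_centralizer_iff] at this ⊢
  intro x hx
  exact congrArg (fun y : normalizer (Q : Set G) => (y : G))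
    (this ⟨x, le_normalizer hx⟩ hx)

end Cfsg.Agent.Fusion
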