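import Mathlib.Tactic.Group
import Mathlib.GroupTheory.SpecificGroups.Cyclic
import Cfsg.Agent.Fusion.PGroup
import Cfsg.Agent.Core.Frattini

/-!
# Extraspecial `p`-groups: the commutator pairing and hyperbolic decomposition
-/

namespace Cfsg.Agent.Fusion

set_option linter.unusedSectionVars false

open Subgroup
open scoped commutatorElement

universe u

variable {E : Type u} [Group E] [Finite E] {p : ℕ} [Fact p.Prime]

theorem es_commutator_le (h : IsExtraspecial p E) : commutator E ≤ center E := h.1.2.2.le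

theorem es_pow_mem_center (h : IsExtraspecial p E) (x : E) : x ^ p ∈ center E :=
  h.1.2.1 ▸ Core.pow_mem_frattini h.1.1 x

theorem es_commutator_mem (h : IsExtraspecial p E) (x y : E) : ⁅x, y⁆ ∈ center E :=
  es_commutator_le h (commutator_mem_commutator (mem_top x) (mem_top y))

theorem es_center_pow (h : IsExtraspecial p E) {z : E} (hz : z ∈ center E) : z ^ p = 1 := by
  have := pow_card_eq_one' (x := (⟨z, hz⟩ : center E))
  rw [h.2] at this
  exact congrArg (fun w : center E => (w : E)) this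

theorem es_center_zpowers (h : IsExtraspecial p E) {z : E} (hz : z ∈ center E) (h1 : z ≠ 1) :
    zpowers z = center E := by
  refine eq_of_le_of_card_ge (zpowers_le.mpr hz) ?_
  rw [h.2, Nat.card_zpowers, orderOf_eq_prime (es_center_pow h hz) h1]

theorem commutatorElement_zpow_left_of_le_center (h : commutator E ≤ center E) (a c : E) (n : ℤ) :
    ⁅a ^ n, c⁆ = ⁅a, c⁆ ^ n :=
  (MonoidHom.mk' (fun t => ⁅t, c⁆)
    fun x y => commutatorElement_mul_left_of_le_center h x y c).map_zpow a n

theorem commutatorElement_zpow_right_of_le_center (h : commutator E ≤ center E) (a c : E) (n : ℤ) :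
    ⁅a, c ^ n⁆ = ⁅a, c⁆ ^ n :=
  (MonoidHom.mk' (fun t => ⁅a, t⁆)
    fun x y => commutatorElement_mul_right_of_le_center h a x y).map_zpow c n

/-- The data of one hyperbolic step inside a non-degenerate subgroup `H ≥ Z(E)`. -/
theorem es_step (h : IsExtraspecial p E) (H : Subgroup E) (hZ : center E ≤ H)
    (hnd : H ⊓ centralizer (H : Set E) ≤ center E) {a b : E} (ha : a ∈ H) (hb : b ∈ H)
    (hab : ⁅a, b⁆ ≠ 1) :
    ∃ K : Subgroup E, K ≤ H ∧ center E ≤ K ∧ K ⊓ centralizer (K : Set E) ≤ center E ∧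
      Nat.card H = p ^ 2 * Nat.card K ∧ (∀ k ∈ K, Commute a k ∧ Commute b k) ∧
      ∀ x ∈ H, ∃ i j : ℤ, ∃ k ∈ K, x = a ^ i * b ^ j * k := by
  have hle := es_commutator_le h
  set c := ⁅a, b⁆ with hc
  have hgen := es_center_zpowers h (es_commutator_mem h a b) hab
  let φ : H →* center E × center E :=
    MonoidHom.mk' (fun x => (⟨⁅(x : E), b⁆, es_commutator_mem h _ _⟩,
      ⟨⁅a, (x : E)⁆, es_commutator_mem h _ _⟩)) fun x y => Prod.ext
        (Subtype.ext (commutatorElement_mul_left_of_le_center hle _ _ _))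
        (Subtype.ext (commutatorElement_mul_right_of_le_center hle _ _ _))
  have hkey : ∀ i j : ℤ, ⁅a ^ i * b ^ j, b⁆ = c ^ i ∧ ⁅a, a ^ i * b ^ j⁆ = c ^ j := by
    intro i j
    rw [commutatorElement_mul_left_of_le_center hle, commutatorElement_mul_right_of_le_center hle,
      commutatorElement_eq_one_iff_mul_comm.mpr (Commute.self_zpow b j).symm.eq,
      commutatorElement_eq_one_iff_mul_comm.mpr (Commute.self_zpow a i).eq,
      commutatorElement_zpow_left_of_le_center hle, commutatorElement_zpow_right_of_le_center hle,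
      mul_one, one_mul]
    exact ⟨rfl, rfl⟩
  have hsurj : Function.Surjective φ := by
    rintro ⟨⟨u, hu⟩, ⟨v, hv⟩⟩
    obtain ⟨i, rfl⟩ := mem_zpowers_iff.mp (hgen.ge hu)
    obtain ⟨j, rfl⟩ := mem_zpowers_iff.mp (hgen.ge hv)
    exact ⟨⟨a ^ i * b ^ j, mul_mem (zpow_mem ha i) (zpow_mem hb j)⟩,
      Prod.ext (Subtype.ext (hkey i j).1) (Subtype.ext (hkey i j).2)⟩
  set K := φ.ker.map H.subtype with hK
  have memK : ∀ k, k ∈ K ↔ k ∈ H ∧ Commute a k ∧ Commute b k := by
    intro k
    constructor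
    · rintro ⟨x, hx, rfl⟩
      have h1 : ⁅(x : E), b⁆ = 1 := congrArg (fun w => ((w : center E × center E).1 : E)) hx
      have h2 : ⁅a, (x : E)⁆ = 1 := congrArg (fun w => ((w : center E × center E).2 : E)) hx
      exact ⟨x.2, commutatorElement_eq_one_iff_mul_comm.mp h2,
        (commutatorElement_eq_one_iff_mul_comm.mp h1).symm⟩
    · rintro ⟨hkH, hak, hbk⟩
      exact ⟨⟨k, hkH⟩, Prod.ext (Subtype.ext (commutatorElement_eq_one_iff_mul_comm.mpr hbk.eq.symm))
        (Subtype.ext (commutatorElement_eq_one_iff_mul_comm.mpr hak.eq)), rfl⟩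
  have hdec : ∀ x ∈ H, ∃ i j : ℤ, ∃ k ∈ K, x = a ^ i * b ^ j * k := by
    intro x hx
    obtain ⟨i, hi⟩ := mem_zpowers_iff.mp (hgen.ge (es_commutator_mem h x b))
    obtain ⟨j, hj⟩ := mem_zpowers_iff.mp (hgen.ge (es_commutator_mem h a x))
    refine ⟨i, j, (a ^ i * b ^ j)⁻¹ * x, ?_, (mul_inv_cancel_left _ _).symm⟩
    rw [memK]
    refine ⟨mul_mem (inv_mem (mul_mem (zpow_mem ha i) (zpow_mem hb j))) hx,
      commutatorElement_eq_one_iff_mul_comm.mp ?_,
      (commutatorElement_eq_one_iff_mul_comm.mp ?_).symm⟩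
    · rw [commutatorElement_mul_right_of_le_center hle, ← hj, ← zpow_neg_one (a ^ i * b ^ j),
        commutatorElement_zpow_right_of_le_center hle, (hkey i j).2, zpow_neg_one, inv_mul_cancel]
    · rw [commutatorElement_mul_left_of_le_center hle, ← hi, ← zpow_neg_one (a ^ i * b ^ j),
        commutatorElement_zpow_left_of_le_center hle, (hkey i j).1, zpow_neg_one, inv_mul_cancel]
  refine ⟨K, map_subtype_le _, fun z hz => (memK z).mpr
    ⟨hZ hz, mem_center_iff.mp hz a, mem_center_iff.mp hz b⟩, ?_, ?_,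
    fun k hk => ((memK k).mp hk).2, hdec⟩
  · rintro z ⟨hzK, hzC⟩
    obtain ⟨hzH, haz, hbz⟩ := (memK z).mp hzK
    refine hnd ⟨hzH, mem_centralizer_iff.mpr fun x hx => ?_⟩
    obtain ⟨i, j, k, hk, rfl⟩ := hdec x hx
    exact (((haz.zpow_left i).mul_left (hbz.zpow_left j)).mul_left
      (mem_centralizer_iff.mp hzC k hk)).eq
  · rw [hK, card_map_of_injective H.subtype_injective, ← φ.ker.card_mul_index, index_ker,
      MonoidHom.range_eq_top.mpr hsurj, card_top, Nat.card_prod, h.2]
    ring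

/-- A non-central element of a non-degenerate subgroup has a partner. -/
theorem es_exists_partner (H : Subgroup E) (hnd : H ⊓ centralizer (H : Set E) ≤ center E) {a : E}
    (ha : a ∈ H) (haZ : a ∉ center E) : ∃ b ∈ H, ⁅a, b⁆ ≠ 1 := by
  by_contra hne
  push Not at hne
  exact haZ (hnd ⟨ha, mem_centralizer_iff.mpr fun b hb =>
    (commutatorElement_eq_one_iff_mul_comm.mp (hne b hb)).symm⟩)

theorem es_top_nondeg : (⊤ : Subgroup E) ⊓ centralizer ((⊤ : Subgroup E) : Set E) ≤ center E := by
  rintro z ⟨-, hz⟩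
  exact mem_center_iff.mpr fun g => mem_centralizer_iff.mp hz g (mem_top g)

/-- Orders of non-degenerate subgroups. -/
theorem es_card_eq (h : IsExtraspecial p E) (H : Subgroup E) (hZ : center E ≤ H)
    (hnd : H ⊓ centralizer (H : Set E) ≤ center E) : ∃ n, Nat.card H = p ^ (2 * n + 1) := by
  induction hn : Nat.card H using Nat.strong_induction_on generalizing H with
  | _ m IH =>
  subst hn
  rcases hZ.eq_or_lt with rfl | hlt
  · exact ⟨0, by rw [h.2]; simp⟩
  obtain ⟨a, ha, haZ⟩ := SetLike.exists_of_lt hlt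
  obtain ⟨b, hb, hab⟩ := es_exists_partner H hnd ha haZ
  obtain ⟨K, -, hZK, hK, hcard, -⟩ := es_step h H hZ hnd ha hb hab
  obtain ⟨n, hn⟩ := IH (Nat.card K) (by
    rw [hcard]
    exact lt_mul_of_one_lt_left Nat.card_pos (Nat.one_lt_pow two_ne_zero (Fact.out : p.Prime).one_lt))
    K hZK hK rfl
  exact ⟨n + 1, by rw [hcard, hn, ← pow_add]; ring_nf⟩

/-- Every homomorphism from `E` to its centre which kills the centre is `x ↦ ⁅e, x⁆` on a
non-degenerate subgroup, for some `e` in it. -/
theorem es_hom_eq_commutator (h : IsExtraspecial p E) (f : E →* E) (hf : ∀ x, f x ∈ center E)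
    (hfZ : ∀ z ∈ center E, f z = 1) (H : Subgroup E) (hZ : center E ≤ H)
    (hnd : H ⊓ centralizer (H : Set E) ≤ center E) : ∃ e ∈ H, ∀ x ∈ H, f x = ⁅e, x⁆ := by
  induction hn : Nat.card H using Nat.strong_induction_on generalizing H with
  | _ m IH =>
  subst hn
  have hle := es_commutator_le h
  rcases hZ.eq_or_lt with rfl | hlt
  · exact ⟨1, one_mem _, fun x hx => by rw [hfZ x hx, commutatorElement_one_left]⟩
  obtain ⟨a, ha, haZ⟩ := SetLike.exists_of_lt hlt
  obtain ⟨b, hb, hab⟩ := es_exists_partner H hnd ha haZ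
  obtain ⟨K, hKH, hZK, hK, hcard, hcomm, hdec⟩ := es_step h H hZ hnd ha hb hab
  obtain ⟨e, he, heq⟩ := IH (Nat.card K) (by
    rw [hcard]
    exact lt_mul_of_one_lt_left Nat.card_pos (Nat.one_lt_pow two_ne_zero (Fact.out : p.Prime).one_lt))
    K hZK hK rfl
  have hgen := es_center_zpowers h (es_commutator_mem h a b) hab
  obtain ⟨i, hi⟩ := mem_zpowers_iff.mp (hgen.ge (hf a))
  obtain ⟨j, hj⟩ := mem_zpowers_iff.mp (hgen.ge (hf b))
  refine ⟨b ^ (-i) * a ^ j * e, mul_mem (mul_mem (zpow_mem hb _) (zpow_mem ha _)) (hKH he),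
    fun x hx => ?_⟩
  have key : ∀ y, y = a ∨ y = b ∨ y ∈ K → f y = ⁅b ^ (-i) * a ^ j * e, y⁆ := by
    intro y hy
    rw [commutatorElement_mul_left_of_le_center hle, commutatorElement_mul_left_of_le_center hle,
      commutatorElement_zpow_left_of_le_center hle, commutatorElement_zpow_left_of_le_center hle]
    rcases hy with rfl | rfl | hy
    · rw [commutatorElement_self, one_zpow, mul_one,
        commutatorElement_eq_one_iff_mul_comm.mpr (hcomm e he).1.eq.symm, mul_one,
        ← commutatorElement_inv, inv_zpow', neg_neg, hi]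
    · rw [commutatorElement_self, one_zpow, one_mul,
        commutatorElement_eq_one_iff_mul_comm.mpr (hcomm e he).2.eq.symm, mul_one, hj]
    · rw [commutatorElement_eq_one_iff_mul_comm.mpr (hcomm y hy).1.eq,
        commutatorElement_eq_one_iff_mul_comm.mpr (hcomm y hy).2.eq, one_zpow, one_zpow, one_mul,
        one_mul, heq y hy]
  obtain ⟨s, t, k, hk, rfl⟩ := hdec x hx
  rw [map_mul, map_mul, map_zpow, map_zpow, key a (Or.inl rfl), key b (Or.inr (Or.inl rfl)),
    key k (Or.inr (Or.inr hk)), ← commutatorElement_zpow_right_of_le_center hle,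
    ← commutatorElement_zpow_right_of_le_center hle, ← commutatorElement_mul_right_of_le_center hle,
    ← commutatorElement_mul_right_of_le_center hle]

end Cfsg.Agent.Fusion
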