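import Mathlib.GroupTheory.Frattini
import Mathlib.RingTheory.Int.Basic
import Cfsg.Agent.Fusion.PGroup

/-!
# Thompson's critical subgroups
-/

namespace Cfsg.Agent.Fusion

set_option linter.unusedSectionVars false

open Subgroup
open scoped commutatorElement

universe u

variable {G : Type u} [Group G] [Finite G] {p : ℕ} [Fact p.Prime]

/-- If `G/N` is elementary abelian then the Frattini subgroup lies in `N`. -/
theorem frattini_le_of_elementary (N : Subgroup G) (hc : commutator G ≤ N)
    (hp : ∀ x : G, x ^ p ∈ N) : frattini G ≤ N := by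
  intro x hx
  by_contra hxN
  obtain ⟨M, ⟨hNM, hxM⟩, hmax⟩ := Set.Finite.exists_maximal
    (Set.toFinite {M : Subgroup G | N ≤ M ∧ x ∉ M}) ⟨N, le_rfl, hxN⟩
  have hMn : M.Normal := Normal.of_commutator_le G (hc.trans hNM)
  suffices hco : IsCoatom M from hxM (frattini_le_coatom hco hx)
  refine ⟨fun e => hxM (e ▸ mem_top x), fun K hK => eq_top_iff.mpr fun y _ => ?_⟩
  have hxK : x ∈ K := by
    by_contra h
    exact hK.not_ge (hmax ⟨hNM.trans hK.le, h⟩ hK.le)
  by_cases hyM : y ∈ M
  · exact hK.le hyM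
  have hxL : x ∈ M ⊔ zpowers y := by
    by_contra h
    exact hyM (hmax ⟨hNM.trans le_sup_left, h⟩ le_sup_left
      (mem_sup_right (mem_zpowers y) : y ∈ M ⊔ zpowers y))
  obtain ⟨m, hm, z, hz, hmz⟩ := mem_sup_of_normal_left.mp hxL
  obtain ⟨j, rfl⟩ := mem_zpowers_iff.mp hz
  have hyj : y ^ j ∈ K := by
    have := mul_mem (inv_mem (hK.le hm)) hxK
    rwa [← hmz, inv_mul_cancel_left] at this
  by_cases hd : (p : ℤ) ∣ j
  · obtain ⟨k, rfl⟩ := hd
    refine absurd ?_ hxM
    rw [← hmz, zpow_mul, zpow_natCast]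
    exact mul_mem hm (zpow_mem (hNM (hp y)) k)
  · obtain ⟨a, b, hab⟩ :=
      ((Nat.prime_iff_prime_int.mp (Fact.out : p.Prime)).coprime_iff_not_dvd).mpr hd
    rw [← zpow_one y, ← hab, zpow_add, mul_comm a, zpow_mul, zpow_natCast, mul_comm b, zpow_mul]
    exact mul_mem (zpow_mem (hK.le (hNM (hp y))) a) (zpow_mem hyj b)

/-- Thompson's critical subgroup exists in every finite `p`-group. -/
theorem exists_critical (hG : IsPGroup p G) :
    ∃ H : Subgroup G, H.Characteristic ∧ commutator H ≤ center H ∧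
      (frattini H).map H.subtype ≤ centralizer (H : Set G) ∧
      ⁅H, (⊤ : Subgroup G)⁆ ≤ H ⊓ centralizer (H : Set G) ∧
      centralizer (H : Set G) ≤ H := by
  obtain ⟨D, ⟨hDc, hDa⟩, hmax⟩ := Set.Finite.exists_maximal
    (Set.toFinite {D : Subgroup G | D.Characteristic ∧ IsMulCommutative D})
    ⟨⊥, inferInstance, inferInstance⟩
  set f := QuotientGroup.mk' D with hf
  let K : Subgroup (G ⧸ D) :=
    { carrier := {z | z ∈ center (G ⧸ D) ∧ z ^ p = 1}
      mul_mem' := fun {a b} ha hb => ⟨mul_mem ha.1 hb.1, by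
        rw [(show Commute a b from (mem_center_iff.mp hb.1 a)).mul_pow, ha.2, hb.2, one_mul]⟩
      one_mem' := ⟨one_mem _, one_pow p⟩
      inv_mem' := fun {a} ha => ⟨inv_mem ha.1, by rw [inv_pow, ha.2, inv_one]⟩ }
  set H := centralizer (D : Set G) ⊓ K.comap f with hH
  have memH : ∀ x, x ∈ H ↔
      x ∈ centralizer (D : Set G) ∧ x ^ p ∈ D ∧ ∀ g, ⁅x, g⁆ ∈ D := by
    intro x
    rw [hH, mem_inf, mem_comap]
    refine and_congr_right fun _ => ?_
    show f x ∈ center (G ⧸ D) ∧ f x ^ p = 1 ↔ _
    rw [← map_pow, hf, QuotientGroup.mk'_apply, QuotientGroup.mk'_apply,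
      QuotientGroup.eq_one_iff, and_comm]
    refine and_congr_right fun _ => ?_
    rw [mem_center_iff]
    constructor
    · intro h g
      have h1 : ⁅(x : G ⧸ D), (g : G ⧸ D)⁆ = 1 :=
        commutatorElement_eq_one_iff_mul_comm.mpr (h g).symm
      exact (QuotientGroup.eq_one_iff _).mp h1
    · intro h z
      obtain ⟨g, rfl⟩ := QuotientGroup.mk_surjective z
      have h1 : ⁅(x : G ⧸ D), (g : G ⧸ D)⁆ = 1 := (QuotientGroup.eq_one_iff _).mpr (h g)
      exact (commutatorElement_eq_one_iff_mul_comm.mp h1).symm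
  have hCc : (centralizer (D : Set G)).Characteristic := inferInstance
  have hHc : H.Characteristic := by
    rw [characteristic_iff_le_comap]
    intro φ x hx
    rw [mem_comap, memH]
    rw [memH] at hx
    have hD : ∀ z ∈ D, φ z ∈ D := fun z hz => (characteristic_iff_le_comap.mp hDc φ) hz
    refine ⟨(characteristic_iff_le_comap.mp hCc φ) hx.1, ?_, fun g => ?_⟩
    · rw [← map_pow]; exact hD _ hx.2.1
    · obtain ⟨g, rfl⟩ := φ.surjective g
      rw [show φ.toMonoidHom x = φ x from rfl, ← map_commutatorElement]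
      exact hD _ (hx.2.2 g)
  have hDH : D ≤ H := fun x hx => (memH x).mpr
    ⟨le_centralizer_iff_isMulCommutative.mpr hDa hx, pow_mem hx p,
      fun g => commutator_le_left D ⊤ (commutator_mem_commutator hx (mem_top g))⟩
  have hHD : H ≤ centralizer (D : Set G) := inf_le_left
  have hCH : H ⊓ centralizer (H : Set G) = D := by
    refine le_antisymm (hmax ⟨?_, ?_⟩ ?_) (le_inf hDH (le_centralizer_iff.mp hHD))
    · rw [characteristic_iff_le_comap]
      intro φ
      rw [comap_inf]
      exact inf_le_inf (characteristic_iff_le_comap.mp hHc φ)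
        (characteristic_iff_le_comap.mp inferInstance φ)
    · exact le_centralizer_iff_isMulCommutative.mp
        (inf_le_right.trans (centralizer_le inf_le_left))
    · exact le_inf hDH (le_centralizer_iff.mp hHD)
  have hcomm : ⁅H, (⊤ : Subgroup G)⁆ ≤ D :=
    commutator_le.mpr fun x hx g _ => ((memH x).mp hx).2.2 g
  have hcH : ∀ {z : H}, (z : G) ∈ D → z ∈ center H := fun {z} hz => mem_center_iff.mpr fun w =>
    Subtype.ext (mem_centralizer_iff.mp (le_centralizer_iff.mp hHD hz) w w.2)
  refine ⟨H, hHc, ?_, ?_, hCH ▸ hcomm, ?_⟩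
  · rw [_root_.commutator_def, commutator_le]
    intro a _ b _
    exact hcH (((memH (a : G)).mp a.2).2.2 b)
  · have h1 : frattini H ≤ D.subgroupOf H := by
      refine frattini_le_of_elementary (p := p) _ ?_ fun x => ((memH (x : G)).mp x.2).2.1
      rw [_root_.commutator_def, commutator_le]
      intro a _ b _
      exact ((memH (a : G)).mp a.2).2.2 b
    refine (map_mono h1).trans ?_
    rw [map_subgroupOf_eq_of_le hDH]
    exact le_centralizer_iff.mp hHD
  · set Q := centralizer (H : Set G) with hQ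
    have hDQ : D ≤ Q := le_centralizer_iff.mp hHD
    rcases hDQ.eq_or_lt with he | hlt
    · exact he ▸ hDH
    exfalso
    obtain ⟨L, -, hDL, hLQ, hLc, hLD⟩ := exists_normal_card_succ hG D Q hlt
    have hLH : L ≤ H := fun x hx => by
      refine (memH x).mpr ⟨centralizer_le hDH (hLQ hx), ?_,
        fun g => hLD (commutator_mem_commutator hx (mem_top g))⟩
      have h1 : D.relIndex L = p := by
        have := card_mul_index (D.subgroupOf L)
        rw [Nat.card_congr (subgroupOfEquivOfLe hDL).toEquiv, hLc, mul_comm p] at this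
        exact Nat.eq_of_mul_eq_mul_left Nat.card_pos this
      have h2 := pow_index_mem (D.subgroupOf L) ⟨x, hx⟩
      rw [show (D.subgroupOf L).index = p from h1] at h2
      exact h2
    have : L ≤ D := hCH ▸ le_inf hLH hLQ
    have := card_le_of_le this
    rw [hLc] at this
    exact absurd this (not_le.mpr (lt_mul_of_one_lt_left Nat.card_pos (Fact.out : p.Prime).one_lt))

end Cfsg.Agent.Fusion
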