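import Mathlib.GroupTheory.IndexNormal
import Mathlib.NumberTheory.Multiplicity
import Mathlib.FieldTheory.Finite.Basic
import Mathlib.GroupTheory.SpecificGroups.Cyclic
import Cfsg.Agent.Fusion.PGroup

/-!
# Normal elementary abelian subgroups of order `p²`; cyclic maximal subgroups
-/

namespace Cfsg.Agent.Fusion

set_option linter.unusedSectionVars false

open Subgroup
open scoped commutatorElement IsMulCommutative

universe u

variable {G : Type u} [Group G] [Finite G] {p : ℕ} [Fact p.Prime]

/-- In a non-cyclic `p`-group, `p` odd, with a cyclic subgroup of index `p`, the solutions of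
`x ^ p = 1` form an elementary abelian subgroup of order `p²`. -/
theorem omega_of_cyclic_index_prime (hp : p ≠ 2) (hG : IsPGroup p G) (hnc : ¬ IsCyclic G)
    (C : Subgroup G) (hC : IsCyclic C) (hCi : C.index = p) :
    ∃ K : Subgroup G, (∀ x, x ∈ K ↔ x ^ p = 1) ∧ IsElementaryAbelian p K ∧ Nat.card K = p ^ 2 := by
  have hpp : p.Prime := Fact.out
  have hCn : C.Normal := normal_of_index_eq_minFac_card (by
    obtain ⟨n, hn⟩ := IsPGroup.iff_card.mp hG
    have hdvd : p ∣ Nat.card G := hCi ▸ C.index_dvd_card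
    obtain ⟨m, rfl⟩ : ∃ m, n = m + 1 := Nat.exists_eq_succ_of_ne_zero (by
      rintro rfl
      rw [hn, pow_zero, Nat.dvd_one] at hdvd
      exact hpp.ne_one hdvd)
    rw [hCi, hn, Nat.Prime.pow_minFac hpp m.succ_ne_zero])
  have hpowC : ∀ x : G, x ^ p ∈ C := fun x => hCi ▸ C.pow_index_mem x
  have htor : Nat.card {y : C | y ^ p = 1} ≤ p := by
    classical
    have := Fintype.ofFinite C
    rw [Nat.card_eq_fintype_card, Fintype.card_subtype]
    exact IsCyclic.card_pow_eq_one_le hpp.pos
  -- the `p`-torsion of `C` is central in `G`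
  have hΩ : ∀ y ∈ C, y ^ p = 1 → y ∈ center G := by
    let Ω : Subgroup C :=
      { carrier := {y | y ^ p = 1}
        mul_mem' := fun {a b} (ha : a ^ p = 1) (hb : b ^ p = 1) => by
          show (a * b) ^ p = 1
          rw [mul_pow, ha, hb, one_mul]
        one_mem' := one_pow p
        inv_mem' := fun {a} (ha : a ^ p = 1) => by
          show a⁻¹ ^ p = 1
          rw [inv_pow, ha, inv_one] }
    have hΩn : (Ω.map C.subtype).Normal := ⟨by
      rintro _ ⟨y, hy, rfl⟩ g
      refine ⟨⟨g * y * g⁻¹, hCn.conj_mem _ y.2 g⟩, ?_, rfl⟩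
      exact Subtype.ext (by
        show (g * (y : G) * g⁻¹) ^ p = 1
        rw [conj_pow, show (y : G) ^ p = 1 from congrArg (fun z : C => (z : G)) hy, mul_one,
          mul_inv_cancel])⟩
    intro y hy hyp
    rcases eq_or_ne (Ω.map C.subtype) ⊥ with hb | hb
    · have : y ∈ Ω.map C.subtype := ⟨⟨y, hy⟩, Subtype.ext hyp, rfl⟩
      rw [hb, mem_bot] at this
      exact this ▸ one_mem _
    · have hymem : y ∈ Ω.map C.subtype := ⟨⟨y, hy⟩, Subtype.ext hyp, rfl⟩
      refine le_center_of_card_eq_prime hG _ ?_ hymem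
      obtain ⟨Z, hZ, -, -, hZc⟩ := exists_central_card_prime hG _ hb
      refine le_antisymm ?_ (hZc ▸ card_le_of_le hZ)
      rw [card_map_of_injective C.subtype_injective]
      exact htor
  have hexp : ∀ a b : G, ⁅a, b⁆ ∈ C := fun a b => by
    have : commutator G ≤ C := by
      have : IsCyclic (G ⧸ C) := isCyclic_of_prime_card (p := p) (by rw [← index_eq_card, hCi])
      exact Normal.quotient_commutative_iff_commutator_le.mp IsCyclic.isMulCommutative
    exact this (commutator_mem_commutator (mem_top a) (mem_top b))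
  -- commutators with elements of `C` have order dividing `p`
  have hCx : ∀ c ∈ C, ∀ x : G, ⁅c, x⁆ ∈ center G := by
    intro c hc x
    refine hΩ _ (hexp c x) ?_
    -- `c ↦ ⁅c, x⁆` is multiplicative on `C`
    have hmul : ∀ a b : C, ⁅((a * b : C) : G), x⁆ = ⁅(a : G), x⁆ * ⁅(b : G), x⁆ := by
      intro a b
      have h1 : (a : G) * ⁅(b : G), x⁆ = ⁅(b : G), x⁆ * a :=
        congrArg (fun z : C => (z : G)) (mul_comm a ⟨_, hexp b x⟩)
      have h2 : ⁅(b : G), x⁆ * ⁅(a : G), x⁆ = ⁅(a : G), x⁆ * ⁅(b : G), x⁆ :=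
        congrArg (fun z : C => (z : G)) (mul_comm (⟨_, hexp b x⟩ : C) ⟨_, hexp a x⟩)
      rw [Subgroup.coe_mul, ← h2]
      calc ⁅(a : G) * b, x⁆ = (a : G) * ⁅(b : G), x⁆ * (a : G)⁻¹ * ⁅(a : G), x⁆ := by
            simp only [commutatorElement_def]; group
        _ = ⁅(b : G), x⁆ * ⁅(a : G), x⁆ := by rw [h1, mul_inv_cancel_right]
    have hpow : ∀ n : ℕ, ⁅c ^ n, x⁆ = ⁅c, x⁆ ^ n := by
      intro n
      induction n with
      | zero => simp
      | succ n ih =>
        have := hmul (⟨c, hc⟩ ^ n) ⟨c, hc⟩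
        rw [Subgroup.coe_mul, SubmonoidClass.coe_pow] at this
        rw [pow_succ, this, ih, pow_succ]
    by_cases hxC : x ∈ C
    · have : c * x = x * c := congrArg (fun z : C => (z : G)) (mul_comm (⟨c, hc⟩ : C) ⟨x, hxC⟩)
      rw [commutatorElement_eq_one_iff_mul_comm.mpr this, one_pow]
    obtain ⟨g, hg⟩ := hC.exists_generator
    obtain ⟨n, hn⟩ := (mem_powers_iff_mem_zpowers (x := g)).mpr (hg ⟨x ^ p, hpowC x⟩)
    have hpn : p ∣ n := by
      by_contra hd
      -- then `x` generates `G`
      refine hnc ⟨x, fun y => ?_⟩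
      have hgx : (g : G) ∈ zpowers x := by
        obtain ⟨m, hm⟩ := exists_pow_eq_self_of_coprime (x := g) (n := n) (by
          obtain ⟨k, hk⟩ := IsPGroup.iff_orderOf.mp (hG.to_subgroup C) g
          rw [hk]
          exact ((hpp.coprime_iff_not_dvd).mpr hd).symm.pow_right k)
        have hn' : (g : G) ^ n = x ^ p := by
          simpa using congrArg (fun z : C => (z : G)) hn
        rw [← hm, SubmonoidClass.coe_pow, SubmonoidClass.coe_pow, hn']
        exact pow_mem (pow_mem (mem_zpowers x) _) _
      have hle : C < zpowers x := lt_of_le_of_ne (fun z hz => by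
        obtain ⟨i, hi⟩ := mem_zpowers_iff.mp (hg ⟨z, hz⟩)
        have : (g : G) ^ i = z := by simpa using congrArg (fun w : C => (w : G)) hi
        exact this ▸ zpow_mem hgx i) (fun e => hxC (e ▸ mem_zpowers x))
      have h1 := (hCi ▸ index_dvd_of_le hle.le : (zpowers x).index ∣ p)
      rcases (Nat.dvd_prime hpp).mp h1 with h | h
      · exact (index_eq_one.mp h).ge (mem_top y)
      · exact absurd h (Nat.ne_of_lt (hCi ▸ index_strictAnti hle))
    obtain ⟨e, he⟩ := hpn
    obtain ⟨j, hj⟩ := mem_zpowers_iff.mp (hg ⟨c, hc⟩)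
    have h3 : ⁅c, x⁆ ^ p = ⁅c ^ p, x⁆ := (hpow p).symm
    rw [h3]
    -- `x` fixes the `p`-th powers in `C`
    have hgp : Commute ((g : G) ^ p) x := by
      have hx' : (g : G) ^ n = x ^ p := by
        simpa using congrArg (fun z : C => (z : G)) hn
      -- the image of `C` under `c ↦ ⁅c, x⁆` consists of `p`-torsion
      by_contra hne
      refine hne ?_
      have hconj : ∀ m : ℕ, x ^ m * (g : G) * (x ^ m)⁻¹ ∈ C := fun m => hCn.conj_mem _ g.2 _
      obtain ⟨r, hr⟩ := (mem_powers_iff_mem_zpowers (x := g)).mpr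
        (hg ⟨x * g * x⁻¹, hCn.conj_mem _ g.2 x⟩)
      have hr' : x * (g : G) * x⁻¹ = (g : G) ^ r := by
        simpa using congrArg (fun z : C => (z : G)) hr.symm
      have hiter : ∀ m : ℕ, x ^ m * (g : G) * (x ^ m)⁻¹ = (g : G) ^ (r ^ m) := by
        intro m
        induction m with
        | zero => simp
        | succ m ih =>
          calc x ^ (m + 1) * (g : G) * (x ^ (m + 1))⁻¹
              = x * (x ^ m * g * (x ^ m)⁻¹) * x⁻¹ := by
                rw [pow_succ']; simp only [mul_inv_rev, mul_assoc]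
            _ = (g : G) ^ (r ^ (m + 1)) := by
              rw [ih, ← conj_pow, hr', ← pow_mul, pow_succ']
      have hfix : (g : G) ^ (r ^ p) = (g : G) ^ 1 := by
        rw [← hiter p, pow_one]
        have : x ^ p * (g : G) = g * x ^ p :=
          congrArg (fun z : C => (z : G)) (mul_comm (⟨_, hpowC x⟩ : C) g)
        rw [this, mul_inv_cancel_right]
      obtain ⟨k, hk⟩ := IsPGroup.iff_orderOf.mp hG (g : G)
      rw [pow_eq_pow_iff_modEq, hk] at hfix
      rw [commute_iff_eq]
      suffices x * (g : G) ^ p * x⁻¹ = (g : G) ^ p by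
        calc (g : G) ^ p * x = x * (g : G) ^ p * x⁻¹ * x := by rw [this]
          _ = x * (g : G) ^ p := by group
      rw [← conj_pow, hr', ← pow_mul, pow_eq_pow_iff_modEq, hk]
      rcases k with _ | k
      · rw [pow_zero]; exact Nat.modEq_one
      -- `r ^ p ≡ 1 [MOD p ^ (k + 1)]` gives `r ≡ 1 [MOD p ^ k]`
      have hkey : r ≡ 1 [MOD p ^ k] := by
        rcases k with _ | k
        · rw [pow_zero]; exact Nat.modEq_one
        have hr1 : (r : ℤ) ≡ 1 [ZMOD (p : ℤ)] := by
          have h1 : (r ^ p : ℕ) ≡ 1 [MOD p] :=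
            hfix.of_dvd (dvd_pow_self p (Nat.succ_ne_zero _))
          have h2 := ZMod.pow_card (r : ZMod p)
          rw [← Nat.cast_pow, (ZMod.natCast_eq_natCast_iff _ _ _).mpr h1] at h2
          rw [← ZMod.intCast_eq_intCast_iff]
          push_cast at h2 ⊢
          exact h2.symm
        obtain ⟨t, ht⟩ := (Int.modEq_iff_dvd.mp hr1.symm)
        have hnat : ((p ^ (k + 1 + 1) : ℕ) : ℤ) ∣ ((r ^ p : ℕ) : ℤ) - 1 := by
          simpa using Int.modEq_iff_dvd.mp (Int.natCast_modEq_iff.mpr hfix.symm)
        rw [← Int.natCast_modEq_iff, Int.modEq_comm, Int.modEq_iff_dvd]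
        push_cast at hnat ⊢
        have hnd : ¬ (p : ℤ) ∣ r := by
          intro hd
          have : (p : ℤ) ∣ 1 := by
            have := dvd_sub hd (Int.modEq_iff_dvd.mp hr1.symm)
            simpa using this
          exact hpp.ne_one (by exact_mod_cast Int.eq_one_of_dvd_one (by positivity) this)
        have hodd : Odd p := hpp.odd_of_ne_two hp
        have hev := Int.emultiplicity_pow_sub_pow hpp hodd (x := (r : ℤ)) (y := 1) ⟨t, ht⟩ hnd p
        rw [one_pow, (FiniteMultiplicity.emultiplicity_self (Nat.finiteMultiplicity_iff.mpr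
          ⟨hpp.ne_one, hpp.pos⟩) : emultiplicity p p = 1)] at hev
        have hle := le_emultiplicity_of_pow_dvd hnat
        rw [hev] at hle
        refine pow_dvd_of_le_emultiplicity ?_
        rw [Nat.cast_add, Nat.cast_one] at hle ⊢
        exact (ENat.add_le_add_iff_right ENat.one_ne_top).mp hle
      have := hkey.mul_right' p
      rw [one_mul, ← pow_succ] at this
      exact this
    have hc' : c ^ p = ((g : G) ^ p) ^ j := by
      have : (g : G) ^ j = c := by simpa using congrArg (fun w : C => (w : G)) hj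
      rw [← this, ← zpow_natCast, ← zpow_mul, ← zpow_natCast (g : G) p, ← zpow_mul, mul_comm]
    rw [hc', commutatorElement_eq_one_iff_commute]
    exact hgp.zpow_left j
  have hcen : ∀ a b : G, ⁅a, b⁆ ∈ center G ∧ ⁅a, b⁆ ^ p = 1 := by
    have hle : commutator G ≤ center G := by
      rw [_root_.commutator_def, commutator_le]
      intro a _ b _
      by_cases ha : a ∈ C
      · exact hCx a ha b
      by_cases hb : b ∈ C
      · rw [← commutatorElement_inv]; exact inv_mem (hCx b hb a)
      -- write `b = a^i * c`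
      have hqc : IsCyclic (G ⧸ C) := isCyclic_of_prime_card (p := p) (by rw [← index_eq_card, hCi])
      obtain ⟨i, hi⟩ := mem_zpowers_iff.mp (mem_zpowers_of_prime_card (p := p)
        (g := (a : G ⧸ C)) (g' := (b : G ⧸ C)) (by rw [← index_eq_card, hCi])
        (fun e => ha ((QuotientGroup.eq_one_iff a).mp e)))
      have hc : (a ^ i)⁻¹ * b ∈ C := by
        rw [← QuotientGroup.eq_one_iff, QuotientGroup.mk_mul, QuotientGroup.mk_inv,
          QuotientGroup.mk_zpow, hi, inv_mul_cancel]
      have : ⁅a, b⁆ = a ^ i * ⁅a, (a ^ i)⁻¹ * b⁆ * (a ^ i)⁻¹ := by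
        simp only [commutatorElement_def]; group
      rw [this]
      refine (inferInstance : (center G).Normal).conj_mem _ ?_ _
      rw [← commutatorElement_inv]
      exact inv_mem (hCx _ hc a)
    refine fun a b => ⟨hle (commutator_mem_commutator (mem_top a) (mem_top b)), ?_⟩
    rw [← commutatorElement_pow_left_of_le_center hle]
    by_cases hb : b ∈ C
    · exact commutatorElement_eq_one_iff_mul_comm.mpr
        (congrArg (fun z : C => (z : G)) (mul_comm (⟨_, hpowC a⟩ : C) ⟨b, hb⟩))
    · obtain ⟨i, hi⟩ := mem_zpowers_iff.mp (mem_zpowers_of_prime_card (p := p)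
        (g := (b : G ⧸ C)) (g' := (a : G ⧸ C)) (by rw [← index_eq_card, hCi])
        (fun e => hb ((QuotientGroup.eq_one_iff b).mp e)))
      have hc : (b ^ i)⁻¹ * a ∈ C := by
        rw [← QuotientGroup.eq_one_iff, QuotientGroup.mk_mul, QuotientGroup.mk_inv,
          QuotientGroup.mk_zpow, hi, inv_mul_cancel]
      have e1 : ⁅a, b⁆ = ⁅b ^ i, b⁆ * ⁅(b ^ i)⁻¹ * a, b⁆ := by
        rw [← commutatorElement_mul_left_of_le_center hle, mul_inv_cancel_left]
      rw [commutatorElement_eq_one_iff_mul_comm.mpr (Commute.self_zpow b i).symm.eq, one_mul] at e1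
      rw [commutatorElement_pow_left_of_le_center hle, e1,
        ← commutatorElement_pow_left_of_le_center hle, commutatorElement_pow_left_of_le_center hle,
        ← commutatorElement_inv b, inv_pow, ← commutatorElement_pow_left_of_le_center hle,
        inv_eq_one]
      exact commutatorElement_eq_one_iff_mul_comm.mpr
        (congrArg (fun z : C => (z : G)) (mul_comm (⟨_, hpowC b⟩ : C) ⟨_, hc⟩))
  have hchoose : p ∣ p.choose 2 := Nat.Prime.dvd_choose_self hpp two_ne_zero
    (lt_of_le_of_ne hpp.two_le (Ne.symm hp))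
  let φ : G →* C := MonoidHom.mk' (fun x => ⟨x ^ p, hpowC x⟩) fun a b => Subtype.ext (by
    show (a * b) ^ p = a ^ p * b ^ p
    rw [mul_pow_of_commute_commutator (mem_center_iff.mp (hcen b a).1 a).symm
      (mem_center_iff.mp (hcen b a).1 b).symm]
    obtain ⟨t, ht⟩ := hchoose
    rw [ht, pow_mul, (hcen b a).2, one_pow, mul_one])
  have hmem : ∀ x, x ∈ φ.ker ↔ x ^ p = 1 := fun x => Subtype.ext_iff
  -- the image is proper
  have himg : φ.range ≠ ⊤ := by
    intro ht
    obtain ⟨g, hg⟩ := hC.exists_generator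
    obtain ⟨x, hx⟩ : g ∈ φ.range := ht ▸ mem_top g
    refine hnc ⟨x, fun y => ?_⟩
    have hgx : (g : G) ∈ zpowers x := by rw [← hx]; exact pow_mem (mem_zpowers x) p
    have hle : C ≤ zpowers x := fun z hz => by
      obtain ⟨i, hi⟩ := mem_zpowers_iff.mp (hg ⟨z, hz⟩)
      have : (g : G) ^ i = z := by simpa using congrArg (fun w : C => (w : G)) hi
      exact this ▸ zpow_mem hgx i
    rcases hle.eq_or_lt with he | hlt
    · -- `x ∈ C` so all of `C` consists of `p`-th powers of `C`, hence `C` is trivial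
      exfalso
      have hxC : x ∈ C := he ▸ mem_zpowers x
      obtain ⟨m, hm⟩ := mem_zpowers_iff.mp (hg ⟨x, hxC⟩)
      have hgg : (g : G) = ((g : G) ^ m) ^ p := by
        have : (g : G) ^ m = x := by simpa using congrArg (fun w : C => (w : G)) hm
        rw [this, ← hx]; rfl
      rw [← zpow_natCast, ← zpow_mul] at hgg
      have h1 : orderOf (g : G) = 1 := by
        obtain ⟨k, hk⟩ := IsPGroup.iff_orderOf.mp hG (g : G)
        rcases k with _ | k
        · simpa using hk
        exfalso
        rw [← zpow_one (g : G), ← zpow_mul, one_mul, zpow_eq_zpow_iff_modEq, hk,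
          Int.modEq_iff_dvd] at hgg
        have hd : (p : ℤ) ∣ m * (p : ℤ) - 1 :=
          (dvd_trans (by exact_mod_cast dvd_pow_self p k.succ_ne_zero) hgg)
        have : (p : ℤ) ∣ 1 := by
          have := dvd_sub (dvd_mul_left (p : ℤ) m) hd
          simpa using this
        exact hpp.ne_one (by exact_mod_cast Int.eq_one_of_dvd_one (by positivity) this)
      have hg1 : g = 1 := Subtype.ext (orderOf_eq_one_iff.mp h1)
      have hG1 : Nat.card G = p := by
        rw [← C.card_mul_index, hCi]
        have : Nat.card C = 1 := by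
          rw [← orderOf_eq_card_of_forall_mem_zpowers hg, hg1, orderOf_one]
        rw [this, one_mul]
      exact hnc (isCyclic_of_prime_card hG1)
    · rcases (Nat.dvd_prime hpp).mp (hCi ▸ index_dvd_of_le hle) with h | h
      · exact (index_eq_one.mp h).ge (mem_top y)
      · exact absurd h (Nat.ne_of_lt (hCi ▸ index_strictAnti hlt))
  have hK : Nat.card φ.ker = p ^ 2 := by
    have h1 : φ.ker.index = Nat.card φ.range := index_ker φ
    have e1 := φ.ker.card_mul_index
    have e2 := C.card_mul_index
    have e3 := φ.range.card_mul_index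
    rw [h1, ← e2, hCi, ← e3] at e1
    have h2 : Nat.card φ.ker = φ.range.index * p :=
      Nat.eq_of_mul_eq_mul_right (Nat.card_pos (α := φ.range)) (by rw [e1]; ring)
    -- the kernel meets `C` in at most `p` elements
    have h3 : Nat.card φ.ker ≤ p ^ 2 := by
      have e := (C.subgroupOf φ.ker).card_mul_index
      have hA : Nat.card (C.subgroupOf φ.ker) ≤ p := by
        refine le_trans (Nat.card_le_card_of_injective
          (fun y : C.subgroupOf φ.ker =>
            (⟨⟨((y : φ.ker) : G), y.2⟩, Subtype.ext ((hmem _).mp y.1.2)⟩ : {y : C | y ^ p = 1})) ?_)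
          htor
        intro y z hyz
        exact Subtype.ext (Subtype.ext (congrArg (fun w : {y : C | y ^ p = 1} => ((w : C) : G)) hyz))
      have hB : (C.subgroupOf φ.ker).index ≤ p :=
        Nat.le_of_dvd hpp.pos (hCi ▸ relIndex_dvd_index_of_normal C φ.ker)
      rw [← e, pow_two]
      exact Nat.mul_le_mul hA hB
    have h4 : p ^ 2 ≤ Nat.card φ.ker := by
      rw [h2, pow_two]
      refine Nat.mul_le_mul_right p ?_
      obtain ⟨k, hk⟩ := IsPGroup.iff_card.mp ((hG.to_subgroup C).to_quotient φ.range)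
      rw [← index_eq_card] at hk
      rw [hk]
      exact Nat.le_self_pow (by rintro rfl; exact himg (index_eq_one.mp (by simpa using hk))) p
    exact le_antisymm h3 h4
  exact ⟨φ.ker, hmem, ⟨IsPGroup.isMulCommutative_of_card_eq_prime_sq hK,
    fun a ha => (hmem a).mp ha⟩, hK⟩

/-- For odd `p` a non-cyclic `p`-group has a normal elementary abelian subgroup of order `p²`. -/
theorem exists_normal_elementary_card_sq (hp : p ≠ 2) (hG : IsPGroup p G) (hnc : ¬ IsCyclic G) :
    ∃ A : Subgroup G, A.Normal ∧ IsElementaryAbelian p A ∧ Nat.card A = p ^ 2 := by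
  have hpp : p.Prime := Fact.out
  -- it suffices to find a normal subgroup with all `x ^ p = 1` of order at least `p ^ 2`
  suffices ∃ K : Subgroup G, K.Normal ∧ (∀ a ∈ K, a ^ p = 1) ∧ p ^ 2 ≤ Nat.card K by
    obtain ⟨K, hKn, hKp, hK⟩ := this
    obtain ⟨A, hA, hAK, hAc⟩ := exists_normal_le_card_eq hG K hK
    exact ⟨A, hA, ⟨IsPGroup.isMulCommutative_of_card_eq_prime_sq hAc,
      fun a ha => hKp a (hAK ha)⟩, hAc⟩
  obtain ⟨A, -, hAn, hAc, hmax⟩ := exists_maximal_normal_abelian (⊥ : Subgroup G) inferInstance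
  by_cases hcyc : IsCyclic A
  · have hCA := centralizer_eq_of_maximal_normal_abelian hG A hAc hmax
    have hAt : A < ⊤ := lt_top_iff_ne_top.mpr fun e => hnc (by
      subst e
      exact isCyclic_of_surjective (Subgroup.topEquiv (G := G)).toMonoidHom
        (Subgroup.topEquiv (G := G)).surjective)
    obtain ⟨L, hLn, hAL, -, hLc, -⟩ := exists_normal_card_succ hG A ⊤ hAt
    have hi : (A.subgroupOf L).index = p := by
      have := card_mul_index (A.subgroupOf L)
      rw [Nat.card_congr (subgroupOfEquivOfLe hAL).toEquiv, hLc, mul_comm p] at this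
      exact Nat.eq_of_mul_eq_mul_left Nat.card_pos this
    have hLnc : ¬ IsCyclic L := fun hc => by
      have hLA : L = A := hmax L hLn IsCyclic.isMulCommutative hAL
      rw [hLA] at hLc
      exact Nat.ne_of_lt (lt_mul_of_one_lt_left Nat.card_pos hpp.one_lt) hLc
    have hAcyc : IsCyclic (A.subgroupOf L) :=
      isCyclic_of_surjective (subgroupOfEquivOfLe hAL).symm.toMonoidHom
        (subgroupOfEquivOfLe hAL).symm.surjective
    obtain ⟨K, hK, -, hKc⟩ :=
      omega_of_cyclic_index_prime hp (hG.to_subgroup L) hLnc _ hAcyc hi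
    refine ⟨K.map L.subtype, ⟨?_⟩, ?_, ?_⟩
    · rintro _ ⟨y, hy, rfl⟩ g
      refine ⟨⟨g * y * g⁻¹, hLn.conj_mem _ y.2 g⟩, ?_, rfl⟩
      refine (hK _).mpr (Subtype.ext ?_)
      show (g * (y : G) * g⁻¹) ^ p = 1
      rw [conj_pow, show (y : G) ^ p = 1 from congrArg (fun z : L => (z : G)) ((hK y).mp hy),
        mul_one, mul_inv_cancel]
    · rintro _ ⟨y, hy, rfl⟩
      exact congrArg (fun z : L => (z : G)) ((hK y).mp hy)
    · rw [card_map_of_injective L.subtype_injective, hKc]
  · have := hAc
    let K : Subgroup A := (powMonoidHom p : A →* A).ker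
    refine ⟨K.map A.subtype, ⟨?_⟩, ?_, ?_⟩
    · rintro _ ⟨y, hy, rfl⟩ g
      refine ⟨⟨g * y * g⁻¹, hAn.conj_mem _ y.2 g⟩, Subtype.ext ?_, rfl⟩
      show (g * (y : G) * g⁻¹) ^ p = 1
      rw [conj_pow, show (y : G) ^ p = 1 from congrArg (fun z : A => (z : G)) hy, mul_one,
        mul_inv_cancel]
    · rintro _ ⟨y, hy, rfl⟩
      exact congrArg (fun z : A => (z : G)) hy
    · rw [card_map_of_injective A.subtype_injective]
      by_contra hlt
      push Not at hlt
      obtain ⟨k, hk⟩ := IsPGroup.iff_card.mp ((hG.to_subgroup A).to_subgroup K)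
      have hk1 : k ≤ 1 := by
        rw [hk] at hlt
        exact Nat.lt_succ_iff.mp ((Nat.pow_lt_pow_iff_right hpp.one_lt).mp hlt)
      apply hcyc
      classical
      have := Fintype.ofFinite A
      refine isCyclic_of_card_pow_eq_one_le fun n hn => ?_
      obtain ⟨m, hm⟩ := IsPGroup.iff_card.mp (hG.to_subgroup A)
      -- solutions of `x ^ n = 1` are those of `x ^ gcd(n, |A|) = 1`
      have hred : ∀ j, (Finset.univ.filter fun a : A => a ^ p ^ j = 1).card ≤ p ^ j := by
        intro j
        induction j with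
        | zero => simp [Finset.filter_eq']
        | succ j ih =>
          rw [← Fintype.card_subtype, ← Nat.card_eq_fintype_card]
          rw [← Fintype.card_subtype, ← Nat.card_eq_fintype_card] at ih
          let f : A →* A := powMonoidHom p
          let S : Subgroup A := (powMonoidHom (p ^ (j + 1)) : A →* A).ker
          let T : Subgroup A := (powMonoidHom (p ^ j) : A →* A).ker
          change Nat.card S ≤ p ^ (j + 1)
          change Nat.card T ≤ p ^ j at ih
          have hmap : (f.domRestrict S).range ≤ T := by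
            rintro _ ⟨y, rfl⟩
            show ((y : A) ^ p) ^ p ^ j = 1
            rw [← pow_mul, ← pow_succ']
            exact y.2
          have e := (f.domRestrict S).ker.card_mul_index
          rw [index_ker] at e
          rw [← e, pow_succ']
          refine Nat.mul_le_mul ?_ ((card_le_of_le hmap).trans ih)
          refine le_trans ?_ (hk.le.trans ((Nat.pow_le_pow_right hpp.pos hk1).trans (pow_one p).le))
          refine Nat.card_le_card_of_injective (fun y => (⟨((y : S) : A), y.2⟩ : K)) ?_
          intro y z hyz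
          exact Subtype.ext (Subtype.ext (congrArg (fun w : K => (w : A)) hyz))
      obtain ⟨j, -, hj⟩ := (Nat.dvd_prime_pow hpp).mp (hm ▸ Nat.gcd_dvd_right n (Nat.card A))
      have hsub : (Finset.univ.filter fun a : A => a ^ n = 1) ⊆
          Finset.univ.filter fun a : A => a ^ p ^ j = 1 := by
        intro a ha
        simp only [Finset.mem_filter, Finset.mem_univ, true_and] at ha ⊢
        rw [← hj]
        exact pow_gcd_eq_one.mpr ⟨ha, hm ▸ pow_card_eq_one'⟩
      refine (Finset.card_le_card hsub).trans ((hred j).trans (hj ▸ ?_))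
      exact Nat.gcd_le_left _ hn

end Cfsg.Agent.Fusion
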