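import Mathlib.GroupTheory.SpecificGroups.Quaternion
import Mathlib.GroupTheory.SpecificGroups.Cyclic
import Cfsg.Agent.Fusion.RankTwo

/-!
`p`-groups with a unique subgroup of order `p` are cyclic or generalised quaternion.

* `isCyclic_of_unique` : the abelian case.
* `cyclic_or_quaternion` : the case `p = 2`.
* `cyclic_or_quaternion_of_unique` : every prime.
-/

set_option autoImplicit false

namespace Cfsg.Agent.Fusion

open Subgroup

variable {G : Type*} [Group G] [Finite G]

/-- An abelian `p`-subgroup whose elements with `x ^ p = 1` lie in one cyclic subgroup of order `p`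
is cyclic. -/
theorem isCyclic_of_unique {p : ℕ} [hp : Fact p.Prime] {A : Subgroup G} (hA : IsPGroup p A)
    (hab : IsMulCommutative A)
    (h : ∀ u ∈ A, ∀ v ∈ A, orderOf v = p → u ^ p = 1 → u ∈ zpowers v) : IsCyclic A := by
  obtain ⟨a, ha⟩ := Finite.exists_max (fun x : A => orderOf x)
  rw [isCyclic_iff_exists_zpowers_eq_top]
  refine ⟨a, eq_top_iff.mpr fun x _ => ?_⟩
  by_contra hx
  -- an element outside with `p`-th power inside
  obtain ⟨y, hy, hyp⟩ : ∃ y : A, y ∉ zpowers a ∧ y ^ p ∈ zpowers a := by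
    obtain ⟨k, hk⟩ := IsPGroup.iff_orderOf.mp hA x
    obtain ⟨j, hj, hj'⟩ : ∃ j, x ^ p ^ j ∉ zpowers a ∧ x ^ p ^ (j + 1) ∈ zpowers a := by
      by_contra hcon
      push Not at hcon
      have : ∀ j, x ^ p ^ j ∉ zpowers a := by
        intro j
        induction j with
        | zero => rwa [pow_zero, pow_one]
        | succ j ih => exact hcon j ih
      exact this k (by rw [← hk, pow_orderOf_eq_one]; exact one_mem _)
    exact ⟨_, hj, by rwa [← pow_mul, ← pow_succ]⟩
  have ha1 : a ≠ 1 := by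
    rintro rfl
    have h1 := ha y
    rw [orderOf_one] at h1
    refine hy ?_
    rw [orderOf_eq_one_iff.mp (le_antisymm h1 (orderOf_pos y))]
    exact one_mem _
  obtain ⟨j, hj⟩ := mem_zpowers_iff.mp hyp
  by_cases hpj : (p : ℤ) ∣ j
  · obtain ⟨i, rfl⟩ := hpj
    set v := y * (a ^ i)⁻¹
    have hv : v ^ p = 1 := by
      have : Commute y (a ^ i)⁻¹ := hab.is_comm.comm _ _
      rw [this.mul_pow, ← hj, inv_pow, ← zpow_natCast (a ^ i), ← zpow_mul, mul_comm i,
        mul_inv_cancel]
    obtain ⟨b, hb⟩ : ∃ b : A, b ∈ zpowers a ∧ orderOf b = p := by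
      have hdvd : p ∣ orderOf a := by
        obtain ⟨n, hn⟩ := IsPGroup.iff_orderOf.mp hA a
        rcases Nat.eq_zero_or_pos n with rfl | hn0
        · rw [pow_zero, orderOf_eq_one_iff] at hn; exact absurd hn ha1
        · exact hn ▸ dvd_pow_self p hn0.ne'
      refine ⟨a ^ (orderOf a / p), npow_mem_zpowers a _, ?_⟩
      rw [orderOf_pow_of_dvd (Nat.div_pos (Nat.le_of_dvd (orderOf_pos a) hdvd) hp.out.pos).ne'
        (Nat.div_dvd_of_dvd hdvd), Nat.div_div_self hdvd (orderOf_pos a).ne']
    refine hy ?_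
    have hvb := h (v : G) v.2 (b : G) b.2 (by rw [Subgroup.orderOf_coe]; exact hb.2)
      (by exact_mod_cast hv)
    have hva : v ∈ zpowers a := by
      obtain ⟨r, hr⟩ := mem_zpowers_iff.mp hvb
      have : v = b ^ r := Subtype.ext (by rw [SubgroupClass.coe_zpow]; exact hr.symm)
      rw [this]
      exact zpow_mem hb.1 r
    have : y = v * a ^ i := by simp [v]
    rw [this]
    exact mul_mem hva (zpow_mem (mem_zpowers a) i)
  · -- then `y` has order bigger than `a`
    have hle : zpowers a ≤ zpowers y := by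
      rw [zpowers_le]
      obtain ⟨n, hn⟩ := IsPGroup.iff_orderOf.mp hA a
      have hco : IsCoprime (p ^ n : ℤ) j :=
        ((Nat.prime_iff_prime_int.mp hp.out).coprime_iff_not_dvd.mpr hpj).pow_left
      obtain ⟨r, s, hrs⟩ := hco
      refine ⟨(p : ℤ) * s, ?_⟩
      show y ^ ((p : ℤ) * s) = a
      rw [zpow_mul, zpow_natCast, ← hj, ← zpow_mul]
      have hje : j * s = 1 - r * (p ^ n : ℤ) := by rw [← hrs]; ring
      rw [hje, zpow_sub, zpow_one, mul_comm r, zpow_mul, show ((p : ℤ) ^ n) = ((p ^ n : ℕ) : ℤ) by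
        push_cast; rfl, zpow_natCast, ← hn, pow_orderOf_eq_one, one_zpow, inv_one, mul_one]
    have hlt : zpowers a < zpowers y :=
      lt_of_le_of_ne hle fun e => hy (e ▸ mem_zpowers y)
    have h1 := ha y
    rw [← Nat.card_zpowers, ← Nat.card_zpowers a] at h1
    exact h1.not_gt (Set.Finite.card_lt_card (Set.toFinite _) hlt)

/-- In a finite cyclic group an element whose order divides that of `x` is a power of `x`. -/
theorem mem_zpowers_of_orderOf_dvd {A : Subgroup G} (hA : IsCyclic A) {w x : G} (hw : w ∈ A)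
    (hx : x ∈ A) (h : orderOf w ∣ orderOf x) : w ∈ zpowers x := by
  classical
  have := Fintype.ofFinite A
  set x' : A := ⟨x, hx⟩
  set w' : A := ⟨w, hw⟩
  have hxo : orderOf x' = orderOf x := Subgroup.orderOf_mk x hx
  have hsub : (Finset.univ.filter fun y : A => y ∈ zpowers x') ⊆
      Finset.univ.filter fun y : A => y ^ orderOf x' = 1 := by
    intro y hy
    simp only [Finset.mem_filter, Finset.mem_univ, true_and] at hy ⊢
    obtain ⟨r, rfl⟩ := hy
    show (x' ^ r) ^ orderOf x' = 1
    rw [← zpow_natCast, ← zpow_mul, mul_comm, zpow_mul, zpow_natCast, pow_orderOf_eq_one, one_zpow]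
  have heq := Finset.eq_of_subset_of_card_le hsub (by
    refine (IsCyclic.card_pow_eq_one_le (orderOf_pos x')).trans (le_of_eq ?_)
    rw [← Nat.card_zpowers, Nat.card_eq_fintype_card, Fintype.card_subtype])
  have hwm : w' ∈ Finset.univ.filter fun y : A => y ^ orderOf x' = 1 := by
    simp only [Finset.mem_filter, Finset.mem_univ, true_and]
    apply orderOf_dvd_iff_pow_eq_one.mp
    rw [hxo, Subgroup.orderOf_mk]
    exact h
  rw [← heq] at hwm
  simp only [Finset.mem_filter, Finset.mem_univ, true_and] at hwm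
  obtain ⟨r, hr⟩ := hwm
  exact ⟨r, congrArg Subtype.val hr⟩

/-- Recognition of the generalised quaternion group. -/
theorem nonempty_mulEquiv_quaternion (n : ℕ) [NeZero n] {a g : G} (ha : orderOf a = 2 * n)
    (hg : g * g = a ^ n) (hconj : g⁻¹ * a * g = a⁻¹) (hgA : g ∉ zpowers a)
    (hcover : ∀ x : G, x ∈ zpowers a ∨ g⁻¹ * x ∈ zpowers a) :
    Nonempty (G ≃* QuaternionGroup n) := by
  have : NeZero (2 * n) := ⟨by have := NeZero.ne n; omega⟩
  let φ : ZMod (2 * n) → G := fun i => a ^ i.val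
  have hadd : ∀ i j, φ (i + j) = φ i * φ j := fun i j => by
    simp only [φ]
    rw [ZMod.val_add, ← pow_add]
    exact pow_eq_pow_iff_modEq.mpr (by rw [ha]; exact Nat.mod_modEq _ _)
  have h0 : φ 0 = 1 := by simp [φ]
  have hneg : ∀ i, φ (-i) = (φ i)⁻¹ := fun i =>
    eq_inv_of_mul_eq_one_left (by rw [← hadd, neg_add_cancel, h0])
  have hsub : ∀ i j, φ (i - j) = φ i * (φ j)⁻¹ := fun i j => by
    rw [sub_eq_add_neg, hadd, hneg]
  have hn : φ (n : ZMod (2 * n)) = a ^ n := by
    simp only [φ]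
    rw [ZMod.val_natCast]
    exact pow_eq_pow_iff_modEq.mpr (by rw [ha]; exact Nat.mod_modEq _ _)
  have hag : ∀ i, φ i * g = g * (φ i)⁻¹ := fun i => by
    have h1 : g⁻¹ * φ i * g = (φ i)⁻¹ := by
      simp only [φ]
      rw [← inv_pow, ← hconj]
      simpa [MulAut.conj_apply] using map_pow (MulAut.conj g⁻¹).toMonoidHom a i.val
    rw [← h1]; group
  let f : QuaternionGroup n → G := fun q => match q with
    | .a i => φ i
    | .xa i => g * φ i
  have hfm : ∀ q r, f (q * r) = f q * f r := by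
    rintro (i | i) (j | j)
    · rw [QuaternionGroup.a_mul_a]; exact hadd i j
    · rw [QuaternionGroup.a_mul_xa]
      show g * φ (j - i) = φ i * (g * φ j)
      rw [← mul_assoc, hag, mul_assoc, ← hneg i, ← hadd, sub_eq_neg_add]
    · rw [QuaternionGroup.xa_mul_a]
      show g * φ (i + j) = g * φ i * φ j
      rw [hadd, mul_assoc]
    · rw [QuaternionGroup.xa_mul_xa]
      show φ ((n : ZMod (2 * n)) + j - i) = g * φ i * (g * φ j)
      rw [show g * φ i * (g * φ j) = g * (φ i * g) * φ j by group, hag, ← hneg i,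
        show g * (g * φ (-i)) * φ j = (g * g) * (φ (-i) * φ j) by group, hg, ← hn, ← hadd, ← hadd]
      congr 1; ring
  have hinj : ∀ i j, φ i = φ j → i = j := fun i j h => ZMod.val_injective _
    (pow_injOn_Iio_orderOf (by rw [Set.mem_Iio, ha]; exact ZMod.val_lt i)
      (by rw [Set.mem_Iio, ha]; exact ZMod.val_lt j) h)
  have hbij : Function.Bijective f := by
    refine ⟨?_, fun x => ?_⟩
    · rintro (i | i) (j | j) h
      · exact congrArg _ (hinj i j h)
      · exfalso; apply hgA
        have h' : g = φ i * (φ j)⁻¹ := eq_mul_inv_of_mul_eq (h : φ i = g * φ j).symm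
        rw [h']; exact mul_mem (npow_mem_zpowers a _) (inv_mem (npow_mem_zpowers a _))
      · exfalso; apply hgA
        have h' : g = φ j * (φ i)⁻¹ := eq_mul_inv_of_mul_eq (h : g * φ i = φ j)
        rw [h']; exact mul_mem (npow_mem_zpowers a _) (inv_mem (npow_mem_zpowers a _))
      · exact congrArg _ (hinj i j (mul_left_cancel h))
    · have key : ∀ y ∈ zpowers a, ∃ i, φ i = y := fun y hy => by
        obtain ⟨k, rfl⟩ := mem_powers_iff_mem_zpowers.mpr hy
        refine ⟨(k : ZMod (2 * n)), ?_⟩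
        simp only [φ]
        rw [ZMod.val_natCast]
        exact pow_eq_pow_iff_modEq.mpr (by rw [ha]; exact Nat.mod_modEq _ _)
      rcases hcover x with h | h
      · obtain ⟨i, hi⟩ := key x h; exact ⟨.a i, hi⟩
      · obtain ⟨i, hi⟩ := key _ h
        exact ⟨.xa i, by show g * φ i = x; rw [hi, mul_inv_cancel_left]⟩
  exact ⟨(MulEquiv.ofBijective (MonoidHom.mk' f hfm) hbij).symm⟩

/-- A `2`-group with at most one involution is cyclic or generalised quaternion. -/
theorem cyclic_or_quaternion (hG : IsPGroup 2 G)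
    (huniq : ∀ u v : G, orderOf u = 2 → orderOf v = 2 → u = v) :
    IsCyclic G ∨ ∃ k : ℕ, 1 ≤ k ∧ Nonempty (G ≃* QuaternionGroup (2 ^ k)) := by
  have h2 : Fact (Nat.Prime 2) := ⟨Nat.prime_two⟩
  obtain ⟨A, -, hAn, hAc, hmax⟩ := exists_maximal_normal_abelian (⊥ : Subgroup G) inferInstance
  have hCA := centralizer_eq_of_maximal_normal_abelian hG A hAc hmax
  have hAcyc : IsCyclic A := isCyclic_of_unique (hG.to_subgroup A) hAc fun u _ v _ hv hu => by
    rcases eq_or_ne u 1 with rfl | hu1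
    · exact one_mem _
    · rw [huniq u v (orderOf_eq_prime hu hu1) hv]; exact mem_zpowers v
  obtain ⟨a', ha'⟩ := isCyclic_iff_exists_zpowers_eq_top.mp hAcyc
  set a : G := a'.val
  have hA : A = zpowers a := by
    have := congrArg (Subgroup.map A.subtype) ha'
    rw [MonoidHom.map_zpowers, ← MonoidHom.range_eq_map, range_subtype] at this
    exact this.symm
  have hcommA : ∀ x ∈ A, ∀ y ∈ A, x * y = y * x := fun x hx y hy =>
    congrArg Subtype.val (hAc.is_comm.comm (⟨x, hx⟩ : A) ⟨y, hy⟩)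
  obtain ⟨m, hm⟩ := IsPGroup.iff_orderOf.mp hG a
  -- involutions are central
  have hzc : ∀ u : G, orderOf u = 2 → ∀ g : G, g * u * g⁻¹ = u := fun u hu g =>
    huniq _ u (((MulAut.conj g).orderOf_eq u).trans hu) hu
  have hsq : ∀ u : G, u ^ 2 = 1 → ∀ g : G, g * u * g⁻¹ = u := fun u hu g => by
    rcases eq_or_ne u 1 with rfl | h1
    · simp
    · exact hzc u (orderOf_eq_prime hu h1) g
  rcases lt_or_ge m 2 with hm2 | hm2
  · refine Or.inl ?_
    have htop : A = ⊤ := by
      refine eq_top_iff.mpr fun g _ => ?_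
      rw [← hCA, mem_centralizer_iff]
      intro x hx
      have hx2 : x ^ 2 = 1 := by
        rw [SetLike.mem_coe, hA] at hx
        refine orderOf_dvd_iff_pow_eq_one.mp ((orderOf_dvd_of_mem_zpowers hx).trans ?_)
        rw [hm]; exact (Nat.pow_dvd_pow 2 (by omega : m ≤ 1)).trans (by norm_num)
      calc x * g = g * x * g⁻¹ * g := by rw [hsq x hx2]
        _ = g * x := by group
    rw [htop] at hAcyc
    exact isCyclic_of_surjective (⊤ : Subgroup G).subtype fun x => ⟨⟨x, mem_top x⟩, rfl⟩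
  -- an element of order four of `A`
  set w := a ^ 2 ^ (m - 2)
  have hwA : w ∈ A := hA ▸ npow_mem_zpowers a _
  have hw : orderOf w = 4 := by
    rw [orderOf_pow_of_dvd (by positivity) (hm ▸ Nat.pow_dvd_pow 2 (by omega)), hm,
      Nat.pow_div (by omega) (by norm_num), show m - (m - 2) = 2 by omega]
  have hw2 : w ^ 2 ≠ 1 := fun h => by
    have := orderOf_dvd_of_pow_eq_one h
    rw [hw] at this; norm_num at this
  have hord4 : ∀ x ∈ A, x ^ 2 ≠ 1 → w ∈ zpowers x := by
    intro x hx hx2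
    refine mem_zpowers_of_orderOf_dvd hAcyc hwA hx ?_
    obtain ⟨i, hi⟩ := IsPGroup.iff_orderOf.mp hG x
    have hi2 : 2 ≤ i := by
      by_contra hi2
      exact hx2 (orderOf_dvd_iff_pow_eq_one.mp (by
        rw [hi]; exact (Nat.pow_dvd_pow 2 (by omega : i ≤ 1)).trans (by norm_num)))
    rw [hw, hi]; exact Nat.pow_dvd_pow 2 hi2
  -- the key step
  have hinv : ∀ g : G, g ∉ A → g ^ 2 ∈ A → ∀ x ∈ A, g * x * g⁻¹ = x⁻¹ := by
    intro g hgA hg2
    have hconjA : ∀ x ∈ A, g * x * g⁻¹ ∈ A := fun x hx => hAn.conj_mem x hx g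
    let σ : G →* G := (MulAut.conj g).toMonoidHom
    have hσ : ∀ x, σ x = g * x * g⁻¹ := fun x => rfl
    have hσ2 : ∀ x ∈ A, σ (σ x) = x := fun x hx => by
      have := hcommA _ hg2 _ hx
      calc σ (σ x) = g ^ 2 * x * (g ^ 2)⁻¹ := by rw [hσ, hσ, pow_two]; group
        _ = x := by rw [this]; group
    have hy : σ (g ^ 2) = g ^ 2 := by rw [hσ]; group
    have hN : ∀ x ∈ A, x * σ x ∈ A ∧ σ (x * σ x) = x * σ x := fun x hx =>
      ⟨mul_mem hx (hconjA x hx), by rw [map_mul, hσ2 x hx]; exact hcommA _ (hconjA x hx) _ hx⟩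
    have hnosol : ∀ x ∈ A, x * σ x * g ^ 2 ≠ 1 := fun x hx e => by
      have hxg : (x * g) ^ 2 = 1 := by
        rw [← e, hσ, pow_two, pow_two]; group
      rcases eq_or_ne (x * g) 1 with h1 | h1
      · exact hgA (by rw [eq_inv_of_mul_eq_one_right h1]; exact inv_mem hx)
      · have hxo := orderOf_eq_prime hxg h1
        have hmem : x * g ∈ A := by
          have hwo : orderOf (w ^ 2) = 2 := orderOf_eq_prime
            (by rw [← pow_mul, show 2 * 2 = orderOf w from hw.symm, pow_orderOf_eq_one]) hw2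
          rw [huniq _ _ hxo hwo]; exact pow_mem hwA 2
        exact hgA (by simpa using mul_mem (inv_mem hx) hmem)
    by_cases hF : ∀ x ∈ A, σ x = x → x ^ 2 = 1
    · intro x hx
      have hz : (g ^ 2) ^ 2 = 1 := hF _ hg2 hy
      have hg1 : g ^ 2 ≠ 1 := fun e => hnosol 1 (one_mem A) (by rw [map_one, e, one_mul, one_mul])
      obtain ⟨hNA, hNfix⟩ := hN x hx
      rcases eq_or_ne (x * σ x) 1 with h1 | h1
      · rw [← hσ]; exact eq_inv_of_mul_eq_one_right h1
      · exfalso
        refine hnosol x hx ?_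
        rw [huniq _ _ (orderOf_eq_prime (hF _ hNA hNfix) h1) (orderOf_eq_prime hz hg1), ← pow_two, hz]
    · push Not at hF
      obtain ⟨x₀, hx₀, hx₀f, hx₀2⟩ := hF
      exfalso
      have hwfix : σ w = w := by
        obtain ⟨r, hr⟩ := hord4 x₀ hx₀ hx₀2
        rw [← hr, map_zpow, hx₀f]
      have hK : ∀ x ∈ A, σ x = x⁻¹ → x ^ 2 = 1 := by
        intro x hx hxi
        by_contra hx2
        obtain ⟨r, hr⟩ := hord4 x hx hx2
        have : σ w = w⁻¹ := by rw [← hr, map_zpow, hxi, inv_zpow]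
        rw [hwfix] at this
        exact hw2 (by rw [pow_two]; nth_rewrite 1 [this]; exact inv_mul_cancel w)
      have haA : a ∈ A := hA ▸ mem_zpowers a
      have hca : Commute a (σ a) := hcommA _ haA _ (hconjA a haA)
      have hNord : 2 ^ (m - 1) ∣ orderOf (a * σ a) := by
        have h1 := hK (a ^ orderOf (a * σ a)) (pow_mem haA _) (by
          rw [map_pow]
          refine eq_inv_of_mul_eq_one_right ?_
          rw [← hca.mul_pow, pow_orderOf_eq_one])
        rw [← pow_mul] at h1
        have h2 := orderOf_dvd_of_pow_eq_one h1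
        rw [hm, show 2 ^ m = 2 ^ (m - 1) * 2 by rw [← pow_succ]; congr 1; omega] at h2
        exact Nat.dvd_of_mul_dvd_mul_right (by norm_num) h2
      have hyord : orderOf (g ^ 2) ∣ 2 ^ (m - 1) := by
        obtain ⟨i, hi⟩ := IsPGroup.iff_orderOf.mp hG (g ^ 2)
        have him : i ≤ m := by
          have h1 : orderOf (g ^ 2) ∣ orderOf a := orderOf_dvd_of_mem_zpowers (hA ▸ hg2)
          rw [hi, hm] at h1
          exact (Nat.pow_dvd_pow_iff_le_right (by norm_num)).mp h1
        rcases him.lt_or_eq with hlt | heq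
        · rw [hi]; exact Nat.pow_dvd_pow 2 (by omega)
        · exfalso
          obtain ⟨r, hr⟩ := mem_zpowers_of_orderOf_dvd hAcyc haA hg2 (by rw [hi, hm, heq])
          have hafix : σ a = a := by rw [← hr, map_zpow, hy]
          refine hgA ?_
          rw [← hCA, mem_centralizer_iff]
          intro x hx
          have hx' := hx
          rw [SetLike.mem_coe, hA] at hx'
          obtain ⟨s, hs⟩ := hx'
          have : σ x = x := by rw [← hs, map_zpow, hafix]
          calc x * g = σ x * g := by rw [this]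
            _ = g * x := by rw [hσ]; group
      obtain ⟨r, hr⟩ := mem_zpowers_of_orderOf_dvd hAcyc (inv_mem hg2) (hN a haA).1
        (by rw [orderOf_inv]; exact hyord.trans hNord)
      refine hnosol (a ^ r) (zpow_mem haA r) ?_
      rw [map_zpow, ← hca.mul_zpow, show (a * σ a) ^ r = (g ^ 2)⁻¹ from hr, inv_mul_cancel]
  -- the quotient has exponent two
  have hsqA : ∀ g : G, g ^ 2 ∈ A := by
    suffices H : ∀ j, ∀ g : G, g ^ 2 ^ j ∈ A → g ^ 2 ∈ A by
      intro g
      obtain ⟨j, hj⟩ := IsPGroup.iff_orderOf.mp hG g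
      exact H j g (by rw [← hj, pow_orderOf_eq_one]; exact one_mem A)
    intro j
    induction j with
    | zero =>
      intro g hg
      rw [pow_zero, pow_one] at hg
      exact pow_mem hg 2
    | succ j ih =>
      intro g hg
      rw [pow_succ', pow_mul] at hg
      have h4 := ih (g ^ 2) hg
      by_contra hg2
      have hi := hinv (g ^ 2) hg2 h4 w hwA
      have hw' : g * w * g⁻¹ ∈ zpowers w :=
        mem_zpowers_of_orderOf_dvd hAcyc (hAn.conj_mem w hwA g) hwA
          (dvd_of_eq ((MulAut.conj g).orderOf_eq w))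
      obtain ⟨k, hk⟩ := mem_powers_iff_mem_zpowers.mpr hw'
      have hk' : g * w * g⁻¹ = w ^ k := hk.symm
      have hkk : w⁻¹ = w ^ (k * k) := by
        rw [pow_mul, ← hk', conj_pow, ← hk', ← hi, pow_two]; group
      have h1 : w ^ (k * k + 1) = 1 := by rw [pow_succ, ← hkk, inv_mul_cancel]
      have h2 := orderOf_dvd_of_pow_eq_one h1
      rw [hw] at h2
      obtain ⟨c, hc⟩ := h2
      have : k * k % 4 = 3 := by omega
      have hk4 : k % 4 < 4 := Nat.mod_lt _ (by norm_num)
      rw [Nat.mul_mod] at this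
      interval_cases k % 4 <;> omega
  by_cases htop : ∀ g : G, g ∈ A
  · refine Or.inl (isCyclic_of_surjective A.subtype fun x => ⟨⟨x, htop x⟩, rfl⟩)
  push Not at htop
  obtain ⟨g, hg⟩ := htop
  refine Or.inr ⟨m - 1, by omega, ?_⟩
  have : NeZero (2 ^ (m - 1)) := ⟨by positivity⟩
  have hanm : orderOf a = 2 * 2 ^ (m - 1) := by
    rw [hm, ← pow_succ']; congr 1; omega
  have hg2fix := hinv g hg (hsqA g) (g ^ 2) (hsqA g)
  have hg2o : orderOf (g ^ 2) = 2 := by
    refine orderOf_eq_prime ?_ fun e => ?_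
    · rw [pow_two (g ^ 2)]
      nth_rewrite 2 [show g ^ 2 = g * g ^ 2 * g⁻¹ by group]
      rw [hg2fix, mul_inv_cancel]
    · refine hg (hA ▸ ?_)
      have hgo : orderOf g = 2 := orderOf_eq_prime e fun e1 => hg (e1 ▸ one_mem A)
      have hwo : orderOf (w ^ 2) = 2 := orderOf_eq_prime
        (by rw [← pow_mul, show 2 * 2 = orderOf w from hw.symm, pow_orderOf_eq_one]) hw2
      rw [← hA, huniq g _ hgo hwo]
      exact pow_mem hwA 2
  refine nonempty_mulEquiv_quaternion (2 ^ (m - 1)) (a := a) (g := g) hanm ?_ ?_ (hA ▸ hg) fun x => ?_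
  · rw [← pow_two]
    refine huniq _ _ hg2o ?_
    rw [orderOf_pow_of_dvd (by positivity) (hanm ▸ dvd_mul_left _ _), hanm,
      Nat.mul_div_cancel _ (by positivity)]
  · have hg' : g⁻¹ ∉ A := fun h => hg (by simpa using inv_mem h)
    simpa using hinv g⁻¹ hg' (by rw [inv_pow]; exact inv_mem (hsqA g)) a (hA ▸ mem_zpowers a)
  · rw [← hA]
    by_cases hx : x ∈ A
    · exact Or.inl hx
    right
    have hg' : g⁻¹ ∉ A := fun h => hg (by simpa using inv_mem h)
    rw [← hCA, mem_centralizer_iff]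
    intro y hy
    have h1 := hinv x hx (hsqA x) y hy
    have h2 := hinv g⁻¹ hg' (by rw [inv_pow]; exact inv_mem (hsqA g)) _ (inv_mem hy)
    rw [inv_inv, inv_inv] at h2
    symm
    calc g⁻¹ * x * y = g⁻¹ * (x * y * x⁻¹) * g * (g⁻¹ * x) := by group
      _ = g⁻¹ * y⁻¹ * g * (g⁻¹ * x) := by rw [h1]
      _ = y * (g⁻¹ * x) := by rw [h2]

/-- A `p`-group with a unique subgroup of order `p` is cyclic or generalised quaternion. -/
theorem cyclic_or_quaternion_of_unique {p : ℕ} [hp : Fact p.Prime] (hG : IsPGroup p G)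
    (huniq : ∀ H K : Subgroup G, Nat.card H = p → Nat.card K = p → H = K) :
    IsCyclic G ∨ (p = 2 ∧ ∃ k : ℕ, 1 ≤ k ∧ Nonempty (G ≃* QuaternionGroup (2 ^ k))) := by
  rcases eq_or_ne p 2 with rfl | hodd
  · refine (cyclic_or_quaternion hG fun u v hu hv => ?_).imp id fun h => ⟨rfl, h⟩
    have h := huniq (zpowers u) (zpowers v) (by rw [Nat.card_zpowers, hu]) (by rw [Nat.card_zpowers, hv])
    have hmem : u ∈ zpowers v := h ▸ mem_zpowers u
    obtain ⟨k, hk⟩ := mem_powers_iff_mem_zpowers.mpr hmem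
    have hk' : v ^ k = u := hk
    rw [← pow_mod_orderOf, hv] at hk'
    rcases Nat.mod_two_eq_zero_or_one k with h0 | h0
    · rw [h0, pow_zero] at hk'; rw [← hk', orderOf_one] at hu; omega
    · rw [h0, pow_one] at hk'; exact hk'.symm
  · refine Or.inl (by_contra fun hnc => ?_)
    obtain ⟨A, -, hA, hAc⟩ := exists_normal_elementary_card_sq hodd hG hnc
    have hnt : Nontrivial A := Finite.one_lt_card_iff_nontrivial.mp (by
      rw [hAc]; exact one_lt_pow₀ hp.out.one_lt two_ne_zero)
    obtain ⟨u, hu⟩ := exists_ne (1 : A)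
    have huo : orderOf (u : G) = p := orderOf_eq_prime (hA.2 u u.2) (by simpa using hu)
    obtain ⟨v, hv, hvu⟩ : ∃ v ∈ A, v ∉ zpowers (u : G) := by
      by_contra hcon
      push Not at hcon
      have h1 := Subgroup.card_le_of_le (show A ≤ zpowers (u : G) from hcon)
      rw [hAc, Nat.card_zpowers, huo] at h1
      have := hp.out.one_lt
      nlinarith
    have hvo : orderOf v = p := orderOf_eq_prime (hA.2 v hv) fun e => hvu (e ▸ one_mem _)
    exact hvu (huniq (zpowers v) (zpowers (u : G)) (by rw [Nat.card_zpowers, hvo])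
      (by rw [Nat.card_zpowers, huo]) ▸ mem_zpowers v)

end Cfsg.Agent.Fusion
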