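import Cfsg.Agent.Fusion.GlaubermanThompson
import Cfsg.Agent.LocalStructure.OmegaAction
import Cfsg.Agent.Core.Frattini

/-!
# `Z(J_e(D))` in the ZJ-theorem

`normal_centerThompsonOf` : for odd `p`, in a `p`-stable group with `C(O_p) ≤ O_p` the centre of the
Thompson subgroup (elementary abelian version) of a strongly closed `D` is normal.
-/

set_option autoImplicit false
set_option maxHeartbeats 400000

namespace Cfsg.Agent.Fusion

open Subgroup
open scoped commutatorElement

variable {G : Type*} [Group G] [Finite G] {p : ℕ} [Fact p.Prime]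

theorem le_sylow_sup_of_forall_pow {K C : Subgroup G} [K.Normal] [C.Normal]
    (h : ∀ x ∈ K, ∃ k : ℕ, x ^ p ^ k ∈ C) (S : Sylow p G) : K ≤ (S : Subgroup G) ⊔ C := by
  have hKn : (K.map (QuotientGroup.mk' C)).Normal :=
    (inferInstance : K.Normal).map _ (QuotientGroup.mk'_surjective C)
  have hp : IsPGroup p (K.map (QuotientGroup.mk' C)) := by
    rintro ⟨_, x, hx, rfl⟩
    obtain ⟨k, hk⟩ := h x hx
    exact ⟨k, Subtype.ext ((QuotientGroup.eq_one_iff _).mpr hk)⟩
  exact fun x hx => normalCore_le _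
    (mem_normalCore_of_mk_mem_pCore (Core.le_pCore hp (mem_map_of_mem _ hx)) S)

/-- `C(V) ≤ S C(B)` if `V` holds the elements of order `p` of the `p`-subgroup `B`, `p` odd. -/
theorem centralizer_le_sylow_sup (hp : p ≠ 2) {B V : Subgroup G} [hBn : B.Normal] [V.Normal]
    (hB : IsPGroup p B) (hV : ∀ x ∈ B, x ^ p = 1 → x ∈ V) (S : Sylow p G) :
    centralizer (V : Set G) ≤ (S : Subgroup G) ⊔ centralizer (B : Set G) := by
  refine le_sylow_sup_of_forall_pow (fun x hx => ?_) S
  obtain ⟨m, r, hr, hm⟩ := Nat.exists_eq_pow_mul_and_not_dvd (orderOf_pos x).ne' p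
    (Fact.out : p.Prime).ne_one
  refine ⟨m, ?_⟩
  have hcop : (Nat.card (zpowers (x ^ p ^ m))).Coprime p := by
    rw [Nat.card_zpowers, orderOf_pow_of_dvd (pow_ne_zero _ (Fact.out : p.Prime).ne_zero) (hm ▸ dvd_mul_right _ r),
      hm, Nat.mul_div_cancel_left _ (pow_pos (Fact.out : p.Prime).pos m)]
    exact ((Fact.out : p.Prime).coprime_iff_not_dvd.mpr hr).symm
  refine LocalStructure.le_centralizer_of_fixes_omega hp hB
    (fun y _ => normalizer_eq_top B ▸ mem_top y) hcop (fun v hv hvp a ha => ?_) (mem_zpowers _)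
  exact (mem_centralizer_iff.mp (zpowers_le.mpr (pow_mem hx _) ha) v (hV v hv hvp)).symm

variable {S : Sylow p G} {D : Subgroup G}

theorem centerThompsonOf_eq (D : Subgroup G) : centerThompsonOf p D =
    sSup {A | AbMax p D A} ⊓ centralizer ((sSup {A | AbMax p D A} : Subgroup G) : Set G) := by
  rw [centerThompsonOf, thompsonSubgroupOf_eq]

theorem centerThompsonOf_le (D : Subgroup G) : centerThompsonOf p D ≤ D := by
  rw [centerThompsonOf_eq]
  exact inf_le_left.trans (sSup_le fun _ hA => hA.le)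

theorem commute_of_mem_centerThompsonOf {A : Subgroup G} (hA : AbMax p D A) {z a : G}
    (hz : z ∈ centerThompsonOf p D) (ha : a ∈ A) : Commute a z := by
  rw [centerThompsonOf_eq] at hz
  exact mem_centralizer_iff.mp hz.2 a (le_sSup (a := A) hA ha)

theorem commute_centerThompsonOf {z w : G} (hz : z ∈ centerThompsonOf p D)
    (hw : w ∈ centerThompsonOf p D) : Commute z w :=
  mem_centralizer_iff.mp hw.2 z hz.1

omit [Finite G] [Fact p.Prime] in
theorem map_centerThompsonOf {G' : Type*} [Group G'] (f : G →* G') (h : D ⊓ f.ker = ⊥) :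
    (centerThompsonOf p D).map f =
      (thompsonSubgroupOf p D).map f ⊓ centralizer (((thompsonSubgroupOf p D).map f : Subgroup G') : Set G') :=
  map_inf_centralizer_of_inf_ker f (le_bot_iff.mp
    ((inf_le_inf_right _ (map_subtype_le _)).trans h.le))

theorem mem_normalizer_centerThompsonOf {g : G} (hg : g ∈ normalizer (D : Set G)) :
    g ∈ normalizer (centerThompsonOf p D : Set G) := by
  rw [mem_normalizer_iff_map_conj_eq]
  rw [map_centerThompsonOf _ (by rw [(MonoidHom.ker_eq_bot_iff _).mpr (MulAut.conj g).injective,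
      inf_bot_eq]),
    mem_normalizer_iff_map_conj_eq.mp (mem_normalizer_thompsonSubgroupOf hg)]
  rfl

/-- Glauberman: `B ∩ Z(J_e(D))` is normal for every normal `p`-subgroup `B`. -/
theorem normal_inf_centerThompsonOf (hp : p ≠ 2) (hst : PStableNormal p G)
    (hD : IsStronglyClosed D (S : Subgroup G)) :
    ∀ B : Subgroup G, B.Normal → IsPGroup p B → (B ⊓ centerThompsonOf p D).Normal := by
  have hodd : p = 0 ∨ Odd p := Or.inr ((Fact.out : p.Prime).odd_of_ne_two hp)
  by_contra hcon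
  push Not at hcon
  obtain ⟨B, ⟨hBn, hBp, hBbad⟩, hmin⟩ :=
    (Set.toFinite {B : Subgroup G | B.Normal ∧ IsPGroup p B ∧
      ¬ (B ⊓ centerThompsonOf p D).Normal}).exists_minimalFor
      (fun B : Subgroup G => Nat.card B) _ hcon
  haveI := hBn
  have small : ∀ C : Subgroup G, C.Normal → C < B → (C ⊓ centerThompsonOf p D).Normal := by
    intro C hC hlt
    by_contra hb
    have := Core.card_lt_of_lt hlt
    exact this.not_ge (hmin ⟨hC, hBp.to_le hlt.le, hb⟩ this.le)
  set W := centerThompsonOf p D with hW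
  set Z := B ⊓ W with hZ
  have hBS : B ≤ (S : Subgroup G) := (Core.le_pCore hBp).trans (Core.pCore_le_sylow S)
  have hSW : (S : Subgroup G) ≤ normalizer (W : Set G) := fun g hg =>
    mem_normalizer_centerThompsonOf (le_normalizer_of_isStronglyClosed hD hg)
  have hSZ : (S : Subgroup G) ≤ normalizer (Z : Set G) := by
    intro g hg
    rw [mem_normalizer_iff]
    intro x
    show x ∈ B ∧ x ∈ W ↔ g * x * g⁻¹ ∈ B ∧ g * x * g⁻¹ ∈ W
    exact and_congr
      (mem_normalizer_iff.mp (normalizer_eq_top B ▸ mem_top g) x)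
      (mem_normalizer_iff.mp (hSW hg) x)
  have hWD : W ≤ D := centerThompsonOf_le D
  have hgen : normalClosure (Z : Set G) = B := by
    refine eq_of_le_of_not_lt (normalClosure_le_normal inf_le_left) fun hlt => hBbad ?_
    have : normalClosure (Z : Set G) ⊓ W = Z :=
      le_antisymm (le_inf (inf_le_left.trans (normalClosure_le_normal inf_le_left)) inf_le_right)
        (le_inf (fun x hx => subset_normalClosure hx) inf_le_right)
    exact this ▸ small _ inferInstance hlt
  have hBD : B ≤ D := by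
    rw [← hgen, normalClosure, closure_le]
    intro x hx
    obtain ⟨z, hz, hzx⟩ := Group.mem_conjugatesOfSet_iff.mp hx
    obtain ⟨g, rfl⟩ := isConj_iff.mp hzx
    exact hD.2 z (hWD hz.2) g (hBS (hBn.conj_mem z hz.1 g))
  have hBbot : B ≠ ⊥ := fun h => hBbad (by rw [hZ, h, bot_inf_eq]; infer_instance)
  -- the Frattini subgroup of `B`
  set Φ : Subgroup G := (frattini B).map B.subtype with hΦ
  have hΦlt : Φ < B := by
    haveI : Nontrivial B := (nontrivial_iff_ne_bot B).mpr hBbot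
    refine lt_of_le_of_ne (map_subtype_le _) fun e => ?_
    have htop : frattini B = ⊤ := by
      apply map_injective B.subtype_injective
      rw [← hΦ, e, ← MonoidHom.range_eq_map, range_subtype]
    obtain ⟨M, hM, -⟩ := (eq_top_or_exists_le_coatom (⊥ : Subgroup B)).resolve_left bot_ne_top
    exact hM.1 (top_le_iff.mp (htop.symm.le.trans (frattini_le_coatom hM)))
  have hΦn : Φ.Normal := ConjAct.normal_of_characteristic_of_normal
  have hB'Φ : ⁅B, B⁆ ≤ Φ := by
    rw [← map_subtype_commutator]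
    have : Group.IsNilpotent B := hBp.isNilpotent
    exact map_mono Core.commutator_le_frattini
  have hMn : (Φ ⊓ W).Normal := small _ hΦn hΦlt
  have hKc : ∀ z ∈ Φ ⊓ W, ∀ y ∈ B, Commute z y := by
    have h2 : B ≤ centralizer ((Φ ⊓ W : Subgroup G) : Set G) := by
      rw [← hgen]
      exact normalClosure_le_normal fun y hy =>
        mem_centralizer_iff.mpr fun z hz => (commute_centerThompsonOf hz.2 hy.2).eq
    exact fun z hz y hy => mem_centralizer_iff.mp (h2 hy) z hz
  let K : Subgroup G :=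
    { carrier := {z | z ∈ B ∧ ∀ x ∈ B, ⁅z, x⁆ ∈ Φ ⊓ W ∧ ⁅z, x⁆ ^ p = 1}
      one_mem' := ⟨one_mem B, fun x _ => by
        rw [commutatorElement_one_left]; exact ⟨one_mem _, one_pow p⟩⟩
      mul_mem' := fun {y z} hy hz => ⟨mul_mem hy.1 hz.1, fun x hx => by
        rw [show ⁅y * z, x⁆ = y * ⁅z, x⁆ * y⁻¹ * ⁅y, x⁆ by simp only [commutatorElement_def]; group,
          ← (hKc _ (hz.2 x hx).1 y hy.1).eq, mul_inv_cancel_right]
        refine ⟨mul_mem (hz.2 x hx).1 (hy.2 x hx).1, ?_⟩
        rw [(hKc _ (hz.2 x hx).1 _ (map_subtype_le _ (hy.2 x hx).1.1)).mul_pow, (hz.2 x hx).2,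
          (hy.2 x hx).2, one_mul]⟩
      inv_mem' := fun {y} hy => ⟨inv_mem hy.1, fun x hx => by
        rw [show ⁅y⁻¹, x⁆ = y⁻¹ * ⁅y, x⁆⁻¹ * y⁻¹⁻¹ by simp only [commutatorElement_def]; group,
          ← (hKc _ (inv_mem (hy.2 x hx).1) y⁻¹ (inv_mem hy.1)).eq, mul_inv_cancel_right]
        exact ⟨inv_mem (hy.2 x hx).1, by rw [inv_pow, (hy.2 x hx).2, inv_one]⟩⟩ }
  have hKn : K.Normal := ⟨fun z hz g => ⟨hBn.conj_mem z hz.1 g, fun x hx => by
    have hx' : g⁻¹ * x * g ∈ B := by simpa using hBn.conj_mem x hx g⁻¹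
    have e : ⁅g * z * g⁻¹, x⁆ = g * ⁅z, g⁻¹ * x * g⁆ * g⁻¹ := by
      simp only [commutatorElement_def]; group
    rw [e]
    exact ⟨hMn.conj_mem _ (hz.2 _ hx').1 g, by rw [conj_pow, (hz.2 _ hx').2, mul_one, mul_inv_cancel]⟩⟩⟩
  have hzK : ∀ z ∈ Z, z ∈ K := by
    intro z hz
    refine ⟨hz.1, fun x hx => ?_⟩
    have h1 : ∀ y ∈ B, ⁅z, y⁆ ∈ Φ ⊓ W := fun y hy => ⟨hB'Φ (commutator_mem_commutator hz.1 hy),
      Replacement.commutatorElement_mem_of_le_normalizer hz.2 (hSW (hBS hy))⟩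
    refine ⟨h1 x hx, ?_⟩
    have hzp : z ^ p ∈ Φ ⊓ W :=
      ⟨⟨⟨z, hz.1⟩ ^ p, Core.pow_mem_frattini hBp _, rfl⟩, pow_mem hz.2 p⟩
    have hk : ∀ k : ℕ, ⁅z ^ k, x⁆ = ⁅z, x⁆ ^ k := by
      intro k
      induction k with
      | zero => simp
      | succ k ih =>
        rw [pow_succ', show ⁅z * z ^ k, x⁆ = z * ⁅z ^ k, x⁆ * z⁻¹ * ⁅z, x⁆ by
          simp only [commutatorElement_def]; group, ih,
          ← (hKc _ (pow_mem (h1 x hx) k) z hz.1).eq, mul_inv_cancel_right, pow_succ]
    rw [← hk, commutatorElement_eq_one_iff_commute]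
    exact hKc _ hzp x hx
  have hBK : ∀ z ∈ B, ∀ x ∈ B, ⁅z, x⁆ ∈ Φ ⊓ W ∧ ⁅z, x⁆ ^ p = 1 := by
    have hle : B ≤ K := by
      conv_lhs => rw [← hgen]
      exact normalClosure_le_normal hzK
    exact fun z hz => (hle hz).2
  have hB'W : ∀ y ∈ ⁅B, B⁆, y ∈ Φ ⊓ W ∧ y ^ p = 1 := by
    intro y hy
    rw [Subgroup.commutator_def] at hy
    induction hy using closure_induction with
    | mem y hy => obtain ⟨z, hz, x, hx, rfl⟩ := hy; exact hBK z hz x hx
    | one => exact ⟨one_mem _, one_pow p⟩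
    | mul y z _ _ h1 h2 =>
      exact ⟨mul_mem h1.1 h2.1, by
        rw [(hKc _ h1.1 _ (map_subtype_le _ h2.1.1)).mul_pow, h1.2, h2.2, one_mul]⟩
    | inv y _ h1 => exact ⟨inv_mem h1.1, by rw [inv_pow, h1.2, inv_one]⟩
  have hB'A : ∀ A, AbMax p D A → ⁅B, B⁆ ≤ A := fun A hA y hy =>
    mem_of_commute hA (hWD (hB'W y hy).1.2) (hB'W y hy).2 fun a ha =>
      commute_of_mem_centerThompsonOf hA (hB'W y hy).1.2 ha
  set C := centralizer (B : Set G) with hC
  set L := normalCore (normalizer (Z : Set G)) with hL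
  have hLN : L ≤ normalizer (Z : Set G) := normalCore_le _
  have hZnot : normalizer (Z : Set G) ≠ ⊤ := fun h => hBbad (normalizer_eq_top_iff.mp h)
  have hCZ : C ≤ normalizer (Z : Set G) :=
    (centralizer_le (inf_le_left : Z ≤ B)).trans (centralizer_le_normalizer _)
  set T := (S : Subgroup G) ⊓ L with hT
  have hFr : normalizer (T : Set G) ⊔ L = ⊤ := by
    obtain ⟨P, hP⟩ := Control.SylIn.exists_sylow (G := L) (T := T.subgroupOf L) ⟨le_top,
      (S.2.to_inf_left : IsPGroup p T).comap_subtype, by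
        rw [relIndex_top_right]
        exact ((Control.sylIn_top S).inf_normal (N := L) le_top
          (fun g _ => normalizer_eq_top L ▸ mem_top g)).not_dvd⟩
    have := Sylow.normalizer_sup_eq_top P
    rwa [hP, map_subgroupOf_eq_of_le inf_le_right] at this
  have hconj : ∀ n ∈ normalizer (T : Set G), ∀ A : Subgroup G, AbMax p D A → A ≤ L →
      AbMax p D (A.map (MulAut.conj n).toMonoidHom) := by
    intro n hn A hA hAL
    refine ⟨⟨?_, (hA.toAbMem.map _).comm, (hA.toAbMem.map _).exp⟩, fun C hC => ?_⟩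
    · rintro _ ⟨x, hx, rfl⟩
      exact hD.2 x (hA.le hx) n ((mem_normalizer_iff.mp hn x).mp ⟨hD.1 (hA.le hx), hAL hx⟩).1
    · rw [card_map_of_injective (MulAut.conj n).injective]
      exact hA.max C hC
  by_cases hall : ∀ A, AbMax p D A → A ≤ L
  · refine hZnot (top_le_iff.mp (hFr ▸ sup_le (fun n hn => ?_) hLN))
    have hJ : n ∈ normalizer (thompsonSubgroupOf p D : Set G) := by
      rw [thompsonSubgroupOf_eq, mem_normalizer_iff_map_conj_eq]
      refine eq_of_le_of_card_ge ?_ (card_map_of_injective (MulAut.conj n).injective).ge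
      rw [map_le_iff_le_comap]
      exact sSup_le fun A hA => map_le_iff_le_comap.mp (le_sSup (hconj n hn A hA (hall A hA)))
    have hW' : n ∈ normalizer (W : Set G) := by
      rw [mem_normalizer_iff_map_conj_eq] at hJ ⊢
      rw [hW, map_centerThompsonOf _ (by rw [(MonoidHom.ker_eq_bot_iff _).mpr (MulAut.conj n).injective,
          inf_bot_eq]), hJ]
      rfl
    rw [mem_normalizer_iff]
    intro x
    exact and_congr (mem_normalizer_iff.mp (normalizer_eq_top B ▸ mem_top n) x)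
      (mem_normalizer_iff.mp hW' x)
  push Not at hall
  obtain ⟨A, ⟨hA, hAL⟩, hmax⟩ :=
    (Set.toFinite {A : Subgroup G | AbMax p D A ∧ ¬ A ≤ L}).exists_maximalFor
      (fun A : Subgroup G => Nat.card (A ⊓ B : Subgroup G)) _ hall
  have hquad : ∀ X : Subgroup G, X.Normal → IsPGroup p X → X ≤ normalizer (A : Set G) →
      centralizer (X : Set G) ≤ normalizer (Z : Set G) → False := by
    intro X hXn hXp hN hXC
    haveI := hXn
    refine hAL fun a ha => ?_
    have hq : ⁅⁅X, zpowers a⁆, zpowers a⁆ = ⊥ := by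
      refine le_bot_iff.mp ?_
      calc ⁅⁅X, zpowers a⁆, zpowers a⁆ ≤ ⁅⁅X, A⁆, A⁆ :=
            commutator_mono (commutator_mono le_rfl (zpowers_le.mpr ha)) (zpowers_le.mpr ha)
        _ ≤ ⁅A, A⁆ := commutator_mono (le_normalizer_iff_commutator_le_right.mp hN) le_rfl
        _ = ⊥ := commutator_eq_bot_iff_le_centralizer.mpr fun x hx =>
            mem_centralizer_iff.mpr fun y hy => (commute_of_isMulCommutative hA.comm hy hx).eq
    have haS : a ∈ (S : Subgroup G) := hD.1 (hA.le ha)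
    exact normalCore_mono (sup_le hSZ hXC)
      (hst X hXn hXp a (S.2.to_le (zpowers_le.mpr haS)) hq S)
  have hNS : (S : Subgroup G) ≤ normalizer (B : Set G) := fun g _ => normalizer_eq_top B ▸ mem_top g
  obtain ⟨A', hA', -, hlt, -, -⟩ := exists_abMax_inf_lt hp hodd S.2 hBS hNS hD.1
    (le_normalizer_of_isStronglyClosed hD) hA (hB'A A hA)
    (fun hN => hquad B hBn hBp hN hCZ)
  have hbig : ∀ A₁, AbMax p D A₁ → A ⊓ B < A₁ ⊓ B → A₁ ≤ L := fun A₁ h₁ hlt₁ => by
    by_contra h
    have := Core.card_lt_of_lt hlt₁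
    exact this.not_ge (hmax ⟨h₁, h⟩ this.le)
  -- the members inside `L` hold the elements of order `p` of `B`
  have hΩ : ∀ A₁, AbMax p D A₁ → A₁ ≤ L → ∀ v ∈ B, v ^ p = 1 → v ∈ A₁ := by
    intro A₁ hA₁ hA₁L v hv hvp
    have hle : B ≤ centralizer (A₁ : Set G) := by
      rw [← hgen, normalClosure, closure_le]
      intro x hx
      obtain ⟨z, hz, hzx⟩ := Group.mem_conjugatesOfSet_iff.mp hx
      obtain ⟨g, rfl⟩ := isConj_iff.mp hzx
      obtain ⟨n, hn, l, hl, rfl⟩ : ∃ n ∈ normalizer (T : Set G), ∃ l ∈ L, n * l = g :=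
        mem_sup_of_normal_right.mp (hFr ▸ mem_top g)
      have hz' : l * z * l⁻¹ ∈ Z := (mem_normalizer_iff.mp (hLN hl) z).mp hz
      refine mem_centralizer_iff.mpr fun a ha => ?_
      have h1 := commute_of_mem_centerThompsonOf (hconj n⁻¹ (inv_mem hn) A₁ hA₁ hA₁L) hz'.2
        (mem_map_of_mem _ ha)
      have h2 := h1.map (MulAut.conj n).toMonoidHom
      change Commute (n * (n⁻¹ * a * n⁻¹⁻¹) * n⁻¹) (n * (l * z * l⁻¹) * n⁻¹) at h2
      rw [show n * (n⁻¹ * a * n⁻¹⁻¹) * n⁻¹ = a by group,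
        show n * (l * z * l⁻¹) * n⁻¹ = n * l * z * (n * l)⁻¹ by group] at h2
      exact h2.eq
    exact mem_of_commute hA₁ (hBD hv) hvp fun a ha => mem_centralizer_iff.mp (hle hv) a ha
  have hA'L : A' ≤ L := hbig A' hA' hlt
  set V := A' ⊓ B with hV
  have hVp : ∀ x, x ∈ V ↔ x ∈ B ∧ x ^ p = 1 := fun x =>
    ⟨fun h => ⟨h.2, hA'.exp x h.1⟩, fun h => ⟨hΩ A' hA' hA'L x h.1 h.2, h.1⟩⟩
  have hVn : V.Normal := ⟨fun x hx g => by
    rw [hVp] at hx ⊢
    exact ⟨hBn.conj_mem x hx.1 g, by rw [conj_pow, hx.2, mul_one, mul_inv_cancel]⟩⟩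
  have hVV : ⁅V, V⁆ = ⊥ := commutator_eq_bot_iff_le_centralizer.mpr fun x hx =>
    mem_centralizer_iff.mpr fun y hy => (commute_of_isMulCommutative hA'.comm hy.1 hx.1).eq
  have hCV : centralizer (V : Set G) ≤ normalizer (Z : Set G) :=
    (centralizer_le_sylow_sup hp hBp (fun x hx hxp => (hVp x).mpr ⟨hx, hxp⟩) S).trans
      (sup_le hSZ hCZ)
  have hinf : ∀ A₁, AbMax p D A₁ → A₁ ⊓ V = A₁ ⊓ B := fun A₁ hA₁ =>
    le_antisymm (inf_le_inf_left _ inf_le_right)
      (fun x hx => ⟨hx.1, (hVp x).mpr ⟨hx.2, hA₁.exp x hx.1⟩⟩)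
  obtain ⟨A'', hA'', -, hlt', hVA, -⟩ := exists_abMax_inf_lt hp hodd S.2 (inf_le_right.trans hBS)
    (fun g _ => normalizer_eq_top V ▸ mem_top g) hD.1 (le_normalizer_of_isStronglyClosed hD) hA
    (hVV.le.trans bot_le)
    (fun hN => hquad V hVn (hBp.to_le inf_le_right) hN hCV)
  rw [hinf A hA, hinf A'' hA''] at hlt'
  exact hVA fun x hx => hΩ A'' hA'' (hbig A'' hA'' hlt') x hx.2 ((hVp x).mp hx).2

/-- The ZJ-theorem for `Z(J_e(D))`. -/
theorem normal_centerThompsonOf (hp : p ≠ 2) (hst : PStableNormal p G)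
    (hD : IsStronglyClosed D (S : Subgroup G))
    (hc : centralizer (pCore p G : Set G) ≤ pCore p G) : (centerThompsonOf p D).Normal := by
  have hOS : pCore p G ≤ (S : Subgroup G) := Core.pCore_le_sylow S
  set W := centerThompsonOf p D with hW
  have hSW : (S : Subgroup G) ≤ normalizer (W : Set G) := fun g hg =>
    mem_normalizer_centerThompsonOf (le_normalizer_of_isStronglyClosed hD hg)
  have hle : W ≤ pCore p G := by
    intro x hx
    have hxS : x ∈ (S : Subgroup G) := hD.1 (centerThompsonOf_le D hx)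
    have hq : ⁅⁅pCore p G, zpowers x⁆, zpowers x⁆ = ⊥ := by
      refine le_bot_iff.mp ?_
      calc ⁅⁅pCore p G, zpowers x⁆, zpowers x⁆ ≤ ⁅⁅pCore p G, W⁆, W⁆ :=
            commutator_mono (commutator_mono le_rfl (zpowers_le.mpr hx)) (zpowers_le.mpr hx)
        _ ≤ ⁅W, W⁆ := commutator_mono
            (le_normalizer_iff_commutator_le_right.mp (hOS.trans hSW)) le_rfl
        _ = ⊥ := commutator_eq_bot_iff_le_centralizer.mpr fun y hy =>
            mem_centralizer_iff.mpr fun z hz => (commute_centerThompsonOf hz hy).eq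
    have h1 := hst _ inferInstance Core.pCore_isPGroup x (S.2.to_le (zpowers_le.mpr hxS)) hq S
    refine Core.le_pCore (N := normalCore (S : Subgroup G)) (S.2.to_le (normalCore_le _)) ?_
    rwa [sup_of_le_left (hc.trans hOS)] at h1
  have := normal_inf_centerThompsonOf hp hst hD _ (inferInstance : (pCore p G).Normal) Core.pCore_isPGroup
  rwa [inf_of_le_right hle] at this

namespace GlaubermanThompson

universe u

theorem isZSel_centerThompsonOf {p : ℕ} [Fact p.Prime] (hp2 : p ≠ 2) :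
    IsZSel.{u} p (fun G _ D => centerThompsonOf p D) where
  le _ _ _ D := centerThompsonOf_le D
  ne_bot _ _ _ D hD hne := fun h => zInter_ne_bot hD hne (dvd_refl p) (le_bot_iff.mp
    ((omegaOne_centerThompsonOf_eq_zInter p D).symm.le.trans (by
      rw [h, omegaOne]; exact (closure_le _).mpr fun x hx => hx.1)))
  map _ _ _ _ _ f D h := by
    show (centerThompsonOf p D).map f = centerThompsonOf p (D.map f)
    rw [map_centerThompsonOf f h, thompsonSubgroupOf_map_of_inf_ker f h]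
    rfl
  normal _ _ _ hst hc _ _ hD := normal_centerThompsonOf hp2 hst hD hc

end GlaubermanThompson

end Cfsg.Agent.Fusion
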