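import Mathlib.GroupTheory.Transfer
import Mathlib.GroupTheory.Abelianization.Defs

/-!
The transfer evaluated on an element whose conjugates in `H` of powers have the same image.
-/

namespace Cfsg.Agent.Fusion

open Subgroup MulAction

variable {G : Type*} [Group G] {H : Subgroup G} {A : Type*} [CommGroup A]

/-- If the conjugates lying in `H` of the powers of `g ∈ H` have the image of those powers under
`φ`, then the transfer of `φ` sends `g` to `φ g ^ [G : H]`. -/
theorem transfer_apply_eq_pow [H.FiniteIndex] (φ : H →* A) (g : H)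
    (key : ∀ (k : ℕ) (a : G) (hk : a * (g : G) ^ k * a⁻¹ ∈ H),
      φ ⟨a * (g : G) ^ k * a⁻¹, hk⟩ = φ (g ^ k)) :
    MonoidHom.transfer φ (g : G) = φ g ^ H.index := by
  have : Fintype (Quotient (orbitRel (zpowers (g : G)) (G ⧸ H))) := Fintype.ofFinite _
  rw [index_eq_sum_minimalPeriod H (g : G), ← Finset.prod_pow_eq_pow_sum,
    MonoidHom.transfer_eq_prod_quotient_orbitRel_zpowers_quot]
  refine Finset.prod_congr rfl fun q _ => ?_
  have h := key (Function.minimalPeriod ((g : G) • ·) q.out) q.out.out⁻¹
    (by simpa using QuotientGroup.out_conj_pow_minimalPeriod_mem H (g : G) q.out)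
  simpa using h

end Cfsg.Agent.Fusion
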