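import Mathlib.GroupTheory.PGroup
import Mathlib.GroupTheory.Nilpotent
import Cfsg.Agent.Fusion.Frobenius

/-!
# Control of fusion and normal `p`-complements; small abelian Sylow subgroups
-/

namespace Cfsg.Agent.Fusion

set_option linter.unusedSectionVars false

open Subgroup
open scoped commutatorElement

universe u

variable {G : Type u} [Group G] [Finite G] {p : ℕ} [Fact p.Prime]

/-- Frobenius' theorem with the condition on the subgroups of one Sylow subgroup. -/
theorem hasNormalPComplement_of_frobenius_sylow (P : Sylow p G)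
    (h : ∀ Q : Subgroup G, Q ≤ (P : Subgroup G) → ∀ g ∈ normalizer (Q : Set G),
      Nat.Coprime (orderOf g) p → g ∈ centralizer (Q : Set G)) :
    HasNormalPComplement p G := by
  refine hasNormalPComplement_of_frobenius fun Q hQ g hg hgo => ?_
  obtain ⟨R, hR⟩ := hQ.exists_le_sylow
  obtain ⟨k, hk⟩ := MulAction.exists_smul_eq G P R
  have hle : conjSub k Q ≤ (P : Subgroup G) := by
    intro x hx
    have h1 := hR (mem_conjSub.mp hx)
    rw [← hk] at h1
    obtain ⟨y, hy, hyx⟩ := h1
    simp at hyx
    rwa [← hyx]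
  have h3 : k⁻¹ * g * k ∈ normalizer (conjSub k Q : Set G) := by
    rw [← conjSub_normalizer, mem_conjSub]
    simpa [mul_assoc] using hg
  have h4 : Nat.Coprime (orderOf (k⁻¹ * g * k)) p := by
    rw [show k⁻¹ * g * k = MulAut.conj k⁻¹ g by simp, MulEquiv.orderOf_eq]
    exact hgo
  have h5 := mem_centralizer_iff.mp (h _ hle _ h3 h4)
  rw [mem_centralizer_iff]
  intro x hx
  have h6 := h5 (k⁻¹ * x * k) (mem_conjSub.mpr (by simpa [mul_assoc] using hx))
  calc x * g = k * ((k⁻¹ * x * k) * (k⁻¹ * g * k)) * k⁻¹ := by group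
    _ = k * ((k⁻¹ * g * k) * (k⁻¹ * x * k)) * k⁻¹ := by rw [h6]
    _ = g * x := by group

/-- If elements of `P` conjugate in `G` are conjugate in `P`, the `p'`-elements normalizing a
subgroup of `P` centralize it. -/
theorem mem_centralizer_of_conj_controls (P : Sylow p G)
    (h : ∀ x ∈ P, ∀ g : G, g * x * g⁻¹ ∈ P → ∃ s ∈ P, s * x * s⁻¹ = g * x * g⁻¹)
    {Q : Subgroup G} (hQ : Q ≤ (P : Subgroup G)) {g : G} (hg : g ∈ normalizer (Q : Set G))
    (hgo : Nat.Coprime (orderOf g) p) : g ∈ centralizer (Q : Set G) := by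
  set L := fun i => (P : Subgroup G).lowerCentralSeries i with hL
  obtain ⟨c, hc⟩ : ∃ c, L c = ⊥ := by
    have := P.2.isNilpotent
    exact (isNilpotent_iff_lowerCentralSeries (S := (P : Subgroup G))).mp this
  have key : ∀ k i, i + k = c → ∀ x ∈ Q, x ∈ L i → g * x * g⁻¹ = x := by
    intro k
    induction k with
    | zero =>
      intro i hi x _ hx
      rw [add_zero] at hi
      rw [hi, hc, mem_bot] at hx
      simp [hx]
    | succ k ih =>
      intro i hi x hxQ hx
      have hy : g * x * g⁻¹ ∈ Q := (mem_normalizer_iff.mp hg x).mp hxQ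
      obtain ⟨s, hs, hseq⟩ := h x (hQ hxQ) g (hQ hy)
      set z := g * x * g⁻¹ * x⁻¹ with hz
      have hzQ : z ∈ Q := mul_mem hy (inv_mem hxQ)
      have hzL : z ∈ L (i + 1) := by
        rw [hz, ← hseq, show s * x * s⁻¹ * x⁻¹ = ⁅x, s⁆⁻¹ by
          rw [commutatorElement_def]; group]
        refine inv_mem ?_
        simp only [hL, Subgroup.lowerCentralSeries_succ]
        exact commutator_mem_commutator hx hs
      have hfix := ih (i + 1) (by omega) z hzQ hzL
      have hcz : Commute g z := by
        show g * z = z * g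
        calc g * z = g * z * g⁻¹ * g := by group
          _ = z * g := by rw [hfix]
      have hpow : ∀ j : ℕ, g ^ j * x * (g ^ j)⁻¹ = z ^ j * x := by
        intro j
        induction j with
        | zero => simp
        | succ j ihj =>
          have h1 : g * z ^ j * g⁻¹ = z ^ j := by
            rw [(hcz.pow_right j).eq, mul_inv_cancel_right]
          calc g ^ (j + 1) * x * (g ^ (j + 1))⁻¹ = g * (g ^ j * x * (g ^ j)⁻¹) * g⁻¹ := by
                rw [pow_succ']; simp only [mul_inv_rev, mul_assoc]
            _ = g * (z ^ j * x) * g⁻¹ := by rw [ihj]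
            _ = (g * z ^ j * g⁻¹) * (g * x * g⁻¹) := by group
            _ = z ^ j * (z * x) := by
                rw [h1, show z * x = g * x * g⁻¹ by rw [hz, inv_mul_cancel_right]]
            _ = z ^ (j + 1) * x := by rw [pow_succ]; exact (mul_assoc _ _ _).symm
      have h2 := hpow (orderOf g)
      rw [pow_orderOf_eq_one, one_mul, inv_one, mul_one, right_eq_mul] at h2
      obtain ⟨e, he⟩ := IsPGroup.iff_orderOf.mp (P.2.to_le hQ) ⟨z, hzQ⟩
      rw [Subgroup.orderOf_mk] at he
      have h3 : orderOf z ∣ Nat.gcd (p ^ e) (orderOf g) :=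
        Nat.dvd_gcd he.dvd (orderOf_dvd_of_pow_eq_one h2)
      rw [Nat.Coprime.gcd_eq_one (Nat.Coprime.pow_left e hgo.symm), Nat.dvd_one,
        orderOf_eq_one_iff] at h3
      calc g * x * g⁻¹ = z * x := by rw [hz]; group
        _ = x := by rw [h3, one_mul]
  rw [mem_centralizer_iff]
  intro x hx
  have h1 := key c 0 (zero_add c) x hx (by simpa [hL] using hQ hx)
  calc x * g = g * x * g⁻¹ * g := by rw [h1]
    _ = g * x := by group

/-- If elements of `P` conjugate in `G` are conjugate in `P` then `G` has a normal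
`p`-complement. -/
theorem hasNormalPComplement_of_conj_controls (P : Sylow p G)
    (h : ∀ x ∈ P, ∀ g : G, g * x * g⁻¹ ∈ P → ∃ s ∈ P, s * x * s⁻¹ = g * x * g⁻¹) :
    HasNormalPComplement p G :=
  hasNormalPComplement_of_frobenius_sylow P
    fun _ hQ _ hg hgo => mem_centralizer_of_conj_controls P h hQ hg hgo

/-- A `q`-element normalizing a finite subgroup `T` centralizes it if no proper divisor of `|T|`
is congruent to `|T|` modulo `q`. -/
theorem mem_centralizer_of_card_modEq {q : ℕ} [Fact q.Prime] {T : Subgroup G} {n : G}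
    (hn : n ∈ normalizer (T : Set G)) (hq : ∃ k, orderOf n ∣ q ^ k)
    (h : ∀ d, d ∣ Nat.card T → d ≠ Nat.card T → ¬ d ≡ Nat.card T [MOD q]) :
    n ∈ centralizer (T : Set G) := by
  obtain ⟨k, hk⟩ := hq
  set φ : MulAut T := T.normalizerMonoidHom ⟨n, hn⟩ with hφ
  set A := zpowers φ with hA
  have hAp : IsPGroup q A := IsPGroup.of_card_dvd_pow (n := k) (by
    rw [Nat.card_zpowers]
    exact (orderOf_map_dvd T.normalizerMonoidHom (⟨n, hn⟩ : normalizer (T : Set G))).trans
      (by rwa [Subgroup.orderOf_mk]))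
  let C : Subgroup T :=
    { carrier := {x | φ x = x}
      mul_mem' := fun ha hb => by
        simp only [Set.mem_ofPred_eq, map_mul] at ha hb ⊢
        rw [ha, hb]
      one_mem' := map_one φ
      inv_mem' := fun ha => by
        simp only [Set.mem_ofPred_eq, map_inv] at ha ⊢
        rw [ha] }
  have hfix : ∀ x : T, x ∈ MulAction.fixedPoints A T ↔ x ∈ C := by
    intro x
    constructor
    · intro hx
      exact hx ⟨φ, mem_zpowers φ⟩
    · rintro hx ⟨a, ha⟩
      have : zpowers φ ≤ MulAction.stabilizer (MulAut T) x := by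
        rw [zpowers_le]; exact hx
      exact this ha
  have hmod := hAp.card_modEq_card_fixedPoints (T : Type u)
  have hcard : Nat.card (MulAction.fixedPoints A T) = Nat.card C :=
    Nat.card_congr (Equiv.subtypeEquivRight hfix)
  rw [hcard] at hmod
  have hC : C = ⊤ := eq_top_of_card_eq C (by
    by_contra hne
    exact h _ (card_subgroup_dvd_card C) hne hmod.symm)
  rw [mem_centralizer_iff]
  intro x hx
  have h1 : φ ⟨x, hx⟩ = ⟨x, hx⟩ := (hC ▸ mem_top _ : (⟨x, hx⟩ : T) ∈ C)
  have h2 : n * x * n⁻¹ = x := congrArg (fun y : T => (y : G)) h1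
  calc x * n = n * x * n⁻¹ * n := by rw [h2]
    _ = n * x := by group

/-- For an abelian Sylow subgroup it is enough to test Burnside's condition on the elements of
prime power order prime to `p`. -/
theorem normalizer_le_centralizer_of_primePow (P : Sylow p G)
    (hP : IsMulCommutative (P : Subgroup G))
    (h : ∀ q : ℕ, q.Prime → q ≠ p → q ∣ Nat.card G → ∀ n ∈ normalizer (P : Set G),
      (∃ k, orderOf n ∣ q ^ k) → n ∈ centralizer (P : Set G)) :
    normalizer (P : Set G) ≤ centralizer (P : Set G) := by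
  set N := normalizer ((P : Subgroup G) : Set G)
  set C := centralizer ((P : Subgroup G) : Set G)
  rw [← relIndex_eq_one]
  by_contra hne
  obtain ⟨q, hq, hqd⟩ := Nat.exists_prime_and_dvd hne
  have := Fact.mk hq
  obtain rfl | hqp := eq_or_ne q p
  · exact P.not_dvd_index ((hqd.trans (relIndex_dvd_of_le_left _
      (le_centralizer_iff_isMulCommutative.mpr hP))).trans
      (relIndex_dvd_index_of_le le_normalizer))
  obtain ⟨Q⟩ := (inferInstance : Nonempty (Sylow q N))
  refine Q.not_dvd_index (hqd.trans (index_dvd_of_le fun x hx => ?_))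
  refine h q hq hqp ?_ x x.2 ?_
  · exact hqd.trans ((index_dvd_card _).trans (card_subgroup_dvd_card N))
  · obtain ⟨k, hk⟩ := IsPGroup.iff_orderOf.mp Q.2 ⟨x, hx⟩
    exact ⟨k, by rw [Subgroup.orderOf_coe]; rw [Subgroup.orderOf_mk] at hk; exact hk.dvd⟩

end Cfsg.Agent.Fusion
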