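import Cfsg.Agent.Fusion.ThompsonComplement
import Cfsg.Agent.FixedPointFree.Prime
import Cfsg.Agent.Char.Artin

/-!
# Thompson's theorem on fixed-point-free elements of prime order

`isNilpotent_of_fpf_prime` : if `c ^ q = 1` (`q` prime), `c` normalises `L` and centralises no
nontrivial element of `L`, then `L` is nilpotent.
-/

set_option autoImplicit false

namespace Cfsg.Agent.Fusion

open Subgroup

universe u

theorem hasNormalPComplement_of_isNilpotent {G : Type u} [Group G] [Finite G] {p : ℕ}
    [Fact p.Prime] (h : Group.IsNilpotent G) : HasNormalPComplement p G := by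
  refine hasNormalPComplement_of_frobenius fun Q hQ g _ hgo => mem_centralizer_iff.mpr fun x hx => ?_
  obtain ⟨k, hk⟩ := IsPGroup.iff_orderOf.mp hQ ⟨x, hx⟩
  rw [Subgroup.orderOf_mk] at hk
  exact (Char.commute_of_nilpotent_coprime (a := x) (b := g) (hk ▸ (hgo.symm.pow_left k))).eq

variable {q : ℕ}

theorem isSolvable_of_fpf_normal (hq : q.Prime) :
    ∀ n : ℕ, ∀ {Δ : Type u} [Group Δ] [Finite Δ] (L : Subgroup Δ) [L.Normal] (c : Δ),
      c ^ q = 1 → L ⊓ centralizer {c} = ⊥ → Nat.card L ≤ n → Group.IsSolvable L := by
  intro n
  induction n with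
  | zero => intro Δ _ _ L _ c _ _ h; exact absurd h (by have := Nat.card_pos (α := L); omega)
  | succ n ih =>
    intro Δ _ _ L hLn c hc hfix hn
    have := Fact.mk hq
    have hcL : zpowers c ≤ normalizer (L : Set Δ) := le_normalizer_of_normal
    have hfix' : L ⊓ centralizer ((zpowers c : Subgroup Δ) : Set Δ) = ⊥ := by
      rwa [FixedPointFree.centralizer_zpowers]
    have hcp := FixedPointFree.isPGroup_zpowers hc
    have hcop := FixedPointFree.coprime_of_fixed hq hcp hcL hfix'
    -- a solvable normal subgroup finishes the induction
    have step : ∀ V : Subgroup Δ, V.Normal → V ≤ L → V ≠ ⊥ → Group.IsSolvable V →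
        Group.IsSolvable L := by
      intro V hVn hVL hV hVs
      set π := QuotientGroup.mk' V
      have hker : π.ker ≤ L := by rw [QuotientGroup.ker_mk']; exact hVL
      have := hLn.map π (QuotientGroup.mk'_surjective V)
      have h := FixedPointFree.fixed_map_eq_bot π hq hcp hcL hker hfix'
      rw [MonoidHom.map_zpowers, FixedPointFree.centralizer_zpowers] at h
      have hs := ih (L.map π) (π c) (by rw [← map_pow, hc, map_one]) h
        (Nat.lt_succ_iff.mp ((FixedPointFree.card_map_quotient_lt hVL hV).trans_le hn))
      have hk : (π.subgroupMap L).ker ≤ (inclusion hVL).range := by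
        intro x hx
        have : π (x : Δ) = 1 := congrArg (fun y : L.map π => (y : Δ ⧸ V)) hx
        exact ⟨⟨x, (QuotientGroup.eq_one_iff _).mp this⟩, rfl⟩
      exact Group.isSolvable_of_ker_le_range _ _ hk
    -- proper subgroups normalised by `c` are nilpotent
    have proper : ∀ X : Subgroup Δ, X ≤ L → X ≠ L → c ∈ normalizer (X : Set Δ) →
        Group.IsNilpotent X := by
      intro X hXL hne hcX
      have hXn : (X.subgroupOf (normalizer (X : Set Δ))).Normal := normal_in_normalizer
      have hlt := Core.card_lt_of_lt (lt_of_le_of_ne hXL hne)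
      have hs := ih (X.subgroupOf (normalizer (X : Set Δ))) ⟨c, hcX⟩
        (Subtype.ext (by simpa using hc)) (by
          rw [eq_bot_iff]
          rintro x ⟨hx, hxc⟩
          have h1 : (x : Δ) * c = c * x :=
            congrArg Subtype.val (mem_centralizer_singleton_iff.mp hxc)
          exact mem_bot.mpr (Subtype.ext (mem_bot.mp (hfix ▸
            (⟨hXL hx, mem_centralizer_singleton_iff.mpr h1⟩ : (x : Δ) ∈ L ⊓ centralizer {c})))))
        (by rw [Coprime.card_subgroupOf le_normalizer]; omega)
      have hXs : Group.IsSolvable X :=
        Group.isSolvable_of_surjective (f := (subgroupOfEquivOfLe le_normalizer).toMonoidHom)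
          (MulEquiv.surjective _)
      exact FixedPointFree.isNilpotent_of_fpf hq hc hcX hXs (FixedPointFree.fixed_mono hfix hXL)
    by_cases h2 : IsPGroup 2 L
    · have := h2.isNilpotent
      infer_instance
    obtain ⟨r, hr, hrd, hr2⟩ : ∃ r, r.Prime ∧ r ∣ Nat.card L ∧ r ≠ 2 := by
      by_contra hno
      push Not at hno
      refine h2 (IsPGroup.iff_card.mpr ⟨(Nat.card L).primeFactorsList.length,
        Nat.eq_prime_pow_of_unique_prime_dvd Nat.card_pos.ne' fun hd he => hno _ hd he⟩)
    have := Fact.mk hr
    by_cases hO : (pCore r L).map L.subtype = ⊥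
    swap
    · refine step _ inferInstance (map_subtype_le _) hO ?_
      have := (Core.pCore_isPGroup (p := r) (G := L)).map L.subtype
      exact Layer.isSolvable_of_isPGroup this
    by_cases hZ : (center L).map L.subtype = ⊥
    swap
    · refine step _ inferInstance (map_subtype_le _) hZ ?_
      have : IsMulCommutative ((center L).map L.subtype) := inferInstance
      exact Group.isSolvable_of_comm fun a b => IsMulCommutative.is_comm.comm a b
    obtain ⟨R, hR⟩ := Coprime.exists_invariant_sylow (p := r) hcL hcop
      (Or.inl (Group.isSolvable_of_comm fun a b => IsMulCommutative.is_comm.comm a b))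
    set R' : Subgroup Δ := (R : Subgroup L).map L.subtype with hR'
    have hR1 : (R : Subgroup L) ≠ ⊥ := R.ne_bot_of_dvd_card hrd
    have hcR : c ∈ normalizer (R' : Set Δ) := hR (mem_zpowers c)
    have hnR : ∀ V : Subgroup L, V ≤ (R : Subgroup L) → V.Normal → V = ⊥ := by
      intro V hV hVn
      have h1 : V.map L.subtype ≤ ⊥ :=
        hO ▸ Subgroup.map_mono (Core.le_pCore (hN := hVn) (R.2.to_le hV))
      rwa [le_bot_iff, Subgroup.map_eq_bot_iff, ker_subtype, le_bot_iff] at h1
    have key : HasNormalPComplement r L := by
      refine hasNormalPComplement_of_thompson hr2 R ?_ ?_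
      · have hXne : L ⊓ normalizer ((thompsonSubgroupOf r R' : Subgroup Δ) : Set Δ) ≠ L := by
          intro he
          refine thompsonSubgroupOf_ne_bot R.2 hR1 (hnR _ (Thompson.thompsonOf_le r _) ?_)
          rw [← normalizer_eq_top_iff, eq_top_iff]
          intro x _
          have hx : (x : Δ) ∈ normalizer ((thompsonSubgroupOf r R' : Subgroup Δ) : Set Δ) :=
            (inf_eq_left.mp he) x.2
          rw [hR', ← Thompson.thompsonOf_map_of_injective L.subtype_injective] at hx
          rw [mem_normalizer_iff]
          intro z
          have h1 := mem_normalizer_iff.mp hx (z : Δ)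
          rw [show (x : Δ) * z * (x : Δ)⁻¹ = L.subtype (x * z * x⁻¹) by simp] at h1
          exact (Subgroup.mem_map_iff_mem L.subtype_injective).symm.trans
            (h1.trans (Subgroup.mem_map_iff_mem L.subtype_injective))
        have hX := proper _ inf_le_left hXne (Coprime.le_normalizer_inf hcL (zpowers_le.mpr
          (le_normalizer (mem_normalizer_thompsonSubgroupOf hcR))) (mem_zpowers c))
        refine hasNormalPComplement_of_map_le L.subtype_injective ?_
          (hasNormalPComplement_of_isNilpotent hX)
        refine le_inf (map_subtype_le _) ?_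
        rw [hR', ← Thompson.thompsonOf_map_of_injective L.subtype_injective]
        exact le_normalizer_map _
      · set Z : Subgroup L := (R : Subgroup L) ⊓ centralizer ((R : Subgroup L) : Set L) with hZdef
        have hZ1 : Z ≠ ⊥ := by
          intro hc'
          have := (nontrivial_iff_ne_bot _).mpr hR1
          have := R.2.center_nontrivial
          refine not_subsingleton (center (R : Subgroup L)) ⟨fun a b => ?_⟩
          have hz : ∀ z : center (R : Subgroup L), z = 1 := fun z => by
            refine Subtype.ext (Subtype.ext (mem_bot.mp (hc' ▸ ⟨z.1.2, ?_⟩)))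
            exact mem_centralizer_iff.mpr fun y hy =>
              congrArg (fun w : (R : Subgroup L) => (w : L)) (mem_center_iff.mp z.2 ⟨y, hy⟩)
          rw [hz a, hz b]
        have hZ' : (Z.map L.subtype) = R' ⊓ centralizer (R' : Set Δ) :=
          map_inf_centralizer_of_inf_ker L.subtype (by rw [ker_subtype, inf_bot_eq])
        have hXne : L ⊓ centralizer ((Z.map L.subtype : Subgroup Δ) : Set Δ) ≠ L := by
          intro he
          refine hZ1 (le_bot_iff.mp ?_)
          intro z hz
          have h1 : z ∈ center L := mem_center_iff.mpr fun x => Subtype.ext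
            (mem_centralizer_iff.mp ((inf_eq_left.mp he) x.2) z (mem_map_of_mem _ hz)).symm
          have h2 := hZ ▸ mem_map_of_mem L.subtype h1
          exact mem_bot.mpr (Subtype.ext (mem_bot.mp h2))
        have hcX : c ∈ normalizer ((L ⊓ centralizer ((Z.map L.subtype : Subgroup Δ) : Set Δ)
            : Subgroup Δ) : Set Δ) := by
          have hcZ : c ∈ normalizer ((Z.map L.subtype : Subgroup Δ) : Set Δ) := by
            rw [mem_normalizer_iff_map_conj_eq, hZ']
            show Subgroup.map (MulAut.conj c).toMonoidHom _ = _
            rw [map_inf_centralizer_of_inf_ker (MulAut.conj c).toMonoidHom (by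
              rw [(MonoidHom.ker_eq_bot_iff _).mpr (MulAut.conj c).injective, inf_bot_eq])]
            have : R'.map (MulAut.conj c).toMonoidHom = R' := mem_normalizer_iff_map_conj_eq.mp hcR
            rw [this]
          rw [mem_normalizer_iff]
          intro x
          rw [mem_inf, mem_inf]
          refine and_congr (mem_normalizer_iff.mp (hcL (mem_zpowers c)) x) ?_
          simp only [mem_centralizer_iff]
          refine ⟨fun hh y hy => ?_, fun hh y hy => ?_⟩
          · have := hh _ ((mem_normalizer_iff''.mp hcZ y).mp hy)
            calc y * (c * x * c⁻¹) = c * ((c⁻¹ * y * c) * x) * c⁻¹ := by group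
              _ = c * (x * (c⁻¹ * y * c)) * c⁻¹ := by rw [this]
              _ = c * x * c⁻¹ * y := by group
          · have := hh _ ((mem_normalizer_iff.mp hcZ y).mp hy)
            calc y * x = c⁻¹ * ((c * y * c⁻¹) * (c * x * c⁻¹)) * c := by group
              _ = c⁻¹ * ((c * x * c⁻¹) * (c * y * c⁻¹)) * c := by rw [this]
              _ = x * y := by group
        refine hasNormalPComplement_of_map_le L.subtype_injective ?_
          (hasNormalPComplement_of_isNilpotent (proper _ inf_le_left hXne hcX))
        refine le_inf (map_subtype_le _) ((map_centralizer_le_centralizer_image _ _).trans_eq ?_)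
        rw [coe_map]
    have hKn : ((pResidual r L).map L.subtype).Normal :=
      haveI := pResidual_characteristic (p := r) (G := L)
      inferInstance
    have hKne : (pResidual r L).map L.subtype ≠ L := by
      intro he
      have hcard := card_map_of_injective (K := pResidual r L) L.subtype_injective
      rw [he] at hcard
      exact ((Nat.Prime.coprime_iff_not_dvd hr).mp
        (coprime_card_pResidual_of_hasNormalPComplement key).symm) (hcard ▸ hrd)
    have hKs : Group.IsNilpotent ((pResidual r L).map L.subtype) :=
      proper _ (map_subtype_le _) hKne (normalizer_eq_top (H := (pResidual r L).map L.subtype) ▸ mem_top c)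
    have : Group.IsNilpotent (L ⧸ pResidual r L) := (isPGroup_quotient_pResidual).isNilpotent
    have : Group.IsSolvable (pResidual r L) := by
      have : Group.IsNilpotent ((pResidual r L).map L.subtype) := hKs
      exact Group.isSolvable_of_surjective
        (f := ((pResidual r L).equivMapOfInjective L.subtype L.subtype_injective).symm.toMonoidHom)
        (MulEquiv.surjective _)
    exact Group.isSolvable_of_ker_le_range (pResidual r L).subtype (QuotientGroup.mk' (pResidual r L))
      (by rw [QuotientGroup.ker_mk', range_subtype])

variable {Γ : Type u} [Group Γ] [Finite Γ]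

/-- **Thompson's theorem**: a group with a fixed-point-free element of prime order is nilpotent. -/
theorem isNilpotent_of_fpf_prime (hq : q.Prime) {L : Subgroup Γ} {c : Γ} (hc : c ^ q = 1)
    (hcL : c ∈ normalizer (L : Set Γ)) (hfix : L ⊓ centralizer {c} = ⊥) : Group.IsNilpotent L := by
  have hn : (L.subgroupOf (normalizer (L : Set Γ))).Normal := normal_in_normalizer
  have h := isSolvable_of_fpf_normal hq (Nat.card L) (L.subgroupOf (normalizer (L : Set Γ)))
    ⟨c, hcL⟩ (Subtype.ext (by simpa using hc)) (by
      rw [eq_bot_iff]
      rintro x ⟨hx, hxc⟩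
      have h1 : (x : Γ) * c = c * x := congrArg Subtype.val (mem_centralizer_singleton_iff.mp hxc)
      exact mem_bot.mpr (Subtype.ext (mem_bot.mp (hfix ▸
        (⟨hx, mem_centralizer_singleton_iff.mpr h1⟩ : (x : Γ) ∈ L ⊓ centralizer {c})))))
    (Coprime.card_subgroupOf le_normalizer).le
  have hs : Group.IsSolvable L :=
    Group.isSolvable_of_surjective (f := (subgroupOfEquivOfLe le_normalizer).toMonoidHom)
      (MulEquiv.surjective _)
  exact FixedPointFree.isNilpotent_of_fpf hq hc hcL hs hfix

end Cfsg.Agent.Fusion
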