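import Cfsg.Agent.Fusion.ZJ
import Cfsg.Agent.OddLocal.PLengthOne

/-!
# The ZJ-theorem for `p`-constrained groups

`pStableNormal_quotient` : `PStableNormal` of `G / O_{p'}(G)` for a `p`-stable group.
`sup_normalizer_zInter_eq_top` : `G = O_{p'}(G) N(zInter e S)` for `p`-constrained groups.
-/

set_option autoImplicit false
set_option maxHeartbeats 400000

namespace Cfsg.Agent.Fusion

open Subgroup
open scoped commutatorElement

variable {G : Type*} [Group G] [Finite G] {p : ℕ} [Fact p.Prime]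

theorem zInter_map_of_inf_ker {G' : Type*} [Group G'] (f : G →* G') {D : Subgroup G} {e : ℕ}
    (h : D ⊓ f.ker = ⊥) : (zInter e D).map f = zInter e (D.map f) := by
  have hinj : Function.Injective (f.comp D.subtype) := by
    rw [← MonoidHom.ker_eq_bot_iff, eq_bot_iff]
    intro x hx
    exact mem_bot.mpr (Subtype.ext (mem_bot.mp (h ▸ ⟨x.2, hx⟩ : (x : G) ∈ (⊥ : Subgroup G))))
  have e1 : (⊤ : Subgroup D).map D.subtype = D := by rw [← MonoidHom.range_eq_map, range_subtype]
  conv_lhs => rw [← e1, ← zInter_map (e := e) D.subtype_injective, map_map]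
  rw [zInter_map (e := e) hinj, ← map_map, e1]

omit [Fact p.Prime] in
theorem exists_pElement_mul {a : G} {k : ℕ} [Fact p.Prime] (C : Subgroup G) (hC : C.Normal)
    (h : a ^ p ^ k ∈ C) : ∃ a' : G, a' ∈ zpowers a ∧ IsPGroup p (zpowers a') ∧ a⁻¹ * a' ∈ C := by
  obtain ⟨m, r, hr, hm⟩ := Nat.exists_eq_pow_mul_and_not_dvd (orderOf_pos a).ne' p
    (Fact.out : p.Prime).ne_one
  have hcop : Nat.Coprime r (p ^ (m + k)) :=
    ((Fact.out : p.Prime).coprime_iff_not_dvd.mpr hr).symm.pow_right _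
  obtain ⟨u, v, huv⟩ : ∃ u v : ℤ, (r : ℤ) * u + ((p ^ (m + k) : ℕ) : ℤ) * v = 1 :=
    ⟨_, _, (Nat.gcd_eq_gcd_ab r (p ^ (m + k))).symm.trans (by rw [hcop.gcd_eq_one]; rfl)⟩
  refine ⟨a ^ ((r : ℤ) * u), zpow_mem (mem_zpowers a) _, ?_, ?_⟩
  · obtain ⟨i, hi⟩ := (Nat.dvd_prime_pow Fact.out).mp
      (orderOf_dvd_of_pow_eq_one (n := p ^ m) (x := a ^ ((r : ℤ) * u)) (by
        rw [← zpow_natCast, ← zpow_mul,
          show (r : ℤ) * u * ((p ^ m : ℕ) : ℤ) = (orderOf a : ℤ) * u by rw [hm]; push_cast; ring,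
          zpow_mul, zpow_natCast, pow_orderOf_eq_one, one_zpow]))
    exact IsPGroup.of_card (n := i) (by rw [Nat.card_zpowers, hi.2])
  · have e1 : a⁻¹ * a ^ ((r : ℤ) * u) = a ^ (-((p ^ (m + k) : ℕ) : ℤ) * v) := by
      rw [← zpow_neg_one, ← zpow_add]; congr 1; linarith
    rw [e1, pow_add, mul_comm (p ^ m) (p ^ k), Nat.cast_mul, neg_mul, mul_assoc, ← mul_neg,
      zpow_mul, zpow_natCast]
    exact zpow_mem h _

/-- `G / O_{p'}(G)` inherits the `p`-stability on the subgroups `P` with `O_{p'}(G)P` normal. -/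
theorem pStableNormal_quotient_of
    (hs : ∀ (P : Subgroup G) (a : G), IsPGroup p (zpowers a) → IsPGroup p P →
      ∀ ha : a ∈ normalizer (P : Set G), P ≤ pPrimePCore p G → (pPrimeCore p G ⊔ P).Normal →
      ⁅⁅P, zpowers a⁆, zpowers a⁆ = ⊥ →
        QuotientGroup.mk' ((centralizer (P : Set G)).subgroupOf (normalizer (P : Set G))) ⟨a, ha⟩ ∈
          pCore p _) :
    PStableNormal p (G ⧸ pPrimeCore p G) := by
  set N := pPrimeCore p G with hN
  set f := QuotientGroup.mk' N with hf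
  have hfs : Function.Surjective f := QuotientGroup.mk'_surjective N
  have hker : (Nat.card f.ker).Coprime p := by
    rw [hf, QuotientGroup.ker_mk']; exact Core.coprime_card_pPrimeCore
  intro B hB hBp a hap hq S
  set X := B.comap f
  have hX : X.Normal := hB.comap f
  obtain ⟨P⟩ := (inferInstance : Nonempty (Sylow p X))
  set P₀ : Subgroup G := (P : Subgroup X).map X.subtype with hP₀
  have hP₀p : IsPGroup p P₀ := P.2.map _
  have hP₀f : P₀.map f = B := by
    refine le_antisymm ?_ fun y hy => ?_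
    · rintro _ ⟨_, ⟨x, -, rfl⟩, rfl⟩
      exact x.2
    · have hs' : Function.Surjective (f.subgroupComap B) :=
        MonoidHom.subgroupComap_surjective_of_surjective f _ hfs
      have htop : (P.mapSurjective hs' : Subgroup B) = ⊤ :=
        ((P.mapSurjective hs').is_maximal' (hBp.to_subgroup ⊤) le_top).symm
      obtain ⟨x, hx, hxy⟩ := (htop ▸ mem_top (⟨y, hy⟩ : B) : (⟨y, hy⟩ : B) ∈ (P.mapSurjective hs' : Subgroup B))
      exact ⟨x, ⟨x, hx, rfl⟩, congrArg Subtype.val hxy⟩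
  set M := normalizer (P₀ : Set G)
  have hMtop : M.map f = ⊤ := by
    rw [Layer.map_normalizer_of_coprime hfs hker hP₀p, hP₀f, normalizer_eq_top]
  obtain ⟨a₁, ha₁, rfl⟩ := hMtop.ge (mem_top a)
  obtain ⟨k, hk⟩ := hap ⟨f a₁, mem_zpowers _⟩
  obtain ⟨a₀, ha₀, ha₀p, ha₀a⟩ := exists_pElement_mul f.ker (inferInstance) (a := a₁) (k := k)
    (MonoidHom.mem_ker.mpr (by simpa using congrArg Subtype.val hk))
  have ha₀M : a₀ ∈ M := zpowers_le.mpr ha₁ ha₀
  have hfa : f a₀ = f a₁ := by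
    have := MonoidHom.mem_ker.mp ha₀a
    rw [map_mul, map_inv, inv_mul_eq_one] at this
    exact this.symm
  rw [← hfa] at hq ⊢
  have hzM : zpowers a₀ ≤ M := zpowers_le.mpr ha₀M
  have hq₀ : ⁅⁅P₀, zpowers a₀⁆, zpowers a₀⁆ = ⊥ := by
    rw [← le_bot_iff, ← OddLocal.inf_pPrimeCore_eq_bot hP₀p, ← hN]
    refine le_inf ?_ ?_
    · have h1 : ⁅P₀, zpowers a₀⁆ ≤ P₀ := le_normalizer_iff_commutator_le_left.mp hzM
      exact (commutator_mono h1 le_rfl).trans h1
    · rw [← QuotientGroup.ker_mk' N, ← hf, ← Subgroup.map_eq_bot_iff, map_commutator, map_commutator,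
        MonoidHom.map_zpowers, hP₀f]
      exact hq
  have hsup : N ⊔ P₀ = X := by
    rw [sup_comm, ← QuotientGroup.ker_mk' N, ← hf, ← Subgroup.comap_map_eq, hP₀f]
  have h3 := hs P₀ a₀ ha₀p hP₀p ha₀M
    (fun x hx => by
      show f x ∈ pCore p (G ⧸ N)
      exact Core.le_pCore hBp (hP₀f ▸ mem_map_of_mem f hx))
    (hsup ▸ hX) hq₀
  let C := (centralizer (P₀ : Set G)).subgroupOf M
  let g : (M ⧸ C) →* (G ⧸ N) ⧸ centralizer (B : Set (G ⧸ N)) :=
    QuotientGroup.lift C ((QuotientGroup.mk' _).comp (f.comp M.subtype)) (by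
      intro x hx
      refine (QuotientGroup.eq_one_iff _).mpr (mem_centralizer_iff.mpr fun y hy => ?_)
      rw [SetLike.mem_coe, ← hP₀f] at hy
      obtain ⟨z, hz, rfl⟩ := hy
      show f z * f x = f x * f z
      exact (map_mul f z (x : G)).symm.trans
        ((congrArg f (mem_centralizer_iff.mp hx z hz)).trans (map_mul f (x : G) z)))
  have hgs : Function.Surjective g := by
    intro y
    obtain ⟨y, rfl⟩ := QuotientGroup.mk'_surjective _ y
    obtain ⟨x, hx, rfl⟩ := hMtop.ge (mem_top y)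
    exact ⟨QuotientGroup.mk' C ⟨x, hx⟩, rfl⟩
  exact mem_normalCore_of_mk_mem_pCore (Core.map_pCore_le_of_surjective hgs (mem_map_of_mem g h3)) S

/-- For a `p`-stable group, `G / O_{p'}(G)` has the `p`-stability of the ZJ-theorem. -/
theorem pStableNormal_quotient (hs : IsPStable p G) : PStableNormal p (G ⧸ pPrimeCore p G) :=
  pStableNormal_quotient_of fun P a hap hP ha h1 h2 hq =>
    hs.2.2 (zpowers a) P hap hP (fun g hg x hx => (mem_normalizer_iff.mp ((zpowers_le.mpr ha) hg) x).mp hx)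
      h1 h2 hq ⟨⟨a, ha⟩, mem_subgroupOf.mpr (mem_zpowers a), rfl⟩

/-- `G = O_{p'}(G) N(zInter e S)` for a `p`-stable, `p`-constrained group. -/
theorem sup_normalizer_zInter_eq_top (hp : p ≠ 2) {e : ℕ} (he : e = 0 ∨ Odd e)
    (hc : IsPConstrained p G) (hs : IsPStable p G) (P : Sylow p G) :
    pPrimeCore p G ⊔ normalizer (zInter e (P : Subgroup G) : Set G) = ⊤ := by
  set N := pPrimeCore p G with hN
  set f := QuotientGroup.mk' N with hf
  have hfs : Function.Surjective f := QuotientGroup.mk'_surjective N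
  have hker : f.ker = N := QuotientGroup.ker_mk' N
  have hnZ := normal_zInter hp he (pStableNormal_quotient hs)
    (isStronglyClosed_self (P.mapSurjective hfs)) (Layer.isPConstrained_iff_selfCentral.mp hc) (e := e)
  rw [Sylow.coe_mapSurjective, ← zInter_map_of_inf_ker f
    (by rw [hker]; exact OddLocal.inf_pPrimeCore_eq_bot P.2)] at hnZ
  have h2 := Layer.map_normalizer_of_coprime hfs (by rw [hker]; exact Core.coprime_card_pPrimeCore)
    (P.2.to_le (zInter_le e (P : Subgroup G)))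
  rw [normalizer_eq_top_iff.mpr hnZ] at h2
  have := congrArg (comap f) h2
  rwa [comap_map_eq, hker, comap_top, sup_comm] at this

end Cfsg.Agent.Fusion
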