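import Cfsg.Agent.Layer.PConstraint
import Cfsg.Agent.Core.MinimalNormal

/-!
# Solvable groups are `p`-solvable
-/

set_option autoImplicit false

namespace Cfsg.Agent.Fusion

open Subgroup

universe u

theorem isPSolvable_of_isSolvable {p : ℕ} [Fact p.Prime] (G : Type u) [Group G] [Finite G]
    [Group.IsSolvable G] : IsPSolvable p G := by
  induction hn : Nat.card G using Nat.strong_induction_on generalizing G with
  | _ n IH =>
  subst hn
  rcases subsingleton_or_nontrivial G with hs | hs
  · exact ⟨0, fun _ => ⊥, rfl, Subsingleton.elim _ _, monotone_const, fun _ => inferInstance,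
      fun i => i.elim0⟩
  obtain ⟨N, hN⟩ := Core.exists_isMinNormal (G := G)
  haveI := hN.normal
  obtain ⟨q, hq, hqN, -⟩ := hN.exists_isPGroup
  haveI : Fact q.Prime := ⟨hq⟩
  set f := QuotientGroup.mk' N with hf
  have hfs : Function.Surjective f := QuotientGroup.mk'_surjective N
  obtain ⟨n, S, h0, hl, hm, hnorm, hi⟩ := IH _ (Core.card_quotient_lt hN.ne_bot) (G ⧸ N) rfl
  let T : Fin (n + 2) → Subgroup G := Fin.cons ⊥ (fun i => (S i).comap f)
  refine ⟨n + 1, T, rfl, ?_, ?_, ?_, ?_⟩
  · show T (Fin.last (n + 1)) = ⊤
    rw [show Fin.last (n + 1) = (Fin.last n).succ from rfl, show T (Fin.last n).succ = (S (Fin.last n)).comap f from Fin.cons_succ _ _ _, hl, comap_top]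
  · refine Fin.monotone_iff_le_succ.mpr fun i => ?_
    induction i using Fin.cases with
    | zero => exact bot_le
    | succ j =>
      rw [← Fin.succ_castSucc]
      simp only [T, Fin.cons_succ]
      exact comap_mono (hm j.castSucc_le_succ)
  · intro i
    induction i using Fin.cases with
    | zero => simp only [T, Fin.cons_zero]; infer_instance
    | succ j => simp only [T, Fin.cons_succ]; exact (hnorm j).comap f
  · intro i
    induction i using Fin.cases with
    | zero =>
      simp only [T, Fin.castSucc_zero, Fin.cons_zero, Fin.cons_succ, h0, relIndex_bot_left,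
        MonoidHom.comap_bot, hf, QuotientGroup.ker_mk']
      obtain ⟨a, ha⟩ := IsPGroup.iff_card.mp hqN
      rcases eq_or_ne q p with rfl | hne
      · exact Or.inl ⟨a, ha⟩
      · exact Or.inr (by rw [ha]; exact ((Nat.coprime_primes hq Fact.out).mpr hne).pow_left a)
    | succ j =>
      rw [← Fin.succ_castSucc]
      simp only [T, Fin.cons_succ]
      rw [relIndex_comap, map_comap_eq_self_of_surjective hfs]
      exact hi j

end Cfsg.Agent.Fusion
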