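import Mathlib.GroupTheory.Transfer
import Mathlib.GroupTheory.Commutator.Basic
import Mathlib.Algebra.Group.Subgroup.Finite
import Cfsg.Agent.Fusion.Transfer
import Cfsg.Agent.Fusion.Alperin

/-!
# Abelian normal subgroups: the norm map; abelian Hall subgroups are conjugate
-/

namespace Cfsg.Agent.Fusion

set_option linter.unusedSectionVars false

open Subgroup
open scoped commutatorElement IsMulCommutative

universe u

variable {G : Type u} [Group G]

/-- The norm map of an abelian normal subgroup `A` of finite index: a conjugation invariant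
endomorphism with central values, congruent to the `|G:A|`-th power modulo `⁅A, G⁆`. -/
theorem exists_norm_hom (A : Subgroup G) [A.Normal] [hA : IsMulCommutative A] [A.FiniteIndex] :
    ∃ ψ : A →* A, (∀ a, (ψ a : G) ∈ center G) ∧
      (∀ (g : G) (a : A) (h : g * a * g⁻¹ ∈ A), ψ ⟨g * a * g⁻¹, h⟩ = ψ a) ∧
      (∀ a : A, (a : G) ∈ center G → (ψ a : G) = (a : G) ^ A.index) ∧
      ∀ a : A, ((a : G) ^ A.index)⁻¹ * (ψ a : G) ∈ ⁅A, (⊤ : Subgroup G)⁆ := by
  classical
  let _ := A.fintypeQuotientOfFiniteIndex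
  let c : G → A → A := fun g a => ⟨g * a * g⁻¹, (inferInstance : A.Normal).conj_mem a a.2 g⟩
  have hc : ∀ g h : G, (g : G ⧸ A) = (h : G ⧸ A) → ∀ a, c g a = c h a := by
    intro g h hgh a
    have hm : g⁻¹ * h ∈ A := QuotientGroup.eq.mp hgh
    have hcomm : g⁻¹ * h * a = a * (g⁻¹ * h) :=
      congrArg (fun y : A => (y : G)) (mul_comm (⟨_, hm⟩ : A) a)
    apply Subtype.ext
    show g * a * g⁻¹ = h * a * h⁻¹
    calc g * a * g⁻¹ = g * (a * (g⁻¹ * h)) * h⁻¹ := by group
      _ = g * (g⁻¹ * h * a) * h⁻¹ := by rw [hcomm]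
      _ = h * a * h⁻¹ := by group
  let f : A → A := fun a => ∏ q : G ⧸ A, c q.out a
  have hf : ∀ a b, f (a * b) = f a * f b := by
    intro a b
    simp only [f, ← Finset.prod_mul_distrib]
    refine Finset.prod_congr rfl fun q _ => ?_
    apply Subtype.ext
    simp [c, mul_assoc]
  let ψ : A →* A := MonoidHom.mk' f hf
  have hperm : ∀ (g : G) (a : A), (∏ q : G ⧸ A, c (g * q.out) a) = f a := by
    intro g a
    calc (∏ q : G ⧸ A, c (g * q.out) a)
        = ∏ q : G ⧸ A, c (Quotient.out ((g : G ⧸ A) * q)) a := by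
          refine Finset.prod_congr rfl fun q _ => hc _ _ ?_ a
          simp
      _ = f a := Fintype.prod_equiv (Equiv.mulLeft (g : G ⧸ A)) _ _ fun q => rfl
  have hcent : ∀ (g : G) (a : A), g * (ψ a : G) * g⁻¹ = (ψ a : G) := by
    intro g a
    conv_rhs => rw [show ψ a = f a from rfl, ← hperm g a]
    show g * ((f a : A) : G) * g⁻¹ = _
    let cg : A →* A := MonoidHom.mk' (c g) fun x y => Subtype.ext (by simp [c, mul_assoc])
    rw [show g * ((f a : A) : G) * g⁻¹ = ((cg (f a) : A) : G) from rfl, map_prod]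
    refine congrArg Subtype.val (Finset.prod_congr rfl fun q _ => Subtype.ext ?_)
    show g * (Quotient.out q * a * (Quotient.out q)⁻¹) * g⁻¹ =
      g * Quotient.out q * a * (g * Quotient.out q)⁻¹
    group
  have hidx : A.index = (Finset.univ : Finset (G ⧸ A)).card := by
    rw [index_eq_card, Nat.card_eq_fintype_card, Finset.card_univ]
  refine ⟨ψ, fun a => ?_, ?_, ?_, ?_⟩
  · rw [mem_center_iff]
    intro g
    calc g * (ψ a : G) = g * (ψ a : G) * g⁻¹ * g := by group
      _ = (ψ a : G) * g := by rw [hcent]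
  · intro g a h
    show f _ = f a
    calc f ⟨g * a * g⁻¹, h⟩ = ∏ q : G ⧸ A, c (q.out * g) a := by
          refine Finset.prod_congr rfl fun q _ => Subtype.ext ?_
          show Quotient.out q * (g * a * g⁻¹) * (Quotient.out q)⁻¹ =
            Quotient.out q * g * a * (Quotient.out q * g)⁻¹
          group
      _ = ∏ q : G ⧸ A, c (Quotient.out (q * (g : G ⧸ A))) a := by
          refine Finset.prod_congr rfl fun q _ => hc _ _ ?_ a
          simp
      _ = f a := Fintype.prod_equiv (Equiv.mulRight (g : G ⧸ A)) _ _ fun q => rfl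
  · intro a ha
    have : ∀ g : G, c g a = a := fun g => Subtype.ext (by
      show g * a * g⁻¹ = a
      rw [mem_center_iff.mp ha g, mul_inv_cancel_right])
    show ((∏ q : G ⧸ A, c q.out a : A) : G) = _
    rw [Finset.prod_congr rfl fun q _ => this q.out, Finset.prod_const, ← hidx]
    rfl
  · intro a
    have hmem : (a ^ A.index)⁻¹ * ψ a ∈ (⁅A, (⊤ : Subgroup G)⁆).subgroupOf A := by
      rw [show ψ a = ∏ q : G ⧸ A, c q.out a from rfl, hidx, ← Finset.prod_const,
        ← Finset.prod_inv_distrib, ← Finset.prod_mul_distrib]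
      refine prod_mem fun q _ => ?_
      show (a : G)⁻¹ * (Quotient.out q * a * (Quotient.out q)⁻¹) ∈ ⁅A, (⊤ : Subgroup G)⁆
      rw [show (a : G)⁻¹ * (Quotient.out q * a * (Quotient.out q)⁻¹) =
        ⁅(a : G)⁻¹, Quotient.out q⁆ by rw [commutatorElement_def]; group]
      exact commutator_mem_commutator (inv_mem a.2) (mem_top _)
    simpa [mem_subgroupOf] using hmem

variable [Finite G] {q : ℕ} [Fact q.Prime]

theorem map_pResidual_mono {H L : Subgroup G} (h : H ≤ L) :
    (pResidual q H).map H.subtype ≤ (pResidual q L).map L.subtype := by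
  rw [show H.subtype = L.subtype.comp (inclusion h) from rfl, ← map_map]
  exact map_mono (map_pResidual_le _)

theorem card_map_pResidual_mul {H Q : Subgroup G} (hQH : Q ≤ H) (hQ : IsPGroup q Q)
    (hQi : ¬ q ∣ Q.relIndex H) (hc : HasNormalPComplement q H) :
    Nat.card ((pResidual q H).map H.subtype) * Nat.card Q = Nat.card H ∧
      H ≤ (pResidual q H).map H.subtype ⊔ Q := by
  have hcomp : (pResidual q H).IsComplement' (Q.subgroupOf H) :=
    isComplement'_pResidual hc ((hQ.comap_subtype (K := H)).toSylow hQi)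
  refine ⟨?_, fun x hx => ?_⟩
  · rw [card_map_of_injective H.subtype_injective, ← hcomp.card_mul_card]
    congr 1
    exact (Nat.card_congr (subgroupOfEquivOfLe hQH).toEquiv).symm
  · have hmem : (⟨x, hx⟩ : H) ∈ pResidual q H ⊔ Q.subgroupOf H :=
      hcomp.sup_eq_top.ge (mem_top _)
    have := mem_map_of_mem H.subtype hmem
    rw [Subgroup.map_sup, map_subgroupOf_eq_of_le hQH] at this
    exact this

/-- Abelian Hall subgroups of the same order are conjugate. -/
theorem exists_conjSub_eq_of_isMulCommutative_hall {L H K : Subgroup G} (hH : H ≤ L) (hK : K ≤ L)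
    (hHc : IsMulCommutative H) (hKc : IsMulCommutative K)
    (hHall : Nat.Coprime (Nat.card H) (H.relIndex L)) (hcard : Nat.card K = Nat.card H) :
    ∃ l ∈ L, conjSub l H = K := by
  induction hn : Nat.card L using Nat.strong_induction_on generalizing L H K with
  | _ n IH =>
  subst hn
  rcases eq_or_ne (Nat.card H) 1 with h1 | h1
  · refine ⟨1, one_mem L, ?_⟩
    rw [conjSub_one, card_eq_one.mp h1, card_eq_one.mp (hcard.trans h1)]
  obtain ⟨r, hr, hrH⟩ := Nat.exists_prime_and_dvd h1
  have := Fact.mk hr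
  have hHL : ∀ {X : Subgroup G}, X ≤ L → Nat.card X = Nat.card H →
      X.relIndex L = H.relIndex L := fun {X} hX hXc => by
    have e1 := card_mul_index (X.subgroupOf L)
    have e2 := card_mul_index (H.subgroupOf L)
    rw [Nat.card_congr (subgroupOfEquivOfLe hX).toEquiv] at e1
    rw [Nat.card_congr (subgroupOfEquivOfLe hH).toEquiv] at e2
    exact Nat.eq_of_mul_eq_mul_left Nat.card_pos ((hXc ▸ e1).trans e2.symm)
  -- a Sylow subgroup of a Hall subgroup
  have syl : ∀ {X : Subgroup G}, X ≤ L → Nat.card X = Nat.card H →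
      ∃ Q : Subgroup G, Q ≤ X ∧ IsPGroup r Q ∧ ¬ r ∣ Q.relIndex L ∧ ¬ r ∣ Q.relIndex X ∧
        Q ≠ ⊥ := by
    intro X hX hXc
    obtain ⟨P⟩ := (inferInstance : Nonempty (Sylow r X))
    have hPX : ¬ r ∣ ((P : Subgroup X).map X.subtype).relIndex X := by
      rw [relIndex, subgroupOf, comap_map_eq_self_of_injective X.subtype_injective]
      exact P.not_dvd_index
    refine ⟨_, map_subtype_le _, P.2.map _, ?_, hPX, fun hb => ?_⟩
    · rw [← relIndex_mul_relIndex _ X L (map_subtype_le _) hX]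
      intro hd
      rcases hr.dvd_mul.mp hd with h | h
      · exact hPX h
      · exact hr.not_dvd_one (hHall ▸ Nat.dvd_gcd hrH (hHL hX hXc ▸ h))
    · rw [map_eq_bot_iff_of_injective _ X.subtype_injective] at hb
      exact P.ne_bot_of_dvd_card (hXc ▸ hrH) hb
  obtain ⟨Q₁, hQ₁H, hQ₁, hQ₁i, -, -⟩ := syl hH rfl
  obtain ⟨Q, hQK, hQ, hQi, hQKi, hQne⟩ := syl hK hcard
  obtain ⟨m, hm, hle⟩ := exists_conjSub_le_of_not_dvd_relIndex (hQK.trans hK) hQ hQi
    (hQ₁H.trans hH) hQ₁
  have hQ₁Q : conjSub m Q₁ = Q :=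
    (eq_of_isPGroup_of_not_dvd_relIndex
      (le_trans (conjSub_mono (hQ₁H.trans hH)) (conjSub_eq_of_mem_normalizer (le_normalizer hm)).le)
      (isPGroup_conjSub hQ₁) (not_dvd_relIndex_conjSub hm hQ₁i) (hQK.trans hK) hQ hle).symm
  have hH₁L : conjSub m H ≤ L :=
    (conjSub_mono hH).trans (conjSub_eq_of_mem_normalizer (le_normalizer hm)).le
  have hQH₁ : Q ≤ conjSub m H := hQ₁Q ▸ conjSub_mono hQ₁H
  have hH₁c : IsMulCommutative (conjSub m H) := map_isMulCommutative H _
  have hH₁card := card_conjSub m H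
  suffices ∃ l ∈ L, conjSub l (conjSub m H) = K by
    obtain ⟨l, hl, hle⟩ := this
    exact ⟨m * l, mul_mem hm hl, by rw [← conjSub_conjSub, hle]⟩
  set H₁ := conjSub m H
  have hH₁rel := hHL hH₁L hH₁card
  have hcQ : ∀ {X : Subgroup G}, IsMulCommutative X → Q ≤ X → X ≤ centralizer (Q : Set G) :=
    fun {X} hX hQX => (le_centralizer_iff_isMulCommutative.mpr hX).trans (centralizer_le hQX)
  rcases (inf_le_left : L ⊓ centralizer (Q : Set G) ≤ L).lt_or_eq with hlt | heq
  · obtain ⟨l, hl, hle⟩ := IH (Nat.card (L ⊓ centralizer (Q : Set G) : Subgroup G))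
      (Set.Finite.card_lt_card (Set.toFinite _) (SetLike.coe_ssubset_coe.mpr hlt))
      (le_inf hH₁L (hcQ hH₁c hQH₁)) (le_inf hK (hcQ hKc hQK)) hH₁c hKc
      (Nat.Coprime.coprime_dvd_right
        (⟨_, (relIndex_mul_relIndex H₁ (L ⊓ centralizer (Q : Set G)) L
          (le_inf hH₁L (hcQ hH₁c hQH₁)) inf_le_left).symm⟩ : _ ∣ H₁.relIndex L)
        (by rw [hH₁card, hH₁rel]; exact hHall)) (hcard.trans hH₁card.symm) rfl
    exact ⟨l, hl.1, hle⟩
  have hLC : L ≤ centralizer (Q : Set G) := heq ▸ inf_le_right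
  have hLcomp : HasNormalPComplement r L := by
    refine hasNormalPComplement_of_normalizer_le_centralizer
      ((hQ.comap_subtype (K := L)).toSylow hQi) fun x _ => ?_
    rw [mem_centralizer_iff]
    intro y hy
    exact Subtype.ext (mem_centralizer_iff.mp (hLC x.2) (y : G) hy)
  have habc : ∀ {X : Subgroup G}, IsMulCommutative X → Q ≤ X → ¬ r ∣ Q.relIndex X →
      HasNormalPComplement r X := fun {X} hX hQX hQi' =>
    hasNormalPComplement_of_normalizer_le_centralizer
      ((hQ.comap_subtype (K := X)).toSylow hQi') fun x _ => mem_centralizer_iff.mpr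
        fun y _ => haveI := hX; mul_comm y x
  have hQH₁i : ¬ r ∣ Q.relIndex H₁ := fun hd =>
    hQi (hd.trans ⟨_, (relIndex_mul_relIndex Q H₁ L hQH₁ hH₁L).symm⟩)
  obtain ⟨eH, sH⟩ := card_map_pResidual_mul hQH₁ hQ hQH₁i (habc hH₁c hQH₁ hQH₁i)
  obtain ⟨eK, sK⟩ := card_map_pResidual_mul hQK hQ hQKi (habc hKc hQK hQKi)
  obtain ⟨eL, -⟩ := card_map_pResidual_mul (hQK.trans hK) hQ hQi hLcomp
  set A := (pResidual r H₁).map H₁.subtype
  set B := (pResidual r K).map K.subtype
  set R := (pResidual r L).map L.subtype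
  have hQpos : 1 < Nat.card Q := (one_lt_card_iff_ne_bot Q).mpr hQne
  have hlt : Nat.card R < Nat.card L := by
    rw [← eL]
    exact lt_mul_of_one_lt_right Nat.card_pos hQpos
  have hBA : Nat.card B = Nat.card A :=
    Nat.eq_of_mul_eq_mul_right Nat.card_pos (eK.trans ((hcard.trans hH₁card.symm).trans eH.symm))
  have hAR : A ≤ R := map_pResidual_mono hH₁L
  have hrel : A.relIndex R = H₁.relIndex L := by
    have e1 := card_mul_index (A.subgroupOf R)
    have e2 := card_mul_index (H₁.subgroupOf L)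
    rw [Nat.card_congr (subgroupOfEquivOfLe hAR).toEquiv] at e1
    rw [Nat.card_congr (subgroupOfEquivOfLe hH₁L).toEquiv, ← eH, ← eL] at e2
    change Nat.card A * A.relIndex R = Nat.card R at e1
    change Nat.card A * Nat.card Q * H₁.relIndex L = Nat.card R * Nat.card Q at e2
    have : Nat.card A * H₁.relIndex L = Nat.card R :=
      Nat.eq_of_mul_eq_mul_right (Nat.card_pos (α := Q)) (by rw [← e2]; ring)
    exact Nat.eq_of_mul_eq_mul_left Nat.card_pos (e1.trans this.symm)
  have hAc : IsMulCommutative A := map_isMulCommutative _ _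
  have hBc : IsMulCommutative B := map_isMulCommutative _ _
  obtain ⟨l, hl, hlA⟩ := IH _ hlt hAR (map_pResidual_mono hK) hAc hBc (by
    rw [hrel, hH₁rel]
    refine Nat.Coprime.coprime_dvd_left ?_ hHall
    rw [← hH₁card]
    exact ⟨_, eH.symm⟩) hBA rfl
  have hlL : l ∈ L := map_subtype_le _ hl
  refine ⟨l, hlL, eq_of_le_of_card_ge ?_ (by rw [card_conjSub, hH₁card, hcard])⟩
  refine (conjSub_mono sH).trans ?_
  rw [conjSub, Subgroup.map_sup]
  refine sup_le ?_ ?_
  · rw [← conjSub, hlA]
    exact map_subtype_le _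
  · refine le_trans (le_of_eq ?_) hQK
    rw [← conjSub]
    refine conjSub_eq_of_mem_normalizer (centralizer_le_normalizer _ (hLC hlL))

end Cfsg.Agent.Fusion
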