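import Cfsg.Agent.Coprime.PCoreTools
import Cfsg.Agent.Coprime.Basic
import Cfsg.Agent.Thompson.Stable

/-!
# Fusion and the Sylow subgroup of `O_{p',p}(G)`
-/

set_option autoImplicit false
set_option maxHeartbeats 400000

namespace Cfsg.Agent.Fusion

open Subgroup Cfsg
open scoped Pointwise

universe u

variable {G : Type u} [Group G] [Finite G] {p : ℕ} [Fact p.Prime]

/-- Frattini argument for the intersection of a Sylow subgroup with a normal subgroup. -/
theorem normalizer_sylow_inf_sup_eq_top (P : Sylow p G) (K : Subgroup G) [K.Normal] :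
    normalizer (((P : Subgroup G) ⊓ K : Subgroup G) : Set G) ⊔ K = ⊤ := by
  let Q : Sylow p K := IsPGroup.toSylow (P := (P : Subgroup G).subgroupOf K)
    (P.isPGroup'.comap_of_injective K.subtype K.subtype_injective)
    (Thompson.not_dvd_relIndex_sylow P K)
  have hfr := Sylow.normalizer_sup_eq_top Q
  rwa [show (Q : Subgroup K).map K.subtype = (P : Subgroup G) ⊓ K from
    subgroupOf_map_subtype _ _] at hfr

theorem pPrimePCore_eq_sup (P : Sylow p G) :
    pPrimePCore p G = pPrimeCore p G ⊔ ((P : Subgroup G) ⊓ pPrimePCore p G) := by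
  haveI : (pPrimePCore p G).Normal := @Subgroup.normal_of_characteristic _ _ _
    Coprime.pPrimePCore_characteristic
  have hDM : pPrimeCore p G ≤ pPrimePCore p G := fun x hx => by
    rw [pPrimePCore, mem_comap, show QuotientGroup.mk' (pPrimeCore p G) x = 1 from
      (QuotientGroup.eq_one_iff x).mpr hx]
    exact one_mem _
  have hle : pPrimeCore p G ⊔ ((P : Subgroup G) ⊓ pPrimePCore p G) ≤ pPrimePCore p G :=
    sup_le hDM inf_le_right
  refine le_antisymm ?_ hle
  rw [← relIndex_eq_one]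
  by_contra h
  obtain ⟨q, hq, hqd⟩ := Nat.exists_prime_and_dvd h
  have h1 := hqd.trans (relIndex_dvd_of_le_left (pPrimePCore p G)
    (le_sup_left : pPrimeCore p G ≤ pPrimeCore p G ⊔ ((P : Subgroup G) ⊓ pPrimePCore p G)))
  have h2 := hqd.trans (relIndex_dvd_of_le_left (pPrimePCore p G)
    (le_sup_right : (P : Subgroup G) ⊓ pPrimePCore p G ≤
      pPrimeCore p G ⊔ ((P : Subgroup G) ⊓ pPrimePCore p G)))
  rw [inf_relIndex_right] at h2
  have h3 : (pPrimeCore p G).relIndex (pPrimePCore p G) =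
      Nat.card (pCore p (G ⧸ pPrimeCore p G)) := by
    conv_lhs => arg 1; rw [← QuotientGroup.ker_mk' (pPrimeCore p G)]
    rw [← MonoidHom.comap_bot, relIndex_comap, relIndex_bot_left, pPrimePCore,
      map_comap_eq_self_of_surjective (QuotientGroup.mk'_surjective _)]
  rw [h3] at h1
  obtain ⟨a, ha⟩ := IsPGroup.iff_card.mp (Core.pCore_isPGroup (p := p) (G := G ⧸ pPrimeCore p G))
  rw [ha] at h1
  have := (Nat.prime_dvd_prime_iff_eq hq Fact.out).mp (hq.dvd_of_dvd_pow h1)
  subst this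
  exact Thompson.not_dvd_relIndex_sylow P (pPrimePCore q G) h2

/-- `G = O_{p'}(G) N_G(H)` for `H = P ∩ O_{p',p}(G)`. -/
theorem exists_pPrimeCore_mul (P : Sylow p G) (g : G) :
    ∃ d ∈ pPrimeCore p G,
      ∃ n ∈ normalizer (((P : Subgroup G) ⊓ pPrimePCore p G : Subgroup G) : Set G), g = d * n := by
  haveI : (pPrimePCore p G).Normal := @Subgroup.normal_of_characteristic _ _ _
    Coprime.pPrimePCore_characteristic
  have h : (⊤ : Subgroup G) ≤ pPrimeCore p G ⊔
      normalizer (((P : Subgroup G) ⊓ pPrimePCore p G : Subgroup G) : Set G) := by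
    rw [← normalizer_sylow_inf_sup_eq_top P (pPrimePCore p G)]
    refine sup_le le_sup_right ((pPrimePCore_eq_sup P).le.trans (sup_le le_sup_left ?_))
    exact le_normalizer.trans le_sup_right
  have hg : g ∈ (↑(pPrimeCore p G ⊔
      normalizer (((P : Subgroup G) ⊓ pPrimePCore p G : Subgroup G) : Set G)) : Set G) :=
    h (mem_top g)
  rw [normal_mul] at hg
  obtain ⟨d, hd, n, hn, rfl⟩ := hg
  exact ⟨d, hd, n, hn, rfl⟩

theorem le_normalizer_inf_pPrimePCore (P : Sylow p G) :
    (P : Subgroup G) ≤ normalizer (((P : Subgroup G) ⊓ pPrimePCore p G : Subgroup G) : Set G) := by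
  haveI : (pPrimePCore p G).Normal := @Subgroup.normal_of_characteristic _ _ _
    Coprime.pPrimePCore_characteristic
  exact le_trans (le_inf Subgroup.le_normalizer (by rw [normalizer_eq_top]; exact le_top))
    (Subgroup.inf_normalizer_le_normalizer_inf)

/-- Conjugation of a `p`-element of `N_G(H)` into `N_G(H)` by an element of `O_{p'}(G)`
factors through the centralizers of the element and of `H`. -/
theorem exists_centralizer_factor (P : Sylow p G) {y d : G}
    (hy : y ∈ normalizer (((P : Subgroup G) ⊓ pPrimePCore p G : Subgroup G) : Set G))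
    (hord : ∃ k : ℕ, orderOf y = p ^ k) (hd : d ∈ pPrimeCore p G)
    (hz : d⁻¹ * y * d ∈ normalizer (((P : Subgroup G) ⊓ pPrimePCore p G : Subgroup G) : Set G)) :
    ∃ d₁ ∈ pPrimeCore p G ⊓ centralizer ({y} : Set G),
      ∃ d₂ ∈ pPrimeCore p G ⊓ centralizer (((P : Subgroup G) ⊓ pPrimePCore p G : Subgroup G) : Set G),
        d = d₁ * d₂ := by
  set H := (P : Subgroup G) ⊓ pPrimePCore p G with hH
  set N := normalizer (H : Set G) with hN
  set D := pPrimeCore p G with hD
  set K := D ⊓ N with hK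
  set z := d⁻¹ * y * d with hzd
  have hDH : D ⊓ H = ⊥ :=
    inf_eq_bot_of_coprime (by
      obtain ⟨a, ha⟩ := IsPGroup.iff_card.mp
        (P.isPGroup'.to_le (inf_le_left : H ≤ (P : Subgroup G)))
      rw [ha]; exact (Core.coprime_card_pPrimeCore (G := G) (p := p)).pow_right a)
  have hKC : K ≤ centralizer (H : Set G) := fun e he =>
    Coprime.mem_centralizer_of_mem_normalizer (le_top.trans (normalizer_eq_top D).ge) hDH he.1 he.2
  have hyK : zpowers y ≤ normalizer (K : Set G) := by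
    rw [zpowers_le]
    exact (le_inf (show N ≤ normalizer (D : Set G) from le_top.trans (normalizer_eq_top D).ge)
      Subgroup.le_normalizer).trans Subgroup.inf_normalizer_le_normalizer_inf hy
  have he : z * y⁻¹ ∈ K := by
    refine mem_inf.mpr ⟨?_, mul_mem hz (inv_mem hy)⟩
    rw [show z * y⁻¹ = d⁻¹ * (y * d * y⁻¹) by rw [hzd]; group]
    exact mul_mem (inv_mem hd) ((inferInstance : D.Normal).conj_mem d hd y)
  obtain ⟨k, hk⟩ := hord
  have hoz : orderOf z = orderOf y := by
    rw [hzd]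
    simpa using (SemiconjBy.orderOf_eq d⁻¹ (x := y) (y := d⁻¹ * y * d)
      (by simp [SemiconjBy, mul_assoc])).symm
  have hcopK : (Nat.card (zpowers y)).Coprime (Nat.card K) := by
    rw [Nat.card_zpowers, hk]
    exact ((Core.coprime_card_pPrimeCore (G := G) (p := p)).coprime_dvd_left
      (card_dvd_of_le inf_le_left)).symm.pow_left k
  haveI : IsMulCommutative (zpowers y) := inferInstance
  obtain ⟨c, hc, hcA⟩ := Coprime.exists_conj_eq (B := zpowers z) hyK hcopK
    (Or.inl inferInstance)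
    (by
      rw [zpowers_le, show z = (z * y⁻¹) * y by group]
      exact mul_mem_sup he (mem_zpowers y))
    (by rw [Nat.card_zpowers, Nat.card_zpowers, hoz])
  have hcD : c ∈ D := (mem_inf.mp hc).1
  have hcz : c * z * c⁻¹ ∈ zpowers y := by
    rw [← hcA, mem_pointwise_smul_iff_inv_smul_mem]
    simpa [MulAut.smul_def, mul_assoc] using mem_zpowers z
  have hsub : c * z * c⁻¹ * y⁻¹ ∈ D ⊓ zpowers y := by
    refine mem_inf.mpr ⟨?_, mul_mem hcz (inv_mem (mem_zpowers y))⟩
    rw [show c * z * c⁻¹ * y⁻¹ = c * (z * y⁻¹) * (y * c⁻¹ * y⁻¹) by group]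
    exact mul_mem (mul_mem hcD (mem_inf.mp he).1)
      ((inferInstance : D.Normal).conj_mem _ (inv_mem hcD) y)
  have hbot : D ⊓ zpowers y = ⊥ := inf_eq_bot_of_coprime (by
    rw [Nat.card_zpowers, hk]; exact (Core.coprime_card_pPrimeCore (G := G) (p := p)).pow_right k)
  rw [hbot, mem_bot, mul_inv_eq_one] at hsub
  refine ⟨d * c⁻¹, mem_inf.mpr ⟨mul_mem hd (inv_mem hcD), ?_⟩, c, ⟨hcD, hKC hc⟩, by group⟩
  rw [mem_centralizer_singleton_iff]
  calc d * c⁻¹ * y = d * c⁻¹ * (c * z * c⁻¹) := by rw [hsub]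
    _ = y * (d * c⁻¹) := by rw [hzd]; group

/-- `N_G(P ∩ O_{p',p}(G))` controls fusion of elements of `P`. -/
theorem exists_normalizer_conj_eq (P : Sylow p G) {x y : G} (hx : x ∈ (P : Subgroup G))
    (hy : y ∈ (P : Subgroup G)) {g : G} (hg : g * x * g⁻¹ = y) :
    ∃ n ∈ normalizer (((P : Subgroup G) ⊓ pPrimePCore p G : Subgroup G) : Set G),
      n * x * n⁻¹ = y := by
  set N := normalizer (((P : Subgroup G) ⊓ pPrimePCore p G : Subgroup G) : Set G) with hN
  obtain ⟨d, hd, n, hn, rfl⟩ := exists_pPrimeCore_mul P g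
  have hxN : x ∈ N := le_normalizer_inf_pPrimePCore P hx
  have hyN : y ∈ N := le_normalizer_inf_pPrimePCore P hy
  have hmid : d⁻¹ * y * d = n * x * n⁻¹ := by rw [← hg]; group
  obtain ⟨d₁, h1, d₂, h2, rfl⟩ := exists_centralizer_factor P hyN
    (by
      obtain ⟨k, hk⟩ := IsPGroup.iff_orderOf.mp P.isPGroup' ⟨y, hy⟩
      exact ⟨k, by rwa [← Subgroup.orderOf_coe] at hk⟩)
    hd (by rw [hmid]; exact mul_mem (mul_mem hn hxN) (inv_mem hn))
  have hd1 := (mem_inf.mp h1).2
  have hd2 := (mem_inf.mp h2).2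
  refine ⟨d₂ * n, mul_mem (centralizer_le_normalizer _ hd2) hn, ?_⟩
  rw [mem_centralizer_singleton_iff] at hd1
  calc d₂ * n * x * (d₂ * n)⁻¹ = d₂ * (n * x * n⁻¹) * d₂⁻¹ := by group
    _ = d₁⁻¹ * (y * d₁) := by rw [← hmid]; group
    _ = y := by rw [← hd1]; group

end Cfsg.Agent.Fusion
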