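import Cfsg.Agent.Fusion.OddGL2

/-!
# Odd solvable groups acting on elementary abelian groups of order at most `p²`
-/

set_option autoImplicit false
set_option maxHeartbeats 400000

namespace Cfsg.Agent.Fusion

open Matrix Cfsg

theorem exists_mulAut_matrix {p : ℕ} [hp : Fact p.Prime] (V : Type*) [CommGroup V] [Finite V]
    [Module (ZMod p) (Additive V)] (hd : Nat.card V = p ^ 2) :
    ∃ ψ : MulAut V →* Matrix (Fin 2) (Fin 2) (ZMod p), Function.Injective ψ := by
  haveI : Module.Finite (ZMod p) (Additive V) := Module.Finite.of_finite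
  have hrank : Module.finrank (ZMod p) (Additive V) = 2 := by
    have h1 := Module.natCard_eq_pow_finrank (K := ZMod p) (V := Additive V)
    rw [Nat.card_congr Additive.toMul, hd, Nat.card_zmod] at h1
    exact (Nat.pow_right_injective hp.out.two_le h1).symm
  let e : Additive V ≃ₗ[ZMod p] (Fin 2 → ZMod p) :=
    (Module.finBasisOfFinrankEq (ZMod p) (Additive V) hrank).equivFun
  let T : MulAut V → Matrix (Fin 2) (Fin 2) (ZMod p) := fun f => LinearMap.toMatrix'
      ((e.toLinearMap.comp ((MonoidHom.toAdditive (MulEquiv.toMonoidHom f)).toZModLinearMap p)).comp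
        e.symm.toLinearMap)
  have hT : ∀ (f : MulAut V) (v : Fin 2 → ZMod p), Matrix.toLin' (T f) v =
      e (Additive.ofMul (f (e.symm v).toMul)) := fun f v => by
    simp only [T, Matrix.toLin'_toMatrix']
    rfl
  let ψ : MulAut V →* Matrix (Fin 2) (Fin 2) (ZMod p) :=
    { toFun := T
      map_one' := by
        apply Matrix.toLin'.injective
        refine LinearMap.ext fun v => ?_
        rw [hT, Matrix.toLin'_one]
        simp
      map_mul' := fun f g => by
        apply Matrix.toLin'.injective
        refine LinearMap.ext fun v => ?_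
        rw [hT, Matrix.toLin'_mul, LinearMap.comp_apply, hT, hT]
        simp }
  have hψ : Function.Injective ψ := by
    intro f g h
    apply MulEquiv.ext
    intro x
    have h1 : Matrix.toLin' (T f) (e (Additive.ofMul x)) = Matrix.toLin' (T g) (e (Additive.ofMul x)) :=
      congrArg (fun M => Matrix.toLin' M (e (Additive.ofMul x))) h
    rw [hT, hT, LinearEquiv.symm_apply_apply] at h1
    exact Additive.ofMul.injective (e.injective h1)
  exact ⟨ψ, hψ⟩

theorem exists_pow_eq_one_of_odd_aut {p : ℕ} [hp : Fact p.Prime] (hp2 : p ≠ 2) {V : Type*}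
    [Group V] [Finite V] (hc : ∀ x y : V, x * y = y * x) (hexp : ∀ x : V, x ^ p = 1)
    (hcard : Nat.card V ≤ p ^ 2) {A : Type*} [Group A] [Finite A] [Group.IsSolvable A]
    (hodd : Odd (Nat.card A)) (φ : A →* MulAut V) :
    ∀ a ∈ commutator A, ∃ k : ℕ, φ a ^ p ^ k = 1 := by
  intro a ha
  have hV : IsPGroup p V := fun x => ⟨1, by rw [pow_one]; exact hexp x⟩
  obtain ⟨d, hd⟩ := IsPGroup.iff_card.mp hV
  have hd2 : d ≤ 2 := (Nat.pow_le_pow_iff_right hp.out.one_lt).mp (hd ▸ hcard)
  by_cases hd' : d = 2
  · subst hd'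
    let cg : CommGroup V := { (inferInstance : Group V) with mul_comm := hc }
    obtain ⟨ψ, hψ⟩ := @exists_mulAut_matrix p hp V cg _ (@AddCommGroup.zmodModule p (Additive V)
      (@Additive.addCommGroup V cg) (fun x => by
        change Additive.ofMul (x.toMul ^ p) = 0
        rw [hexp]; rfl)) hd
    set Φ : A →* GL (Fin 2) (ZMod p) := (ψ.comp φ).toHomUnits with hΦ
    have hXodd : Odd (Nat.card Φ.range) :=
      Odd.of_dvd_nat hodd (Subgroup.card_range_dvd Φ)
    haveI : Group.IsSolvable Φ.range := Group.isSolvable_of_surjective Φ.rangeRestrict_surjective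
    have hmem : Φ.rangeRestrict a ∈ commutator Φ.range := by
      have h1 : (commutator A).map Φ.rangeRestrict ≤ commutator Φ.range := by
        rw [commutator_def, Subgroup.map_commutator, commutator_def]
        exact Subgroup.commutator_mono le_top le_top
      exact h1 ⟨a, ha, rfl⟩
    obtain ⟨k, hk⟩ := OddGL2.isPGroup_commutator hp2 Φ.range hXodd ⟨_, hmem⟩
    refine ⟨k, hψ ?_⟩
    rw [map_pow, map_one]
    exact congrArg (fun w : commutator Φ.range =>
      ((((w : Φ.range) : GL (Fin 2) (ZMod p))) : Matrix (Fin 2) (Fin 2) (ZMod p))) hk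
  · have hd1 : d ≤ 1 := by omega
    haveI : IsCyclic V := by
      rcases Nat.le_one_iff_eq_zero_or_eq_one.mp hd1 with rfl | rfl
      · haveI : Subsingleton V :=
          (Nat.card_eq_one_iff_unique.mp (by rw [hd, pow_zero])).1
        infer_instance
      · exact isCyclic_of_prime_card (p := p) (by rw [hd, pow_one])
    obtain ⟨g, hg⟩ := IsCyclic.exists_generator (α := V)
    have hcomm : ∀ f f' : MulAut V, f * f' = f' * f := by
      intro f f'
      obtain ⟨i, hi⟩ := hg (f g)
      obtain ⟨j, hj⟩ := hg (f' g)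
      apply MulEquiv.ext
      intro x
      obtain ⟨k, rfl⟩ := hg x
      simp only [MulAut.mul_apply]
      rw [map_zpow, map_zpow, ← hj, map_zpow, ← hi, map_zpow, map_zpow, ← hi, map_zpow, ← hj,
        ← _root_.zpow_mul g i j, ← _root_.zpow_mul g j i, mul_comm]
    refine ⟨0, ?_⟩
    rw [pow_zero, pow_one]
    have h1 : commutator A ≤ φ.ker := by
      rw [commutator_def, Subgroup.commutator_le]
      intro x _ y _
      rw [MonoidHom.mem_ker, map_commutatorElement]
      exact commutatorElement_eq_one_iff_mul_comm.mpr (hcomm _ _)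
    exact h1 ha

end Cfsg.Agent.Fusion
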