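import Cfsg.Agent.Fusion.RankTwoAut
import Cfsg.Agent.Core.PCore
import Cfsg.Prelude.Def_CaseTheorems

/-!
# `p`-rank of quotients by `p'`-groups; the action of `G` on `O_p(G)` of rank two
-/

set_option autoImplicit false
set_option maxHeartbeats 400000

namespace Cfsg.Agent.Fusion

open Subgroup Cfsg
open scoped commutatorElement

universe u

variable {G : Type u} [Group G] [Finite G] {p : ℕ} [hp : Fact p.Prime]

theorem pRankLE_quotient {k : ℕ} (h : PRankLE p k G) (N : Subgroup G) [N.Normal]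
    (hN : (Nat.card N).Coprime p) : PRankLE p k (G ⧸ N) := by
  intro A hA hAp
  set f := QuotientGroup.mk' N with hf
  set X := A.comap f with hX
  obtain ⟨S⟩ := (inferInstance : Nonempty (Sylow p X))
  set T := (S : Subgroup X).map X.subtype with hT
  have hTp : IsPGroup p T := S.2.map _
  have hinj : ∀ x ∈ T, x ∈ N → x = 1 := by
    intro x hxT hxN
    obtain ⟨a, ha⟩ := IsPGroup.iff_card.mp hTp
    have h1 : orderOf x ∣ Nat.card T := Subgroup.orderOf_mk x hxT ▸ orderOf_dvd_natCard _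
    have h2 : orderOf x ∣ Nat.card N := Subgroup.orderOf_mk x hxN ▸ orderOf_dvd_natCard _
    rw [ha] at h1
    exact orderOf_eq_one_iff.mp (Nat.eq_one_of_dvd_coprimes ((hN.pow_right a).symm) h1 h2)
  have hmem : ∀ x ∈ T, f x ∈ A := by rintro _ ⟨y, -, rfl⟩; exact y.2
  have hTe : ∀ x ∈ T, x ^ p = 1 := fun x hx => hinj _ (pow_mem hx p) (by
    rw [← QuotientGroup.eq_one_iff]
    show f (x ^ p) = 1
    rw [map_pow]; exact hAp _ (hmem x hx))
  have hTc : IsMulCommutative T := ⟨⟨fun u v => Subtype.ext (commutatorElement_eq_one_iff_mul_comm.mp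
    (hinj _ (by
      rw [commutatorElement_def]
      exact mul_mem (mul_mem (mul_mem u.2 v.2) (inv_mem u.2)) (inv_mem v.2)) (by
      rw [← QuotientGroup.eq_one_iff]
      show f _ = 1
      rw [map_commutatorElement, commutatorElement_eq_one_iff_mul_comm]
      exact congrArg Subtype.val (hA.is_comm.comm ⟨_, hmem u u.2⟩ ⟨_, hmem v v.2⟩))))⟩⟩
  refine le_trans ?_ (h T hTc hTe)
  -- the order of `A` divides the order of a Sylow subgroup of its preimage
  have hAp' : IsPGroup p A := fun x => ⟨1, Subtype.ext (by rw [pow_one]; exact hAp x x.2)⟩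
  obtain ⟨a, ha⟩ := IsPGroup.iff_card.mp hAp'
  have hdvd : Nat.card A ∣ Nat.card X := by
    have h1 : A = X.map f := (map_comap_eq_self_of_surjective (QuotientGroup.mk'_surjective N) A).symm
    rw [h1]
    exact card_dvd_of_surjective (f.subgroupMap X) (f.subgroupMap_surjective X)
  rw [hT, card_map_of_injective X.subtype_injective, ha]
  rw [ha] at hdvd
  refine Nat.le_of_dvd Nat.card_pos ?_
  obtain ⟨b, hb⟩ := IsPGroup.iff_card.mp S.2
  have h3 := (S : Subgroup X).card_mul_index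
  rw [← h3] at hdvd
  exact (Nat.Coprime.dvd_of_dvd_mul_right (Nat.Coprime.pow_left a
    (hp.out.coprime_iff_not_dvd.mpr S.not_dvd_index)) hdvd)

theorem pRankLE_subgroup {k : ℕ} (h : PRankLE p k G) (H : Subgroup G) : PRankLE p k H := by
  intro A hA hAp
  rw [← card_map_of_injective H.subtype_injective]
  refine h (A.map H.subtype) ⟨⟨fun u v => ?_⟩⟩ ?_
  · obtain ⟨_, a, ha, rfl⟩ := u
    obtain ⟨_, b, hb, rfl⟩ := v
    exact Subtype.ext (congrArg (fun w : A => ((w : H) : G)) (hA.is_comm.comm ⟨a, ha⟩ ⟨b, hb⟩))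
  · rintro _ ⟨a, ha, rfl⟩
    rw [← map_pow, hAp a ha, map_one]

/-- If `O_p(G)` contains its centralizer and has rank at most two, `G` acts on a group of order at
most `p²` with kernel a `p`-group. -/
theorem exists_rank_two_action_pCore (hp2 : p ≠ 2) (hC : centralizer (pCore p G : Set G) ≤ pCore p G)
    (hr : PRankLE p 2 G) :
    ∃ (V : Type u) (_ : Group V) (_ : Finite V),
      (∀ x y : V, x * y = y * x) ∧ (∀ x : V, x ^ p = 1) ∧ Nat.card V ≤ p ^ 2 ∧
      ∃ φ : G →* MulAut V, IsPGroup p φ.ker := by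
  obtain ⟨V, i1, i2, hc, hexp, hcard, ρ, hρ⟩ := exists_rank_two_action hp2
    (Core.pCore_isPGroup (p := p) (G := G)) (pRankLE_subgroup hr _)
  let ι : G →* MulAut (pCore p G) := MulAut.conjNormal
  refine ⟨V, i1, i2, hc, hexp, hcard, ρ.comp ι, fun x => ?_⟩
  obtain ⟨m, c, hpc, hm⟩ := Nat.exists_eq_pow_mul_and_not_dvd (orderOf_pos (x : G)).ne' p hp.out.ne_one
  refine ⟨m, ?_⟩
  have hcop : c.Coprime p := (hp.out.coprime_iff_not_dvd.mpr hpc).symm
  set y := (x : G) ^ p ^ m with hy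
  have hord : (orderOf y).Coprime p := by
    rw [hy, orderOf_pow_of_dvd (pow_ne_zero _ hp.out.ne_zero) (hm ▸ dvd_mul_right _ _), hm,
      Nat.mul_div_cancel_left _ (pow_pos hp.out.pos m)]
    exact hcop
  have h1 : ι y = 1 := hρ _ (hord.coprime_dvd_left (orderOf_map_dvd ι _)) (by
    have h2 : ρ (ι (x : G)) = 1 := x.2
    rw [hy, map_pow, map_pow, h2, one_pow])
  have h2 : y ∈ pCore p G := hC (mem_centralizer_iff.mpr fun r hr' => by
    have h4 : y * r * y⁻¹ = r := by
      have h5 := congrArg (fun f : MulAut (pCore p G) => ((f ⟨r, hr'⟩ : pCore p G) : G)) h1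
      simpa [ι] using h5
    rw [mul_inv_eq_iff_eq_mul] at h4
    exact h4.symm)
  obtain ⟨e, he⟩ := IsPGroup.iff_orderOf.mp (Core.pCore_isPGroup (p := p) (G := G)) ⟨y, h2⟩
  rw [Subgroup.orderOf_mk] at he
  apply Subtype.ext
  rw [SubmonoidClass.coe_pow, Subgroup.coe_one]
  exact orderOf_eq_one_iff.mp (Nat.eq_one_of_dvd_coprimes (hord.pow_right e) dvd_rfl he.dvd)

end Cfsg.Agent.Fusion
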