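import Cfsg.Agent.Fusion.OmegaFixed
import Cfsg.Agent.Core.Frattini
import Cfsg.Agent.S3771

/-!
# Automorphisms of `p`-groups of rank at most two, `p` odd
-/

set_option autoImplicit false
set_option maxHeartbeats 400000

namespace Cfsg.Agent.Fusion

open Subgroup Cfsg
open scoped commutatorElement

universe u

variable {G : Type u} [Group G] [Finite G] {p : ℕ} [Fact p.Prime]

/-- A `p`-group of exponent `p`, class at most two and order at most `p³` with no elementary
abelian subgroup of order `p³` has Frattini quotient of order at most `p²`. -/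
theorem index_frattini_le_of_exponent (hG : IsPGroup p G) (hexp : ∀ x : G, x ^ p = 1)
    (hr : PRankLE p 2 G) : (frattini G).index ≤ p ^ 2 := by
  have hc := hG.isNilpotent
  have h3 := S3771.result hG hr hexp
  rcases le_or_gt (Nat.card G) (p ^ 2) with h | h
  · exact (Nat.le_of_dvd Nat.card_pos (index_dvd_card _)).trans h
  · have hne : frattini G ≠ ⊥ := by
      intro he
      have hcomm : commutator G = ⊥ := le_bot_iff.mp (Core.commutator_le_frattini.trans he.le)
      have h1 : IsMulCommutative (⊤ : Subgroup G) := ⟨⟨fun a b => Subtype.ext (by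
        have h2 : ⁅(a : G), (b : G)⁆ ∈ commutator G :=
          commutator_mem_commutator (mem_top _) (mem_top _)
        rw [hcomm, mem_bot] at h2
        exact commutatorElement_eq_one_iff_mul_comm.mp h2)⟩⟩
      have h4 := hr ⊤ h1 (fun x _ => hexp x)
      rw [card_top] at h4
      omega
    obtain ⟨k, hk0, hk⟩ := (hG.to_subgroup (frattini G)).nontrivial_iff_card.mp
      ((nontrivial_iff_ne_bot _).mpr hne)
    have h5 := (frattini G).card_mul_index
    have h6 : p ≤ Nat.card (frattini G) := by
      rw [hk]; exact Nat.le_self_pow hk0.ne' p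
    by_contra hcon
    have h7 : p * (p ^ 2 + 1) ≤ Nat.card G := by
      rw [← h5]; exact Nat.mul_le_mul h6 (by omega)
    have hp0 := (Fact.out : p.Prime).pos
    have h8 : p * (p ^ 2 + 1) = p ^ 3 + p := by ring
    omega

theorem frattini_le_center_of_exponent (hexp : ∀ x : G, x ^ p = 1)
    (hc : commutator G ≤ center G) : frattini G ≤ center G :=
  (frattini_le_of_elementary (commutator G) le_rfl (fun x => by rw [hexp]; exact one_mem _)).trans hc

/-- In class two and exponent `p`, a `p'`-automorphism trivial on the Frattini quotient is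
trivial. -/
theorem eq_one_of_trivial_mod_frattini (hG : IsPGroup p G) (hexp : ∀ x : G, x ^ p = 1)
    (hc : commutator G ≤ center G) (a : MulAut G) (ha : (orderOf a).Coprime p)
    (h : ∀ x, x⁻¹ * a x ∈ frattini G) : a = 1 := by
  have hΦ := frattini_le_center_of_exponent hexp hc
  have hcomm : ∀ z ∈ frattini G, a z = z := by
    have key : ∀ z ∈ commutator G, a z = z := by
      intro z hz
      rw [commutator_def] at hz
      refine (?_ : ⁅(⊤ : Subgroup G), ⊤⁆ ≤ MonoidHom.eqLocus a.toMonoidHom (MonoidHom.id G)) hz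
      rw [commutator_le]
      intro x _ y _
      show a ⁅x, y⁆ = ⁅x, y⁆
      obtain ⟨u, hu, hax⟩ : ∃ u ∈ center G, a x = x * u :=
        ⟨x⁻¹ * a x, hΦ (h x), by group⟩
      obtain ⟨v, hv, hay⟩ : ∃ v ∈ center G, a y = y * v :=
        ⟨y⁻¹ * a y, hΦ (h y), by group⟩
      rw [map_commutatorElement, hax, hay]
      have hu' := fun g => mem_center_iff.mp hu g
      have hv' := fun g => mem_center_iff.mp hv g
      simp only [commutatorElement_def, mul_inv_rev]
      calc x * u * (y * v) * (u⁻¹ * x⁻¹) * (v⁻¹ * y⁻¹)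
          = x * (u * (y * v)) * u⁻¹ * x⁻¹ * v⁻¹ * y⁻¹ := by group
        _ = x * y * (v * x⁻¹) * v⁻¹ * y⁻¹ := by rw [← hu' (y * v)]; group
        _ = x * y * x⁻¹ * y⁻¹ := by rw [← hv' x⁻¹]; group
    exact fun z hz => key z
      (frattini_le_of_elementary (commutator G) le_rfl (fun x => by rw [hexp]; exact one_mem _) hz)
  apply MulEquiv.ext
  intro x
  obtain ⟨z, hz, hax⟩ : ∃ z ∈ frattini G, a x = x * z := ⟨x⁻¹ * a x, h x, by group⟩
  have hit : ∀ n : ℕ, (a ^ n) x = x * z ^ n := by
    intro n
    induction n with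
    | zero => simp
    | succ n ihn =>
      rw [pow_succ', MulAut.mul_apply, ihn, map_mul, map_pow, hcomm z hz, hax, mul_assoc, ← pow_succ']
  have h5 := hit (orderOf a)
  rw [pow_orderOf_eq_one, MulAut.one_apply, left_eq_mul] at h5
  obtain ⟨m, hm⟩ := IsPGroup.iff_orderOf.mp hG z
  have h6 : z = 1 := orderOf_eq_one_iff.mp (Nat.eq_one_of_dvd_coprimes (ha.pow_right m)
    (orderOf_dvd_of_pow_eq_one h5) hm.dvd)
  rw [hax, h6, mul_one, MulAut.one_apply]

/-- In a `p`-group of rank at most two (`p` odd) there is a characteristic subgroup of exponent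
dividing `p`, class at most two and Frattini index at most `p²` such that a `p'`-automorphism
trivial on its Frattini quotient is trivial. -/
theorem exists_char_rank_two (hp : p ≠ 2) (hG : IsPGroup p G) (hr : PRankLE p 2 G) :
    ∃ W : Subgroup G, W.Characteristic ∧ (∀ x ∈ W, x ^ p = 1) ∧ commutator W ≤ center W ∧
      (frattini W).index ≤ p ^ 2 ∧ PRankLE p 2 W ∧
      ∀ a : MulAut G, (orderOf a).Coprime p →
        (∀ x ∈ W, x⁻¹ * a x ∈ (frattini W).map W.subtype) → a = 1 := by
  obtain ⟨D, hD, hDle, hD1, hD2, hD3⟩ := exists_critical hG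
  set W := closure {x : G | x ∈ D ∧ x ^ p = 1} with hW
  have hWD : W ≤ D := (closure_le _).mpr fun x hx => hx.1
  have hDmem : ∀ (φ : MulAut G) x, x ∈ D → φ x ∈ D := fun φ x hx =>
    (characteristic_iff_le_comap.mp hD φ) hx
  have hWc : W.Characteristic := by
    rw [characteristic_iff_le_comap]
    intro φ
    rw [hW, closure_le]
    intro x hx
    refine subset_closure ⟨hDmem φ x hx.1, ?_⟩
    show φ x ^ p = 1
    rw [← map_pow, hx.2, map_one]
  have hexp : ∀ x ∈ W, x ^ p = 1 := by
    intro x hx
    have h1 : closure {y : D | y ^ p = 1} = W.subgroupOf D := by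
      apply map_injective D.subtype_injective
      rw [map_subgroupOf_eq_of_le hWD, MonoidHom.map_closure, hW]
      congr 1
      ext y
      constructor
      · rintro ⟨z, hz, rfl⟩
        exact ⟨z.2, congrArg Subtype.val hz⟩
      · rintro ⟨hy, hyp⟩
        exact ⟨⟨y, hy⟩, Subtype.ext hyp, rfl⟩
    have h2 := pow_prime_eq_one_of_mem_closure hp hDle (g := ⟨x, hWD hx⟩)
      (by rw [h1]; exact hx)
    exact congrArg Subtype.val h2
  have hWcl : commutator W ≤ center W := by
    rw [commutator_def, commutator_le]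
    intro a _ b _
    rw [mem_center_iff]
    intro c
    apply Subtype.ext
    have h1 : ⁅(⟨a, hWD a.2⟩ : D), ⟨b, hWD b.2⟩⁆ ∈ center D :=
      hDle (commutator_mem_commutator (mem_top _) (mem_top _))
    have h2 := congrArg D.subtype (mem_center_iff.mp h1 ⟨c, hWD c.2⟩)
    rw [map_mul, map_mul, map_commutatorElement] at h2
    show (c : G) * W.subtype ⁅a, b⁆ = W.subtype ⁅a, b⁆ * c
    rw [map_commutatorElement]
    exact h2
  have hrW : PRankLE p 2 W := by
    intro A hA hAp
    rw [← card_map_of_injective W.subtype_injective]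
    refine hr (A.map W.subtype) ?_ ?_
    · exact ⟨⟨fun x y => by
        obtain ⟨a, ha, hax⟩ := x.2
        obtain ⟨b, hb, hby⟩ := y.2
        apply Subtype.ext
        show (x : G) * y = y * x
        rw [← hax, ← hby]
        exact congrArg W.subtype (congrArg Subtype.val (mul_comm' (⟨a, ha⟩ : A) ⟨b, hb⟩))⟩⟩
    · rintro _ ⟨a, ha, rfl⟩
      rw [← map_pow, hAp a ha, map_one]
  have hexpW : ∀ x : W, x ^ p = 1 := fun x => Subtype.ext (hexp x x.2)
  refine ⟨W, hWc, hexp, hWcl, index_frattini_le_of_exponent (hG.to_subgroup W) hexpW hrW, hrW,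
    fun a ha h => ?_⟩
  have hWmem : ∀ x ∈ W, a x ∈ W := fun x hx => (characteristic_iff_le_comap.mp hWc a) hx
  -- the induced automorphisms of `W` and of `D`
  have hres : ∀ (H : Subgroup G), H.Characteristic → ∃ b : MulAut H,
      (orderOf b).Coprime p ∧ ∀ x : H, ((b x : H) : G) = a x := by
    intro H hH
    let r : MulAut G →* MulAut H :=
      { toFun := fun φ => (φ.subgroupMap H).trans
          (MulEquiv.subgroupCongr (characteristic_iff_map_eq.mp hH φ))
        map_one' := by ext; rfl
        map_mul' := fun φ ψ => by ext; rfl }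
    exact ⟨r a, ha.coprime_dvd_left (orderOf_map_dvd r a), fun x => rfl⟩
  obtain ⟨b, hb, hbx⟩ := hres W hWc
  have hb1 : b = 1 := eq_one_of_trivial_mod_frattini (hG.to_subgroup W) hexpW hWcl b hb fun x => by
    obtain ⟨y, hy, hye⟩ := h x x.2
    rwa [show x⁻¹ * b x = y from Subtype.ext (by rw [Subgroup.coe_mul, Subgroup.coe_inv, hbx]; exact hye.symm)]
  obtain ⟨c, hc, hcx⟩ := hres D hD
  have hc1 : c = 1 := eq_one_of_fixes_omega (hG.to_subgroup D) c hc fun x hx => by
    apply Subtype.ext
    have hxp : (x : G) ^ p = 1 := by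
      rcases hx with h' | ⟨h', -⟩
      · exact congrArg Subtype.val h'
      · exact absurd h' hp
    have hxW : (x : G) ∈ W := subset_closure ⟨x.2, hxp⟩
    have h1 := hbx ⟨x, hxW⟩
    rw [hb1] at h1
    rw [hcx]
    exact h1.symm
  refine S0121.result hG D hD hD1 hD2 hD3 a ha fun x hx => ?_
  have h1 := hcx ⟨x, hx⟩
  rw [hc1] at h1
  exact h1.symm
where
  mul_comm' {H : Type u} [Group H] {A : Subgroup H} [IsMulCommutative A] (a b : A) :
      a * b = b * a := IsMulCommutative.is_comm.comm a b

/-- The action of `Aut G` on a group of order at most `p²` and exponent `p` which is faithful on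
`p'`-automorphisms, for `G` of rank at most two. -/
theorem exists_rank_two_action (hp : p ≠ 2) (hG : IsPGroup p G) (hr : PRankLE p 2 G) :
    ∃ (V : Type u) (_ : Group V) (_ : Finite V),
      (∀ x y : V, x * y = y * x) ∧ (∀ x : V, x ^ p = 1) ∧ Nat.card V ≤ p ^ 2 ∧
      ∃ ρ : MulAut G →* MulAut V, ∀ a : MulAut G, (orderOf a).Coprime p → ρ a = 1 → a = 1 := by
  obtain ⟨W, hWc, hexp, -, hidx, -, hfaith⟩ := exists_char_rank_two hp hG hr
  haveI : Group.IsNilpotent W := (hG.to_subgroup W).isNilpotent
  let r : MulAut G →* MulAut W :=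
    { toFun := fun φ => (φ.subgroupMap W).trans
        (MulEquiv.subgroupCongr (characteristic_iff_map_eq.mp hWc φ))
      map_one' := by ext; rfl
      map_mul' := fun φ ψ => by ext; rfl }
  have hΦ : ∀ φ : MulAut W, (frattini W).map φ.toMonoidHom = frattini W := fun φ =>
    characteristic_iff_map_eq.mp inferInstance φ
  let s : MulAut W →* MulAut (W ⧸ frattini W) :=
    { toFun := fun φ => QuotientGroup.congr _ _ φ (hΦ φ)
      map_one' := by
        apply MulEquiv.ext
        intro x
        induction x using QuotientGroup.induction_on with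
        | H y => rfl
      map_mul' := fun φ ψ => by
        apply MulEquiv.ext
        intro x
        induction x using QuotientGroup.induction_on with
        | H y => rfl }
  refine ⟨W ⧸ frattini W, inferInstance, inferInstance, fun x y => ?_, fun x => ?_, ?_, s.comp r,
    fun a ha h1 => hfaith a ha fun x hx => ?_⟩
  · induction x using QuotientGroup.induction_on with
    | H a => induction y using QuotientGroup.induction_on with
      | H b =>
        rw [← QuotientGroup.mk_mul, ← QuotientGroup.mk_mul, QuotientGroup.eq]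
        exact Core.commutator_le_frattini (by
          rw [show (a * b)⁻¹ * (b * a) = ⁅b⁻¹, a⁻¹⁆ by rw [commutatorElement_def]; group]
          exact commutator_mem_commutator (mem_top _) (mem_top _))
  · induction x using QuotientGroup.induction_on with
    | H a =>
      rw [← QuotientGroup.mk_pow, show a ^ p = 1 from Subtype.ext (hexp a a.2), QuotientGroup.mk_one]
  · rw [← index_eq_card]; exact hidx
  · have h2 : (QuotientGroup.mk (r a ⟨x, hx⟩) : W ⧸ frattini W) = QuotientGroup.mk ⟨x, hx⟩ :=
      DFunLike.congr_fun h1 (QuotientGroup.mk (⟨x, hx⟩ : W) : W ⧸ frattini W)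
    rw [eq_comm, QuotientGroup.eq] at h2
    exact ⟨_, h2, rfl⟩

end Cfsg.Agent.Fusion
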