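import Cfsg.Agent.Fusion.AlperinGoldschmidt
import Cfsg.Agent.Fusion.Frobenius
import Cfsg.Agent.Fusion.FixedPointFree
import Cfsg.Agent.Core.Supersolvable
import Mathlib.GroupTheory.Subgroup.Center

/-!
A normal `p`-complement criterion through the subgroups of a Sylow subgroup above its centre, and
solvability of groups with a nilpotent maximal subgroup of class at most two.
-/

set_option autoImplicit false
set_option linter.unusedSectionVars false

namespace Cfsg.Agent.Fusion

open Subgroup Cfsg
open scoped commutatorElement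

universe u

variable {G : Type u} [Group G] [Finite G] {p : ℕ} [Fact p.Prime]

/-- Members of the conjugation family contain the centre of the Sylow subgroup. -/
theorem GCond.inf_centralizer_le {P : Sylow p G} {D : Subgroup G} (h : GCond P D) :
    (P : Subgroup G) ⊓ centralizer ((P : Subgroup G) : Set G) ≤ D := by
  rintro z ⟨hzP, hz⟩
  have hzm := h.cent (centralizer_le h.le hz)
  obtain ⟨-, -, hcomm, hdisj, hsup⟩ := h.prod
  set K := (pPrimeCore p ↥(normalizer (D : Set G))).map (normalizer (D : Set G)).subtype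
  rw [← hsup, ← SetLike.mem_coe, coe_mul_of_right_le_normalizer_left K D
    (le_trans (fun d hd => mem_centralizer_iff.mpr fun k hk => hcomm k hk d hd)
      (centralizer_le_normalizer _))] at hzm
  obtain ⟨k, hk, d, hd, rfl⟩ := hzm
  have hkP : k ∈ (P : Subgroup G) ⊓ K := by
    have hh := (P : Subgroup G).mul_mem hzP ((P : Subgroup G).inv_mem (h.le hd))
    rw [mul_inv_cancel_right] at hh
    exact ⟨hh, hk⟩
  have hcop : (Nat.card K).Coprime p := by
    rw [card_map_of_injective (normalizer (D : Set G)).subtype_injective]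
    exact Core.coprime_card_pPrimeCore
  rw [Layer.inf_eq_bot_of_isPGroup P.2 hcop, mem_bot] at hkP
  simpa [hkP] using hd

/-- If the normalisers of all subgroups between `Z(P)` and `P` have normal `p`-complements, so
does the group, provided all these subgroups are listed. -/
theorem hasNormalPComplement_of_above_center (P : Sylow p G)
    (h : ∀ U : Subgroup G, (P : Subgroup G) ⊓ centralizer ((P : Subgroup G) : Set G) ≤ U →
      U ≤ (P : Subgroup G) → HasNormalPComplement p (normalizer (U : Set G))) :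
    HasNormalPComplement p G := by
  have hloc : ∀ D : Subgroup G, GCond P D → ∀ g ∈ normalizer (D : Set G),
      Nat.Coprime (orderOf g) p → g ∈ centralizer (D : Set G) := by
    intro D hD g hg hgo
    have hnD : (D.subgroupOf (normalizer (D : Set G))).Normal := normal_in_normalizer
    have := mem_centralizer_of_hasNormalPComplement (h D hD.inf_centralizer_le hD.le)
      ((P.2.to_le hD.le).comap_subtype (K := normalizer (D : Set G))) (g := ⟨g, hg⟩)
      ((normalizer_eq_top_iff.mpr hnD).ge (mem_top _))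
      (by rwa [Subgroup.orderOf_mk])
    rw [mem_centralizer_iff] at this ⊢
    intro x hx
    exact congrArg (fun y : normalizer (D : Set G) => (y : G))
      (this ⟨x, Subgroup.le_normalizer hx⟩ hx)
  have hfus : ∀ (A : Set G) (g : G), GChain P A g →
      ∃ s ∈ (P : Subgroup G), ∀ a ∈ A, g⁻¹ * a * g = s⁻¹ * a * s := by
    intro A g hA
    induction hA with
    | base c hc =>
      refine ⟨1, one_mem _, fun a ha => ?_⟩
      rw [mul_assoc, mem_centralizer_iff.mp hc a ha]
      group
    | @cons A g x D hA hx hD _ ih =>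
      obtain ⟨t, ht, hteq⟩ := ih
      obtain ⟨c, hc, s, hs, rfl⟩ := exists_mem_centralizer_mul (le_refl _) inf_le_right hD.sylow
        (hloc D hD) hx
      refine ⟨s * t, mul_mem hs.1 ht, fun a ha => ?_⟩
      have h2 : a * c = c * a := mem_centralizer_iff.mp hc a (hA ha)
      have h1 := hteq _ ⟨a, ha, rfl⟩
      have h3 : (c * s)⁻¹ * a * (c * s) = s⁻¹ * a * s := by
        rw [show (c * s)⁻¹ * a * (c * s) = s⁻¹ * c⁻¹ * (a * c) * s by group, h2]; group
      calc (c * s * g)⁻¹ * a * (c * s * g) = g⁻¹ * ((c * s)⁻¹ * a * (c * s)) * g := by group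
        _ = t⁻¹ * ((c * s)⁻¹ * a * (c * s)) * t := h1
        _ = (s * t)⁻¹ * a * (s * t) := by rw [h3]; group
  refine hasNormalPComplement_of_frobenius fun Q hQ g hg hgo => ?_
  -- move `Q` into `P`
  obtain ⟨R, hQR⟩ := hQ.exists_le_sylow
  obtain ⟨x, hx⟩ := MulAction.exists_smul_eq G R P
  have hQP : conjSub x⁻¹ Q ≤ (P : Subgroup G) := by
    intro y hy
    rw [mem_conjSub, inv_inv] at hy
    rw [← hx, Sylow.coe_subgroup_smul]
    exact ⟨x⁻¹ * y * x, hQR hy, by simp [mul_assoc]⟩
  set Q' := conjSub x⁻¹ Q with hQ'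
  have hg' : x * g * x⁻¹ ∈ normalizer (Q' : Set G) := by
    rw [hQ', ← conjSub_normalizer, mem_conjSub, inv_inv]
    simpa [mul_assoc] using hg
  set g' := x * g * x⁻¹ with hg'def
  have hgo' : Nat.Coprime (orderOf g') p := by
    rwa [hg'def, show x * g * x⁻¹ = MulAut.conj x g from rfl, MulEquiv.orderOf_eq]
  obtain ⟨s, hs, hseq⟩ := hfus _ _ (gChain_of_subset P (A := (Q' : Set G)) (g := g') hQP
    (by rw [conjSet_eq_of_mem_normalizer hg']; exact hQP))
  set N := normalizer (Q' : Set G) with hN
  have hc : g' * s⁻¹ ∈ centralizer (Q' : Set G) := by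
    rw [mem_centralizer_iff]
    intro a ha
    calc a * (g' * s⁻¹) = g' * (g'⁻¹ * a * g') * s⁻¹ := by group
      _ = g' * (s⁻¹ * a * s) * s⁻¹ := by rw [hseq a ha]
      _ = g' * s⁻¹ * a := by group
  have hsN : s ∈ N := by
    have := mul_mem (inv_mem (centralizer_le_normalizer (Q' : Set G) hc)) hg'
    simpa [mul_assoc] using this
  set f := normalizerMonoidHom Q'
  have hfs : f ⟨g', hg'⟩ = f ⟨s, hsN⟩ := by
    have h1 : f ⟨g' * s⁻¹, centralizer_le_normalizer _ hc⟩ = 1 := by
      rw [← MonoidHom.mem_ker, normalizerMonoidHom_ker, mem_subgroupOf]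
      exact hc
    calc f ⟨g', hg'⟩ = f (⟨g' * s⁻¹, centralizer_le_normalizer _ hc⟩ * ⟨s, hsN⟩) := by
          congr 1; exact Subtype.ext (by simp [mul_assoc])
      _ = f ⟨s, hsN⟩ := by rw [map_mul, h1, one_mul]
  obtain ⟨k, hk⟩ := IsPGroup.iff_orderOf.mp P.2 ⟨s, hs⟩
  rw [Subgroup.orderOf_mk] at hk
  have hd1 : orderOf (f ⟨g', hg'⟩) ∣ orderOf g' := by
    have := orderOf_map_dvd f (⟨g', hg'⟩ : N)
    rwa [Subgroup.orderOf_mk] at this
  have hd2 : orderOf (f ⟨g', hg'⟩) ∣ p ^ k := by
    rw [hfs]
    have := orderOf_map_dvd f (⟨s, hsN⟩ : N)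
    rwa [Subgroup.orderOf_mk, hk] at this
  have h1 : f ⟨g', hg'⟩ = 1 :=
    orderOf_eq_one_iff.mp (Nat.eq_one_of_dvd_coprimes (hgo'.pow_right k) hd1 hd2)
  rw [← MonoidHom.mem_ker, normalizerMonoidHom_ker, mem_subgroupOf] at h1
  simp only [mem_centralizer_iff] at h1 ⊢
  intro a ha
  have := h1 (x * a * x⁻¹) (mem_conjSub.mpr (by simpa [mul_assoc] using ha))
  simp only [hg'def] at this
  calc a * g = x⁻¹ * (x * a * x⁻¹ * (x * g * x⁻¹)) * x := by group
    _ = x⁻¹ * (x * g * x⁻¹ * (x * a * x⁻¹)) * x := by rw [this]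
    _ = g * a := by group

/-- In a nilpotent subgroup of class at most two commutators are central. -/
theorem commutator_le_centralizer_of_class_two {M : Subgroup G} (hnil : Group.IsNilpotent M)
    (hcl : Group.nilpotencyClass M ≤ 2) : ⁅M, M⁆ ≤ centralizer (M : Set G) := by
  have h := Subgroup.lowerCentralSeries_eq_bot_iff_nilpotencyClass_le.mpr hcl
  rw [Subgroup.lowerCentralSeries_succ, Subgroup.lowerCentralSeries_succ, Subgroup.lowerCentralSeries_zero] at h
  have h2 := congrArg (Subgroup.map M.subtype) h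
  rw [Subgroup.map_bot, map_commutator, map_commutator, ← MonoidHom.range_eq_map, range_subtype]
    at h2
  exact commutator_eq_bot_iff_le_centralizer.mp h2

/-- A finite group with a nilpotent maximal subgroup of class at most two is solvable. -/
theorem isSolvable_of_coatom_class_two {M : Subgroup G} (hmax : IsCoatom M)
    (hnil : Group.IsNilpotent M) (hcl : Group.nilpotencyClass M ≤ 2) : Group.IsSolvable G := by
  induction hn : Nat.card G using Nat.strong_induction_on generalizing G with
  | _ n IH =>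
  subst hn
  haveI := hnil
  have hMsol : Group.IsSolvable M := inferInstance
  rcases eq_or_ne M.normalCore ⊥ with hcore | hcore
  swap
  · set N := M.normalCore
    have hNM : N ≤ M := normalCore_le M
    have hker : (QuotientGroup.mk' N).ker ≤ M := by rw [QuotientGroup.ker_mk']; exact hNM
    have hfs := QuotientGroup.mk'_surjective N
    haveI : Group.IsSolvable N := solvable_of_solvable_injective (inclusion_injective hNM)
    haveI : Group.IsSolvable (G ⧸ N) := by
      refine IH _ ?_ (M := M.map (QuotientGroup.mk' N)) (Core.isCoatom_map_of_ker_le hfs hker hmax)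
        (Group.nilpotent_of_surjective _ ((QuotientGroup.mk' N).subgroupMap_surjective M))
        ((Group.nilpotencyClass_le_of_surjective _ ((QuotientGroup.mk' N).subgroupMap_surjective M)).trans
          hcl) rfl
      rw [N.card_eq_card_quotient_mul_card_subgroup]
      exact lt_mul_of_one_lt_right Nat.card_pos ((one_lt_card_iff_ne_bot N).mpr hcore)
    exact solvable_of_ker_le_range N.subtype (QuotientGroup.mk' N) (by simp)
  rcases eq_or_ne M ⊥ with rfl | hM1
  · -- no proper nontrivial subgroups
    haveI : IsCyclic G := by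
      by_contra hc
      obtain ⟨g, hg⟩ : ∃ g : G, g ≠ 1 := by
        by_contra h
        push_neg at h
        exact hmax.1 ((eq_bot_iff_forall ⊤).mpr fun g _ => h g).symm
      refine hc ⟨g, fun x => ?_⟩
      exact mem_zpowers_iff.mp ((hmax.2 (zpowers g) (bot_lt_iff_ne_bot.mpr (zpowers_ne_bot.mpr hg))).ge (mem_top x))
    letI := IsCyclic.commGroup (α := G)
    infer_instance
  -- normalisers of subgroups normal in `M`
  have hNU : ∀ U : Subgroup G, U ≠ ⊥ → U ≤ M → M ≤ normalizer (U : Set G) →
      normalizer (U : Set G) = M := by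
    intro U hU1 hUM hUn
    rcases hmax.le_iff.mp hUn with h | h
    · exfalso
      haveI := normalizer_eq_top_iff.mp h
      exact hU1 (le_bot_iff.mp (hcore ▸ normal_le_normalCore.mpr hUM))
    · exact h
  have hpc : ∀ q : ℕ, q.Prime → q ∣ Nat.card M → HasNormalPComplement q G := by
    intro q hq hqM
    haveI := Fact.mk hq
    obtain ⟨T⟩ := (inferInstance : Nonempty (Sylow q M))
    haveI hTn : (T : Subgroup M).Normal :=
      (Group.isNilpotent_of_finite_tfae.out 0 3 rfl rfl).mp hnil q inferInstance T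
    set P0 : Subgroup G := (T : Subgroup M).map M.subtype with hP0
    have hP0M : P0 ≤ M := map_subtype_le _
    have hP0p : IsPGroup q P0 := T.2.map _
    have hMn : M ≤ normalizer (P0 : Set G) := by
      rw [hP0]
      have := le_normalizer_map (H := (T : Subgroup M)) M.subtype
      rwa [normalizer_eq_top_iff.mpr hTn, ← MonoidHom.range_eq_map, range_subtype] at this
    have hP01 : P0 ≠ ⊥ := by
      rw [hP0, Ne, map_eq_bot_iff_of_injective _ M.subtype_injective]
      exact T.ne_bot_of_dvd_card hqM
    obtain ⟨P, hP⟩ := hP0p.exists_le_sylow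
    have hPeq : (P : Subgroup G) = P0 := by
      by_contra hne
      have hlt := lt_inf_normalizer_of_isPGroup P.2 (lt_of_le_of_ne hP (Ne.symm hne))
      rw [hNU P0 hP01 hP0M hMn] at hlt
      have hsub : ((P : Subgroup G) ⊓ M).subgroupOf M = (T : Subgroup M) :=
        T.3 (P.2.to_inf_left.comap_subtype) (map_le_iff_le_comap.mp (hP0 ▸ hlt.le))
      exact hlt.ne' (by rw [hP0, ← hsub, map_subgroupOf_eq_of_le inf_le_right])
    refine hasNormalPComplement_of_above_center P fun U hZU hUP => ?_
    have hUM : U ≤ M := hUP.trans (hPeq.le.trans hP0M)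
    have hUn : M ≤ normalizer (U : Set G) := by
      rw [le_normalizer_iff_commutator_le_right]
      refine le_trans (le_inf ?_ ?_) hZU
      · refine (commutator_mono le_rfl hUP).trans ?_
        rw [hPeq]
        exact le_normalizer_iff_commutator_le_right.mp hMn
      · exact ((commutator_mono le_rfl hUM).trans
          (commutator_le_centralizer_of_class_two hnil hcl)).trans
          (centralizer_le (hPeq.le.trans hP0M))
    have hU1 : U ≠ ⊥ := by
      intro hU
      haveI : Nontrivial (P : Subgroup G) := by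
        rw [nontrivial_iff_ne_bot, hPeq]; exact hP01
      haveI := P.2.center_nontrivial
      obtain ⟨⟨z, hzc⟩, hz1⟩ := exists_ne (1 : center (P : Subgroup G))
      refine hz1 (Subtype.ext (Subtype.ext ?_))
      have hmem : (z : G) ∈ (P : Subgroup G) ⊓ centralizer ((P : Subgroup G) : Set G) :=
        ⟨z.2, mem_centralizer_iff.mpr fun y hy =>
          congrArg Subtype.val (mem_center_iff.mp hzc ⟨y, hy⟩)⟩
      exact mem_bot.mp (hU ▸ hZU hmem)
    rw [hNU U hU1 hUM hUn]
    rw [hasNormalPComplement_iff_exists]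
    exact hasNormalPComplement_iff_exists.mp
      ((hasNormalPComplement_of_isNilpotent hnil : HasNormalPComplement q M))
  set K : Subgroup G :=
    sInf {R | ∃ q : ℕ, q.Prime ∧ q ∣ Nat.card M ∧ R = pResidual q G} with hK
  haveI hKn : K.Normal := by
    refine ⟨fun x hx g => ?_⟩
    rw [hK, mem_sInf] at hx ⊢
    rintro R ⟨q, h1, h2, rfl⟩
    exact (inferInstance : (pResidual q G).Normal).conj_mem x (hx _ ⟨q, h1, h2, rfl⟩) g
  have hKcop : (Nat.card M).Coprime (Nat.card K) := by
    refine Nat.coprime_of_dvd fun q hq hqM hqK => ?_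
    haveI := Fact.mk hq
    have h1 := (hasNormalPComplement_iff.mp (hpc q hq hqM))
    have h2 : q ∣ Nat.card (pResidual q G) :=
      hqK.trans (card_dvd_of_le (sInf_le ⟨q, hq, hqM, rfl⟩))
    exact (Nat.Prime.coprime_iff_not_dvd hq).mp h1.symm h2
  rcases eq_or_ne K ⊥ with hKb | hKb
  · obtain ⟨q₀, hq₀, hq₀M⟩ := Nat.exists_prime_and_dvd
      (fun h => hM1 (card_eq_one.mp h) : Nat.card M ≠ 1)
    have hle : ∀ q : ℕ, q.Prime → ∃ d, derivedSeries G d ≤ pResidual q G := by
      intro q hq
      haveI := Fact.mk hq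
      haveI := (isPGroup_quotient_pResidual (G := G) (p := q)).isNilpotent
      obtain ⟨d, hd⟩ := (Group.isSolvable_def _).mp (inferInstance : Group.IsSolvable (G ⧸ pResidual q G))
      refine ⟨d, ?_⟩
      rw [← QuotientGroup.ker_mk' (pResidual q G), ← MonoidHom.comap_bot, ← map_le_iff_le_comap, ← hd]
      exact map_derivedSeries_le_derivedSeries _ d
    choose! d hd using hle
    refine (Group.isSolvable_def _).mpr ⟨(Nat.card M).primeFactors.sup d, le_bot_iff.mp ?_⟩
    rw [← hKb, hK]
    refine le_sInf fun R ⟨q, hq, hqM, hR⟩ => hR ▸ le_trans ?_ (hd q hq)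
    exact derivedSeries_antitone G
      (Finset.le_sup (f := d) (Nat.mem_primeFactors.mpr ⟨hq, hqM, Nat.card_pos.ne'⟩))
  obtain ⟨q, hq, hqK⟩ := Nat.exists_prime_and_dvd
    (fun h => hKb (card_eq_one.mp h) : Nat.card K ≠ 1)
  haveI := Fact.mk hq
  obtain ⟨Q, hQ⟩ := Coprime.exists_invariant_sylow (A := M) (K := K) le_normalizer_of_normal hKcop
    (Or.inl hMsol) q
  set Q0 := (Q : Subgroup K).map K.subtype
  have hQ01 : Q0 ≠ ⊥ := by
    rw [Ne, map_eq_bot_iff_of_injective _ K.subtype_injective]
    exact Q.ne_bot_of_dvd_card hqK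
  have hQM : Q0 ⊓ M = ⊥ := Subgroup.inf_eq_bot_of_coprime
    (Nat.Coprime.coprime_dvd_left (card_dvd_of_le (map_subtype_le _)) hKcop.symm)
  haveI : Q0.Normal := by
    rcases hmax.le_iff.mp hQ with h | h
    · exact normalizer_eq_top_iff.mp h
    · exfalso
      have hle : Q0 ≤ M := h ▸ Subgroup.le_normalizer
      exact hQ01 (by rwa [inf_eq_left.mpr hle] at hQM)
  have htop : Q0 ⊔ M = ⊤ := hmax.2 _ (lt_of_le_of_ne le_sup_right fun e => hQ01 (by
    have hle : Q0 ≤ M := le_sup_left.trans e.ge
    rwa [inf_eq_left.mpr hle] at hQM))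
  haveI : Group.IsSolvable Q0 := by
    haveI := (Q.2.map K.subtype).isNilpotent
    infer_instance
  haveI : Group.IsSolvable (G ⧸ Q0) := by
    refine solvable_of_surjective (f := (QuotientGroup.mk' Q0).comp M.subtype) fun y => ?_
    obtain ⟨g, rfl⟩ := QuotientGroup.mk'_surjective Q0 y
    have hg : g ∈ ((Q0 ⊔ M : Subgroup G) : Set G) := htop ▸ mem_top g
    rw [normal_mul] at hg
    obtain ⟨a, ha, m, hm, rfl⟩ := hg
    refine ⟨⟨m, hm⟩, ?_⟩
    exact QuotientGroup.eq.mpr (by simpa [mul_assoc] using (inferInstance : Q0.Normal).conj_mem' a ha m)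
  exact solvable_of_ker_le_range Q0.subtype (QuotientGroup.mk' Q0) (by simp)

end Cfsg.Agent.Fusion
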