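import Cfsg.Agent.Fusion.AbMax
import Cfsg.Agent.Layer.PConstraint
import Cfsg.Prelude.Def_LocalEven
import Cfsg.Prelude.Def_TwoFusion

/-!
# The Glauberman ZJ-theorem

`PStableNormal p G` : a `p`-element acting quadratically on a normal `p`-subgroup `B` lies in the
largest normal subgroup contained in `S ⊔ C(B)`, for every Sylow subgroup `S`.

`normal_inf_zInter` : for odd `p` and `D` strongly closed in `S`, `B ∩ zInter e D` is normal for
each normal `p`-subgroup `B`.  `normal_zInter` : so is `zInter e D` if `C(O_p) ≤ O_p`.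
-/

set_option autoImplicit false
set_option maxHeartbeats 400000

namespace Cfsg.Agent.Fusion

open Subgroup
open scoped commutatorElement

/-- The `p`-stability used in the ZJ-theorem. -/
def PStableNormal (p : ℕ) (G : Type*) [Group G] : Prop :=
  ∀ B : Subgroup G, B.Normal → IsPGroup p B → ∀ a : G, IsPGroup p (zpowers a) →
    ⁅⁅B, zpowers a⁆, zpowers a⁆ = ⊥ → ∀ S : Sylow p G,
      a ∈ normalCore ((S : Subgroup G) ⊔ centralizer (B : Set G))

variable {G : Type*} [Group G] [Finite G] {p : ℕ} [Fact p.Prime]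

theorem mem_normalCore_of_mk_mem_pCore {C : Subgroup G} [C.Normal] {a : G}
    (ha : (QuotientGroup.mk' C a) ∈ pCore p (G ⧸ C)) (S : Sylow p G) :
    a ∈ normalCore ((S : Subgroup G) ⊔ C) := by
  have hle : (pCore p (G ⧸ C)).comap (QuotientGroup.mk' C) ≤ (S : Subgroup G) ⊔ C := by
    intro x hx
    have := Core.pCore_le_sylow (S.mapSurjective (QuotientGroup.mk'_surjective C)) hx
    change x ∈ ((S : Subgroup G).map (QuotientGroup.mk' C)).comap (QuotientGroup.mk' C) at this
    rwa [comap_map_eq, QuotientGroup.ker_mk'] at this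
  have : ((pCore p (G ⧸ C)).comap (QuotientGroup.mk' C)).Normal :=
    (inferInstance : (pCore p (G ⧸ C)).Normal).comap _
  exact normal_le_normalCore.mpr hle ha

theorem pStableNormal_of_isPStableOn
    (h : ∀ (P : Subgroup G) [P.Normal], IsPGroup p P → IsPStableOn p P) : PStableNormal p G :=
  fun B hB hBp a _ hq S => haveI := hB; mem_normalCore_of_mk_mem_pCore (h B hBp a hq) S

theorem mem_normalCore_of_mk_mem_normalizer {B : Subgroup G} [hB : B.Normal] {a : G}
    (ha : a ∈ normalizer (B : Set G))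
    (h : (QuotientGroup.mk' ((centralizer (B : Set G)).subgroupOf (normalizer (B : Set G)))
      ⟨a, ha⟩) ∈ pCore p (↥(normalizer (B : Set G)) ⧸
        (centralizer (B : Set G)).subgroupOf (normalizer (B : Set G))))
    (S : Sylow p G) : a ∈ normalCore ((S : Subgroup G) ⊔ centralizer (B : Set G)) := by
  have hN : normalizer (B : Set G) = ⊤ := normalizer_eq_top B
  let ι : G →* normalizer (B : Set G) :=
    (MonoidHom.id G).codRestrict _ fun g => by rw [hN]; exact mem_top g
  have hι : Function.Surjective ι := fun x => ⟨x, Subtype.ext rfl⟩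
  let π := QuotientGroup.mk' ((centralizer (B : Set G)).subgroupOf (normalizer (B : Set G)))
  let φ : G →* _ := π.comp ι
  have hφ : Function.Surjective φ := (QuotientGroup.mk'_surjective _).comp hι
  have hle : (pCore p _).comap φ ≤ (S : Subgroup G) ⊔ centralizer (B : Set G) := by
    intro x hx
    obtain ⟨y, hy, hxy⟩ := Core.pCore_le_sylow (S.mapSurjective hφ) hx
    have h1 : π (ι (y⁻¹ * x)) = 1 := by
      show φ (y⁻¹ * x) = 1
      rw [map_mul, map_inv, hxy, inv_mul_cancel]
    rw [QuotientGroup.mk'_apply, QuotientGroup.eq_one_iff, mem_subgroupOf] at h1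
    have := mul_mem (mem_sup_left hy : y ∈ (S : Subgroup G) ⊔ centralizer (B : Set G))
      (mem_sup_right h1)
    change y * (y⁻¹ * x) ∈ _ at this
    rwa [mul_inv_cancel_left] at this
  have : ((pCore p (↥(normalizer (B : Set G)) ⧸
      (centralizer (B : Set G)).subgroupOf (normalizer (B : Set G)))).comap φ).Normal :=
    (inferInstance : (pCore p _).Normal).comap _
  exact normal_le_normalCore.mpr hle (show φ a ∈ pCore p _ from h)

theorem pStableNormal_of_isNormalizerPStable (h : IsNormalizerPStable p G) : PStableNormal p G :=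
  fun B hB hBp a _ hq S => haveI := hB
    mem_normalCore_of_mk_mem_normalizer _
      (h B hBp a (normalizer_eq_top B ▸ mem_top a) hq) S

theorem pStableNormal_of_isPStable (h : IsPStable p G) : PStableNormal p G := by
  intro B hB hBp a hap hq S
  haveI := hB
  have ha : a ∈ normalizer (B : Set G) := normalizer_eq_top B ▸ mem_top a
  refine mem_normalCore_of_mk_mem_normalizer ha ?_ S
  refine h.2.2 (zpowers a) B hap hBp (fun g _ x hx => hB.conj_mem x hx g) ?_ inferInstance hq
    ⟨⟨a, ha⟩, mem_subgroupOf.mpr (mem_zpowers a), rfl⟩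
  have := hB.map (QuotientGroup.mk' (pPrimeCore p G)) (QuotientGroup.mk'_surjective _)
  exact map_le_iff_le_comap.mp (Core.le_pCore (hBp.map _))

variable {e : ℕ} {S : Sylow p G} {D : Subgroup G}

theorem le_normalizer_of_isStronglyClosed (hD : IsStronglyClosed D (S : Subgroup G)) :
    (S : Subgroup G) ≤ normalizer (D : Set G) := fun g hg => by
  rw [mem_normalizer_iff]
  intro x
  constructor
  · exact fun hx => hD.2 x hx g (mul_mem (mul_mem hg (hD.1 hx)) (inv_mem hg))
  · intro hx
    have h1 := hD.2 _ hx g⁻¹ (by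
      simp only [inv_inv]
      exact mul_mem (mul_mem (inv_mem hg) (hD.1 hx)) hg)
    simpa [mul_assoc] using h1

theorem le_normalizer_zInter (hD : IsStronglyClosed D (S : Subgroup G)) :
    (S : Subgroup G) ≤ normalizer (zInter e D : Set G) :=
  fun _ hg => mem_normalizer_zInter (le_normalizer_of_isStronglyClosed hD hg)

/-- Glauberman: `B ∩ zInter e D` is normal for every normal `p`-subgroup `B`. -/
theorem normal_inf_zInter (hp : p ≠ 2) (he : e = 0 ∨ Odd e) (hst : PStableNormal p G)
    (hD : IsStronglyClosed D (S : Subgroup G)) :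
    ∀ B : Subgroup G, B.Normal → IsPGroup p B → (B ⊓ zInter e D).Normal := by
  by_contra hcon
  push Not at hcon
  obtain ⟨B, ⟨hBn, hBp, hBbad⟩, hmin⟩ :=
    (Set.toFinite {B : Subgroup G | B.Normal ∧ IsPGroup p B ∧ ¬ (B ⊓ zInter e D).Normal}).exists_minimalFor
      (fun B : Subgroup G => Nat.card B) _ hcon
  haveI := hBn
  have small : ∀ C : Subgroup G, C.Normal → C < B → (C ⊓ zInter e D).Normal := by
    intro C hC hlt
    by_contra hb
    have := Core.card_lt_of_lt hlt
    exact this.not_ge (hmin ⟨hC, hBp.to_le hlt.le, hb⟩ this.le)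
  set W := zInter e D with hW
  set Z := B ⊓ W with hZ
  have hBS : B ≤ (S : Subgroup G) := (Core.le_pCore hBp).trans (Core.pCore_le_sylow S)
  have hSW := le_normalizer_zInter (e := e) hD
  have hSZ : (S : Subgroup G) ≤ normalizer (Z : Set G) := by
    intro g hg
    rw [mem_normalizer_iff]
    intro x
    show x ∈ B ∧ x ∈ W ↔ g * x * g⁻¹ ∈ B ∧ g * x * g⁻¹ ∈ W
    exact and_congr
      (mem_normalizer_iff.mp (normalizer_eq_top B ▸ mem_top g) x)
      (mem_normalizer_iff.mp (hSW hg) x)
  have hgen : normalClosure (Z : Set G) = B := by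
    refine eq_of_le_of_not_lt (normalClosure_le_normal inf_le_left) fun hlt => hBbad ?_
    have : normalClosure (Z : Set G) ⊓ W = Z :=
      le_antisymm (le_inf (inf_le_left.trans (normalClosure_le_normal inf_le_left)) inf_le_right)
        (le_inf (fun x hx => subset_normalClosure hx) inf_le_right)
    exact this ▸ small _ inferInstance hlt
  have hBbot : B ≠ ⊥ := fun h => hBbad (by rw [hZ, h, bot_inf_eq]; infer_instance)
  have hB'lt : ⁅B, B⁆ < B := by
    haveI : Nontrivial B := (nontrivial_iff_ne_bot B).mpr hBbot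
    haveI : Group.IsNilpotent B := hBp.isNilpotent
    refine lt_of_le_of_ne (commutator_le_self B) fun heq => ?_
    have h1 : commutator B = ⊤ := by
      refine map_injective B.subtype_injective ?_
      rw [map_subtype_commutator, heq, ← MonoidHom.range_eq_map, range_subtype]
    exact Group.IsSolvable.commutator_lt_top_of_nontrivial B |>.ne h1
  have hMn : (⁅B, B⁆ ⊓ W).Normal := small _ inferInstance hB'lt
  have hB'W : ⁅B, B⁆ ≤ W := by
    refine le_trans ?_ (inf_le_right : ⁅B, B⁆ ⊓ W ≤ W)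
    have h1 : ∀ z ∈ Z, ∀ x ∈ B, ⁅z, x⁆ ∈ ⁅B, B⁆ ⊓ W := fun z hz x hx =>
      ⟨commutator_mem_commutator hz.1 hx,
        Replacement.commutatorElement_mem_of_le_normalizer hz.2 (hSW (hBS hx))⟩
    -- the set of elements with all commutators in `M` is a normal subgroup
    let K : Subgroup G :=
      { carrier := {z | z ∈ B ∧ ∀ x ∈ B, ⁅z, x⁆ ∈ ⁅B, B⁆ ⊓ W}
        one_mem' := ⟨one_mem B, fun x _ => by rw [commutatorElement_one_left]; exact one_mem _⟩
        mul_mem' := fun {y z} hy hz => ⟨mul_mem hy.1 hz.1, fun x hx => by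
          rw [show ⁅y * z, x⁆ = y * ⁅z, x⁆ * y⁻¹ * ⁅y, x⁆ by simp only [commutatorElement_def]; group]
          exact mul_mem (hMn.conj_mem _ (hz.2 x hx) y) (hy.2 x hx)⟩
        inv_mem' := fun {y} hy => ⟨inv_mem hy.1, fun x hx => by
          rw [show ⁅y⁻¹, x⁆ = y⁻¹ * ⁅y, x⁆⁻¹ * y⁻¹⁻¹ by simp only [commutatorElement_def]; group]
          exact hMn.conj_mem _ (inv_mem (hy.2 x hx)) y⁻¹⟩ }
    have hKn : K.Normal := ⟨fun z hz g => ⟨hBn.conj_mem z hz.1 g, fun x hx => by
      have := hMn.conj_mem _ (hz.2 (g⁻¹ * x * g) (by simpa using hBn.conj_mem x hx g⁻¹)) g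
      convert this using 1
      simp only [commutatorElement_def]; group⟩⟩
    have hle : B ≤ K := by
      conv_lhs => rw [← hgen]
      exact normalClosure_le_normal fun z hz => ⟨hz.1, h1 z hz⟩
    exact commutator_le.mpr fun y hy x hx => (hle hy).2 x hx
  set C := centralizer (B : Set G) with hC
  set L := normalCore (normalizer (Z : Set G)) with hL
  have hZnot : normalizer (Z : Set G) ≠ ⊤ := fun h => hBbad (normalizer_eq_top_iff.mp h)
  have hCZ : C ≤ normalizer (Z : Set G) :=
    (centralizer_le (inf_le_left : Z ≤ B)).trans (centralizer_le_normalizer _)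
  -- the Frattini argument
  set T := (S : Subgroup G) ⊓ L with hT
  have hFr : normalizer (T : Set G) ⊔ L = ⊤ := by
    obtain ⟨P, hP⟩ := ((S.2.to_inf_left (K := L)).comap_subtype (K := L)).exists_le_sylow
    have hPp : IsPGroup p ((P : Subgroup L).map L.subtype) := P.2.map _
    obtain ⟨Q, hQ⟩ := hPp.exists_le_sylow
    obtain ⟨g, hg⟩ := MulAction.exists_smul_eq G Q S
    have hTle : T ≤ (P : Subgroup L).map L.subtype := by
      intro x hx
      exact ⟨⟨x, hx.2⟩, hP hx, rfl⟩
    have hle : ((P : Subgroup L).map L.subtype).map (MulAut.conj g).toMonoidHom ≤ T := by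
      rintro _ ⟨y, hy, rfl⟩
      refine ⟨?_, (normalCore_normal _).conj_mem y (map_subtype_le _ hy) g⟩
      rw [← hg]
      exact ⟨y, hQ hy, rfl⟩
    have hT' : (P : Subgroup L).map L.subtype = T :=
      (eq_of_le_of_card_ge hTle ((card_map_of_injective (MulAut.conj g).injective).ge.trans
        (card_le_of_le hle))).symm
    rw [← hT']
    exact Sylow.normalizer_sup_eq_top P
  have hLN : L ≤ normalizer (Z : Set G) := normalCore_le _
  -- a strongly closed subgroup is respected by the Frattini complement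
  have hmem : ∀ n ∈ normalizer (T : Set G), ∀ x ∈ D ⊓ T, n * x * n⁻¹ ∈ D ⊓ T := by
    intro n hn x hx
    have h2 := (mem_normalizer_iff.mp hn x).mp hx.2
    exact ⟨hD.2 x hx.1 n h2.1, h2⟩
  have hconj : ∀ n ∈ normalizer (T : Set G), ∀ A : Subgroup G, AbMax e D A → A ≤ L →
      AbMax e D (A.map (MulAut.conj n).toMonoidHom) := by
    intro n hn A hA hAL
    refine ⟨⟨?_, (hA.toAbMem.map _).comm, (hA.toAbMem.map _).exp⟩, fun C hC => ?_⟩
    · rintro _ ⟨x, hx, rfl⟩
      exact (hmem n hn x ⟨hA.le hx, hD.1 (hA.le hx), hAL hx⟩).1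
    · rw [card_map_of_injective (MulAut.conj n).injective]
      exact hA.max C hC
  have hSL : ∀ a ∈ (S : Subgroup G), a ∈ normalCore ((S : Subgroup G) ⊔ C) → a ∈ L := fun a _ ha =>
    normalCore_mono (sup_le hSZ hCZ) ha
  by_cases hall : ∀ A, AbMax e D A → A ≤ L
  · -- every member lies in `L`
    refine hZnot (top_le_iff.mp (hFr ▸ sup_le (fun n hn => ?_) hLN))
    rw [mem_normalizer_iff_map_conj_eq]
    refine eq_of_le_of_card_ge ?_ (card_map_of_injective (MulAut.conj n).injective).ge
    rintro _ ⟨x, hx, rfl⟩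
    refine ⟨hBn.conj_mem x hx.1 n, mem_sInf.mpr fun A hA => ?_⟩
    obtain ⟨y, hy, hyx⟩ : ∃ y ∈ A, n⁻¹ * y * n⁻¹⁻¹ = x := by
      have h := mem_sInf.mp (hx.2 : x ∈ W) _ (hconj n⁻¹ (inv_mem hn) A hA (hall A hA))
      exact h
    show n * x * n⁻¹ ∈ A
    rw [← hyx]
    simpa [mul_assoc] using hy
  push Not at hall
  obtain ⟨A, ⟨hA, hAL⟩, hmax⟩ :=
    (Set.toFinite {A : Subgroup G | AbMax e D A ∧ ¬ A ≤ L}).exists_maximalFor
      (fun A : Subgroup G => Nat.card (A ⊓ B : Subgroup G)) _ hall
  have hB'A : ⁅B, B⁆ ≤ A := hB'W.trans (zInter_le_of_abMax hA)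
  have hnot : ¬ B ≤ normalizer (A : Set G) := fun hN => hAL fun a ha => by
    have hq : ⁅⁅B, zpowers a⁆, zpowers a⁆ = ⊥ := by
      refine le_bot_iff.mp ?_
      calc ⁅⁅B, zpowers a⁆, zpowers a⁆ ≤ ⁅⁅B, A⁆, A⁆ :=
            commutator_mono (commutator_mono le_rfl (zpowers_le.mpr ha)) (zpowers_le.mpr ha)
        _ ≤ ⁅A, A⁆ := commutator_mono (le_normalizer_iff_commutator_le_right.mp hN) le_rfl
        _ = ⊥ := commutator_eq_bot_iff_le_centralizer.mpr fun x hx =>
            mem_centralizer_iff.mpr fun y hy => (commute_of_isMulCommutative hA.comm hy hx).eq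
    have haS : a ∈ (S : Subgroup G) := hD.1 (hA.le ha)
    exact hSL a haS (hst B hBn hBp a (S.2.to_le (zpowers_le.mpr haS)) hq S)
  obtain ⟨A', hA', -, hlt, hBA', -⟩ := exists_abMax_inf_lt hp he S.2 hBS
    (fun g _ => normalizer_eq_top B ▸ mem_top g) hD.1 (le_normalizer_of_isStronglyClosed hD) hA
    hB'A hnot
  have hA'L : A' ≤ L := by
    by_contra h
    have := Core.card_lt_of_lt hlt
    exact this.not_ge (hmax ⟨hA', h⟩ this.le)
  refine hBA' ?_
  rw [← hgen, normalClosure, closure_le]
  intro x hx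
  obtain ⟨z, hz, hzx⟩ := Group.mem_conjugatesOfSet_iff.mp hx
  obtain ⟨g, rfl⟩ := isConj_iff.mp hzx
  obtain ⟨n, hn, l, hl, rfl⟩ : ∃ n ∈ normalizer (T : Set G), ∃ l ∈ L, n * l = g :=
    mem_sup_of_normal_right.mp (hFr ▸ mem_top g)
  have hz' : l * z * l⁻¹ ∈ Z := (mem_normalizer_iff.mp (hLN hl) z).mp hz
  have h := mem_sInf.mp (hz'.2 : l * z * l⁻¹ ∈ W) _ (hconj n⁻¹ (inv_mem hn) A' hA' hA'L)
  obtain ⟨y, hy, hyx⟩ := h
  change n⁻¹ * y * n⁻¹⁻¹ = _ at hyx
  have e1 : n * l * z * (n * l)⁻¹ = n * (l * z * l⁻¹) * n⁻¹ := by group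
  show n * l * z * (n * l)⁻¹ ∈ A'
  rw [e1, ← hyx]
  simpa [mul_assoc] using hy

/-- The ZJ-theorem: `zInter e D` is normal if `C(O_p) ≤ O_p`. -/
theorem normal_zInter (hp : p ≠ 2) (he : e = 0 ∨ Odd e) (hst : PStableNormal p G)
    (hD : IsStronglyClosed D (S : Subgroup G))
    (hc : centralizer (pCore p G : Set G) ≤ pCore p G) : (zInter e D).Normal := by
  have hOS : pCore p G ≤ (S : Subgroup G) := Core.pCore_le_sylow S
  have hle : zInter e D ≤ pCore p G := by
    intro x hx
    have hxS : x ∈ (S : Subgroup G) := hD.1 (zInter_le e D hx)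
    have hq : ⁅⁅pCore p G, zpowers x⁆, zpowers x⁆ = ⊥ := by
      refine le_bot_iff.mp ?_
      calc ⁅⁅pCore p G, zpowers x⁆, zpowers x⁆ ≤ ⁅⁅pCore p G, zInter e D⁆, zInter e D⁆ :=
            commutator_mono (commutator_mono le_rfl (zpowers_le.mpr hx)) (zpowers_le.mpr hx)
        _ ≤ ⁅zInter e D, zInter e D⁆ := commutator_mono
            (le_normalizer_iff_commutator_le_right.mp (hOS.trans (le_normalizer_zInter hD))) le_rfl
        _ = ⊥ := commutator_eq_bot_iff_le_centralizer.mpr fun y hy =>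
            mem_centralizer_iff.mpr fun z hz =>
              (commute_of_isMulCommutative (zInter_comm e D) hz hy).eq
    have h1 := hst _ inferInstance (Core.pCore_isPGroup) x (S.2.to_le (zpowers_le.mpr hxS)) hq S
    refine Core.le_pCore (N := normalCore (S : Subgroup G)) (S.2.to_le (normalCore_le _)) ?_
    rwa [sup_of_le_left (hc.trans hOS)] at h1
  have := normal_inf_zInter hp he hst hD _ (inferInstance : (pCore p G).Normal) Core.pCore_isPGroup
  rwa [inf_of_le_right hle] at this

theorem isStronglyClosed_self (S : Sylow p G) : IsStronglyClosed (S : Subgroup G) (S : Subgroup G) :=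
  ⟨le_rfl, fun _ _ _ h => h⟩

/-- The ZJ-theorem for the Sylow subgroup: `zInter e S` is characteristic. -/
theorem characteristic_zInter (hp : p ≠ 2) (he : e = 0 ∨ Odd e) (hst : PStableNormal p G)
    (hc : centralizer (pCore p G : Set G) ≤ pCore p G) (S : Sylow p G) :
    (zInter e (S : Subgroup G)).Characteristic := by
  have hn := normal_zInter hp he hst (isStronglyClosed_self S) hc
  refine characteristic_iff_map_le.mpr fun φ => ?_
  rw [zInter_map (G := G) φ.injective]
  obtain ⟨g, hg⟩ := MulAction.exists_smul_eq G S (S.mapSurjective (f := φ.toMonoidHom) φ.surjective)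
  have e1 : (S : Subgroup G).map φ.toMonoidHom =
      (S : Subgroup G).map (MulAut.conj g).toMonoidHom := by
    rw [← Sylow.coe_mapSurjective (f := φ.toMonoidHom) φ.surjective S, ← hg]
    rfl
  rw [e1, ← zInter_map (f := (MulAut.conj g).toMonoidHom) (MulAut.conj g).injective]
  rintro _ ⟨x, hx, rfl⟩
  exact hn.conj_mem x hx g

end Cfsg.Agent.Fusion
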