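import Cfsg.Agent.MaxClass.Class
import Cfsg.Agent.MaxClass.OddP

/-!
# Two-groups of class `n - 1`

`mc_of_class` : a 2-group of order `2^n`, `n ≥ 3`, and class `n - 1` is dihedral, semidihedral or
generalised quaternion; `class_of_index_commutator` : the converse via the index of the derived group.
-/

set_option autoImplicit false

namespace Cfsg.Agent.Fusion

open Subgroup
open scoped commutatorElement

variable {X : Type*} [Group X] [Finite X]

theorem mc_of_class {n : ℕ} (hn : 3 ≤ n) (hX : Nat.card X = 2 ^ n)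
    (hc : Group.nilpotencyClass X = n - 1) : MaxClass.MC X ∧ commutator X ≠ ⊥ := by
  have : Fact (Nat.Prime 2) := ⟨Nat.prime_two⟩
  have := (IsPGroup.of_card hX).isNilpotent
  have h2 : (⊤ : Subgroup X).lowerCentralSeries (n - 2) ≠ ⊥ := fun hb => by
    have := _root_.lowerCentralSeries_eq_bot_iff_nilpotencyClass_le.1 hb
    omega
  have hne : commutator X ≠ ⊥ := fun hb => h2 (le_bot_iff.1
    ((Subgroup.lowerCentralSeries_antitone _ (show 1 ≤ n - 2 by omega)).trans (by
      show (⊤ : Subgroup X).lowerCentralSeries 1 ≤ ⊥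
      rw [top_lowerCentralSeries_one, hb])))
  refine ⟨MaxClass.mc_of_lowerCentralSeries (fun h => hne (MaxClass.commutator_eq_bot_of_comm fun a b => ?_)) hX h2,
    hne⟩
  exact h.is_comm.comm a b

theorem index_commutator_of_mc (h : MaxClass.MC X) (hne : commutator X ≠ ⊥) :
    (commutator X).index = 4 ∧ ∀ x : X, x * x ∈ commutator X := by
  obtain ⟨m, a, b, u, hm, hc, ha, hi, hb, hu, he⟩ := h.data
  have : Fact (Nat.Prime 2) := ⟨Nat.prime_two⟩
  have ha2 : a * a ∈ commutator X := by
    have h1 : a ^ (2 * u) ∈ commutator X := by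
      have h2 : ⁅b, a⁆ ∈ commutator X := by
        rw [_root_.commutator_def]; exact commutator_mem_commutator (mem_top b) (mem_top a)
      have h3 : ⁅b, a⁆ = a ^ (2 * u) := by
        rw [commutatorElement_def, he, ← zpow_neg_one, ← _root_.zpow_add]
        ring_nf
      rwa [h3] at h2
    obtain ⟨x, y, hxy⟩ : IsCoprime u ((2 : ℤ) ^ m) := by
      refine IsCoprime.pow_right ?_
      obtain ⟨s, hs⟩ := hu
      exact ⟨1, -s, by rw [hs]; ring⟩
    have h4 := zpow_mem h1 x
    rw [← _root_.zpow_mul] at h4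
    have h5 : a * a = a ^ (2 * u * x) := by
      rw [← pow_two, ← zpow_natCast]
      refine (MaxClass.zpow_eq_iff ha).2 ⟨-(2 * y), ?_⟩
      push_cast
      linear_combination (2 : ℤ) * hxy
    rwa [h5]
  obtain ⟨c, hcc⟩ := mem_zpowers_iff.1 ((mul_mem_iff_of_index_two hi (a := b) (b := b)).2 Iff.rfl)
  have hce : Even c := by
    have h' : a ^ ((2 * u + 1) * c) = a ^ c := by
      rw [← MaxClass.conj_zpow_of_eq he, hcc]; group
    have h'' := (MaxClass.zpow_eq_iff ha).1 h'
    rw [show c - (2 * u + 1) * c = 2 * (-(u * c)) by ring] at h''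
    obtain ⟨j, rfl⟩ : ∃ j, m = j + 2 := ⟨m - 2, by omega⟩
    rw [pow_succ', mul_dvd_mul_iff_left (two_ne_zero : (2 : ℤ) ≠ 0), dvd_neg] at h''
    have h3 : (2 : ℤ) ∣ u * c := (dvd_pow_self (2 : ℤ) (Nat.succ_ne_zero j)).trans h''
    rcases Int.prime_two.dvd_mul.1 h3 with h4 | h4
    · exact absurd (even_iff_two_dvd.2 h4) (Int.not_even_iff_odd.2 hu)
    · exact even_iff_two_dvd.2 h4
  -- the quotient by the derived group
  set f := QuotientGroup.mk' (commutator X) with hf
  have hf1 : ∀ x, f x = 1 ↔ x ∈ commutator X := fun x => QuotientGroup.eq_one_iff x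
  have hcomm : ∀ x y, f x * f y = f y * f x := fun x y => by
    rw [← map_mul, ← map_mul]
    refine QuotientGroup.eq.2 ?_
    rw [_root_.commutator_def, show (x * y)⁻¹ * (y * x) = ⁅y⁻¹, x⁻¹⁆ by rw [commutatorElement_def]; group]
    exact commutator_mem_commutator (mem_top _) (mem_top _)
  have hfa : f a * f a = 1 := by rw [← map_mul, hf1]; exact ha2
  have hfb : f b * f b = 1 := by
    rw [← map_mul, hf1, ← hcc]
    obtain ⟨d, rfl⟩ := hce
    rw [← two_mul, _root_.zpow_mul, zpow_two]
    exact zpow_mem ha2 d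
  have hsq : ∀ x, f x * f x = 1 := by
    intro x
    rcases MaxClass.cover_of_index_two hi hb x with hx | hx <;> obtain ⟨i, hi'⟩ := mem_zpowers_iff.1 hx
    · rw [← hi', map_zpow, ← (Commute.refl (f a)).mul_zpow, hfa, one_zpow]
    · obtain rfl : x = b * a ^ i := by rw [hi', mul_inv_cancel_left]
      have e : ∀ v w : X ⧸ commutator X, v * w = w * v → v * w * (v * w) = (v * v) * (w * w) := fun v w h => by
        rw [mul_assoc v w, ← mul_assoc w v w, ← h, mul_assoc v w w, ← mul_assoc v v]
      rw [map_mul, e _ _ (hcomm b (a ^ i)), hfb, map_zpow, ← (Commute.refl (f a)).mul_zpow, hfa, one_zpow,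
        one_mul]
  refine ⟨le_antisymm ?_ (MaxClass.four_le_index_commutator (IsPGroup.of_card hc) hne),
    fun x => (hf1 _).1 (by rw [map_mul]; exact hsq x)⟩
  rw [index_eq_card]
  let g : Fin 2 × Fin 2 → X ⧸ commutator X := fun q => f b ^ (q.1 : ℕ) * f a ^ (q.2 : ℕ)
  have hg : Function.Surjective g := by
    intro z
    obtain ⟨x, rfl⟩ := QuotientGroup.mk'_surjective _ z
    have hpa : ∀ i : ℤ, f (a ^ i) = 1 ∨ f (a ^ i) = f a := by
      intro i
      rcases Int.even_or_odd i with ⟨d, rfl⟩ | ⟨d, rfl⟩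
      · left; rw [map_zpow, _root_.zpow_add, ← (Commute.refl (f a)).mul_zpow, hfa, one_zpow]
      · right; rw [map_zpow, _root_.zpow_add, zpow_one, _root_.zpow_mul, zpow_two, hfa, one_zpow, one_mul]
    rcases MaxClass.cover_of_index_two hi hb x with hx | hx <;> obtain ⟨i, hi'⟩ := mem_zpowers_iff.1 hx
    · rcases hpa i with h0 | h0
      · refine ⟨(0, 0), ?_⟩
        show f b ^ 0 * f a ^ 0 = f x
        rw [← hi', h0, pow_zero, pow_zero, one_mul]
      · refine ⟨(0, 1), ?_⟩
        show f b ^ 0 * f a ^ 1 = f x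
        rw [← hi', h0, pow_zero, pow_one, one_mul]
    · obtain rfl : x = b * a ^ i := by rw [hi', mul_inv_cancel_left]
      rcases hpa i with h0 | h0
      · refine ⟨(1, 0), ?_⟩
        show f b ^ 1 * f a ^ 0 = f (b * a ^ i)
        rw [map_mul, h0, pow_one, pow_zero]
      · refine ⟨(1, 1), ?_⟩
        show f b ^ 1 * f a ^ 1 = f (b * a ^ i)
        rw [map_mul, h0, pow_one, pow_one]
  exact (Nat.card_le_card_of_surjective g hg).trans (by simp)

theorem class_of_index_commutator {n : ℕ} (hn : 3 ≤ n) (hX : Nat.card X = 2 ^ n)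
    (hi : (commutator X).index = 4) : Group.nilpotencyClass X = n - 1 := by
  have : Fact (Nat.Prime 2) := ⟨Nat.prime_two⟩
  have hS := IsPGroup.of_card hX
  have := hS.isNilpotent
  have hne : commutator X ≠ ⊥ := fun h0 => by
    rw [h0, index_bot, hX] at hi
    have := Nat.pow_le_pow_right two_pos hn
    omega
  have hlow := (MaxClass.mc_of_commutator hS hi hne).lowerCentralSeries_ne_bot hX
  set γ := (⊤ : Subgroup X).lowerCentralSeries with hγ
  have hγ1 : γ 1 = commutator X := top_lowerCentralSeries_one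
  have hc1 : Nat.card (γ 1) = 2 ^ (n - 2) := by
    have h := (commutator X).card_mul_index
    rw [hi, hX, show n = (n - 2) + 2 by omega, pow_add] at h
    rw [hγ1]
    exact Nat.eq_of_mul_eq_mul_right (by norm_num : 0 < 2 ^ 2) h
  have hall : ∀ i, i ≤ n - 2 → γ (1 + i) = ⊥ ∨ 2 ^ i * Nat.card (γ (1 + i)) ≤ Nat.card (γ 1) := by
    intro i
    induction i with
    | zero => intro _; exact Or.inr (by simp)
    | succ i ih =>
      intro hi'
      rcases ih (by omega) with h | h
      · exact Or.inl (le_bot_iff.1 ((Subgroup.lowerCentralSeries_antitone _ (by omega)).trans h.le))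
      · by_cases hb : γ (1 + i) = ⊥
        · exact Or.inl (le_bot_iff.1 ((Subgroup.lowerCentralSeries_antitone _ (by omega)).trans hb.le))
        · refine Or.inr (le_trans ?_ h)
          rw [pow_succ, mul_assoc]
          exact Nat.mul_le_mul_left _ (MaxClass.lcs_step hS (1 + i) hb)
  have hbot : γ (1 + (n - 2)) = ⊥ := by
    rcases hall (n - 2) le_rfl with h | h
    · exact h
    · rw [hc1] at h
      exact Subgroup.card_eq_one.1 (le_antisymm
        (Nat.le_of_mul_le_mul_left (by rw [mul_one]; exact h) (Nat.two_pow_pos _)) Nat.card_pos)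
  have h1 := _root_.lowerCentralSeries_eq_bot_iff_nilpotencyClass_le.1 hbot
  have h2 : ¬ Group.nilpotencyClass X ≤ n - 2 := fun h =>
    hlow (_root_.lowerCentralSeries_eq_bot_iff_nilpotencyClass_le.2 h)
  omega

end Cfsg.Agent.Fusion
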