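import Cfsg.Agent.Fusion.Critical
import Cfsg.Agent.S0121

/-!
# A coprime automorphism fixing the elements of order `p` (`4` for `p = 2`) is trivial
-/

set_option autoImplicit false
set_option maxHeartbeats 400000

namespace Cfsg.Agent.Fusion

open Subgroup
open scoped commutatorElement

/-- A `p'`-automorphism of a `p`-group fixing every element of order dividing `p` (and `4` when
`p = 2`) is trivial. -/
theorem eq_one_of_fixes_omega {G : Type*} [Group G] [Finite G] {p : ℕ} [Fact p.Prime]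
    (hG : IsPGroup p G) (a : MulAut G) (ha : Nat.Coprime (orderOf a) p)
    (h : ∀ x : G, (x ^ p = 1 ∨ (p = 2 ∧ x ^ 4 = 1)) → a x = x) : a = 1 := by
  obtain ⟨H, hH, hHle, h1, h2, h3⟩ := exists_critical hG
  refine Cfsg.Agent.S0121.result hG H hH h1 h2 h3 a ha ?_
  have hHmem : ∀ x ∈ H, a x ∈ H := fun x hx => (Subgroup.characteristic_iff_le_comap.mp hH a) hx
  suffices key : ∀ k : ℕ, ∀ x : H, (x : G) ^ p ^ k = 1 → a (x : G) = x by
    intro x hx
    obtain ⟨k, hk⟩ := IsPGroup.iff_orderOf.mp hG x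
    exact key k ⟨x, hx⟩ (hk ▸ pow_orderOf_eq_one x)
  intro k
  induction k with
  | zero =>
    intro x hx
    rw [pow_zero, pow_one] at hx
    rw [hx, map_one]
  | succ k ih =>
    intro x hx
    set y : H := ⟨a (x : G), hHmem _ x.2⟩ with hy
    have hxp : a ((x : G) ^ p) = (x : G) ^ p := by
      have := ih (x ^ p) (by rw [SubmonoidClass.coe_pow, ← pow_mul, ← pow_succ']; exact hx)
      rwa [SubmonoidClass.coe_pow] at this
    have hyp : y ^ p = x ^ p := Subtype.ext (by
      rw [SubmonoidClass.coe_pow, SubmonoidClass.coe_pow, hy, ← map_pow, hxp])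
    have hc : ∀ u v : H, ⁅u, v⁆ ∈ Subgroup.center H := fun u v =>
      hHle (Subgroup.commutator_mem_commutator (Subgroup.mem_top u) (Subgroup.mem_top v))
    have hcp : ⁅y, x⁻¹⁆ ^ p = 1 := by
      rw [← commutatorElement_pow_left_of_le_center hHle, hyp]
      exact commutatorElement_eq_one_iff_commute.mpr ((Commute.refl x).pow_left p).inv_right
    have hz : (x⁻¹ * y) ^ p = 1 ∨ (p = 2 ∧ (x⁻¹ * y) ^ 4 = 1) := by
      have hm : (x⁻¹ * y) ^ p = ⁅y, x⁻¹⁆ ^ p.choose 2 := by
        rw [mul_pow_of_commute_commutator (Subgroup.mem_center_iff.mp (hc y x⁻¹) x⁻¹).symm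
          (Subgroup.mem_center_iff.mp (hc y x⁻¹) y).symm, hyp, inv_pow, inv_mul_cancel, one_mul]
      rcases eq_or_ne p 2 with rfl | hp
      · refine Or.inr ⟨rfl, ?_⟩
        rw [show (4 : ℕ) = 2 * 2 from rfl, pow_mul, hm, ← pow_mul, mul_comm, pow_mul, hcp, one_pow]
      · obtain ⟨t, ht⟩ := Nat.Prime.dvd_choose_self (Fact.out : p.Prime) two_ne_zero
          (lt_of_le_of_ne (Fact.out : p.Prime).two_le (Ne.symm hp))
        exact Or.inl (by rw [hm, ht, pow_mul, hcp, one_pow])
    set z : G := ((x⁻¹ * y : H) : G) with hzdef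
    have hzfix : a z = z := h z (hz.imp
      (fun e => by rw [hzdef, ← SubmonoidClass.coe_pow, e]; rfl)
      (fun e => ⟨e.1, by rw [hzdef, ← SubmonoidClass.coe_pow, e.2]; rfl⟩))
    obtain ⟨m, hzp⟩ : ∃ m, z ^ p ^ m = 1 := hG z
    have hax : a (x : G) = x * z := by
      rw [hzdef, Subgroup.coe_mul, Subgroup.coe_inv, hy, mul_inv_cancel_left]
    have hit : ∀ n : ℕ, (a ^ n) (x : G) = x * z ^ n := by
      intro n
      induction n with
      | zero => simp
      | succ n ihn =>
        rw [pow_succ', MulAut.mul_apply, ihn, map_mul, map_pow, hzfix, hax, mul_assoc, ← pow_succ']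
    have h5 := hit (orderOf a)
    rw [pow_orderOf_eq_one, MulAut.one_apply, left_eq_mul] at h5
    have h6 : orderOf z ∣ Nat.gcd (p ^ m) (orderOf a) :=
      Nat.dvd_gcd (orderOf_dvd_of_pow_eq_one hzp) (orderOf_dvd_of_pow_eq_one h5)
    rw [Nat.Coprime.gcd_eq_one (ha.symm.pow_left m), Nat.dvd_one, orderOf_eq_one_iff] at h6
    rw [hax, h6, mul_one]

end Cfsg.Agent.Fusion
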