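import Cfsg.Agent.Fusion.PGroup
import Cfsg.Agent.Core.Basics

/-!
# The Glauberman replacement

`commutator_sq_eq_one` : the identity behind replacement.
`star A b` : the subgroup `(A ∩ Aᵇ)[A, b]`; `star_*` : its properties.
-/

set_option autoImplicit false

namespace Cfsg.Agent.Fusion.Replacement

open Subgroup
open scoped commutatorElement

variable {G : Type*} [Group G]

theorem mul_comm_of_mem_bot {H K : Subgroup G} (h : ⁅H, K⁆ = ⊥) {x y : G} (hx : x ∈ H)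
    (hy : y ∈ K) : Commute x y :=
  commutatorElement_eq_one_iff_mul_comm.mp (mem_bot.mp (h ▸ commutator_mem_commutator hx hy))

theorem commutatorElement_mem_of_le_normalizer {B : Subgroup G} {β a : G} (hβ : β ∈ B)
    (ha : a ∈ normalizer (B : Set G)) : ⁅β, a⁆ ∈ B := by
  rw [commutatorElement_def, mul_assoc, mul_assoc, ← mul_assoc a]
  exact mul_mem hβ ((mem_normalizer_iff.mp ha _).mp (Subgroup.inv_mem _ hβ))

theorem derived_commutator_eq_bot {A B : Subgroup G} (hc : ⁅⁅B, B⁆, A⁆ = ⊥) :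
    ⁅⁅B, B⁆, ⁅B, A⁆⁆ = ⊥ := by
  rw [commutator_eq_bot_iff_le_centralizer, le_centralizer_iff, commutator_le]
  intro y hy a ha
  have hac : a ∈ centralizer ((⁅B, B⁆ : Subgroup G) : Set G) :=
    mem_centralizer_iff.mpr fun z hz => (mul_comm_of_mem_bot hc hz ha).eq
  have hyn : y ∈ normalizer ((⁅B, B⁆ : Subgroup G) : Set G) :=
    normalizer_commutator_ge_left B B hy
  rw [commutatorElement_def]
  refine mul_mem ?_ (Subgroup.inv_mem _ hac)
  rw [mem_centralizer_iff] at hac ⊢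
  intro z hz
  have := hac _ ((mem_normalizer_iff''.mp hyn z).mp hz)
  calc z * (y * a * y⁻¹) = y * ((y⁻¹ * z * y) * a) * y⁻¹ := by group
    _ = y * (a * (y⁻¹ * z * y)) * y⁻¹ := by rw [this]
    _ = y * a * y⁻¹ * z := by group

theorem commutator_derived_eq_bot {A B : Subgroup G} (hAB : A ≤ normalizer (B : Set G))
    (hc : ⁅⁅B, B⁆, A⁆ = ⊥) : ⁅⁅⁅B, A⁆, ⁅B, A⁆⁆, B⁆ = ⊥ := by
  have hBA : ⁅B, A⁆ ≤ B := le_normalizer_iff_commutator_le_left.mp hAB
  have hcW := derived_commutator_eq_bot hc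
  have h1 : ⁅⁅⁅B, A⁆, B⁆, ⁅B, A⁆⁆ = ⊥ :=
    le_bot_iff.mp ((commutator_mono (commutator_mono hBA le_rfl) le_rfl).trans hcW.le)
  refine commutator_commutator_eq_bot_of_rotate h1 ?_
  exact le_bot_iff.mp ((commutator_mono (commutator_mono le_rfl hBA) le_rfl).trans hcW.le)


/-- The identity behind Glauberman's replacement. -/
theorem commutator_sq_eq_one {A B : Subgroup G} (hAB : A ≤ normalizer (B : Set G))
    (hc : ⁅⁅B, B⁆, A⁆ = ⊥) (hA : IsMulCommutative A) {β : G} (hβ : β ∈ B)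
    (h3 : ∀ a ∈ A, ∀ a' ∈ A, ∀ d ∈ A, Commute d ⁅a, ⁅β, a'⁆⁆) :
    ∀ a ∈ A, ∀ a' ∈ A, ⁅⁅β, a⁆, ⁅β, a'⁆⁆ ^ 2 = 1 ∧
      ∀ y ∈ B, Commute y ⁅⁅β, a⁆, ⁅β, a'⁆⁆ := by
  have hcW := derived_commutator_eq_bot hc
  have hBA : ⁅B, A⁆ ≤ B := le_normalizer_iff_commutator_le_left.mp hAB
  have hcent := commutator_derived_eq_bot hAB hc
  have key : ∀ a ∈ A, ∀ a' ∈ A, ⁅β, ⁅a, ⁅β, a'⁆⁆⁆ = ⁅⁅β, a⁆, ⁅β, a'⁆⁆ ∧
      Commute ⁅β, a⁆ ⁅a, ⁅β, a'⁆⁆ ∧ Commute ⁅β, a'⁆ ⁅a, ⁅β, a'⁆⁆ := by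
    intro a ha a' ha'
    set u := ⁅β, a⁆ with hu
    set u' := ⁅β, a'⁆ with hu'
    set t := ⁅a, u'⁆ with ht
    set W := ⁅B, A⁆ with hW
    have huW : u ∈ W := commutator_mem_commutator hβ ha
    have hu'W : u' ∈ W := commutator_mem_commutator hβ ha'
    have hu'B : u' ∈ B := hBA hu'W
    have htB : t ∈ B := by
      rw [ht, commutatorElement_def]
      exact mul_mem ((mem_normalizer_iff.mp (hAB ha) u').mp hu'B) (Subgroup.inv_mem _ hu'B)
    have htc : ∀ z ∈ ⁅B, B⁆, Commute z t := fun z hz => by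
      rw [ht, commutatorElement_def]
      exact (((mul_comm_of_mem_bot hc hz ha).mul_right (mul_comm_of_mem_bot hcW hz hu'W)).mul_right
        (mul_comm_of_mem_bot hc hz ha).inv_right).mul_right (mul_comm_of_mem_bot hcW hz hu'W).inv_right
    have hta : ∀ d ∈ A, Commute d t := fun d hd => h3 a ha a' ha' d hd
    -- `t` commutes with `u` and `u'`
    have hcu : ∀ d ∈ A, Commute ⁅β, d⁆ t := by
      intro d hd
      set v := ⁅β, d⁆ with hv
      have hvW : v ∈ W := commutator_mem_commutator hβ hd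
      set f := ⁅β, t⁆ with hf
      have hfB : f ∈ ⁅B, B⁆ := commutator_mem_commutator hβ htB
      have hfd : d * f * d⁻¹ = f := by
        rw [← (mul_comm_of_mem_bot hc hfB hd).eq, mul_inv_cancel_right]
      have hfv : v⁻¹ * f * v = f := by
        rw [(mul_comm_of_mem_bot hcW hfB hvW).inv_right.symm.eq, inv_mul_cancel_right]
      have h1 : d * f * d⁻¹ = ⁅v⁻¹ * β, t⁆ := by
        rw [hf, conjugate_commutatorElement, (hta d hd).eq, mul_inv_cancel_right]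
        congr 1
        rw [hv, commutatorElement_def]; group
      have h2 : ⁅v⁻¹ * β, t⁆ = v⁻¹ * f * v * ⁅v⁻¹, t⁆ := by
        rw [hf]; simp only [commutatorElement_def]; group
      rw [hfd, h2, hfv] at h1
      have h3 : ⁅v⁻¹, t⁆ = 1 := mul_eq_left.mp h1.symm
      simpa using (commutatorElement_eq_one_iff_commute.mp h3).inv_left
    refine ⟨?_, hcu a ha, hcu a' ha'⟩
    set e := ⁅β, u'⁆ with he
    have heB : e ∈ ⁅B, B⁆ := commutator_mem_commutator hβ hu'B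
    have h1 : a * e * a⁻¹ = ⁅u⁻¹ * β, t * u'⁆ := by
      rw [he, conjugate_commutatorElement]
      congr 1
      · rw [hu, commutatorElement_def]; group
      · rw [ht, commutatorElement_def]; group
    have h2 : a * e * a⁻¹ = e := by
      rw [← (mul_comm_of_mem_bot hc heB ha).eq, mul_inv_cancel_right]
    have h3' : ⁅u⁻¹ * β, t * u'⁆ = u⁻¹ * ⁅β, t * u'⁆ * u * ⁅u⁻¹, t * u'⁆ := by
      simp only [commutatorElement_def]; group
    have h4 : ⁅β, t * u'⁆ = ⁅β, t⁆ * e := by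
      have : ⁅β, t * u'⁆ = ⁅β, t⁆ * (t * e * t⁻¹) := by
        rw [he]; simp only [commutatorElement_def]; group
      rw [this, ← (htc e heB).eq, mul_inv_cancel_right]
    have h5 : ⁅u⁻¹, t * u'⁆ = ⁅u, u'⁆⁻¹ := by
      have hcc : Commute u⁻¹ ⁅u⁻¹, u'⁆ := by
        have hm : ⁅u⁻¹, u'⁆ ∈ ⁅W, W⁆ := commutator_mem_commutator (Subgroup.inv_mem _ huW) hu'W
        exact (mul_comm_of_mem_bot hcent hm (hBA (Subgroup.inv_mem _ huW))).symm
      have e1 : ⁅u⁻¹, t * u'⁆ = t * ⁅u⁻¹, u'⁆ * t⁻¹ := by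
        have h6 : u⁻¹ * t = t * u⁻¹ := ((hcu a ha).inv_left).eq
        calc ⁅u⁻¹, t * u'⁆ = (u⁻¹ * t) * u' * u * (u'⁻¹ * t⁻¹) := by
              rw [commutatorElement_def]; group
          _ = (t * u⁻¹) * u' * u * (u'⁻¹ * t⁻¹) := by rw [h6]
          _ = t * ⁅u⁻¹, u'⁆ * t⁻¹ := by rw [commutatorElement_def]; group
      have hm : ⁅u⁻¹, u'⁆ ∈ ⁅W, W⁆ := commutator_mem_commutator (Subgroup.inv_mem _ huW) hu'W
      rw [e1, ← (mul_comm_of_mem_bot hcent hm htB).eq, mul_inv_cancel_right]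
      have e2 : u * ⁅u⁻¹, u'⁆ * u⁻¹ = ⁅u, u'⁆⁻¹ := by simp only [commutatorElement_def]; group
      have hcu' : Commute u ⁅u⁻¹, u'⁆ := by simpa using hcc.inv_left
      rw [← e2, hcu'.eq, mul_inv_cancel_right]
    have h7 : ⁅β, t⁆ * e ∈ ⁅B, B⁆ := mul_mem (commutator_mem_commutator hβ htB) heB
    have h8 : u⁻¹ * (⁅β, t⁆ * e) * u = ⁅β, t⁆ * e := by
      rw [(mul_comm_of_mem_bot hcW h7 huW).inv_right.symm.eq, inv_mul_cancel_right]
    rw [h2, h3', h4, h8, h5] at h1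
    have hew : Commute e ⁅u, u'⁆⁻¹ :=
      (mul_comm_of_mem_bot hcent (commutator_mem_commutator huW hu'W)
        (commutator_le_self B heB)).symm.inv_right
    rw [mul_assoc, hew.eq, ← mul_assoc] at h1
    exact eq_of_mul_inv_eq_one (mul_eq_right.mp h1.symm)
  intro a ha a' ha'
  obtain ⟨hw, hut, hu't⟩ := key a ha a' ha'
  obtain ⟨hw', hu't', hut'⟩ := key a' ha' a ha
  set u := ⁅β, a⁆
  set u' := ⁅β, a'⁆
  set t := ⁅a, u'⁆ with ht
  set t' := ⁅a', u⁆ with ht'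
  set w := ⁅u, u'⁆ with hwdef
  have huW : u ∈ ⁅B, A⁆ := commutator_mem_commutator hβ ha
  have hu'W : u' ∈ ⁅B, A⁆ := commutator_mem_commutator hβ ha'
  have hwc : ∀ y ∈ B, Commute y w := fun y hy =>
    (mul_comm_of_mem_bot hcent (commutator_mem_commutator huW hu'W) hy).symm
  refine ⟨?_, hwc⟩
  have e1 : ⁅β, a * a'⁆ = u * (t * u') := by
    simp only [ht, u, u', commutatorElement_def]; group
  have e2 : ⁅β, a' * a⁆ = u' * (t' * u) := by
    simp only [ht', u, u', commutatorElement_def]; group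
  have e3 : a * a' = a' * a := congrArg (fun z : A => (z : G)) (hA.is_comm.comm ⟨a, ha⟩ ⟨a', ha'⟩)
  have h1 : u * (t * u') = u' * (t' * u) := by rw [← e1, ← e2, e3]
  have hsw : u * u' = w * (u' * u) := by rw [hwdef, commutatorElement_def]; group
  have h2 : t * w * (u' * u) = t' * (u' * u) := by
    calc t * w * (u' * u) = t * (u * u') := by rw [mul_assoc, ← hsw]
      _ = u * (t * u') := by rw [← mul_assoc, ← hut.eq, mul_assoc]
      _ = u' * (t' * u) := h1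
      _ = t' * (u' * u) := by rw [← mul_assoc, hu't'.eq, mul_assoc]
  have htw : t * w = t' := mul_right_cancel h2
  have htB : t ∈ B := by
    rw [ht, commutatorElement_def]
    exact mul_mem ((mem_normalizer_iff.mp (hAB ha) u').mp (hBA hu'W))
      (Subgroup.inv_mem _ (hBA hu'W))
  have h3' : ⁅β, t'⁆ = ⁅β, t⁆ := by
    have hβw : ⁅β, w⁆ = 1 := commutatorElement_eq_one_iff_commute.mpr (hwc β hβ)
    calc ⁅β, t'⁆ = ⁅β, t⁆ * (t * ⁅β, w⁆ * t⁻¹) := by
          rw [← htw]; simp only [commutatorElement_def]; group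
      _ = ⁅β, t⁆ := by rw [hβw, mul_one, mul_inv_cancel, mul_one]
  rw [hw, hw', ← commutatorElement_inv u u', ← hwdef] at h3'
  rw [pow_two]
  exact inv_eq_iff_mul_eq_one.mp h3'

/-- `star A b = (A ∩ Aᵇ)[A, b]`. -/
def star (A : Subgroup G) (b : G) : Subgroup G :=
  (A ⊓ A.map (MulAut.conj b⁻¹).toMonoidHom) ⊔
    closure {g : G | ∃ a ∈ A, g = a * b⁻¹ * a⁻¹ * b}

variable [Finite G] {p : ℕ} [Fact p.Prime]

/-- The hypotheses of the replacement. -/
structure Setup (p : ℕ) (A B : Subgroup G) (b : G) : Prop where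
  isPGroup : IsPGroup p B
  comm : IsMulCommutative A
  normalized : A ≤ normalizer (B : Set G)
  derived : ⁅B, B⁆ ≤ A
  two : p = 2 → IsMulCommutative B
  mem : b ∈ B
  normalizer : b ∈ Subgroup.normalizer ((Subgroup.normalizer (A : Set G)) : Set G)
  notMem : b ∉ Subgroup.normalizer (A : Set G)

variable {A B : Subgroup G} {b : G}

theorem mem_conj_inv {x : G} {H : Subgroup G} :
    x ∈ H.map (MulAut.conj b⁻¹).toMonoidHom ↔ b * x * b⁻¹ ∈ H := by
  constructor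
  · rintro ⟨y, hy, rfl⟩
    show b * (b⁻¹ * y * b⁻¹⁻¹) * b⁻¹ ∈ H
    simpa [mul_assoc] using hy
  · intro h
    exact ⟨_, h, by show b⁻¹ * (b * x * b⁻¹) * b⁻¹⁻¹ = x; group⟩

theorem commute_of_mem_setup (hS : Setup p A B b) {x y : G} (hx : x ∈ A) (hy : y ∈ A) :
    Commute x y :=
  congrArg (fun z : A => (z : G)) (hS.comm.is_comm.comm ⟨x, hx⟩ ⟨y, hy⟩)

theorem conj_mem_derived (hS : Setup p A B b) {x : G} (hx : x ∈ ⁅B, B⁆) :
    x ∈ A ⊓ A.map (MulAut.conj b⁻¹).toMonoidHom :=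
  ⟨hS.derived hx, mem_conj_inv.mpr (hS.derived
    ((mem_normalizer_iff.mp (normalizer_commutator_ge_left B B hS.mem) x).mp hx))⟩

theorem conj_normalizer (hS : Setup p A B b) {x : G} (hx : x ∈ Subgroup.normalizer (A : Set G)) :
    b * x * b⁻¹ ∈ Subgroup.normalizer (A : Set G) :=
  (mem_normalizer_iff.mp hS.normalizer x).mp hx

/-- `A` and `Aᵇ` normalise each other. -/
theorem conj_conj_mem (hS : Setup p A B b) {g x : G} (hg : g ∈ Subgroup.normalizer (A : Set G))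
    (hx : x ∈ A.map (MulAut.conj b⁻¹).toMonoidHom) :
    g * x * g⁻¹ ∈ A.map (MulAut.conj b⁻¹).toMonoidHom := by
  rw [mem_conj_inv] at hx ⊢
  have h1 := (mem_normalizer_iff.mp (conj_normalizer hS hg) _).mp hx
  convert h1 using 1
  group

/-- `b⁻¹ a b a⁻¹` for `a ∈ A`. -/
theorem u_mem (hS : Setup p A B b) {a : G} (ha : a ∈ A) : ⁅b⁻¹, a⁆ ∈ B :=
  commutatorElement_mem_of_le_normalizer (Subgroup.inv_mem _ hS.mem) (hS.normalized ha)

theorem mem_normalizer_of_conjA (hS : Setup p A B b) {x : G}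
    (hx : x ∈ A.map (MulAut.conj b⁻¹).toMonoidHom) : x ∈ Subgroup.normalizer (A : Set G) := by
  obtain ⟨a, ha, rfl⟩ := hx
  show b⁻¹ * a * b⁻¹⁻¹ ∈ _
  rw [inv_inv]
  exact (mem_normalizer_iff''.mp hS.normalizer a).mp (le_normalizer ha)

theorem u_mem_normalizer (hS : Setup p A B b) {a : G} (ha : a ∈ A) :
    ⁅b⁻¹, a⁆ ∈ Subgroup.normalizer (A : Set G) := by
  rw [commutatorElement_def, inv_inv]
  exact mul_mem (mem_normalizer_of_conjA hS ⟨a, ha, by show b⁻¹ * a * b⁻¹⁻¹ = _; rw [inv_inv]⟩)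
    (Subgroup.inv_mem _ (le_normalizer ha))

/-- Commutators of `A` with `A` and `Aᵇ` lie in `D = A ∩ Aᵇ`. -/
theorem commutator_A_u_mem (hS : Setup p A B b) {a a' : G} (ha : a ∈ A) (ha' : a' ∈ A) :
    ⁅a, ⁅b⁻¹, a'⁆⁆ ∈ A ⊓ A.map (MulAut.conj b⁻¹).toMonoidHom := by
  set y := b⁻¹ * a' * b with hy
  have hyA : y ∈ A.map (MulAut.conj b⁻¹).toMonoidHom := ⟨a', ha', by
    show b⁻¹ * a' * b⁻¹⁻¹ = y; rw [inv_inv]⟩
  have haa : Commute a a' := commute_of_mem_setup hS ha ha'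
  have hyn := mem_normalizer_of_conjA hS hyA
  have hm : ⁅a, y⁆ ∈ A ⊓ A.map (MulAut.conj b⁻¹).toMonoidHom := by
    refine ⟨?_, ?_⟩
    · rw [SetLike.mem_coe, commutatorElement_def, mul_assoc, mul_assoc, ← mul_assoc y]
      exact mul_mem ha ((mem_normalizer_iff.mp hyn _).mp (Subgroup.inv_mem _ ha))
    · rw [SetLike.mem_coe, commutatorElement_def]
      exact mul_mem (conj_conj_mem hS (le_normalizer ha) hyA) (Subgroup.inv_mem _ hyA)
  have : ⁅a, ⁅b⁻¹, a'⁆⁆ = ⁅a, y⁆ := by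
    have hy' : (⁅b⁻¹, a'⁆ : G) = y * a'⁻¹ := by rw [hy, commutatorElement_def, inv_inv]
    rw [hy', commutatorElement_def, commutatorElement_def]
    calc a * (y * a'⁻¹) * a⁻¹ * (y * a'⁻¹)⁻¹ = a * y * (a'⁻¹ * a⁻¹ * a') * y⁻¹ := by group
      _ = a * y * a⁻¹ * y⁻¹ := by
        rw [show a'⁻¹ * a⁻¹ * a' = a⁻¹ by
          rw [mul_assoc, haa.inv_left.eq, inv_mul_cancel_left]]
  rw [this]
  exact hm

theorem u_commute (hS : Setup p A B b) {a a' : G} (ha : a ∈ A) (ha' : a' ∈ A) :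
    Commute ⁅b⁻¹, a⁆ ⁅b⁻¹, a'⁆ := by
  rcases eq_or_ne p 2 with h2 | h2
  · exact congrArg (fun z : B => (z : G))
      ((hS.two h2).is_comm.comm ⟨_, u_mem hS ha⟩ ⟨_, u_mem hS ha'⟩)
  have hc : ⁅⁅B, B⁆, A⁆ = ⊥ := by
    rw [commutator_eq_bot_iff_le_centralizer]
    intro x hx
    exact mem_centralizer_iff.mpr fun y hy => (commute_of_mem_setup hS hy (hS.derived hx)).eq
  obtain ⟨hsq, -⟩ := commutator_sq_eq_one hS.normalized hc hS.comm (Subgroup.inv_mem _ hS.mem)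
    (fun a ha a' ha' d hd => commute_of_mem_setup hS hd (commutator_A_u_mem hS ha ha').1)
    a ha a' ha'
  refine commutatorElement_eq_one_iff_commute.mp (orderOf_eq_one_iff.mp ?_)
  have hmem : ⁅⁅b⁻¹, a⁆, ⁅b⁻¹, a'⁆⁆ ∈ B :=
    commutatorElement_mem_of_le_normalizer (u_mem hS ha) (le_normalizer (u_mem hS ha'))
  obtain ⟨k, hk⟩ := IsPGroup.iff_orderOf.mp hS.isPGroup ⟨_, hmem⟩
  rw [Subgroup.orderOf_mk] at hk
  refine Nat.eq_one_of_dvd_coprimes (a := 2) (b := p ^ k) ?_ (orderOf_dvd_of_pow_eq_one hsq)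
    (hk ▸ dvd_rfl)
  exact ((Nat.coprime_primes Nat.prime_two Fact.out).mpr (Ne.symm h2)).pow_right k

theorem d_commute_u (hS : Setup p A B b) {d a : G}
    (hd : d ∈ A ⊓ A.map (MulAut.conj b⁻¹).toMonoidHom) (ha : a ∈ A) : Commute d ⁅b⁻¹, a⁆ := by
  have h1 : Commute d a := commute_of_mem_setup hS hd.1 ha
  obtain ⟨d', hd', hde⟩ := hd.2
  have h2 : Commute d (b⁻¹ * a * b) := by
    have := (commute_of_mem_setup hS hd' ha).map (MulAut.conj b⁻¹).toMonoidHom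
    rw [hde] at this
    simpa using this
  rw [commutatorElement_def, inv_inv]
  exact h2.mul_right h1.inv_right

theorem mem_star_of_inf {x : G} (hx : x ∈ A ⊓ A.map (MulAut.conj b⁻¹).toMonoidHom) :
    x ∈ star A b :=
  mem_sup_left hx

theorem u_mem_star {a : G} (ha : a ∈ A) : ⁅b⁻¹, a⁆ ∈ star A b := by
  have h : a * b⁻¹ * a⁻¹ * b ∈ star A b := mem_sup_right (Subgroup.subset_closure ⟨a, ha, rfl⟩)
  have e : ⁅b⁻¹, a⁆ = (a * b⁻¹ * a⁻¹ * b)⁻¹ := by rw [commutatorElement_def]; group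
  rw [e]
  exact Subgroup.inv_mem _ h

/-- Induction on `star A b`. -/
theorem star_le {K : Subgroup G} (hd : A ⊓ A.map (MulAut.conj b⁻¹).toMonoidHom ≤ K)
    (hu : ∀ a ∈ A, ⁅b⁻¹, a⁆ ∈ K) : star A b ≤ K := by
  refine sup_le hd ((Subgroup.closure_le _).mpr ?_)
  rintro _ ⟨a, ha, rfl⟩
  have e : a * b⁻¹ * a⁻¹ * b = ⁅b⁻¹, a⁆⁻¹ := by rw [commutatorElement_def]; group
  rw [SetLike.mem_coe, e]
  exact Subgroup.inv_mem _ (hu a ha)

theorem star_comm (hS : Setup p A B b) : IsMulCommutative (star A b) := by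
  have key : ∀ x ∈ star A b, ∀ y ∈ star A b, Commute x y := by
    have h1 : ∀ x ∈ star A b, ∀ a ∈ A, Commute x ⁅b⁻¹, a⁆ := by
      intro x hx a ha
      have : star A b ≤ centralizer {⁅b⁻¹, a⁆} := by
        refine star_le (fun d hd => ?_) (fun a' ha' => ?_) <;>
          rw [mem_centralizer_singleton_iff]
        · exact (d_commute_u hS hd ha).eq
        · exact (u_commute hS ha' ha).eq
      exact mem_centralizer_singleton_iff.mp (this hx)
    have h2 : ∀ x ∈ star A b, ∀ d ∈ A ⊓ A.map (MulAut.conj b⁻¹).toMonoidHom, Commute x d := by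
      intro x hx d hd
      have : star A b ≤ centralizer {d} := by
        refine star_le (fun d' hd' => ?_) (fun a' ha' => ?_) <;>
          rw [mem_centralizer_singleton_iff]
        · exact (commute_of_mem_setup hS hd'.1 hd.1).eq
        · exact (d_commute_u hS hd ha').symm.eq
      exact mem_centralizer_singleton_iff.mp (this hx)
    intro x hx y hy
    have : star A b ≤ centralizer {x} := by
      refine star_le (fun d hd => ?_) (fun a ha => ?_) <;> rw [mem_centralizer_singleton_iff]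
      · exact (h2 x hx d hd).symm.eq
      · exact (h1 x hx a ha).symm.eq
    exact (mem_centralizer_singleton_iff.mp (this hy) : y * x = x * y).symm
  exact ⟨⟨fun x y => Subtype.ext (key x x.2 y y.2)⟩⟩

theorem star_le_normalizer (hS : Setup p A B b) :
    star A b ≤ Subgroup.normalizer (A : Set G) :=
  star_le (inf_le_left.trans le_normalizer) fun _ ha => u_mem_normalizer hS ha

theorem le_normalizer_star (hS : Setup p A B b) :
    A ≤ Subgroup.normalizer ((star A b : Subgroup G) : Set G) := by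
  intro a ha
  rw [mem_normalizer_iff_map_conj_eq]
  refine eq_of_le_of_card_ge ?_ (card_map_of_injective (MulAut.conj a).injective).ge
  rw [map_le_iff_le_comap]
  refine star_le (fun d hd => ?_) (fun a' ha' => ?_)
  · show a * d * a⁻¹ ∈ star A b
    rw [(commute_of_mem_setup hS ha hd.1).eq, mul_inv_cancel_right]
    exact mem_star_of_inf hd
  · show a * ⁅b⁻¹, a'⁆ * a⁻¹ ∈ star A b
    have e : a * ⁅b⁻¹, a'⁆ * a⁻¹ = ⁅a, ⁅b⁻¹, a'⁆⁆ * ⁅b⁻¹, a'⁆ := by
      simp only [commutatorElement_def]; group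
    rw [e]
    exact mul_mem (mem_star_of_inf (commutator_A_u_mem hS ha ha')) (u_mem_star ha')

theorem inf_le_D (hS : Setup p A B b) :
    A ⊓ B ≤ A ⊓ A.map (MulAut.conj b⁻¹).toMonoidHom := by
  rintro a ⟨ha, haB⟩
  refine ⟨ha, mem_conj_inv.mpr ?_⟩
  have h : ⁅b, a⁆ ∈ A := hS.derived (commutator_mem_commutator hS.mem haB)
  have e : b * a * b⁻¹ = ⁅b, a⁆ * a := by rw [commutatorElement_def]; group
  rw [e]
  exact mul_mem h ha

theorem u_mem_D (hS : Setup p A B b) {d : G}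
    (hd : d ∈ A ⊓ A.map (MulAut.conj b⁻¹).toMonoidHom) :
    ⁅b⁻¹, d⁆ ∈ A ⊓ A.map (MulAut.conj b⁻¹).toMonoidHom := by
  obtain ⟨c, hc, hcd⟩ := hd.2
  have hcd' : d = b⁻¹ * c * b := by rw [← hcd]; show b⁻¹ * c * b⁻¹⁻¹ = _; rw [inv_inv]
  set v := ⁅b⁻¹, c⁆ with hv
  have hvA : v ∈ A := by
    rw [hv, commutatorElement_def, inv_inv, ← hcd']
    exact mul_mem hd.1 (Subgroup.inv_mem _ hc)
  have e : ⁅b⁻¹, d⁆ = ⁅b⁻¹, v⁆ * v := by
    rw [hv, hcd', commutatorElement_def, commutatorElement_def, commutatorElement_def]; group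
  refine inf_le_D hS ⟨?_, u_mem hS hd.1⟩
  rw [SetLike.mem_coe, e]
  exact mul_mem (hS.derived (commutator_mem_commutator (Subgroup.inv_mem _ hS.mem) (u_mem hS hc))) hvA

theorem mem_normalizer_star (hS : Setup p A B b) :
    b ∈ Subgroup.normalizer ((star A b : Subgroup G) : Set G) := by
  rw [← inv_mem_iff, mem_normalizer_iff_map_conj_eq]
  refine eq_of_le_of_card_ge ?_ (card_map_of_injective (MulAut.conj b⁻¹).injective).ge
  rw [map_le_iff_le_comap]
  refine star_le (fun d hd => ?_) (fun a ha => ?_)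
  · show b⁻¹ * d * b⁻¹⁻¹ ∈ star A b
    have e : b⁻¹ * d * b⁻¹⁻¹ = ⁅b⁻¹, d⁆ * d := by rw [commutatorElement_def]; group
    rw [e]
    exact mul_mem (u_mem_star hd.1) (mem_star_of_inf hd)
  · show b⁻¹ * ⁅b⁻¹, a⁆ * b⁻¹⁻¹ ∈ star A b
    have e : b⁻¹ * ⁅b⁻¹, a⁆ * b⁻¹⁻¹ = ⁅b⁻¹, ⁅b⁻¹, a⁆⁆ * ⁅b⁻¹, a⁆ := by
      simp only [commutatorElement_def]; group
    rw [e]
    exact mul_mem (mem_star_of_inf (conj_mem_derived hS
      (commutator_mem_commutator (Subgroup.inv_mem _ hS.mem) (u_mem hS ha)))) (u_mem_star ha)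

theorem u_mul_mem (hS : Setup p A B b) {a a' : G} (ha : a ∈ A) (ha' : a' ∈ A) :
    ⁅b⁻¹, a * a'⁆⁻¹ * (⁅b⁻¹, a⁆ * ⁅b⁻¹, a'⁆) ∈ A ⊓ A.map (MulAut.conj b⁻¹).toMonoidHom := by
  have ht := commutator_A_u_mem hS ha ha'
  have e : ⁅b⁻¹, a * a'⁆ = ⁅b⁻¹, a⁆ * (⁅a, ⁅b⁻¹, a'⁆⁆ * ⁅b⁻¹, a'⁆) := by
    simp only [commutatorElement_def]; group
  rw [e]
  have e' : ∀ u t v : G, (u * (t * v))⁻¹ * (u * v) = v⁻¹ * t⁻¹ * v := fun u t v => by group
  rw [e', mul_assoc, (d_commute_u hS ht ha').inv_left.eq, inv_mul_cancel_left]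
  exact Subgroup.inv_mem _ ht

theorem mem_D_of_u_mem (hS : Setup p A B b) {a : G} (ha : a ∈ A)
    (h : ⁅b⁻¹, a⁆ ∈ A ⊓ A.map (MulAut.conj b⁻¹).toMonoidHom) :
    a ∈ A ⊓ A.map (MulAut.conj b⁻¹).toMonoidHom := by
  set D := A ⊓ A.map (MulAut.conj b⁻¹).toMonoidHom with hD
  refine ⟨ha, mem_conj_inv.mpr ?_⟩
  -- `a ∈ D` as `b⁻¹ a b ∈ D`
  have h1 : b⁻¹ * a * b ∈ A := by
    have hh : ⁅b⁻¹, a⁆ ∈ A := h.1
    have := mul_mem hh ha
    rwa [commutatorElement_def, inv_inv, inv_mul_cancel_right] at this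
  have h2 : b⁻¹ * a * b ∈ D :=
    ⟨h1, mem_conj_inv.mpr (by simpa [mul_assoc] using ha)⟩
  have h3 := (u_mem_D hS h2).2
  -- transport back
  have h4 : b * ⁅b⁻¹, b⁻¹ * a * b⁆ * b⁻¹ ∈ A := mem_conj_inv.mp h3
  have e : b * ⁅b⁻¹, b⁻¹ * a * b⁆ * b⁻¹ = b⁻¹ * a * b * a⁻¹ := by
    simp only [commutatorElement_def]; group
  have hu : ⁅b⁻¹, a⁆ ∈ A ⊓ B := ⟨h.1, u_mem hS ha⟩
  have h5 : ⁅b, ⁅b⁻¹, a⁆⁆ ∈ A :=
    hS.derived (commutator_mem_commutator hS.mem (u_mem hS ha))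
  have e2 : ⁅b, ⁅b⁻¹, a⁆⁆ * ⁅b⁻¹, a⁆ = a * (b * a * b⁻¹)⁻¹ := by
    simp only [commutatorElement_def]; group
  have h6 := mul_mem h5 h.1
  rw [e2] at h6
  have h7 := mul_mem (Subgroup.inv_mem _ ha) h6
  rw [inv_mul_cancel_left, inv_mem_iff] at h7
  exact h7

theorem card_star (hS : Setup p A B b) : Nat.card (star A b) = Nat.card A := by
  set D := A ⊓ A.map (MulAut.conj b⁻¹).toMonoidHom with hD
  have hcomm := star_comm hS
  have hDs : D ≤ star A b := le_sup_left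
  have hDn : (D.subgroupOf (star A b)).Normal := by
    refine ⟨fun x hx g => ?_⟩
    rw [hcomm.is_comm.comm g x, mul_inv_cancel_right]
    exact hx
  let π := QuotientGroup.mk' (D.subgroupOf (star A b))
  let ψ : A →* (star A b) ⧸ D.subgroupOf (star A b) :=
    MonoidHom.mk' (fun a => π ⟨⁅b⁻¹, (a : G)⁆, u_mem_star a.2⟩) fun a a' => by
      rw [← map_mul]
      refine QuotientGroup.eq.mpr ?_
      rw [mem_subgroupOf]
      exact u_mul_mem hS a.2 a'.2
  have hψs : Function.Surjective ψ := by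
    have key : star A b ≤ ((ψ.range).comap π).map (star A b).subtype := by
      refine star_le (fun d hd => ?_) (fun a ha => ?_)
      · exact ⟨⟨d, hDs hd⟩, ⟨1, by
          rw [map_one]
          exact ((QuotientGroup.eq_one_iff (⟨d, hDs hd⟩ : star A b)).mpr hd).symm⟩, rfl⟩
      · exact ⟨⟨_, u_mem_star ha⟩, ⟨⟨a, ha⟩, rfl⟩, rfl⟩
    intro y
    obtain ⟨x, rfl⟩ := QuotientGroup.mk_surjective y
    obtain ⟨z, hz, hzx⟩ := key x.2
    obtain ⟨a, ha⟩ := hz
    exact ⟨a, ha.trans (congrArg π (Subtype.ext hzx))⟩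
  have hker : ψ.ker = D.subgroupOf A := by
    ext a
    rw [MonoidHom.mem_ker, mem_subgroupOf]
    show π ⟨⁅b⁻¹, (a : G)⁆, u_mem_star a.2⟩ = 1 ↔ _
    rw [show π = QuotientGroup.mk' (D.subgroupOf (star A b)) from rfl, QuotientGroup.mk'_apply,
      QuotientGroup.eq_one_iff, mem_subgroupOf]
    constructor
    · exact fun h => mem_D_of_u_mem hS a.2 h
    · exact fun h => u_mem_D hS h
  have h1 : Nat.card ((star A b) ⧸ D.subgroupOf (star A b)) = D.relIndex A := by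
    rw [← Nat.card_congr (QuotientGroup.quotientKerEquivOfSurjective ψ hψs).toEquiv,
      ← index_eq_card, hker]
    rfl
  rw [(D.subgroupOf (star A b)).card_eq_card_quotient_mul_card_subgroup, h1,
    Nat.card_congr (subgroupOfEquivOfLe hDs).toEquiv,
    ← (D.subgroupOf A).index_mul_card, Nat.card_congr (subgroupOfEquivOfLe inf_le_left).toEquiv]
  rfl

theorem derived_le_star (hS : Setup p A B b) : ⁅B, B⁆ ≤ star A b :=
  fun _ hx => mem_star_of_inf (conj_mem_derived hS hx)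

theorem exists_u_not_mem (hS : Setup p A B b) : ∃ a ∈ A, ⁅b⁻¹, a⁆ ∉ A := by
  by_contra h
  push Not at h
  refine hS.notMem ?_
  rw [← inv_mem_iff, mem_normalizer_iff_map_conj_eq]
  refine eq_of_le_of_card_ge ?_ (card_map_of_injective (MulAut.conj b⁻¹).injective).ge
  rintro _ ⟨a, ha, rfl⟩
  have := mul_mem (h a ha) ha
  rwa [commutatorElement_def, inv_mul_cancel_right] at this

theorem inf_lt_star_inf (hS : Setup p A B b) : A ⊓ B < star A b ⊓ B := by
  refine lt_of_le_of_ne (le_inf ((inf_le_D hS).trans le_sup_left) inf_le_right) fun he => ?_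
  obtain ⟨a, ha, hna⟩ := exists_u_not_mem hS
  have : ⁅b⁻¹, a⁆ ∈ A ⊓ B := he ▸ ⟨u_mem_star ha, u_mem hS ha⟩
  exact hna this.1

theorem not_mem_star (hS : Setup p A B b) : b ∉ star A b :=
  fun h => hS.notMem (star_le_normalizer hS h)

theorem normalizer_lt_normalizer_star (hS : Setup p A B b) (hBn : B.Normal) :
    Subgroup.normalizer (A : Set G) < Subgroup.normalizer ((star A b : Subgroup G) : Set G) := by
  refine lt_of_le_of_ne ?_ fun he => hS.notMem (he ▸ mem_normalizer_star hS)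
  intro g hg
  rw [mem_normalizer_iff_map_conj_eq]
  refine eq_of_le_of_card_ge ?_ (card_map_of_injective (MulAut.conj g).injective).ge
  rw [map_le_iff_le_comap]
  refine star_le (fun d hd => ?_) (fun a ha => ?_)
  · show g * d * g⁻¹ ∈ star A b
    exact mem_star_of_inf ⟨(mem_normalizer_iff.mp hg d).mp hd.1, conj_conj_mem hS hg hd.2⟩
  · show g * ⁅b⁻¹, a⁆ * g⁻¹ ∈ star A b
    set n := b * (g * b⁻¹ * g⁻¹) with hn
    set a' := g * a * g⁻¹ with ha'
    have ha'A : a' ∈ A := (mem_normalizer_iff.mp hg a).mp ha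
    have e : g * ⁅b⁻¹, a⁆ * g⁻¹ = b⁻¹ * ⁅n, a'⁆ * b⁻¹⁻¹ * ⁅b⁻¹, a'⁆ := by
      simp only [hn, ha', commutatorElement_def]; group
    have hnN : n ∈ Subgroup.normalizer (A : Set G) := by
      have := mul_mem (conj_normalizer hS hg) (Subgroup.inv_mem _ hg)
      simpa [hn, mul_assoc] using this
    have hnB : n ∈ B := mul_mem hS.mem (hBn.conj_mem _ (Subgroup.inv_mem _ hS.mem) g)
    have hm : ⁅n, a'⁆ ∈ A ⊓ B := by
      refine ⟨?_, commutatorElement_mem_of_le_normalizer hnB (hS.normalized ha'A)⟩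
      rw [SetLike.mem_coe, commutatorElement_def]
      exact mul_mem ((mem_normalizer_iff.mp hnN a').mp ha'A) (Subgroup.inv_mem _ ha'A)
    rw [e]
    refine mul_mem ?_ (u_mem_star ha'A)
    exact (mem_normalizer_iff.mp (Subgroup.inv_mem _ (mem_normalizer_star hS)) _).mp
      (mem_star_of_inf (inf_le_D hS hm))

theorem pow_eq_one_of_mem_star (hS : Setup p A B b) {e : ℕ} (he : e = 0 ∨ Odd e)
    (hexp : ∀ a ∈ A, a ^ e = 1) {x : G} (hx : x ∈ star A b) : x ^ e = 1 := by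
  rcases he with rfl | he
  · exact pow_zero x
  have hc := star_comm hS
  let K : Subgroup (star A b) :=
    { carrier := {x | x ^ e = 1}
      one_mem' := one_pow e
      mul_mem' := fun {x y} (hx : x ^ e = 1) (hy : y ^ e = 1) => by
        show (x * y) ^ e = 1
        rw [(show Commute x y from hc.is_comm.comm x y).mul_pow, hx, hy, one_mul]
      inv_mem' := fun {x} (hx : x ^ e = 1) => by show x⁻¹ ^ e = 1; rw [inv_pow, hx, inv_one] }
  have key : star A b ≤ K.map (star A b).subtype := by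
    refine star_le (fun d hd => ⟨⟨d, mem_star_of_inf hd⟩, Subtype.ext (hexp d hd.1), rfl⟩)
      (fun a ha => ⟨⟨_, u_mem_star ha⟩, Subtype.ext ?_, rfl⟩)
    show ⁅b⁻¹, a⁆ ^ e = 1
    set y := b⁻¹ * a * b with hy
    have hu : ⁅b⁻¹, a⁆ = y * a⁻¹ := by rw [hy, commutatorElement_def, inv_inv]
    have hc1 : ⁅a⁻¹, y⁆ ∈ A ⊓ A.map (MulAut.conj b⁻¹).toMonoidHom := by
      have h := commutator_A_u_mem hS (Subgroup.inv_mem _ ha) ha
      have : ⁅a⁻¹, ⁅b⁻¹, a⁆⁆ = ⁅a⁻¹, y⁆ := by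
        rw [hu]; simp only [commutatorElement_def]; group
      rwa [this] at h
    have hyA : y ∈ A.map (MulAut.conj b⁻¹).toMonoidHom :=
      ⟨a, ha, by show b⁻¹ * a * b⁻¹⁻¹ = y; rw [inv_inv]⟩
    have hcy : Commute ⁅a⁻¹, y⁆ y := by
      obtain ⟨c, hc', hce⟩ := hc1.2
      obtain ⟨a₁, ha₁, hay⟩ := hyA
      rw [← hce, ← hay]
      exact (commute_of_mem_setup hS hc' ha₁).map _
    obtain ⟨k, hk⟩ : e ∣ e.choose 2 := by
      obtain ⟨m, rfl⟩ := he
      exact ⟨m, by rw [Nat.choose_two_right, Nat.add_sub_cancel, ← mul_assoc, mul_comm _ 2,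
        mul_assoc, Nat.mul_div_cancel_left _ two_pos, mul_comm]⟩
    rw [hu, mul_pow_of_commute_commutator hcy
      (commute_of_mem_setup hS hc1.1 (Subgroup.inv_mem _ ha)) e, hk, pow_mul,
      hexp _ hc1.1, one_pow, mul_one, inv_pow, hexp a ha, inv_one, mul_one, hy]
    have h1 : (b⁻¹ * a * b) ^ e = b⁻¹ * a ^ e * b := by
      simpa using map_pow (MulAut.conj b⁻¹) a e |>.symm
    rw [h1, hexp a ha, mul_one, inv_mul_cancel]
  obtain ⟨z, hz, rfl⟩ := key hx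
  exact congrArg Subtype.val hz

end Cfsg.Agent.Fusion.Replacement
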