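import Cfsg.Agent.Fusion.Replacement
import Cfsg.Agent.S0649
import Cfsg.Prelude.Def_PLocal
import Cfsg.Prelude.Def_Transfer

/-!
# Abelian subgroups of largest order with bounded exponent

`AbMax e D A` : `A` is a largest abelian subgroup of `D` of exponent dividing `e` (`e = 0` allows
every exponent).  `zInter e D` : the intersection of all of them.  It is `Z(J(D))` for `e = 0` and
`Ω₁(Z(J_e(D)))` for `e = p`.
-/

set_option autoImplicit false
set_option maxHeartbeats 400000

namespace Cfsg.Agent.Fusion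

open Subgroup
open scoped commutatorElement

variable {G : Type*} [Group G] {e : ℕ} {D A : Subgroup G}

/-- `A` is an abelian subgroup of `D` of exponent dividing `e`. -/
structure AbMem (e : ℕ) (D A : Subgroup G) : Prop where
  le : A ≤ D
  comm : IsMulCommutative A
  exp : ∀ a ∈ A, a ^ e = 1

/-- `A` is a largest abelian subgroup of `D` of exponent dividing `e`. -/
structure AbMax (e : ℕ) (D A : Subgroup G) : Prop extends AbMem e D A where
  max : ∀ B : Subgroup G, AbMem e D B → Nat.card B ≤ Nat.card A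

/-- The intersection of the largest abelian subgroups of `D` of exponent dividing `e`. -/
def zInter (e : ℕ) (D : Subgroup G) : Subgroup G :=
  sInf {A | AbMax e D A}

theorem commute_of_isMulCommutative {H : Subgroup G} (h : IsMulCommutative H) {x y : G}
    (hx : x ∈ H) (hy : y ∈ H) : Commute x y :=
  congrArg (fun z : H => (z : G)) (h.is_comm.comm ⟨x, hx⟩ ⟨y, hy⟩)

theorem isMulCommutative_of_forall {H : Subgroup G} (h : ∀ x ∈ H, ∀ y ∈ H, Commute x y) :
    IsMulCommutative H :=
  ⟨⟨fun x y => Subtype.ext (h x x.2 y y.2)⟩⟩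

theorem abMem_bot : AbMem e D (⊥ : Subgroup G) :=
  ⟨bot_le, isMulCommutative_of_forall fun x hx y _ => by rw [mem_bot.mp hx]; exact Commute.one_left y,
    fun a ha => by rw [mem_bot.mp ha, one_pow]⟩

theorem exists_abMax [Finite G] (e : ℕ) (D : Subgroup G) : ∃ A, AbMax e D A := by
  obtain ⟨A, hA, hmax⟩ := (Set.toFinite {A : Subgroup G | AbMem e D A}).exists_maximalFor
    (fun A : Subgroup G => Nat.card A) _ ⟨⊥, abMem_bot⟩
  refine ⟨A, hA, fun B hB => ?_⟩
  rcases le_total (Nat.card B) (Nat.card A) with h | h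
  · exact h
  · exact hmax hB h

theorem zInter_le_of_abMax (h : AbMax e D A) : zInter e D ≤ A :=
  sInf_le h

theorem zInter_le [Finite G] (e : ℕ) (D : Subgroup G) : zInter e D ≤ D := by
  obtain ⟨A, hA⟩ := exists_abMax e D
  exact (zInter_le_of_abMax hA).trans hA.le

theorem zInter_comm [Finite G] (e : ℕ) (D : Subgroup G) : IsMulCommutative (zInter e D) := by
  obtain ⟨A, hA⟩ := exists_abMax e D
  exact isMulCommutative_of_forall fun x hx y hy => commute_of_isMulCommutative hA.comm
    (zInter_le_of_abMax hA hx) (zInter_le_of_abMax hA hy)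

theorem AbMem.map {G' : Type*} [Group G'] (f : G →* G') (h : AbMem e D A) :
    AbMem e (D.map f) (A.map f) := by
  refine ⟨map_mono h.le, isMulCommutative_of_forall ?_, ?_⟩
  · rintro _ ⟨x, hx, rfl⟩ _ ⟨y, hy, rfl⟩
    exact (commute_of_isMulCommutative h.comm hx hy).map f
  · rintro _ ⟨x, hx, rfl⟩
    rw [← map_pow, h.exp x hx, map_one]

theorem AbMem.of_map {G' : Type*} [Group G'] {f : G →* G'} (hf : Function.Injective f)
    (h : AbMem e (D.map f) (A.map f)) : AbMem e D A := by
  refine ⟨(map_le_map_iff_of_injective hf).mp h.le, isMulCommutative_of_forall fun x hx y hy => ?_,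
    fun a ha => hf ?_⟩
  · refine hf ?_
    rw [map_mul, map_mul]
    exact commute_of_isMulCommutative h.comm (mem_map_of_mem f hx) (mem_map_of_mem f hy)
  · rw [map_pow, map_one]
    exact h.exp _ (mem_map_of_mem f ha)

theorem abMax_map_iff {G' : Type*} [Group G'] {f : G →* G'} (hf : Function.Injective f) :
    AbMax e (D.map f) (A.map f) ↔ AbMax e D A := by
  constructor
  · intro h
    refine ⟨h.toAbMem.of_map hf, fun B hB => ?_⟩
    have := h.max _ (hB.map f)
    rwa [card_map_of_injective hf, card_map_of_injective hf] at this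
  · intro h
    refine ⟨h.toAbMem.map f, fun B hB => ?_⟩
    have hle : B ≤ f.range := hB.le.trans (map_le_range f D)
    rw [← map_comap_eq_self hle] at hB ⊢
    rw [card_map_of_injective hf, card_map_of_injective hf]
    exact h.max _ (hB.of_map hf)

theorem zInter_map {G' : Type*} [Group G'] [Finite G] {f : G →* G'} (hf : Function.Injective f) :
    (zInter e D).map f = zInter e (D.map f) := by
  refine le_antisymm (le_sInf fun B hB => ?_) fun y hy => ?_
  · have hle : B ≤ f.range := hB.le.trans (map_le_range f D)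
    rw [← map_comap_eq_self hle] at hB ⊢
    exact map_mono (zInter_le_of_abMax ((abMax_map_iff hf).mp hB))
  · obtain ⟨A, hA⟩ := exists_abMax e D
    obtain ⟨x, -, rfl⟩ := (mem_sInf.mp hy) _ ((abMax_map_iff hf).mpr hA)
    refine mem_map_of_mem f (mem_sInf.mpr fun B hB => ?_)
    exact (mem_map_iff_mem hf).mp ((mem_sInf.mp hy) _ ((abMax_map_iff hf).mpr hB))

theorem mem_normalizer_zInter [Finite G] {g : G} (hg : g ∈ normalizer (D : Set G)) :
    g ∈ normalizer (zInter e D : Set G) := by
  rw [mem_normalizer_iff_map_conj_eq] at hg ⊢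
  exact (zInter_map (MulAut.conj g).injective).trans (congrArg (zInter e) hg)

/-- A member of the family is enlarged by no element of exponent dividing `e` centralising it. -/
theorem mem_of_commute [Finite G] (hA : AbMax e D A) {x : G} (hx : x ∈ D) (hxe : x ^ e = 1)
    (hc : ∀ a ∈ A, Commute a x) : x ∈ A := by
  have hcl : AbMem e D (A ⊔ zpowers x) := by
    have hxA : ∀ a ∈ A, ∀ k : ℤ, Commute a (x ^ k) := fun a ha k => (hc a ha).zpow_right k
    have hsup : ∀ y ∈ A ⊔ zpowers x, ∃ a ∈ A, ∃ k : ℤ, y = a * x ^ k := by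
      intro y hy
      rw [sup_eq_closure] at hy
      induction hy using closure_induction with
      | mem y hy =>
        rcases hy with hy | ⟨k, rfl⟩
        · exact ⟨y, hy, 0, by simp⟩
        · exact ⟨1, one_mem A, k, by simp⟩
      | one => exact ⟨1, one_mem A, 0, by simp⟩
      | mul y z _ _ h1 h2 =>
        obtain ⟨a, ha, k, rfl⟩ := h1
        obtain ⟨b, hb, l, rfl⟩ := h2
        exact ⟨a * b, mul_mem ha hb, k + l, by
          rw [zpow_add, mul_assoc a, ← mul_assoc (x ^ k), ← (hxA b hb k).eq]; group⟩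
      | inv y _ h1 =>
        obtain ⟨a, ha, k, rfl⟩ := h1
        exact ⟨a⁻¹, inv_mem ha, -k, by
          rw [mul_inv_rev, zpow_neg, ((hxA a ha k).inv_inv).eq]⟩
    refine ⟨sup_le hA.le (zpowers_le.mpr hx), isMulCommutative_of_forall ?_, ?_⟩
    · intro y hy z hz
      obtain ⟨a, ha, k, rfl⟩ := hsup y hy
      obtain ⟨b, hb, l, rfl⟩ := hsup z hz
      exact ((commute_of_isMulCommutative hA.comm ha hb).mul_right (hxA a ha l)).mul_left
        ((hxA b hb k).symm.mul_right (Commute.zpow_zpow_self x k l))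
    · intro y hy
      obtain ⟨a, ha, k, rfl⟩ := hsup y hy
      rw [(hxA a ha k).mul_pow, hA.exp a ha, one_mul, ← zpow_natCast, ← zpow_mul, mul_comm,
        zpow_mul, zpow_natCast, hxe, one_zpow]
  have := eq_of_le_of_card_ge (le_sup_left (b := zpowers x)) (hA.max _ hcl)
  rw [this]
  exact mem_sup_right (mem_zpowers x)

theorem mem_zInter_iff [Finite G] {x : G} :
    x ∈ zInter e D ↔ x ∈ sSup {A | AbMax e D A} ∧ x ^ e = 1 ∧
      x ∈ centralizer ((sSup {A | AbMax e D A} : Subgroup G) : Set G) := by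
  constructor
  · intro h
    obtain ⟨A, hA⟩ := exists_abMax e D
    refine ⟨le_sSup (a := A) hA (zInter_le_of_abMax hA h), hA.exp x (zInter_le_of_abMax hA h), ?_⟩
    have hle : sSup {A | AbMax e D A} ≤ centralizer {x} := sSup_le fun B hB b hb =>
      mem_centralizer_singleton_iff.mpr
        (commute_of_isMulCommutative hB.comm hb (zInter_le_of_abMax hB h)).eq
    exact mem_centralizer_iff.mpr fun y hy => mem_centralizer_singleton_iff.mp (hle hy)
  · rintro ⟨hJ, hxe, hc⟩
    refine mem_sInf.mpr fun A hA => mem_of_commute hA ?_ hxe fun a ha =>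
      mem_centralizer_iff.mp hc a (le_sSup (a := A) hA ha)
    exact (sSup_le fun B hB => hB.le : sSup {A | AbMax e D A} ≤ D) hJ

theorem abMem_zero_iff {B : Subgroup G} :
    AbMem 0 D B ↔ B ≤ D ∧ IsMulCommutative B :=
  ⟨fun h => ⟨h.le, h.comm⟩, fun h => ⟨h.1, h.2, fun a _ => pow_zero a⟩⟩

theorem abMem_subgroupOf {B : Subgroup G} (hB : B ≤ D) (h : AbMem e D B) :
    AbMem e (⊤ : Subgroup D) (B.subgroupOf D) := by
  refine AbMem.of_map D.subtype_injective ?_
  rwa [← MonoidHom.range_eq_map, range_subtype, subgroupOf_map_subtype, inf_of_le_left hB]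

theorem image_eq_abMax (P : Subgroup D → Prop) (h : ∀ B, P B ↔ AbMem e ⊤ B) :
    Set.image (fun A : Subgroup D => A.map D.subtype)
      {A | P A ∧ ∀ B, P B → Nat.card B ≤ Nat.card A} = {A | AbMax e D A} := by
  have hD : (⊤ : Subgroup D).map D.subtype = D := by rw [← MonoidHom.range_eq_map, range_subtype]
  ext A
  constructor
  · rintro ⟨A, ⟨hA, hmax⟩, rfl⟩
    show AbMax e D (A.map D.subtype)
    have := (abMax_map_iff D.subtype_injective).mpr
      (⟨(h A).mp hA, fun B hB => hmax B ((h B).mpr hB)⟩ : AbMax e ⊤ A)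
    rwa [hD] at this
  · intro (hA : AbMax e D A)
    have e1 : (A.subgroupOf D).map D.subtype = A := map_subgroupOf_eq_of_le hA.le
    have h1 : AbMax e ⊤ (A.subgroupOf D) := (abMax_map_iff D.subtype_injective).mp (by
      rwa [hD, e1])
    exact ⟨A.subgroupOf D, ⟨(h _).mpr h1.toAbMem, fun B hB => h1.max B ((h B).mp hB)⟩, e1⟩

theorem image_maxAbelian (D : Subgroup G) :
    Set.image (fun A : Subgroup D => A.map D.subtype) (maxAbelianSubgroups D) =
      {A | AbMax 0 D A} :=
  image_eq_abMax _ fun B => ⟨fun h => ⟨le_top, h, fun a _ => pow_zero a⟩, fun h => h.comm⟩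

theorem image_maxElementaryAbelian (p : ℕ) (D : Subgroup G) :
    Set.image (fun A : Subgroup D => A.map D.subtype) (maxElementaryAbelianSubgroups p D) =
      {A | AbMax p D A} :=
  image_eq_abMax _ fun B => ⟨fun h => ⟨le_top, h.1, h.2⟩, fun h => ⟨h.comm, h.exp⟩⟩

theorem map_sSup_eq {H : Type*} [Group H] (f : H →* G) (s : Set (Subgroup H)) :
    (sSup s).map f = sSup (Set.image (Subgroup.map f) s) := by
  rw [(gc_map_comap f).l_sSup, sSup_image]

theorem thompsonSubgroupAOf_eq (D : Subgroup G) :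
    thompsonSubgroupAOf D = sSup {A | AbMax 0 D A} := by
  rw [thompsonSubgroupAOf, thompsonSubgroupA, map_sSup_eq, ← image_maxAbelian]

theorem thompsonSubgroupOf_eq (p : ℕ) (D : Subgroup G) :
    thompsonSubgroupOf p D = sSup {A | AbMax p D A} := by
  rw [thompsonSubgroupOf, thompsonSubgroup, map_sSup_eq, ← image_maxElementaryAbelian]

theorem centerThompsonAOf_eq_zInter [Finite G] (D : Subgroup G) :
    centerThompsonAOf D = zInter 0 D := by
  ext x
  rw [mem_zInter_iff, centerThompsonAOf, thompsonSubgroupAOf_eq]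
  exact ⟨fun h => ⟨h.1, pow_zero x, h.2⟩, fun h => ⟨h.1, h.2.2⟩⟩

theorem omegaOne_centerThompsonOf_eq_zInter [Finite G] (p : ℕ) (D : Subgroup G) :
    omegaOne p (centerThompsonOf p D) = zInter p D := by
  refine le_antisymm ((closure_le _).mpr ?_) fun x hx => subset_closure ?_
  · rintro x ⟨hx, hxp⟩
    rw [centerThompsonOf, thompsonSubgroupOf_eq] at hx
    exact mem_zInter_iff.mpr ⟨hx.1, hxp, hx.2⟩
  · obtain ⟨h1, h2, h3⟩ := mem_zInter_iff.mp hx
    refine ⟨?_, h2⟩
    rw [centerThompsonOf, thompsonSubgroupOf_eq]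
    exact ⟨h1, h3⟩

/-- Replacement inside the `p`-subgroup `S`: a member not normalised by `B` is improved. -/
theorem exists_abMax_inf_lt [Finite G] {p : ℕ} [Fact p.Prime] (hp : p ≠ 2) (he : e = 0 ∨ Odd e)
    {S B : Subgroup G} (hS : IsPGroup p S) (hBS : B ≤ S) (hB : S ≤ normalizer (B : Set G))
    (hDS : D ≤ S) (hD : S ≤ normalizer (D : Set G)) (hA : AbMax e D A) (hBA : ⁅B, B⁆ ≤ A)
    (hn : ¬ B ≤ normalizer (A : Set G)) :
    ∃ A' : Subgroup G, AbMax e D A' ∧ ⁅B, B⁆ ≤ A' ∧ A ⊓ B < A' ⊓ B ∧ ¬ B ≤ A' ∧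
      A' ≤ normalizer (A : Set G) := by
  have hAS : A ≤ S := hA.le.trans hDS
  have : (B.subgroupOf S).Normal := normal_subgroupOf_iff_le_normalizer hBS |>.mpr hB
  have eA : (A.subgroupOf S).map S.subtype = A := map_subgroupOf_eq_of_le hAS
  have eB : (B.subgroupOf S).map S.subtype = B := map_subgroupOf_eq_of_le hBS
  have eD : (D.subgroupOf S).map S.subtype = D := map_subgroupOf_eq_of_le hDS
  have hA' : AbMax e (D.subgroupOf S) (A.subgroupOf S) :=
    (abMax_map_iff S.subtype_injective).mp (by rwa [eA, eD])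
  have hBA' : ⁅B.subgroupOf S, B.subgroupOf S⁆ ≤ A.subgroupOf S :=
    (map_le_map_iff_of_injective S.subtype_injective).mp (by rwa [map_commutator, eA, eB])
  have hn' : ¬ B.subgroupOf S ≤ normalizer ((A.subgroupOf S : Subgroup S) : Set S) := fun h => by
    refine hn ?_
    rw [← eB]
    refine (map_mono h).trans ((le_normalizer_map _).trans (le_of_eq ?_))
    rw [eA]
  obtain ⟨b, hb, hbN, hbA⟩ := S0649.result hS (B.subgroupOf S) (fun h => absurd h hp)
    (A.subgroupOf S) hA'.comm hBA' hn'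
  have hSet : Replacement.Setup p (A.subgroupOf S) (B.subgroupOf S) b :=
    ⟨hS.to_subgroup _, hA'.comm, by rw [normalizer_eq_top]; exact le_top, hBA',
      fun h => absurd h hp, hb, hbN, hbA⟩
  set T := Replacement.star (A.subgroupOf S) b with hT
  have hTm : AbMax e (D.subgroupOf S) T := by
    refine ⟨⟨Replacement.star_le (inf_le_left.trans hA'.le) fun a ha => ?_,
      Replacement.star_comm hSet, fun x hx => Replacement.pow_eq_one_of_mem_star hSet he hA'.exp hx⟩,
      fun C hC => (hA'.max C hC).trans (Replacement.card_star hSet).ge⟩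
    show ((b⁻¹ * a * b⁻¹⁻¹ * a⁻¹ : S) : G) ∈ D
    simp only [Subgroup.coe_mul, InvMemClass.coe_inv, inv_inv]
    refine mul_mem ?_ (inv_mem (hA'.le ha))
    have := (mem_normalizer_iff''.mp (hD b.2) (a : G)).mp (hA'.le ha)
    exact this
  refine ⟨T.map S.subtype, ?_, ?_, ?_, fun h => ?_, ?_⟩
  · have := (abMax_map_iff S.subtype_injective).mpr hTm
    rwa [eD] at this
  · rw [← eB, ← map_commutator]
    exact map_mono (Replacement.derived_le_star hSet)
  · rw [← eA, ← eB, ← map_inf _ _ _ S.subtype_injective, ← map_inf _ _ _ S.subtype_injective]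
    exact (map_lt_map_iff_of_injective S.subtype_injective).mpr (Replacement.inf_lt_star_inf hSet)
  · refine Replacement.not_mem_star hSet ?_
    rw [← eB] at h
    exact (map_le_map_iff_of_injective S.subtype_injective).mp h hb
  · conv_rhs => rw [← eA]
    exact (map_mono (Replacement.star_le_normalizer hSet)).trans (le_normalizer_map _)

/-- The replacement property of the family `AbMax e D` in a `p`-group. -/
theorem exists_abMax_normalized [Finite G] {p : ℕ} [Fact p.Prime] (hG : IsPGroup p G) (hp : p ≠ 2)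
    (he : e = 0 ∨ Odd e) {B U : Subgroup G} [D.Normal] [B.Normal] (hU : AbMax e D U)
    (hBU : ⁅B, B⁆ ≤ U) (hn : ¬ B ≤ U) :
    ∃ A, AbMax e D A ∧ ⁅B, B⁆ ≤ A ∧ ¬ B ≤ A ∧ B ≤ normalizer (A : Set G) := by
  obtain ⟨A, ⟨hA, hBA, hnA⟩, hmax⟩ :=
    (Set.toFinite {A : Subgroup G | AbMax e D A ∧ ⁅B, B⁆ ≤ A ∧ ¬ B ≤ A}).exists_maximalFor
      (fun A : Subgroup G => Nat.card (A ⊓ B : Subgroup G)) _ ⟨U, hU, hBU, hn⟩
  refine ⟨A, hA, hBA, hnA, by_contra fun h => ?_⟩
  obtain ⟨A', h1, h2, h3, h4, -⟩ := exists_abMax_inf_lt hp he (hG.to_subgroup (⊤ : Subgroup G))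
    le_top (by rw [normalizer_eq_top]) le_top (by rw [normalizer_eq_top]) hA hBA h
  have hlt : Nat.card (A ⊓ B : Subgroup G) < Nat.card (A' ⊓ B : Subgroup G) :=
    Set.Finite.card_lt_card (Set.toFinite _) h3
  exact hlt.not_ge (hmax ⟨h1, h2, h4⟩ hlt.le)

end Cfsg.Agent.Fusion
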