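import Cfsg.Agent.Fusion.ZJ
import Cfsg.Agent.Thompson.Stable
import Cfsg.Agent.KInf.AbTop
import Cfsg.Agent.QdFree.PStable

/-!
# `p`-stability in the action sense from the normalizer form
-/

set_option autoImplicit false
set_option maxHeartbeats 400000

namespace Cfsg.Agent.Fusion

open Subgroup
open scoped commutatorElement

universe u

variable {G : Type u} [Group G] [Finite G] {p : ℕ} [Fact p.Prime]

theorem isPStableOn_of_isNormalizerPStable (h : IsNormalizerPStable p G) (V : Subgroup G) [V.Normal]
    (hV : IsPGroup p V) : IsPStableOn p V := by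
  intro a ha
  have hN : normalizer (V : Set G) = ⊤ := normalizer_eq_top V
  obtain ⟨S⟩ := (inferInstance : Nonempty (Sylow p G))
  have h1 := mem_normalCore_of_mk_mem_normalizer (B := V) (hN ▸ mem_top a)
    (h V hV a (hN ▸ mem_top a) ha) S
  set C := centralizer (V : Set G)
  set K := normalCore ((S : Subgroup G) ⊔ C)
  have hKn : (K.map (QuotientGroup.mk' C)).Normal :=
    (normalCore_normal _).map _ (QuotientGroup.mk'_surjective C)
  have hle : K.map (QuotientGroup.mk' C) ≤ (S : Subgroup G).map (QuotientGroup.mk' C) := by
    refine (map_mono (normalCore_le _)).trans ?_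
    rw [Subgroup.map_sup]
    refine sup_le le_rfl (le_trans ?_ bot_le)
    rw [le_bot_iff, Subgroup.map_eq_bot_iff, QuotientGroup.ker_mk']
  exact Core.le_pCore (hN := hKn) ((S.2.map _).to_le hle) (mem_map_of_mem (QuotientGroup.mk' C) h1)

/-- `p`-stability of subgroups and quotients in the normalizer form gives the action sense. -/
theorem isActionPStable_of_sections (h : IsNormalizerPStable p G)
    (hquot : ∀ (N : Subgroup G) [N.Normal], IsNormalizerPStable p (G ⧸ N))
    (hsub : ∀ H : Subgroup G, IsNormalizerPStable p H) : IsActionPStable p G := by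
  refine ⟨fun V hVn hV => isPStableOn_of_isNormalizerPStable h V
      (Thompson.ea_isPGroup hV), fun a ha => ?_,
    fun S V hVn hV => isPStableOn_of_isNormalizerPStable (hsub _) V ?_⟩
  · set P := pCore p G
    set F := (frattini ↥P).map P.subtype with hF
    set f := QuotientGroup.mk' F
    have hfs : Function.Surjective f := QuotientGroup.mk'_surjective F
    have hFn : F.Normal := ConjAct.normal_of_characteristic_of_normal
    have hPn : (P.map f).Normal := (inferInstance : P.Normal).map f hfs
    have hst := isPStableOn_of_isNormalizerPStable (hquot F)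
      (P.map f) (Core.pCore_isPGroup.map f)
    have hq : ⁅⁅P.map f, zpowers (f a)⁆, zpowers (f a)⁆ = ⊥ := by
      rw [← MonoidHom.map_zpowers, ← map_commutator, ← map_commutator, Subgroup.map_eq_bot_iff,
        QuotientGroup.ker_mk']
      exact ha
    obtain ⟨D, hDn, hCD, ⟨k, hk⟩, haD⟩ := Thompson.exists_relIndex_of_isPStableOn hst hq
    exact ⟨D.comap f, hDn.comap f, comap_mono hCD, ⟨k, by
      rw [sectionKernel, relIndex_comap, map_comap_eq_self_of_surjective hfs]; exact hk⟩, haD⟩
  · exact (S.2.to_le (hV.trans (map_subtype_le _))).of_equiv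
      (V.equivMapOfInjective _ (subtype_injective _)).symm

/-- In a group with an abelian `p'`-layer below a `p`-group the action sense of `p`-stability holds. -/
theorem isActionPStable_of_abTop (h : KInf.AbTop p G) (h2 : p ≠ 2) : IsActionPStable p G :=
  isActionPStable_of_sections (KInf.isNormalizerPStable_of_abTop h h2)
    (fun _ _ => KInf.isNormalizerPStable_of_abTop (h.map (QuotientGroup.mk'_surjective _)) h2)
    (fun _ => KInf.isNormalizerPStable_of_abTop (h.subgroup _) h2)

/-- Without a section SL₂(p) a group is `p`-stable in the action sense. -/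
theorem isActionPStable_of_free (h2 : p ≠ 2)
    (h : ¬ Involves (Matrix.SpecialLinearGroup (Fin 2) (ZMod p)) G) : IsActionPStable p G :=
  isActionPStable_of_sections (QdFree.isNormalizerPStable_of_free h2 fun _ _ _ hi =>
      h (QdFree.involves_of_subgroup hi))
    (fun _ _ => QdFree.isNormalizerPStable_of_free h2 fun _ _ _ hi =>
      h (QdFree.involves_of_surjective (QdFree.involves_of_subgroup hi) (QuotientGroup.mk'_surjective _)))
    (fun _ => QdFree.isNormalizerPStable_of_free h2 fun _ _ _ hi =>
      h (QdFree.involves_of_subgroup (QdFree.involves_of_subgroup hi)))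

end Cfsg.Agent.Fusion
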