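import Cfsg.Agent.Fusion.Alperin

/-!
# Alperin's theorem with `p`-elements
-/

set_option autoImplicit false
set_option maxHeartbeats 400000

namespace Cfsg.Agent.Fusion

open Subgroup

universe u

variable {G : Type u} [Group G] [Finite G] {p : ℕ} [hp : Fact p.Prime]

/-- A chain of conjugations by `p`-elements (or elements of `N(P)`) through tame intersections. -/
inductive PChain (P : Sylow p G) : Set G → G → Prop
  | nil (A : Set G) : PChain P A 1
  | cons {A : Set G} {g : G} (x : G) (Q : Sylow p G)
      (hA : A ⊆ ((P : Subgroup G) ⊓ (Q : Subgroup G) : Subgroup G))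
      (hx : x ∈ normalizer (((P : Subgroup G) ⊓ (Q : Subgroup G) : Subgroup G) : Set G))
      (hQ : IsTame P Q) (hord : (Q : Subgroup G) = (P : Subgroup G) ∨ ∃ k, orderOf x = p ^ k)
      (h : PChain P (conjSet x A) g) : PChain P A (x * g)

variable {P : Sylow p G}

theorem PChain.mono {A B : Set G} {g : G} (h : PChain P A g) (hBA : B ⊆ A) : PChain P B g := by
  induction h generalizing B with
  | nil A => exact .nil B
  | cons x Q hA hx hQ ho _ ih => exact .cons x Q (hBA.trans hA) hx hQ ho (ih (conjSet_mono hBA))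

theorem PChain.trans {A : Set G} {g h : G} (h1 : PChain P A g)
    (h2 : PChain P (conjSet g A) h) : PChain P A (g * h) := by
  induction h1 with
  | nil A => simpa [conjSet_one] using h2
  | cons x Q hA hx hQ ho _ ih =>
    rw [mul_assoc]
    exact .cons x Q hA hx hQ ho (ih (by rwa [← conjSet_mul]))

/-- Products of `p`-elements of `N` together with `N_N(S)` give all of `N`. -/
theorem exists_mul_normalizer_of_sylow {N S : Subgroup G} (hSN : S ≤ N) (hS : IsPGroup p S)
    (hSi : ¬ p ∣ S.relIndex N) {x : G} (hx : x ∈ N) :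
    ∃ y ∈ closure {z : G | z ∈ N ∧ ∃ k, orderOf z = p ^ k},
      ∃ n ∈ N, n ∈ normalizer (S : Set G) ∧ x = y * n := by
  set K := closure {z : G | z ∈ N ∧ ∃ k, orderOf z = p ^ k} with hK
  have hKN : K ≤ N := (closure_le _).mpr fun z hz => hz.1
  have hSK : S ≤ K := fun s hs => subset_closure ⟨hSN hs, by
    obtain ⟨k, hk⟩ := IsPGroup.iff_orderOf.mp hS ⟨s, hs⟩
    exact ⟨k, by rwa [Subgroup.orderOf_mk] at hk⟩⟩
  obtain ⟨z, hz⟩ : ∃ z, z = x⁻¹ := ⟨_, rfl⟩
  have hzN : z ∈ N := hz ▸ inv_mem hx
  have hzK : conjSub z K ≤ K := by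
    rw [conjSub_le_iff, hK, closure_le]
    rintro w ⟨hwN, k, hk⟩
    rw [SetLike.mem_coe, mem_conjSub, inv_inv]
    refine subset_closure ⟨mul_mem (mul_mem (inv_mem hzN) hwN) hzN, k, ?_⟩
    rw [← hk, show z⁻¹ * w * z = MulAut.conj z⁻¹ w by simp, MulEquiv.orderOf_eq]
  have hzS : conjSub z S ≤ K := (conjSub_mono hSK).trans hzK
  have hSKi : ¬ p ∣ S.relIndex K := fun hd => hSi (hd.trans (relIndex_dvd_of_le_right' hKN))
  obtain ⟨m, hm, hle⟩ := exists_conjSub_le_of_not_dvd_relIndex hSK hS hSKi hzS (isPGroup_conjSub hS)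
  rw [conjSub_conjSub] at hle
  have heq : conjSub (z * m) S = S := eq_of_le_of_card_ge hle (card_conjSub _ S).ge
  refine ⟨m, hm, m⁻¹ * x, mul_mem (inv_mem (hKN hm)) hx, ?_, by group⟩
  have := inv_mem (mem_normalizer_of_conjSub_eq heq)
  rwa [mul_inv_rev, hz, inv_inv] at this
where
  relIndex_dvd_of_le_right' {H K L : Subgroup G} (hKL : K ≤ L) (hHK : H ≤ K := by assumption) :
      H.relIndex K ∣ H.relIndex L := Dvd.intro _ (relIndex_mul_relIndex H K L hHK hKL)

/-- Alperin's theorem with `p`-elements, for subgroups. -/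
theorem pChain_of_conjSub_le (P : Sylow p G) (D : Subgroup G) (g : G)
    (hD : D ≤ (P : Subgroup G)) (hg : conjSub g D ≤ (P : Subgroup G)) :
    PChain P (D : Set G) g := by
  induction hn : Nat.card G - Nat.card D using Nat.strong_induction_on generalizing D g with
  | _ n IH =>
  subst hn
  have key : ∀ (A : Set G) (g' : G), AlperinChain P A g' →
      (∀ F : Subgroup G, A ⊆ F → Nat.card D ≤ Nat.card F) → PChain P A g' := by
    intro A g' h
    induction h with
    | nil A => exact fun _ => .nil A
    | @cons A g' x Q hA hx hQ _ ih =>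
      intro hcard
      set F := (P : Subgroup G) ⊓ (Q : Subgroup G) with hF
      refine PChain.trans ?_ (ih fun E hE => ?_)
      · refine PChain.mono ?_ hA
        rcases (inf_le_left : F ≤ (P : Subgroup G)).eq_or_lt with he | hlt
        · have hQP : (Q : Subgroup G) = (P : Subgroup G) :=
            (eq_of_le_of_card_ge (he.ge.trans inf_le_right)
              (P.card_eq_multiplicity ▸ Q.card_eq_multiplicity).le).symm
          rw [← mul_one x]
          exact .cons x Q subset_rfl hx hQ (Or.inl hQP) (.nil _)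
        set N := normalizer (F : Set G) with hN
        set S := (P : Subgroup G) ⊓ N with hS
        obtain ⟨y, hy, n, hnN, hnS, rfl⟩ := exists_mul_normalizer_of_sylow (p := p) (N := N) (S := S)
          inf_le_right P.2.to_inf_left hQ.1 hx
        have hyN : y ∈ N := by simpa [mul_assoc] using mul_mem hx (inv_mem hnN)
        refine PChain.trans ?_ ?_
        · suffices hy2 : ∀ w ∈ closure {z : G | z ∈ N ∧ ∃ k, orderOf z = p ^ k},
              PChain P (F : Set G) w from hy2 y hy
          intro w hw
          induction hw using closure_induction_left with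
          | one => exact .nil _
          | mul_left z hz w hw ihw =>
            exact .cons z Q subset_rfl hz.1 hQ (Or.inr hz.2)
              (by rwa [conjSet_eq_of_mem_normalizer hz.1])
          | inv_mul_cancel z hz w hw ihw =>
            exact .cons z⁻¹ Q subset_rfl (inv_mem hz.1) hQ
              (Or.inr (by rw [orderOf_inv]; exact hz.2))
              (by rwa [conjSet_eq_of_mem_normalizer (inv_mem hz.1 : z⁻¹ ∈ N)])
        · rw [conjSet_eq_of_mem_normalizer hyN]
          have hFS : F < S := lt_inf_normalizer_of_isPGroup P.2 hlt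
          have hlt' : Nat.card F < Nat.card S :=
            Set.Finite.card_lt_card (Set.toFinite _) (SetLike.coe_ssubset_coe.mpr hFS)
          have hDF := hcard F hA
          refine (IH _ ?_ S n inf_le_left (by rw [conjSub_eq_of_mem_normalizer hnS]; exact inf_le_left)
            rfl).mono (SetLike.coe_subset_coe.mpr hFS.le)
          have := Nat.le_of_dvd Nat.card_pos (card_subgroup_dvd_card S)
          omega
      · rw [← card_conjSub x⁻¹ E]
        refine hcard _ fun a ha => ?_
        rw [SetLike.mem_coe, mem_conjSub, inv_inv]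
        exact hE ⟨a, ha, rfl⟩
  exact key _ g (alperinChain_of_conjSub_le P D g hD hg) fun F hF =>
    card_le_of_le (SetLike.coe_subset_coe.mp hF)

theorem pChain_of_subset (P : Sylow p G) {A : Set G} {g : G}
    (hA : A ⊆ ((P : Subgroup G) : Set G)) (hg : conjSet g A ⊆ ((P : Subgroup G) : Set G)) :
    PChain P A g := by
  refine (pChain_of_conjSub_le P (closure A) g ((closure_le _).mpr hA) ?_).mono subset_closure
  rw [conjSub_le_iff, closure_le]
  intro a ha
  rw [SetLike.mem_coe, mem_conjSub, inv_inv]
  exact hg ⟨a, ha, rfl⟩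

theorem PChain.exists_fin {A : Set G} {g : G} (h : PChain P A g) :
    ∃ (n : ℕ) (Q : Fin n → Sylow p G) (x : Fin n → G), (List.ofFn x).prod = g ∧
      (∀ i, x i ∈ normalizer (((P : Subgroup G) ⊓ (Q i : Subgroup G) : Subgroup G) : Set G) ∧
        IsTame P (Q i) ∧ ((Q i : Subgroup G) = (P : Subgroup G) ∨ ∃ k, orderOf (x i) = p ^ k)) ∧
      ∀ i : Fin n, conjSet ((List.ofFn x).take i.val).prod A ⊆
        (((P : Subgroup G) ⊓ (Q i : Subgroup G) : Subgroup G) : Set G) := by
  induction h with
  | nil A => exact ⟨0, Fin.elim0, Fin.elim0, by simp, fun i => i.elim0, fun i => i.elim0⟩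
  | @cons A g x Q hA hx hQ ho _ ih =>
    obtain ⟨n, Qs, xs, hprod, h1, h2⟩ := ih
    refine ⟨n + 1, Fin.cons Q Qs, Fin.cons x xs, ?_, ?_, ?_⟩
    · simp [List.ofFn_succ, hprod]
    · intro i
      induction i using Fin.cases with
      | zero => simpa using ⟨hx, hQ, ho⟩
      | succ j => simpa using h1 j
    · intro i
      induction i using Fin.cases with
      | zero => simpa [conjSet_one] using hA
      | succ j => simpa [List.ofFn_succ, conjSet_mul] using h2 j

end Cfsg.Agent.Fusion
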