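import Cfsg.Agent.Fusion.RankQuot
import Cfsg.Agent.Fusion.PGroup
import Cfsg.Agent.Fusion.RankTwo
import Cfsg.Agent.Core.PCore
import Cfsg.Agent.Core.FaithfulTI
import Cfsg.Agent.S3771
import Cfsg.Agent.S4208
import Cfsg.Agent.Regular.Basic
import Cfsg.Agent.Layer.PConstraint

/-!
# Chief factors of a `p`-solvable group of `p`-rank at most two

* `chief_split` : a chief factor lives either in `G ⧸ N` or in `N`;
* `chief_le_of_omega_central` : inside a normal `p`-subgroup whose elements of order `p` are central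
  in it and are at most `p ^ 2` in number, chief factors have order at most `p ^ 2`;
* `chief_le_sq_of_pRankLE` : the bound for `p`-solvable groups of `p`-rank at most two, `p` odd.
-/

set_option autoImplicit false

namespace Cfsg.Agent.Fusion

open Subgroup Cfsg
open scoped commutatorElement

universe u

variable {G : Type u} [Group G]

/-- `H / K` is a chief factor. -/
def IsChief (H K : Subgroup G) : Prop :=
  H.Normal ∧ K.Normal ∧ K < H ∧ ∀ L : Subgroup G, L.Normal → K ≤ L → L ≤ H → L = K ∨ L = H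

/-- A chief factor lives either in the quotient by `N` or inside `N`. -/
theorem chief_split {H K : Subgroup G} (h : IsChief H K) (N : Subgroup G) [N.Normal] :
    ((IsChief (H.map (QuotientGroup.mk' N)) (K.map (QuotientGroup.mk' N))) ∧
      (K.map (QuotientGroup.mk' N)).relIndex (H.map (QuotientGroup.mk' N)) = K.relIndex H) ∨
    (IsChief (H ⊓ N) (K ⊓ N) ∧ (K ⊓ N).relIndex (H ⊓ N) = K.relIndex H) := by
  obtain ⟨hH, hK, hKH, hmin⟩ := h
  set f := QuotientGroup.mk' N with hf
  have hs := QuotientGroup.mk'_surjective N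
  by_cases hc : H ⊓ N ≤ K
  · left
    have hback : ∀ L : Subgroup (G ⧸ N), K.map f ≤ L → L ≤ H.map f → L = ((L.comap f) ⊓ H).map f := by
      intro L _ hLH
      refine le_antisymm (fun y hy => ?_) ?_
      · obtain ⟨x, hx, rfl⟩ := hLH hy
        exact ⟨x, ⟨hy, hx⟩, rfl⟩
      · rintro _ ⟨x, hx, rfl⟩
        exact hx.1
    have hrel : (K.map f).relIndex (H.map f) = K.relIndex H := by
      rw [← relIndex_comap, comap_map_eq, hf, QuotientGroup.ker_mk', ← inf_relIndex_right]
      congr 1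
      refine le_antisymm ?_ (le_inf le_sup_left hKH.le)
      rintro x ⟨hx, hxH⟩
      obtain ⟨k, hk, n, hn, rfl⟩ := mem_sup_of_normal_right.mp (show x ∈ K ⊔ N from hx)
      have hnH : n ∈ H := by simpa using H.mul_mem (H.inv_mem (hKH.le hk)) hxH
      exact K.mul_mem hk (hc ⟨hnH, hn⟩)
    refine ⟨⟨hH.map f hs, hK.map f hs, lt_of_le_of_ne (map_mono hKH.le) fun e => ?_, ?_⟩, hrel⟩
    · rw [e, relIndex_self] at hrel
      exact hKH.not_ge (relIndex_eq_one.mp hrel.symm)
    · intro L hL hKL hLH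
      haveI := hL
      haveI := hH
      rcases hmin (L.comap f ⊓ H) inferInstance
        (le_inf (map_le_iff_le_comap.mp hKL) hKH.le) inf_le_right with e | e
      · exact Or.inl (by rw [hback L hKL hLH, e])
      · exact Or.inr (by rw [hback L hKL hLH, e])
  · right
    haveI := hH
    haveI := hK
    have hsup : K ⊔ (H ⊓ N) = H := (hmin (K ⊔ (H ⊓ N)) inferInstance le_sup_left
      (sup_le hKH.le inf_le_left)).resolve_left fun e => hc (e ▸ le_sup_right)
    have hrel : (K ⊓ N).relIndex (H ⊓ N) = K.relIndex H := by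
      conv_rhs => rw [← hsup, relIndex_sup_left]
      rw [← inf_relIndex_right K (H ⊓ N), ← inf_assoc, inf_of_le_left hKH.le]
    refine ⟨⟨inferInstance, inferInstance, lt_of_le_of_ne (inf_le_inf_right N hKH.le) fun e => ?_, ?_⟩, hrel⟩
    · rw [e, relIndex_self] at hrel
      exact hKH.not_ge (relIndex_eq_one.mp hrel.symm)
    · intro L hL hKL hLH
      haveI := hL
      rcases hmin (K ⊔ L) inferInstance le_sup_left
        (sup_le hKH.le (hLH.trans inf_le_left)) with e | e
      · left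
        exact le_antisymm (le_inf (e ▸ le_sup_right) (hLH.trans inf_le_right)) hKL
      · right
        refine le_antisymm hLH fun x hx => ?_
        obtain ⟨k, hk, l, hl, rfl⟩ := mem_sup_of_normal_right.mp
          (show x ∈ K ⊔ L from e ▸ (Subgroup.mem_inf.mp hx).1)
        have hkN : k ∈ N := by
          simpa using N.mul_mem (Subgroup.mem_inf.mp hx).2 (N.inv_mem ((hLH.trans inf_le_right) hl))
        exact L.mul_mem (hKL ⟨hk, hkN⟩) hl

theorem relIndex_map_dvd_card {H K : Subgroup G} {G' : Type*} [Group G'] (f : G →* G') :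
    (K.map f).relIndex (H.map f) ∣ Nat.card (H.map f) := by
  rw [← relIndex_bot_left (H.map f)]
  exact relIndex_dvd_of_le_left _ bot_le

variable [Finite G] {p : ℕ} [Fact p.Prime]

/-- In a normal `p`-subgroup with few, central elements of order `p` (`p` odd), a `p`-th root of an
element of order `p` is central modulo the elements of order `p`. -/
theorem commutator_pow_eq_one (hp : p ≠ 2) {C : Subgroup G} (hC : IsPGroup p C)
    (hcen : ∀ x ∈ C, x ^ p = 1 → ∀ y ∈ C, x * y = y * x) :
    ∀ H : Subgroup C, ∀ x ∈ H, ∀ y ∈ H, (x ^ p) ^ p = 1 → ⁅x, y⁆ ^ p = 1 := by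
  have hcen' : ∀ w : C, w ^ p = 1 → ∀ y : C, Commute w y := fun w hw y =>
    Subtype.ext (hcen w w.2 (by exact_mod_cast congrArg Subtype.val hw) y y.2)
  have hchoose : p ∣ p.choose 2 := Nat.Prime.dvd_choose_self Fact.out two_ne_zero
    (lt_of_le_of_ne (Fact.out : p.Prime).two_le (Ne.symm hp))
  intro H
  induction H using WellFoundedLT.induction with
  | _ H ih =>
  intro x hx y hy hxp
  have hxc : ∀ w : C, Commute (x ^ p) w := hcen' _ hxp
  set x' := y * x * y⁻¹ with hx'
  have hxpx : x' ^ p = x ^ p := by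
    rw [hx', conj_pow, ← (hxc y).eq, mul_inv_cancel_right]
  -- the subgroup generated by `x` and its conjugate
  set H₁ := closure ({x, x'} : Set C) with hH₁
  have hH₁H : H₁ ≤ H := (closure_le H).mpr (by
    rintro w (rfl | rfl)
    exacts [hx, H.mul_mem (H.mul_mem hy hx) (H.inv_mem hy)])
  rcases lt_or_eq_of_le hH₁H with hlt | heq
  · have hxm : x ∈ H₁ := subset_closure (Set.mem_insert _ _)
    have hxm' : x' ∈ H₁ := subset_closure (Set.mem_insert_of_mem _ rfl)
    have hz := hcen' _ (ih H₁ hlt x hxm x'⁻¹ (inv_mem hxm') hxp)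
    have e := mul_pow_of_commute_commutator (x := x) (y := x'⁻¹)
      (by rw [← commutatorElement_inv]; exact (hz x).inv_left)
      (by rw [← commutatorElement_inv]; exact (hz x'⁻¹).inv_left) p
    have hc1 : ⁅x'⁻¹, x⁆ ^ p = 1 := by
      rw [← commutatorElement_inv, inv_pow, ih H₁ hlt x hxm x'⁻¹ (inv_mem hxm') hxp, inv_one]
    obtain ⟨t, ht⟩ := hchoose
    rw [inv_pow, hxpx, mul_inv_cancel, one_mul, ht, pow_mul, hc1, one_pow] at e
    rwa [show ⁅x, y⁆ = x * x'⁻¹ by rw [hx', commutatorElement_def]; group]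
  · -- then `x` and its conjugate generate everything, so `H` is cyclic modulo the Frattini subgroup
    have hxy : Commute x y := by
      by_contra hne
      refine (Regular.closure_conj_pair_ne hC (x := x) (y := y) fun e => hne
        (commutatorElement_eq_one_iff_mul_comm.mp e).symm).not_ge ((closure_le H₁).mpr ?_)
      rintro w (rfl | rfl)
      · exact subset_closure (Set.mem_insert _ _)
      · exact heq.ge hy
    rw [commutatorElement_eq_one_iff_mul_comm.mpr hxy.eq, one_pow]

/-- Chief factors inside a normal `p`-subgroup with few central elements of order `p`. -/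
theorem chief_le_of_omega_central (hp : p ≠ 2) : ∀ (n : ℕ) (G : Type u) [Group G] [Finite G]
    (C : Subgroup G) [C.Normal], Nat.card C = n → IsPGroup p C →
    (∀ x ∈ C, x ^ p = 1 → ∀ y ∈ C, x * y = y * x) →
    Nat.card {x : G // x ∈ C ∧ x ^ p = 1} ≤ p ^ 2 →
    ∀ H K : Subgroup G, IsChief H K → H ≤ C → K.relIndex H ≤ p ^ 2 := by
  have hpp : p.Prime := Fact.out
  intro n
  induction n using Nat.strong_induction_on with
  | _ n ih =>
  intro G _ _ C hCn hn hC hcen hcard H K hHK hHC
  let D : Subgroup G :=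
    { carrier := {x | x ∈ C ∧ x ^ p = 1}
      one_mem' := ⟨C.one_mem, one_pow p⟩
      mul_mem' := fun {x y} hx hy => ⟨C.mul_mem hx.1 hy.1, by
        rw [(show Commute x y from hcen x hx.1 hx.2 y hy.1).mul_pow, hx.2, hy.2, one_mul]⟩
      inv_mem' := fun {x} hx => ⟨C.inv_mem hx.1, by rw [inv_pow, hx.2, inv_one]⟩ }
  haveI : D.Normal := ⟨fun x hx g => ⟨hCn.conj_mem x hx.1 g, by
    rw [conj_pow, hx.2, mul_one, mul_inv_cancel]⟩⟩
  have hDcard : Nat.card D ≤ p ^ 2 := hcard
  rcases chief_split hHK D with ⟨hq, hrel⟩ | ⟨hd, hrel⟩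
  swap
  · rw [← hrel]
    refine (Nat.le_of_dvd (Nat.card_pos (α := ↥(H ⊓ D))) ?_).trans ((card_le_of_le inf_le_right).trans hDcard)
    rw [← relIndex_bot_left (H ⊓ D)]
    exact relIndex_dvd_of_le_left _ bot_le
  rcases eq_or_ne C ⊥ with rfl | hCne
  · exact absurd (hHC.trans bot_le) hHK.2.2.1.not_ge
  set f := QuotientGroup.mk' D with hf
  haveI : (C.map f).Normal := hCn.map f (QuotientGroup.mk'_surjective D)
  have hlt : Nat.card (C.map f) < n := by
    have h2 := card_mul_index (D.subgroupOf C)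
    rw [Nat.card_congr (subgroupOfEquivOfLe (fun x hx => hx.1 : D ≤ C)).toEquiv, hn] at h2
    have h3 : (D.subgroupOf C).index = Nat.card (C.map f) := by
      show D.relIndex C = _
      rw [← relIndex_ker, hf, QuotientGroup.ker_mk']
    obtain ⟨k, hk⟩ := IsPGroup.iff_card.mp hC
    obtain ⟨x, hx⟩ := exists_prime_orderOf_dvd_card' (G := C) p (by
      rcases k with _ | k
      · exact absurd (card_eq_one.mp (by rw [hk, pow_zero])) hCne
      · exact hk ▸ dvd_pow_self p k.succ_ne_zero)
    have hD1 : 1 < Nat.card D := by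
      refine Finite.one_lt_card_iff_nontrivial.mpr ⟨⟨⟨x, x.2, ?_⟩, 1, fun e => ?_⟩⟩
      · rw [← Subgroup.coe_pow, ← hx, pow_orderOf_eq_one, Subgroup.coe_one]
      · have h1 : x = 1 := Subtype.ext (congrArg Subtype.val e :)
        rw [h1, orderOf_one] at hx
        exact hpp.one_lt.ne hx
    rw [← h3, ← h2]
    exact lt_mul_of_one_lt_left (Nat.pos_of_ne_zero index_ne_zero_of_finite) hD1
  have hkey : ∀ x ∈ C, x ^ p ∈ D → ∀ y ∈ C, ⁅x, y⁆ ∈ D := fun x hx hxD y hy => by
    have e := commutator_pow_eq_one hp hC hcen ⊤ ⟨x, hx⟩ (mem_top _) ⟨y, hy⟩ (mem_top _)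
      (Subtype.ext hxD.2)
    exact ⟨(⁅(⟨x, hx⟩ : C), (⟨y, hy⟩ : C)⁆ : C).2, congrArg Subtype.val e⟩
  have hcen' : ∀ x ∈ C.map f, x ^ p = 1 → ∀ y ∈ C.map f, x * y = y * x := by
    rintro _ ⟨x, hx, rfl⟩ hxp _ ⟨y, hy, rfl⟩
    rw [← commutatorElement_eq_one_iff_mul_comm, ← map_commutatorElement]
    exact (QuotientGroup.eq_one_iff _).mpr
      (hkey x hx ((QuotientGroup.eq_one_iff _).mp (by rw [← map_pow] at hxp; exact hxp)) y hy)
  have hcard' : Nat.card {x : G ⧸ D // x ∈ C.map f ∧ x ^ p = 1} ≤ p ^ 2 := by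
    have hlift : ∀ x : {x : G ⧸ D // x ∈ C.map f ∧ x ^ p = 1}, ∃ c ∈ C, f c = x := fun x => x.2.1
    choose r hr hfr using hlift
    have hrD : ∀ x, r x ^ p ∈ D := fun x => (QuotientGroup.eq_one_iff _).mp (by
      show f (r x ^ p) = 1
      rw [map_pow, hfr x, x.2.2])
    refine (Nat.card_le_card_of_injective (fun x => (⟨r x ^ p, hrD x⟩ : D)) ?_).trans hDcard
    intro a b hab
    have hab' : r a ^ p = r b ^ p := congrArg Subtype.val hab
    have hc1 : ⁅(r b)⁻¹, r a⁆ ∈ D := hkey _ (C.inv_mem (hr b)) (by rw [inv_pow]; exact D.inv_mem (hrD b)) _ (hr a)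
    have e := mul_pow_of_commute_commutator (x := r a) (y := (r b)⁻¹)
      (hcen _ hc1.1 hc1.2 _ (hr a)) (hcen _ hc1.1 hc1.2 _ (C.inv_mem (hr b))) p
    obtain ⟨t, ht⟩ := Nat.Prime.dvd_choose_self hpp two_ne_zero (lt_of_le_of_ne hpp.two_le (Ne.symm hp))
    rw [inv_pow, hab', mul_inv_cancel, one_mul, ht, pow_mul, hc1.2, one_pow] at e
    have hmem : r a * (r b)⁻¹ ∈ D := ⟨C.mul_mem (hr a) (C.inv_mem (hr b)), e⟩
    apply Subtype.ext
    rw [← hfr a, ← hfr b, ← mul_inv_eq_one, ← map_inv, ← map_mul]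
    exact (QuotientGroup.eq_one_iff _).mpr hmem
  rw [← hrel]
  exact ih _ hlt (G ⧸ D) (C.map f) rfl (hC.map f) hcen' hcard' _ _ hq (map_mono hHC)

omit [Finite G] in
/-- Centralisers of normal subgroups inside a normal subgroup are normal. -/
theorem normal_inf_centralizer (P E : Subgroup G) [P.Normal] [E.Normal] :
    (P ⊓ centralizer (E : Set G)).Normal := inferInstance

/-- A normal `p`-subgroup of rank at most two has a normal subgroup `C` of index at most `p ^ 2` in it,
with few, central elements of order `p`. -/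
theorem exists_omega_central (hp : p ≠ 2) (P : Subgroup G) [P.Normal] (hP : IsPGroup p P)
    (hr : PRankLE p 2 G) : ∃ C : Subgroup G, C.Normal ∧ C ≤ P ∧ C.relIndex P ≤ p ^ 2 ∧
      (∀ x ∈ C, x ^ p = 1 → ∀ y ∈ C, x * y = y * x) ∧
      Nat.card {x : G // x ∈ C ∧ x ^ p = 1} ≤ p ^ 2 := by
  have hpp : p.Prime := Fact.out
  by_cases hcyc : IsCyclic P
  · refine ⟨P, inferInstance, le_rfl, by rw [relIndex_self]; exact pow_pos hpp.pos 2, ?_, ?_⟩
    · intro x hx _ y hy
      exact congrArg Subtype.val ((IsCyclic.isMulCommutative (α := P)).is_comm.comm ⟨x, hx⟩ ⟨y, hy⟩)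
    · classical
      have := Fintype.ofFinite P
      refine le_trans ?_ (Nat.le_self_pow two_ne_zero p)
      refine le_trans (Nat.card_le_card_of_injective
        (fun x : {x : G // x ∈ P ∧ x ^ p = 1} => (⟨⟨x.1, x.2.1⟩, Subtype.ext x.2.2⟩ : {y : P // y ^ p = 1}))
        fun a b h => Subtype.ext (congrArg (fun y : {y : P // y ^ p = 1} => ((y : P) : G)) h)) ?_
      rw [Nat.card_eq_fintype_card, Fintype.card_subtype]
      exact IsCyclic.card_pow_eq_one_le hpp.pos
  obtain ⟨A, hAn, hA, hAc⟩ := exists_normal_elementary_card_sq hp hP hcyc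
  -- elements of order `p` in the second centre
  let Z : Subgroup G := P ⊓ centralizer (P : Set G)
  have hZc : ∀ {z}, z ∈ Z → ∀ g ∈ P, Commute z g := fun hz g hg =>
    (mem_centralizer_iff.mp (Subgroup.mem_inf.mp hz).2 g hg).symm
  have hchoose : p ∣ p.choose 2 := Nat.Prime.dvd_choose_self hpp two_ne_zero
    (lt_of_le_of_ne hpp.two_le (Ne.symm hp))
  let E : Subgroup G :=
    { carrier := {x | x ∈ P ∧ x ^ p = 1 ∧ ∀ g ∈ P, ⁅x, g⁆ ∈ Z}
      one_mem' := ⟨P.one_mem, one_pow p, fun g _ => by rw [commutatorElement_one_left]; exact Z.one_mem⟩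
      mul_mem' := fun {x y} hx hy => ⟨P.mul_mem hx.1 hy.1, by
          have hc := hy.2.2 x hx.1
          have h1 : ⁅y, x⁆ ^ p = 1 := by
            have hs : ∀ n : ℕ, ⁅y ^ n, x⁆ = ⁅y, x⁆ ^ n := by
              intro n
              induction n with
              | zero => simp
              | succ n ih =>
                calc ⁅y ^ (n + 1), x⁆ = y * ⁅y ^ n, x⁆ * y⁻¹ * ⁅y, x⁆ := by
                      rw [pow_succ']; simp only [commutatorElement_def]; group
                  _ = ⁅y, x⁆ ^ (n + 1) := by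
                      rw [ih, ← ((hZc hc y hy.1).pow_left n).eq, mul_inv_cancel_right, pow_succ]
            rw [← hs, hy.2.1, commutatorElement_one_left]
          obtain ⟨t, ht⟩ := hchoose
          rw [mul_pow_of_commute_commutator (hZc hc x hx.1) (hZc hc y hy.1), hx.2.1, hy.2.1, ht,
            pow_mul, h1, one_pow]
          simp,
        fun g hg => by
          rw [show ⁅x * y, g⁆ = x * ⁅y, g⁆ * x⁻¹ * ⁅x, g⁆ by simp only [commutatorElement_def]; group,
            ← (hZc (hy.2.2 g hg) x hx.1).eq, mul_inv_cancel_right]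
          exact Z.mul_mem (hy.2.2 g hg) (hx.2.2 g hg)⟩
      inv_mem' := fun {x} hx => ⟨P.inv_mem hx.1, by rw [inv_pow, hx.2.1, inv_one], fun g hg => by
        rw [show ⁅x⁻¹, g⁆ = x⁻¹ * ⁅x, g⁆⁻¹ * x by simp only [commutatorElement_def]; group,
          mul_assoc, ((hZc (hx.2.2 g hg) x hx.1).inv_left).eq, inv_mul_cancel_left]
        exact Z.inv_mem (hx.2.2 g hg)⟩ }
  haveI hZn : Z.Normal := normal_inf_centralizer P P
  haveI hEn : E.Normal := ⟨fun x hx a => ⟨(inferInstance : P.Normal).conj_mem x hx.1 a, by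
      rw [conj_pow, hx.2.1, mul_one, mul_inv_cancel], fun g hg => by
      rw [show ⁅a * x * a⁻¹, g⁆ = a * ⁅x, a⁻¹ * g * a⁆ * a⁻¹ by simp only [commutatorElement_def]; group]
      exact hZn.conj_mem _ (hx.2.2 _ (by simpa using (inferInstance : P.Normal).conj_mem g hg a⁻¹)) a⟩⟩
  have hEP : E ≤ P := fun x hx => hx.1
  have hAE : A.map P.subtype ≤ E := by
    haveI := hAn
    haveI := hA.1
    rintro _ ⟨a, ha, rfl⟩
    refine ⟨a.2, congrArg Subtype.val (hA.2 a ha), fun g hg => ?_⟩
    have hlt : ⁅A, (⊤ : Subgroup P)⁆ < A := by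
      refine lt_of_le_of_ne (commutator_le_left A ⊤) fun e => ?_
      have hne : A ≠ ⊥ := fun h => by
        rw [h, card_bot] at hAc; exact (Nat.one_lt_pow two_ne_zero hpp.one_lt).ne hAc
      obtain ⟨L, hL, hAL, -, -, hLc⟩ : ∃ L : Subgroup P, L.Normal ∧ L < A ∧ True ∧ True ∧ ⁅A, (⊤ : Subgroup P)⁆ ≤ L := by
        obtain ⟨L₀, hL₀, hL₀A, hL₀c⟩ := exists_normal_le_card_eq hP A (i := 1)
          (by rw [hAc]; exact Nat.pow_le_pow_right hpp.pos (by norm_num))
        haveI := hL₀
        have hlt₀ : L₀ < A := lt_of_le_of_ne hL₀A fun e => by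
          rw [e, hAc, pow_one] at hL₀c
          exact (Nat.pow_lt_pow_right hpp.one_lt (show 1 < 2 by norm_num)).ne' (by rw [pow_one]; exact hL₀c)
        obtain ⟨L₁, hL₁, h₁, h₁A, hL₁c, hcomm⟩ := exists_normal_card_succ hP L₀ A hlt₀
        have : L₁ = A := eq_of_le_of_card_ge h₁A (by rw [hL₁c, hL₀c, hAc, pow_one, pow_two])
        exact ⟨L₀, hL₀, hlt₀, trivial, trivial, this ▸ hcomm⟩
      exact hAL.not_ge (e ▸ hLc)
    obtain ⟨k, hk⟩ := IsPGroup.iff_card.mp (hP.to_subgroup ⁅A, (⊤ : Subgroup P)⁆)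
    have hk1 : k ≤ 1 := by
      have := Set.Finite.card_lt_card (Set.toFinite _) (SetLike.coe_ssubset_coe.mpr hlt)
      have h' : p ^ k < p ^ 2 := hk ▸ hAc ▸ this
      have := (Nat.pow_lt_pow_iff_right hpp.one_lt).mp h'
      omega
    have hcen : ⁅A, (⊤ : Subgroup P)⁆ ≤ center P := by
      rcases Nat.le_one_iff_eq_zero_or_eq_one.mp hk1 with rfl | rfl
      · rw [pow_zero] at hk; rw [card_eq_one.mp hk]; exact bot_le
      · exact le_center_of_card_eq_prime hP _ (by rw [hk, pow_one])
    have hmem := hcen (commutator_mem_commutator ha (mem_top (⟨g, hg⟩ : P)))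
    refine ⟨(⁅a, (⟨g, hg⟩ : P)⁆ : P).2, mem_centralizer_iff.mpr fun h hh => ?_⟩
    exact congrArg Subtype.val (mem_center_iff.mp hmem ⟨h, hh⟩)
  have hE2 : p ^ 2 ≤ Nat.card E := by
    rw [← hAc, ← card_map_of_injective (K := A) P.subtype_injective]
    exact card_le_of_le hAE
  have hE3 : Nat.card E ≤ p ^ 3 :=
    S3771.result (hP.to_le hEP) (pRankLE_subgroup hr E) fun x => Subtype.ext x.2.2.1
  set C := P ⊓ centralizer (E : Set G) with hC
  have hΩ : ∀ x ∈ C, x ^ p = 1 → ∀ y ∈ C, x * y = y * x := by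
    intro x hx hxp y hy
    suffices hxE : x ∈ E from mem_centralizer_iff.mp hy.2 x hxE
    have hle : E ⊔ zpowers x ≤ P := sup_le hEP (zpowers_le.mpr hx.1)
    have hexp : ∀ a ∈ E ⊔ zpowers x, a ^ p = 1 := by
      intro a ha
      obtain ⟨u, hu, v, hv, rfl⟩ := mem_sup_of_normal_left.mp ha
      obtain ⟨i, rfl⟩ := mem_zpowers_iff.mp hv
      have hc : Commute u (x ^ i) :=
        (show Commute u x from mem_centralizer_iff.mp hx.2 u hu).zpow_right i
      rw [hc.mul_pow, hu.2.1, ← zpow_natCast, ← zpow_mul, mul_comm i, zpow_mul, zpow_natCast, hxp,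
        one_zpow, one_mul]
    -- rank two bounds
    obtain ⟨k, hk⟩ := IsPGroup.iff_card.mp (hP.to_le hEP)
    rcases le_or_gt k 2 with hk2 | hk3
    · -- then `E` is abelian
      have hk' : Nat.card E = p ^ 2 := le_antisymm (hk ▸ Nat.pow_le_pow_right hpp.pos hk2) hE2
      haveI := IsPGroup.isMulCommutative_of_card_eq_prime_sq hk'
      have hcomm : IsMulCommutative (E ⊔ zpowers x : Subgroup G) :=
        isMulCommutative_sup_of_le_centralizer inferInstance inferInstance
          (le_centralizer_iff.mp (zpowers_le.mpr hx.2))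
      have h2 := hr _ hcomm fun a ha => hexp a ha
      exact (eq_of_le_of_card_ge le_sup_left (h2.trans hE2)).ge (mem_sup_right (mem_zpowers x))
    · have hcard : Nat.card (E ⊔ zpowers x : Subgroup G) ≤ p ^ 3 :=
        S3771.result (hP.to_le hle) (pRankLE_subgroup hr _) fun a => Subtype.ext (hexp a a.2)
      have h3 : p ^ 3 ≤ Nat.card E := hk ▸ Nat.pow_le_pow_right hpp.pos hk3
      exact (eq_of_le_of_card_ge le_sup_left (hcard.trans h3)).ge (mem_sup_right (mem_zpowers x))
  refine ⟨C, inferInstance, inf_le_left, ?_, hΩ, ?_⟩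
  · -- two generators suffice modulo the central part
    set E₀ := E ⊓ Z with hE₀
    have hidx : ∀ e ∈ E, (P ⊓ centralizer ({e} : Set G)).relIndex P ≤ Nat.card E₀ := by
      intro e he
      rw [inf_relIndex_left, relIndex, index_eq_card]
      refine Nat.card_le_card_of_injective (fun q => ⟨⁅(q.out : G), e⁆, ?_⟩) ?_
      · have h1 : ⁅e, (q.out : G)⁆ ∈ Z := he.2.2 _ q.out.2
        rw [← commutatorElement_inv]
        refine ⟨E.inv_mem ?_, Z.inv_mem h1⟩
        rw [show ⁅e, (q.out : G)⁆ = e * ((q.out : G) * e⁻¹ * (q.out : G)⁻¹) by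
          simp only [commutatorElement_def]; group]
        exact E.mul_mem he (hEn.conj_mem _ (E.inv_mem he) _)
      · intro a b hab
        have hab' : ⁅(a.out : G), e⁆ = ⁅(b.out : G), e⁆ := congrArg Subtype.val hab
        rw [← Quotient.out_eq a, ← Quotient.out_eq b]
        refine QuotientGroup.eq.mpr ?_
        rw [mem_subgroupOf, mem_centralizer_singleton_iff, Subgroup.coe_mul, Subgroup.coe_inv]
        rw [commutatorElement_def, commutatorElement_def, mul_left_inj] at hab'
        calc (a.out : G)⁻¹ * (b.out : G) * e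
            = (a.out : G)⁻¹ * ((b.out : G) * e * (b.out : G)⁻¹) * (b.out : G) := by group
          _ = e * ((a.out : G)⁻¹ * (b.out : G)) := by rw [← hab']; group
    rcases le_or_gt (p ^ 2) (Nat.card E₀) with hbig | hsmall
    · -- all of `E` is central in `P`
      have hEZ : E ≤ Z := by
        intro x hx
        have hcomm : IsMulCommutative (E₀ ⊔ zpowers x : Subgroup G) := by
          refine isMulCommutative_sup_of_le_centralizer ?_ inferInstance ?_
          · exact ⟨⟨fun a b => Subtype.ext (hZc a.2.2 b (Subgroup.mem_inf.mp b.2.2).1).eq⟩⟩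
          · exact fun a ha => mem_centralizer_iff.mpr fun b hb =>
              ((hZc ha.2 b ((zpowers_le.mpr hx.1 : zpowers x ≤ P) hb)).eq).symm
        have hle : E₀ ⊔ zpowers x ≤ E := sup_le inf_le_left (zpowers_le.mpr hx)
        have h2 := hr _ hcomm fun a ha => (hle ha).2.1
        have heq := eq_of_le_of_card_ge (le_sup_left : E₀ ≤ E₀ ⊔ zpowers x) (h2.trans hbig)
        exact (heq.ge (mem_sup_right (mem_zpowers x)) : x ∈ E₀).2
      have hCP : C = P := inf_eq_left.mpr fun g hg => mem_centralizer_iff.mpr fun x hx =>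
        (hZc (hEZ hx) g hg).eq
      rw [hCP, relIndex_self]
      exact pow_pos hpp.pos 2
    · have hE₀1 : Nat.card E₀ ≤ p := by
        obtain ⟨k, hk⟩ := IsPGroup.iff_card.mp (hP.to_le (inf_le_left.trans hEP : E₀ ≤ P))
        rw [hk] at hsmall ⊢
        calc p ^ k ≤ p ^ 1 := Nat.pow_le_pow_right hpp.pos
              (Nat.lt_succ_iff.mp ((Nat.pow_lt_pow_iff_right hpp.one_lt).mp hsmall))
          _ = p := pow_one p
      have hE₀p : p ≤ Nat.card E₀ := by
        haveI : Nontrivial E := Finite.one_lt_card_iff_nontrivial.mp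
          (lt_of_lt_of_le (Nat.one_lt_pow two_ne_zero hpp.one_lt) hE2)
        obtain ⟨W, hWE, hWc, -, hWcard⟩ := exists_central_card_prime hP (E.subgroupOf P) (fun e => by
          rw [subgroupOf_eq_bot, disjoint_iff, inf_eq_left.mpr hEP] at e
          rw [e, card_bot] at hE2
          exact hE2.not_gt (Nat.one_lt_pow two_ne_zero hpp.one_lt))
        rw [← hWcard, ← card_map_of_injective (K := W) P.subtype_injective]
        refine card_le_of_le ?_
        rintro _ ⟨w, hw, rfl⟩
        exact ⟨hWE hw, w.2, mem_centralizer_iff.mpr fun g hg =>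
          congrArg Subtype.val (mem_center_iff.mp (hWc hw) ⟨g, hg⟩)⟩
      -- a step of index at least `p`
      have hstep : ∀ B : Subgroup G, B ≤ E → B ≠ E → ∃ e ∈ E, p * Nat.card B ≤ Nat.card (B ⊔ zpowers e : Subgroup G) := by
        intro B hB hne
        obtain ⟨e, he, heB⟩ := SetLike.exists_of_lt (lt_of_le_of_ne hB hne)
        refine ⟨e, he, ?_⟩
        have hlt : B < B ⊔ zpowers e := lt_of_le_of_ne le_sup_left fun h =>
          heB (h.ge (mem_sup_right (mem_zpowers e)))
        have hpg : IsPGroup p (B ⊔ zpowers e : Subgroup G) :=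
          hP.to_le ((sup_le hB (zpowers_le.mpr he)).trans hEP)
        obtain ⟨a, ha⟩ := IsPGroup.iff_card.mp (hpg.to_le hlt.le)
        obtain ⟨b, hb⟩ := IsPGroup.iff_card.mp hpg
        have h := Set.Finite.card_lt_card (Set.toFinite _) (SetLike.coe_ssubset_coe.mpr hlt)
        have h' : p ^ a < p ^ b := ha ▸ hb ▸ h
        rw [ha, hb, ← pow_succ']
        exact Nat.pow_le_pow_right hpp.pos ((Nat.pow_lt_pow_iff_right hpp.one_lt).mp h')
      obtain ⟨e₁, he₁, h₁⟩ := hstep E₀ inf_le_left fun e => by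
        rw [e] at hE₀1
        exact absurd (hE2.trans hE₀1) (by rw [not_le, pow_two]; exact lt_mul_of_one_lt_left hpp.pos hpp.one_lt)
      obtain ⟨e₂, he₂, hgen⟩ : ∃ e₂ ∈ E, E₀ ⊔ zpowers e₁ ⊔ zpowers e₂ = E := by
        have hle : E₀ ⊔ zpowers e₁ ≤ E := sup_le inf_le_left (zpowers_le.mpr he₁)
        by_cases heq : E₀ ⊔ zpowers e₁ = E
        · exact ⟨1, E.one_mem, by rw [zpowers_one_eq_bot, sup_bot_eq, heq]⟩
        obtain ⟨e₂, he₂, h₂⟩ := hstep _ hle heq
        refine ⟨e₂, he₂, eq_of_le_of_card_ge (sup_le hle (zpowers_le.mpr he₂)) ?_⟩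
        calc Nat.card E ≤ p ^ 3 := hE3
          _ = p * (p * p) := by ring
          _ ≤ p * Nat.card (E₀ ⊔ zpowers e₁ : Subgroup G) :=
              Nat.mul_le_mul_left p ((Nat.mul_le_mul_left p hE₀p).trans h₁)
          _ ≤ _ := h₂
      set K₁ := P ⊓ centralizer ({e₁} : Set G)
      set K₂ := P ⊓ centralizer ({e₂} : Set G)
      have hle : K₁ ⊓ K₂ ≤ C := by
        rintro g ⟨⟨hgP, hg₁⟩, -, hg₂⟩
        refine ⟨hgP, ?_⟩
        rw [← hgen]
        refine mem_centralizer_iff.mpr fun x hx => ?_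
        have : E₀ ⊔ zpowers e₁ ⊔ zpowers e₂ ≤ centralizer ({g} : Set G) := by
          refine sup_le (sup_le ?_ ?_) ?_
          · exact fun z hz => mem_centralizer_singleton_iff.mpr ((hZc hz.2 g hgP).eq)
          · exact zpowers_le.mpr (mem_centralizer_singleton_iff.mpr (mem_centralizer_singleton_iff.mp hg₁).symm)
          · exact zpowers_le.mpr (mem_centralizer_singleton_iff.mpr (mem_centralizer_singleton_iff.mp hg₂).symm)
        exact mem_centralizer_singleton_iff.mp (this hx)
      calc C.relIndex P ≤ (K₁ ⊓ K₂).relIndex P :=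
            Nat.le_of_dvd (Nat.pos_of_ne_zero (by simp [relIndex, index_ne_zero_of_finite]))
              (relIndex_dvd_of_le_left P hle)
        _ ≤ K₁.relIndex P * K₂.relIndex P := relIndex_inf_le
        _ ≤ p * p := Nat.mul_le_mul ((hidx e₁ he₁).trans hE₀1) ((hidx e₂ he₂).trans hE₀1)
        _ = p ^ 2 := (pow_two p).symm
  · let D : Subgroup G :=
      { carrier := {x | x ∈ C ∧ x ^ p = 1}
        one_mem' := ⟨C.one_mem, one_pow p⟩
        mul_mem' := fun {x y} hx hy => ⟨C.mul_mem hx.1 hy.1, by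
          rw [(show Commute x y from hΩ x hx.1 hx.2 y hy.1).mul_pow, hx.2, hy.2, one_mul]⟩
        inv_mem' := fun {x} hx => ⟨C.inv_mem hx.1, by rw [inv_pow, hx.2, inv_one]⟩ }
    exact hr D ⟨⟨fun a b => Subtype.ext (hΩ a a.2.1 a.2.2 b b.2.1)⟩⟩ fun a ha => ha.2

/-- A `p`-group of automorphisms of a group of order at most `p ^ 2` has order at most `p`. -/
theorem not_sq_dvd_card_mulAut {V : Type*} [Group V] [Finite V] (hexp : ∀ x : V, x ^ p = 1)
    (hV : Nat.card V ≤ p ^ 2) : ¬ p ^ 2 ∣ Nat.card (MulAut V) := by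
  have hpp : p.Prime := Fact.out
  have hVp : IsPGroup p V := fun x => ⟨1, by rw [pow_one]; exact hexp x⟩
  obtain ⟨n, hn⟩ := IsPGroup.iff_card.mp hVp
  obtain ⟨r, hr⟩ := hVp.index (frattini V)
  have hrn : r ≤ n := by
    have := (frattini V).index_dvd_card
    rw [hr, hn] at this
    exact (Nat.pow_dvd_pow_iff_le_right hpp.one_lt).mp this
  have hn2 : n ≤ 2 := (Nat.pow_le_pow_iff_right hpp.one_lt).mp (hn ▸ hV)
  intro hdvd
  have h := hdvd.trans (S4208.result hn hr)
  have hp1 : ¬ p ∣ p - 1 := fun h1 => by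
    have := Nat.le_of_dvd (by have := hpp.two_le; omega) h1
    have := hpp.two_le; omega
  have hp2 : ¬ p ∣ p ^ 2 - 1 := fun h1 => by
    have h2 : p ∣ p ^ 2 := dvd_pow_self p two_ne_zero
    have h3 := Nat.dvd_sub h2 h1
    rw [Nat.sub_sub_self (Nat.one_le_pow _ _ hpp.pos)] at h3
    exact hpp.one_lt.ne' (Nat.dvd_one.mp h3)
  interval_cases n <;> interval_cases r <;> simp only [Finset.prod_range_succ, Finset.prod_range_zero,
    one_mul, pow_zero, pow_one, Nat.sub_zero, Nat.reduceSub, Nat.reduceMul, mul_one] at h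
  all_goals rw [pow_two] at h
  · exact hpp.one_lt.ne' (Nat.dvd_one.mp ((dvd_mul_right p p).trans h))
  · exact hpp.one_lt.ne' (Nat.dvd_one.mp ((dvd_mul_right p p).trans h))
  · exact hp1 ((dvd_mul_right p p).trans h)
  · exact hpp.one_lt.ne' (Nat.dvd_one.mp ((dvd_mul_right p p).trans h))
  · exact hp1 (Nat.dvd_of_mul_dvd_mul_left hpp.pos h)
  · rw [show p * p - p = p * (p - 1) by rw [Nat.mul_sub, mul_one], mul_left_comm, ← pow_two p] at h
    rw [pow_two] at h
    rw [pow_two] at hp2
    rcases (hpp.dvd_mul).mp (Nat.dvd_of_mul_dvd_mul_left hpp.pos h) with h1 | h1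
    exacts [hp2 h1, hp1 h1]

/-- A chief factor of `p`-power order has order at most `p ^ 2`, if `O_{p'}(G) = 1`. -/
theorem chief_le_of_core_bot (hp : p ≠ 2) {G : Type u} [Group G] [Finite G] (hG : IsPSolvable p G)
    (hO : pPrimeCore p G = ⊥) (hr : PRankLE p 2 G) (H K : Subgroup G) (h : IsChief H K)
    (hpow : ∃ n : ℕ, K.relIndex H = p ^ n) : K.relIndex H ≤ p ^ 2 := by
  have hpp : p.Prime := Fact.out
  set P := pCore p G with hP
  have hPp : IsPGroup p P := Core.pCore_isPGroup
  obtain ⟨n, hn⟩ := hpow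
  rcases chief_split h P with ⟨-, hrel⟩ | ⟨hd, hrel⟩
  · obtain ⟨V, iV, fV, -, hVe, hVc, φ, hφ⟩ := exists_rank_two_action_pCore hp
      (Layer.pCoreSelfCentral_of_isPSolvable hG hO) hr
    have hker : φ.ker ≤ P := Core.le_pCore hφ
    have h1 : p ^ n ∣ Nat.card (MulAut V) := by
      rw [← hn, ← hrel]
      refine (relIndex_map_dvd_card _).trans ((card_subgroup_dvd_card _).trans ?_)
      rw [← index_eq_card]
      refine (index_dvd_of_le hker).trans ?_
      rw [index_ker]
      exact card_subgroup_dvd_card _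
    by_contra hlt
    rw [hn, not_le] at hlt
    have := (Nat.pow_lt_pow_iff_right hpp.one_lt).mp hlt
    exact not_sq_dvd_card_mulAut hVe hVc ((pow_dvd_pow p this.le).trans h1)
  · rw [← hrel]
    obtain ⟨C, hCn, hCP, hCi, hΩ, hΩc⟩ := exists_omega_central hp P hPp hr
    haveI := hCn
    rcases chief_split hd C with ⟨-, hrel'⟩ | ⟨hd', hrel'⟩
    · rw [← hrel']
      refine (Nat.le_of_dvd Nat.card_pos (relIndex_map_dvd_card _)).trans ?_
      calc Nat.card ((H ⊓ P).map (QuotientGroup.mk' C)) ≤ Nat.card (P.map (QuotientGroup.mk' C)) :=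
            card_le_of_le (map_mono inf_le_right)
        _ = C.relIndex P := by rw [← relIndex_ker, QuotientGroup.ker_mk']
        _ ≤ p ^ 2 := hCi
    · rw [← hrel']
      exact chief_le_of_omega_central hp _ G C rfl (hPp.to_le hCP) hΩ hΩc _ _ hd' inf_le_right

/-- **Chief factors at rank two.** In a `p`-solvable group of `p`-rank at most two, `p` odd, chief
factors of `p`-power order have order at most `p ^ 2`. -/
theorem chief_le_sq_of_pRankLE (hp : p ≠ 2) (hG : IsPSolvable p G) (hr : PRankLE p 2 G)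
    (H K : Subgroup G) (h : IsChief H K) (hpow : ∃ n : ℕ, K.relIndex H = p ^ n) :
    K.relIndex H ≤ p ^ 2 := by
  have hpp : p.Prime := Fact.out
  set N := pPrimeCore p G with hN
  rcases chief_split h N with ⟨hq, hrel⟩ | ⟨hd, hrel⟩
  · rw [← hrel] at hpow ⊢
    exact chief_le_of_core_bot hp (Layer.isPSolvable_of_surjective hG (QuotientGroup.mk'_surjective N))
      Core.pPrimeCore_quotient_eq_bot (pRankLE_quotient hr N Core.coprime_card_pPrimeCore) _ _ hq hpow
  · rw [← hrel]
    obtain ⟨n, hn⟩ := hpow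
    have h1 : p ^ n ∣ Nat.card N := by
      rw [← hn, ← hrel]
      refine (dvd_trans ?_ (card_dvd_of_le (inf_le_right : H ⊓ N ≤ N)))
      rw [← relIndex_bot_left (H ⊓ N)]
      exact relIndex_dvd_of_le_left _ bot_le
    rw [hrel, hn]
    have := Nat.eq_one_of_dvd_coprimes ((Core.coprime_card_pPrimeCore (p := p) (G := G)).pow_right n) h1 dvd_rfl
    rw [this]
    exact Nat.one_le_pow _ _ hpp.pos

end Cfsg.Agent.Fusion
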