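import Mathlib.FieldTheory.Finite.GaloisField
import Mathlib.FieldTheory.Galois.Basic
import Mathlib.LinearAlgebra.Dimension.Free
import Mathlib.GroupTheory.GroupAction.Basic
import Mathlib.GroupTheory.Subgroup.Center

/-!
Linear groups over the field with two elements which are transitive on nonzero vectors and have a
self-centralizing abelian normal subgroup `E`: the group `E` is semiregular, the algebra spanned
by it is a field, and so every element of prime power order `q ^ k`, for a prime `q` not dividing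
the dimension, is semiregular.
-/

set_option autoImplicit false

namespace Cfsg.Agent.Fusion.LinTwo

variable {H V : Type*} [Group H] [AddCommGroup V] [Module (ZMod 2) V]

/-- The vectors are their own negatives. -/
theorem add_self (v : V) : v + v = 0 := by
  rw [← two_smul (ZMod 2) v, show (2 : ZMod 2) = 0 from rfl, zero_smul]

/-- For every `r ≥ 2` some prime divides `2 ^ r - 1` but not `r`. -/
theorem exists_prime_dvd_two_pow_sub_one {r : ℕ} (hr : 2 ≤ r) :
    ∃ q, q.Prime ∧ q ∣ 2 ^ r - 1 ∧ ¬ q ∣ r := by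
  obtain ⟨l, hl, hmax⟩ := r.primeFactors.exists_max_image id
    (Nat.nonempty_primeFactors.mpr hr)
  obtain ⟨hlp, hlr, -⟩ := Nat.mem_primeFactors.mp hl
  have h4 : 2 ^ 2 ≤ 2 ^ l := Nat.pow_le_pow_right two_pos hlp.two_le
  set q := (2 ^ l - 1).minFac with hqdef
  have hq : q.Prime := Nat.minFac_prime (by omega)
  have := Fact.mk hq
  have hqd : q ∣ 2 ^ l - 1 := Nat.minFac_dvd _
  have h2 : (2 : ZMod q) ^ l = 1 := by
    have := (ZMod.natCast_eq_zero_iff _ q).mpr hqd
    rw [Nat.cast_sub (by omega), sub_eq_zero] at this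
    simpa using this
  have hne1 : (2 : ZMod q) ≠ 1 := fun h => one_ne_zero (α := ZMod q) (by linear_combination h)
  have hne0 : (2 : ZMod q) ≠ 0 := fun h => by
    rw [h, zero_pow hlp.ne_zero] at h2
    exact zero_ne_one h2
  have : Fact l.Prime := ⟨hlp⟩
  have hord : orderOf (2 : ZMod q) = l := orderOf_eq_prime h2 hne1
  have hlq : l ∣ q - 1 := hord ▸ ZMod.orderOf_dvd_card_sub_one hne0
  refine ⟨q, hq, hqd.trans ?_, fun hqr => ?_⟩
  · obtain ⟨c, rfl⟩ := hlr
    rw [pow_mul]
    simpa using Nat.sub_dvd_pow_sub_pow (2 ^ l) 1 c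
  have hle : q ≤ l := hmax q (Nat.mem_primeFactors.mpr ⟨hq, hqr, by omega⟩)
  have := hq.two_le
  have := Nat.le_of_dvd (by omega) hlq
  omega

variable (ρ : H →* Module.End (ZMod 2) V) (E : Subgroup H)

/-- The stabilizer of a vector in `E`. -/
def stab (v : V) : Subgroup H where
  carrier := {e | e ∈ E ∧ ρ e v = v}
  one_mem' := ⟨E.one_mem, by simp⟩
  mul_mem' := fun ha hb => ⟨E.mul_mem ha.1 hb.1, by
    rw [map_mul, Module.End.mul_apply, hb.2, ha.2]⟩
  inv_mem' := fun {a} ha => ⟨E.inv_mem ha.1, by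
    nth_rewrite 1 [← ha.2]
    rw [← Module.End.mul_apply, ← map_mul, inv_mul_cancel, map_one, Module.End.one_apply]⟩

theorem mem_stab {v : V} {e : H} : e ∈ stab ρ E v ↔ e ∈ E ∧ ρ e v = v := Iff.rfl

/-- An abelian normal subgroup of a group transitive on nonzero vectors is semiregular. -/
theorem eq_one_of_fixes [Finite H] (hinj : Function.Injective ρ)
    (htrans : ∀ v w : V, v ≠ 0 → w ≠ 0 → ∃ h, ρ h v = w) (hEn : E.Normal)
    (hEc : ∀ a ∈ E, ∀ b ∈ E, a * b = b * a) {e : H} (he : e ∈ E) {v : V} (hv : v ≠ 0)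
    (hev : ρ e v = v) : e = 1 := by
  classical
  have hcomm : ∀ a ∈ E, ∀ b ∈ E, ∀ x : V, ρ a (ρ b x) = ρ b (ρ a x) := fun a ha b hb x => by
    rw [← Module.End.mul_apply, ← map_mul, hEc a ha b hb, map_mul, Module.End.mul_apply]
  have hcard : ∀ x y : V, x ≠ 0 → y ≠ 0 → Nat.card (stab ρ E x) = Nat.card (stab ρ E y) := by
    intro x y hx hy
    obtain ⟨h, rfl⟩ := htrans x y hx hy
    have : (stab ρ E x).map (MulAut.conj h).toMonoidHom = stab ρ E (ρ h x) := by
      ext g
      rw [Subgroup.mem_map_equiv, MulAut.conj_symm_apply, mem_stab, mem_stab]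
      constructor
      · rintro ⟨h1, h2⟩
        refine ⟨by simpa [mul_assoc] using hEn.conj_mem _ h1 h, ?_⟩
        have := congrArg (ρ h) h2
        rw [← Module.End.mul_apply, ← map_mul] at this
        rw [← Module.End.mul_apply, ← map_mul]
        simpa [mul_assoc] using this
      · rintro ⟨h1, h2⟩
        refine ⟨by simpa [mul_assoc] using hEn.conj_mem _ h1 h⁻¹, ?_⟩
        rw [map_mul, map_mul, Module.End.mul_apply, Module.End.mul_apply, h2, ← Module.End.mul_apply,
          ← map_mul, inv_mul_cancel, map_one, Module.End.one_apply]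
    rw [← this, Subgroup.card_map_of_injective (MulAut.conj h).injective]
  have heq : ∀ x y : V, x ≠ 0 → y ≠ 0 → stab ρ E x ≤ stab ρ E y → stab ρ E x = stab ρ E y :=
    fun x y hx hy hle => Subgroup.eq_of_le_of_card_ge hle (hcard x y hx hy).ge
  have hall : ∀ w : V, ρ e w = w := by
    intro w
    by_contra hw
    have hw0 : w ≠ 0 := fun h => hw (by rw [h, map_zero])
    set u := v + w with hu
    have hu0 : u ≠ 0 := fun h => hw (by
      have : w = v := by
        calc w = v + v + w := by rw [add_self, zero_add]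
          _ = v + u := by rw [hu, add_assoc]
          _ = v := by rw [h, add_zero]
      rw [this, hev])
    set z := w + ρ e w with hz
    have hz0 : z ≠ 0 := fun h => hw (by
      calc ρ e w = w + w + ρ e w := by rw [add_self, zero_add]
        _ = w + z := by rw [hz, add_assoc]
        _ = w := by rw [h, add_zero])
    have hue : u + ρ e u = z := by
      rw [hu, map_add, hev, hz]
      calc v + w + (v + ρ e w) = (v + v) + (w + ρ e w) := by abel
        _ = w + ρ e w := by rw [add_self, zero_add]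
    have h1 : stab ρ E u ≤ stab ρ E z := fun g ⟨hgE, hg⟩ => ⟨hgE, by
      rw [← hue, map_add, hg, hcomm g hgE e he, hg]⟩
    have h2 : stab ρ E w ≤ stab ρ E z := fun g ⟨hgE, hg⟩ => ⟨hgE, by
      rw [hz, map_add, hg, hcomm g hgE e he, hg]⟩
    have h3 : stab ρ E w = stab ρ E u :=
      (heq w z hw0 hz0 h2).trans (heq u z hu0 hz0 h1).symm
    have h4 : stab ρ E w ≤ stab ρ E v := fun g hg => by
      refine ⟨hg.1, ?_⟩
      have h5 : ρ g u = u := (h3 ▸ hg : g ∈ stab ρ E u).2
      rw [hu, map_add, hg.2] at h5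
      exact add_right_cancel h5
    have : e ∈ stab ρ E w := (heq w v hw0 hv h4) ▸ ⟨he, hev⟩
    exact hw this.2
  exact hinj (by rw [map_one]; exact LinearMap.ext hall)

/-- The algebra spanned by `E`. -/
abbrev algE : Subalgebra (ZMod 2) (Module.End (ZMod 2) V) := Algebra.adjoin (ZMod 2) (ρ '' E)

theorem algE_comm (hEc : ∀ a ∈ E, ∀ b ∈ E, a * b = b * a) {x y : Module.End (ZMod 2) V}
    (hx : x ∈ algE ρ E) (hy : y ∈ algE ρ E) : x * y = y * x := by
  have h1 : ∀ a ∈ ρ '' E, Commute x a := fun a ha =>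
    (Algebra.commute_of_mem_adjoin_of_forall_mem_commute (a := a) hx fun b hb => by
      obtain ⟨⟨a, ha', rfl⟩, ⟨b, hb', rfl⟩⟩ := And.intro ha hb
      change _ = _
      rw [← map_mul, ← map_mul, hEc _ hb' _ ha' |>.symm]).symm
  exact Algebra.commute_of_mem_adjoin_of_forall_mem_commute hy h1

theorem algE_conj (hEn : E.Normal) (h : H) {x : Module.End (ZMod 2) V} (hx : x ∈ algE ρ E) :
    ρ h * x * ρ h⁻¹ ∈ algE ρ E := by
  have hh : ρ h⁻¹ * ρ h = 1 := by rw [← map_mul, inv_mul_cancel, map_one]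
  have hh' : ρ h * ρ h⁻¹ = 1 := by rw [← map_mul, mul_inv_cancel, map_one]
  induction hx using Algebra.adjoin_induction with
  | mem a ha =>
    obtain ⟨a, ha, rfl⟩ := ha
    rw [← map_mul, ← map_mul]
    exact Algebra.subset_adjoin ⟨_, hEn.conj_mem a ha h, rfl⟩
  | algebraMap c =>
    rw [← Algebra.commutes c (ρ h), mul_assoc, hh', mul_one]
    exact Subalgebra.algebraMap_mem _ c
  | add a b _ _ iha ihb => rw [mul_add, add_mul]; exact add_mem iha ihb
  | mul a b _ _ iha ihb =>
    rw [show ρ h * (a * b) * ρ h⁻¹ = (ρ h * a * ρ h⁻¹) * (ρ h * b * ρ h⁻¹) by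
      simp only [mul_assoc]; rw [← mul_assoc (ρ h⁻¹) (ρ h), hh, one_mul]]
    exact mul_mem iha ihb

/-- The annihilator of a vector. -/
abbrev ann (v : V) : Set (Module.End (ZMod 2) V) := {x | x ∈ algE ρ E ∧ x v = 0}

theorem ncard_ann [Finite V] (htrans : ∀ v w : V, v ≠ 0 → w ≠ 0 → ∃ h, ρ h v = w) (hEn : E.Normal)
    {v w : V} (hv : v ≠ 0) (hw : w ≠ 0) : (ann ρ E v).ncard ≤ (ann ρ E w).ncard := by
  have : Finite (Module.End (ZMod 2) V) := Finite.of_injective _ DFunLike.coe_injective
  obtain ⟨h, rfl⟩ := htrans v w hv hw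
  have hh : ρ h⁻¹ * ρ h = 1 := by rw [← map_mul, inv_mul_cancel, map_one]
  refine Set.ncard_le_ncard_of_injOn (fun x => ρ h * x * ρ h⁻¹) ?_ ?_ (Set.toFinite _)
  · intro x hx
    refine ⟨algE_conj ρ E hEn h hx.1, ?_⟩
    rw [← Module.End.mul_apply, mul_assoc (ρ h * x), hh, mul_one, Module.End.mul_apply, hx.2,
      map_zero]
  · intro x _ y _ hxy
    calc x = ρ h⁻¹ * (ρ h * x * ρ h⁻¹) * ρ h := by
          simp only [← mul_assoc, hh, one_mul]; rw [mul_assoc, hh, mul_one]
      _ = ρ h⁻¹ * (ρ h * y * ρ h⁻¹) * ρ h := congrArg (fun z => ρ h⁻¹ * z * ρ h) hxy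
      _ = y := by simp only [← mul_assoc, hh, one_mul]; rw [mul_assoc, hh, mul_one]

/-- An element of the algebra killing a nonzero vector is zero. -/
theorem algE_eq_zero_of_apply [Finite V]
    (htrans : ∀ v w : V, v ≠ 0 → w ≠ 0 → ∃ h, ρ h v = w) (hEn : E.Normal)
    (hEc : ∀ a ∈ E, ∀ b ∈ E, a * b = b * a) {x : Module.End (ZMod 2) V} (hx : x ∈ algE ρ E)
    {v : V} (hv : v ≠ 0) (hxv : x v = 0) : x = 0 := by
  have : Finite (Module.End (ZMod 2) V) := Finite.of_injective _ DFunLike.coe_injective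
  have hc : ∀ a ∈ algE ρ E, ∀ b ∈ algE ρ E, ∀ z : V, a (b z) = b (a z) := fun a ha b hb z => by
    rw [← Module.End.mul_apply, algE_comm ρ E hEc ha hb, Module.End.mul_apply]
  have heq : ∀ a b : V, a ≠ 0 → b ≠ 0 → ann ρ E a ⊆ ann ρ E b → ann ρ E a = ann ρ E b :=
    fun a b ha hb hsub => Set.eq_of_subset_of_ncard_le hsub (ncard_ann ρ E htrans hEn hb ha)
      (Set.toFinite _)
  refine LinearMap.ext fun w => ?_
  rw [LinearMap.zero_apply]
  by_contra hw
  have hw0 : w ≠ 0 := fun h => hw (by rw [h, map_zero])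
  have e1 : ann ρ E w = ann ρ E (x w) := heq _ _ hw0 hw fun a ha => ⟨ha.1, by
    rw [hc a ha.1 x hx, ha.2, map_zero]⟩
  have hxx : x (x w) ≠ 0 := fun h => hw ((Set.ext_iff.mp e1 x).mpr ⟨hx, h⟩).2
  have e2 : ann ρ E (x w) = ann ρ E (x (x w)) := heq _ _ hw hxx fun a ha => ⟨ha.1, by
    rw [hc a ha.1 x hx, ha.2, map_zero]⟩
  set u := v + x w with hu
  have hu0 : u ≠ 0 := fun h => hxx (by
    have := congrArg x h
    rwa [hu, map_add, hxv, zero_add, map_zero] at this)
  have h1 : ann ρ E u ⊆ ann ρ E w := fun a ha => by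
    rw [e1, e2]
    refine ⟨ha.1, ?_⟩
    have := congrArg x ha.2
    rw [hu, map_add, map_add, map_zero, hc x hx a ha.1 v, hxv, map_zero, zero_add,
      hc x hx a ha.1 (x w)] at this
    exact this
  have h2 : ann ρ E u ⊆ ann ρ E v := fun a ha => by
    refine ⟨ha.1, ?_⟩
    have h3 := ha.2
    rw [hu, map_add, hc a ha.1 x hx, (h1 ha).2, map_zero, add_zero] at h3
    exact h3
  have h3 : ann ρ E v = ann ρ E w := (heq _ _ hu0 hv h2).symm.trans (heq _ _ hu0 hw0 h1)
  exact hw ((Set.ext_iff.mp h3 x).mp ⟨hx, hxv⟩).2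

/-- Elements of `q`-power order are semiregular when `q` does not divide the dimension. -/
theorem eq_one_of_fixes_of_orderOf [Finite H] [Finite V] (hinj : Function.Injective ρ)
    (htrans : ∀ v w : V, v ≠ 0 → w ≠ 0 → ∃ h, ρ h v = w) (hEn : E.Normal)
    (hEc : ∀ a ∈ E, ∀ b ∈ E, a * b = b * a)
    (hCE : Subgroup.centralizer (E : Set H) ≤ E) {r : ℕ} (hV : Nat.card V = 2 ^ r)
    {q : ℕ} (hq : q.Prime) (hqr : ¬ q ∣ r) {a : H} {k : ℕ} (ha : orderOf a = q ^ k)
    {v : V} (hv : v ≠ 0) (hav : ρ a v = v) : a = 1 := by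
  have : Finite (Module.End (ZMod 2) V) := Finite.of_injective _ DFunLike.coe_injective
  set R := algE ρ E with hR
  letI : CommRing R :=
    { (inferInstance : Ring R) with
      mul_comm := fun x y => Subtype.ext (algE_comm ρ E hEc x.2 y.2) }
  have : Nontrivial R := ⟨⟨0, 1, fun h => hv (by
    have := congrArg (fun z : R => (z : Module.End (ZMod 2) V) v) h
    simpa using this.symm)⟩⟩
  have : NoZeroDivisors R := ⟨fun {x y} hxy => by
    refine or_iff_not_imp_right.mpr fun hy => Subtype.ext ?_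
    have hyv : (y : Module.End (ZMod 2) V) v ≠ 0 := fun h0 =>
      hy (Subtype.ext (algE_eq_zero_of_apply ρ E htrans hEn hEc y.2 hv h0))
    refine algE_eq_zero_of_apply ρ E htrans hEn hEc x.2 hyv ?_
    rw [← Module.End.mul_apply, ← Subalgebra.coe_mul, hxy, Subalgebra.coe_zero,
      LinearMap.zero_apply]⟩
  have : IsDomain R := NoZeroDivisors.to_isDomain R
  have : Finite R := Subtype.finite
  classical
  have : Fintype R := Fintype.ofFinite R
  letI : Field R := Fintype.fieldOfDomain R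
  letI φ : H →* (R ≃ₐ[ZMod 2] R) :=
    { toFun := fun h => AlgEquiv.ofBijective
        { toFun := fun x => ⟨ρ h * x * ρ h⁻¹, algE_conj ρ E hEn h x.2⟩
          map_one' := Subtype.ext (by simp [← map_mul])
          map_mul' := fun x y => Subtype.ext (by
            have hh : ρ h⁻¹ * ρ h = 1 := by rw [← map_mul, inv_mul_cancel, map_one]
            simp only [Subalgebra.coe_mul, mul_assoc]
            rw [← mul_assoc (ρ h⁻¹) (ρ h), hh, one_mul])
          map_zero' := Subtype.ext (by simp)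
          map_add' := fun x y => Subtype.ext (by simp [mul_add, add_mul])
          commutes' := fun c => Subtype.ext (by
            have hh' : ρ h * ρ h⁻¹ = 1 := by rw [← map_mul, mul_inv_cancel, map_one]
            simp only [Subalgebra.coe_algebraMap]
            rw [← Algebra.commutes c (ρ h), mul_assoc, hh', mul_one]) }
        ((Finite.injective_iff_bijective).mp fun x y hxy => Subtype.ext (by
          have hh : ρ h⁻¹ * ρ h = 1 := by rw [← map_mul, inv_mul_cancel, map_one]
          have := congrArg (fun z : R => ρ h⁻¹ * (z : Module.End (ZMod 2) V) * ρ h) hxy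
          simp only [AlgHom.coe_mk, RingHom.coe_mk, MonoidHom.coe_mk, OneHom.coe_mk] at this
          simp only [← mul_assoc, hh, one_mul] at this
          rwa [mul_assoc, hh, mul_one, mul_assoc, hh, mul_one] at this))
      map_one' := AlgEquiv.ext fun x => Subtype.ext (by simp)
      map_mul' := fun g h => AlgEquiv.ext fun x => Subtype.ext (by simp [mul_assoc]) }
  have hd : Module.finrank (ZMod 2) R ∣ r := by
    have h1 := Module.natCard_eq_pow_finrank (K := ZMod 2) (V := V)
    rw [hV, Nat.card_zmod] at h1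
    rw [Nat.pow_right_injective le_rfl h1, ← Module.finrank_mul_finrank (ZMod 2) R V]
    exact dvd_mul_right _ _
  have hφa : φ a = 1 := by
    rw [← orderOf_eq_one_iff]
    refine Nat.eq_one_of_dvd_coprimes (a := q ^ k) (b := Module.finrank (ZMod 2) R) ?_ ?_ ?_
    · exact (((Nat.Prime.coprime_iff_not_dvd hq).mpr fun h => hqr (h.trans hd))).pow_left k
    · exact ha ▸ orderOf_map_dvd φ a
    · rw [← IsGalois.card_aut_eq_finrank (ZMod 2) R]
      exact orderOf_dvd_natCard _
  refine eq_one_of_fixes ρ E hinj htrans hEn hEc (hCE ?_) hv hav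
  rw [Subgroup.mem_centralizer_iff]
  intro e he
  have h1 := congrArg (fun f : R ≃ₐ[ZMod 2] R =>
    ((f ⟨ρ e, Algebra.subset_adjoin ⟨e, he, rfl⟩⟩ : R) : Module.End (ZMod 2) V)) hφa
  have h2 : ρ (a * e * a⁻¹) = ρ e := by rw [map_mul, map_mul]; exact h1
  exact (mul_inv_eq_iff_eq_mul.mp (hinj h2)).symm

end Cfsg.Agent.Fusion.LinTwo
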