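import Cfsg.Prelude.Def_Involutions
import Cfsg.Agent.S0205
import Cfsg.Agent.S0089
import Cfsg.Agent.Invol.SEPairs
import Cfsg.Agent.Coprime.Basic
import Cfsg.Agent.Core.Fitting
import Cfsg.Agent.Core.PCore
import Cfsg.Agent.Core.Solvable
import Cfsg.Agent.Fusion.Transfer
import Cfsg.Agent.Fusion.TransitiveLinTwo

/-!
A finite group with abelian Sylow subgroups possessing a subgroup of odd order and `2`-power
index is solvable.

In a minimal counterexample `G = H S` the centralizers of involutions of `S` have trivial odd core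
(it lies in the core of `H`) and hence normalize `S`, so `M = N(S)` is strongly embedded. A prime
`q` dividing the number of involutions of `M` but not the rank gives a Sylow subgroup `Q` of `M`
which is semiregular on these involutions and lies in a two point stabilizer; an involution
normalizing `Q` then fixes a point, so an involution of `S` centralizes `Q`, a contradiction.
-/

set_option autoImplicit false
set_option maxHeartbeats 800000

namespace Cfsg.Agent.Fusion.OddHall

open Subgroup
open scoped commutatorElement Pointwise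

universe u

variable {G : Type u} [Group G]

/-- All Sylow subgroups are abelian. -/
def SylowAbelian (G : Type*) [Group G] : Prop :=
  ∀ (p : ℕ) [Fact p.Prime] (P : Sylow p G), IsMulCommutative (P : Subgroup G)

theorem SylowAbelian.subgroup [Finite G] (hA : SylowAbelian G) (K : Subgroup G) :
    SylowAbelian K := fun p _ P => by
  obtain ⟨R, hR⟩ := (P.2.map K.subtype).exists_le_sylow
  have := hA p R
  exact ⟨⟨fun a b => Subtype.ext (K.subtype_injective (congrArg (fun x : (R : Subgroup G) => (x : G))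
    (mul_comm' (⟨(a : K), hR ⟨(a : K), a.2, rfl⟩⟩ : (R : Subgroup G))
      ⟨(b : K), hR ⟨(b : K), b.2, rfl⟩⟩)))⟩⟩

theorem SylowAbelian.quotient [Finite G] (hA : SylowAbelian G) (N : Subgroup G) [N.Normal] :
    SylowAbelian (G ⧸ N) := fun p _ P => by
  obtain ⟨R, rfl⟩ := Sylow.mapSurjective_surjective (QuotientGroup.mk'_surjective N) p P
  have := hA p R
  rw [Sylow.coe_mapSurjective]
  exact Subgroup.map_isMulCommutative _ _

theorem card_eq_two_pow_index [Finite G] {H : Subgroup G} {k : ℕ} (hH : Odd (Nat.card H))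
    (hidx : H.index = 2 ^ k) (S : Sylow 2 G) : Nat.card (S : Subgroup G) = 2 ^ k := by
  rw [Sylow.card_eq_multiplicity]
  have h1 : (Nat.card H).factorization 2 = 0 :=
    Nat.factorization_eq_zero_of_not_dvd hH.not_two_dvd_nat
  rw [← card_mul_index H, Nat.factorization_mul Nat.card_pos.ne' index_ne_zero_of_finite,
    Finsupp.add_apply, h1, zero_add, hidx, Nat.Prime.factorization_pow Nat.prime_two,
    Finsupp.single_eq_same]

/-- A subgroup containing a Sylow `2`-subgroup inherits the factorization. -/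
theorem relIndex_of_sylow_le [Finite G] {H : Subgroup G} {k : ℕ} (hH : Odd (Nat.card H))
    (hidx : H.index = 2 ^ k) (S : Sylow 2 G) {C : Subgroup G} (hSC : (S : Subgroup G) ≤ C) :
    H.relIndex C = 2 ^ k := by
  refine le_antisymm ?_ (Nat.le_of_dvd (Nat.pos_of_ne_zero ?_) ?_)
  · rw [← hidx, ← relIndex_top_right]
    exact relIndex_le_of_le_right le_top (by rw [relIndex_top_right]; exact index_ne_zero_of_finite)
  · exact index_ne_zero_of_finite (H := H.subgroupOf C)
  · have h := card_dvd_of_le hSC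
    rw [card_eq_two_pow_index hH hidx S, ← card_mul_index (H.subgroupOf C)] at h
    refine Nat.Coprime.dvd_of_dvd_mul_left ?_ h
    refine (Nat.coprime_two_left.mpr ?_).pow_left k
    exact hH.of_dvd_nat (card_comap_dvd_of_injective H C.subtype C.subtype_injective)

/-- A transitive conjugation action counts by the index of a centralizer. -/
theorem relIndex_centralizer_eq [Finite G] (A : Subgroup G) (t : G) (X : Set G)
    (h1 : ∀ a ∈ A, a * t * a⁻¹ ∈ X) (h2 : ∀ x ∈ X, ∃ a ∈ A, a * t * a⁻¹ = x) :
    (centralizer ({t} : Set G)).relIndex A = Nat.card X := by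
  rw [relIndex, index_eq_card]
  refine Nat.card_congr (Equiv.ofBijective (fun c => Quotient.liftOn' c
    (fun a : A => (⟨(a : G) * t * (a : G)⁻¹, h1 a a.2⟩ : X)) ?_) ⟨?_, ?_⟩)
  · intro a b h
    rw [QuotientGroup.leftRel_apply, mem_subgroupOf, mem_centralizer_singleton_iff, Subgroup.coe_mul,
      Subgroup.coe_inv] at h
    refine Subtype.ext ?_
    calc (a : G) * t * (a : G)⁻¹ = a * (t * ((a : G)⁻¹ * b)) * (b : G)⁻¹ := by group
      _ = b * t * (b : G)⁻¹ := by rw [← h]; group
  · intro c d
    refine Quotient.inductionOn₂' c d fun a b h => Quotient.sound' ?_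
    rw [QuotientGroup.leftRel_apply, mem_subgroupOf, mem_centralizer_singleton_iff, Subgroup.coe_mul,
      Subgroup.coe_inv]
    have h' : (a : G) * t * (a : G)⁻¹ = b * t * (b : G)⁻¹ := congrArg Subtype.val h
    calc (a : G)⁻¹ * b * t = (a : G)⁻¹ * (b * t * (b : G)⁻¹) * b := by group
      _ = t * ((a : G)⁻¹ * b) := by rw [← h']; group
  · rintro ⟨x, hx⟩
    obtain ⟨a, ha, hax⟩ := h2 x hx
    exact ⟨QuotientGroup.mk ⟨a, ha⟩, Subtype.ext hax⟩

/-- An element of even order has a power of order two. -/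
theorem exists_pow_orderOf_two [Finite G] {e : G} (he : Even (orderOf e)) :
    ∃ n, orderOf (e ^ n) = 2 :=
  ⟨orderOf e / 2, orderOf_pow_orderOf_div (orderOf_pos e).ne' (even_iff_two_dvd.mp he)⟩

section Simple

variable [Finite G]

/-- The strongly embedded configuration of a minimal counterexample is impossible. -/
theorem false_of_strongly_embedded {H : Subgroup G} (hH : Odd (Nat.card H)) {k : ℕ}
    (hidx : H.index = 2 ^ k) (hA : SylowAbelian G) (S : Sylow 2 G)
    (hcore : ∀ x : G, x ∈ H → (∀ s ∈ (S : Subgroup G), s * x * s⁻¹ ∈ H) → x = 1)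
    (hSE : Cfsg.IsStronglyEmbedded (normalizer ((S : Subgroup G) : Set G)))
    (hburn : ¬ normalizer ((S : Subgroup G) : Set G) ≤ centralizer ((S : Subgroup G) : Set G)) :
    False := by
  classical
  have := Fact.mk Nat.prime_two
  set M := normalizer ((S : Subgroup G) : Set G) with hM
  have hScomm : ∀ a ∈ (S : Subgroup G), ∀ b ∈ (S : Subgroup G), a * b = b * a := fun a ha b hb =>
    haveI := hA 2 S
    congrArg Subtype.val (mul_comm' (⟨a, ha⟩ : (S : Subgroup G)) ⟨b, hb⟩)
  have hSM : (S : Subgroup G) ≤ M := le_normalizer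
  have hSn : ∀ m ∈ M, ∀ s ∈ (S : Subgroup G), m * s * m⁻¹ ∈ (S : Subgroup G) := fun m hm s hs =>
    (mem_normalizer_iff.mp hm s).mp hs
  have h2S : ∀ t ∈ M, orderOf t = 2 → t ∈ (S : Subgroup G) := by
    intro t ht ht2
    have : ((S.subtype hSM : Sylow 2 M) : Subgroup M).Normal := by
      rw [Sylow.coe_subtype]; exact normal_in_normalizer
    obtain ⟨R, hR⟩ := (IsPGroup.of_card (n := 1) (G := zpowers (⟨t, ht⟩ : M))
      (by rw [Nat.card_zpowers, Subgroup.orderOf_mk, ht2, pow_one])).exists_le_sylow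
    have := Sylow.unique_of_normal (S.subtype hSM) this
    rw [Subsingleton.elim R (S.subtype hSM), Sylow.coe_subtype] at hR
    exact mem_subgroupOf.mp (hR (mem_zpowers _))
  -- the factorization of `G` and of `M`
  have hcopHS : (Nat.card H).Coprime (Nat.card (S : Subgroup G)) := by
    rw [card_eq_two_pow_index hH hidx S]
    exact (Nat.coprime_two_right.mpr hH).pow_right k
  have hHS : ∀ g : G, ∃ h ∈ H, ∃ s ∈ (S : Subgroup G), g = h * s := by
    have hc : H.IsComplement' (S : Subgroup G) := isComplement'_of_coprime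
      (by rw [card_eq_two_pow_index hH hidx S, ← hidx, card_mul_index]) hcopHS
    intro g
    obtain ⟨⟨h, s⟩, hhs⟩ := hc.existsUnique g |>.exists
    exact ⟨h, h.2, s, s.2, hhs.symm⟩
  have hHSi : H ⊓ (S : Subgroup G) = ⊥ := Coprime.inf_eq_bot_of_coprime hcopHS
  set HM := H ⊓ M with hHM
  have hMdec : ∀ m ∈ M, ∃ h ∈ HM, ∃ s ∈ (S : Subgroup G), m = h * s := by
    intro m hm
    obtain ⟨h, hh, s, hs, rfl⟩ := hHS m
    exact ⟨h, ⟨hh, by simpa using mul_mem hm (inv_mem (hSM hs))⟩, s, hs, rfl⟩
  have hodd : Odd (Nat.card HM) := hH.of_dvd_nat (card_dvd_of_le inf_le_left)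
  -- a fixed involution outside `M` and the two point stabilizer
  obtain ⟨g₀, hg₀⟩ : ∃ g, g ∉ M := by
    by_contra! h
    exact hSE.1 (eq_top_iff.2 fun x _ => h x)
  obtain ⟨t₀, ht₀M, ht₀⟩ := Invol.se_exists_involution hSE
  set u := g₀ * t₀ * g₀⁻¹ with hu
  have hu2 : orderOf u = 2 := (Invol.orderOf_conj g₀ t₀).trans ht₀
  have huM : u ∉ M := fun h => hg₀ (inv_mem_iff.1
    (Invol.se_mem hSE ht₀ ht₀M (g := g₀⁻¹) (by rwa [inv_inv])))
  clear_value u
  set D := M ⊓ M.map (MulAut.conj u).toMonoidHom with hD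
  -- the involutions of `M`
  set X : Set G := {x | x ∈ M ∧ orderOf x = 2} with hX
  have hXconj : ∀ a ∈ M, ∀ x ∈ X, a * x * a⁻¹ ∈ X := fun a ha x hx =>
    ⟨mul_mem (mul_mem ha hx.1) (inv_mem ha), (Invol.orderOf_conj a x).trans hx.2⟩
  have hDtrans : ∀ x ∈ X, ∀ y ∈ X, ∃ d ∈ D, d * x * d⁻¹ = y := fun x hx y hy =>
    Invol.se_inter_transitive hSE hu2 huM hx.2 hx.1 hy.2 hy.1
  have hHMtrans : ∀ x ∈ X, ∀ y ∈ X, ∃ h ∈ HM, h * x * h⁻¹ = y := by
    intro x hx y hy
    obtain ⟨d, hd, hdxy⟩ := hDtrans x hx y hy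
    obtain ⟨h, hh, s, hs, rfl⟩ := hMdec d hd.1
    refine ⟨h, hh, ?_⟩
    rw [← hdxy, mul_inv_rev]
    calc h * x * h⁻¹ = h * (x * s * s⁻¹) * h⁻¹ := by group
      _ = h * s * x * (s⁻¹ * h⁻¹) := by
        rw [hScomm x (h2S x hx.1 hx.2) s hs]; group
  -- faithfulness
  have hfaith : ∀ h ∈ HM, (∀ x ∈ X, h * x * h⁻¹ = x) → h = 1 := by
    intro h hh hfix
    have := hA 2 S
    have hle : zpowers h ≤ centralizer ((S : Subgroup G) : Set G) := by
      refine Coprime.le_centralizer_of_fixes_prime_order (zpowers_le.mpr hh.2) ?_ ?_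
      · exact (Nat.Coprime.coprime_dvd_left (card_dvd_of_le (zpowers_le.mpr hh.1)) hcopHS)
      · intro v hv hvp a ha
        have hv2 : orderOf v = 2 := by
          obtain ⟨j, hj⟩ := IsPGroup.iff_orderOf.mp S.2 ⟨v, hv⟩
          rw [Subgroup.orderOf_mk] at hj
          rw [hj] at hvp
          rcases j with _ | j
          · exact absurd hvp (by simp [Nat.not_prime_one])
          · rw [hj, Nat.Prime.eq_one_of_pow hvp, pow_one]
        have hc : Commute h v := mul_inv_eq_iff_eq_mul.mp (hfix v ⟨hSM hv, hv2⟩)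
        obtain ⟨i, rfl⟩ := mem_zpowers_iff.mp ha
        exact (hc.zpow_left i).eq
    refine hcore h hh.1 fun s hs => ?_
    rw [mem_centralizer_iff.mp (hle (mem_zpowers h)) s hs, mul_inv_cancel_right]
    exact hh.1
  -- the linear action
  set V : Subgroup G :=
    { carrier := {x | x ∈ (S : Subgroup G) ∧ x * x = 1}
      one_mem' := ⟨one_mem _, one_mul 1⟩
      mul_mem' := fun {a b} ha hb => ⟨mul_mem ha.1 hb.1, by
        rw [mul_assoc a, ← mul_assoc b, hScomm b hb.1 a ha.1, mul_assoc a b, hb.2, mul_one, ha.2]⟩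
      inv_mem' := fun {a} ha => ⟨inv_mem ha.1, by rw [← mul_inv_rev, ha.2, inv_one]⟩ } with hV
  have hVX : ∀ x : G, x ∈ V → x ≠ 1 → x ∈ X := fun x hx hx1 =>
    ⟨hSM hx.1, orderOf_eq_prime (by rw [pow_two]; exact hx.2) hx1⟩
  have hVn : ∀ h ∈ HM, ∀ x ∈ V, h * x * h⁻¹ ∈ V := fun h hh x hx => by
    refine ⟨hSn h hh.2 x hx.1, ?_⟩
    rw [show h * x * h⁻¹ * (h * x * h⁻¹) = h * (x * x) * h⁻¹ by group, hx.2]
    simp
  letI : CommGroup V :=
    { (inferInstance : Group V) with
      mul_comm := fun a b => Subtype.ext (hScomm a a.2.1 b b.2.1) }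
  letI : Module (ZMod 2) (Additive V) := AddCommGroup.zmodModule fun v => by
    rw [two_nsmul]
    exact Subtype.ext v.toMul.2.2
  letI ρ : ↥HM →* Module.End (ZMod 2) (Additive V) :=
    { toFun := fun h => AddMonoidHom.toZModLinearMap 2
        { toFun := fun v => Additive.ofMul ⟨h * (v.toMul : G) * (h : G)⁻¹, hVn h h.2 _ v.toMul.2⟩
          map_zero' := congrArg Additive.ofMul (Subtype.ext (by simp))
          map_add' := fun v w => congrArg Additive.ofMul (Subtype.ext (by simp [mul_assoc])) }
      map_one' := LinearMap.ext fun v => congrArg Additive.ofMul (Subtype.ext (by simp; rfl))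
      map_mul' := fun g h => LinearMap.ext fun v => congrArg Additive.ofMul
        (Subtype.ext (by simp [mul_assoc]; rfl)) }
  have hρ : ∀ (h : ↥HM) (v : Additive V), (((ρ h) v).toMul : G) = h * (v.toMul : G) * (h : G)⁻¹ :=
    fun h v => rfl
  have hinj : Function.Injective ρ := by
    refine (injective_iff_map_eq_one ρ).mpr fun h hh => Subtype.ext (hfaith h h.2 fun x hx => ?_)
    have hxV : x ∈ V := ⟨h2S x hx.1 hx.2, by rw [← pow_two, ← hx.2, pow_orderOf_eq_one]⟩
    have := hρ h (Additive.ofMul ⟨x, hxV⟩)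
    rw [hh] at this
    exact this.symm
  have hne : ∀ v : Additive V, v ≠ 0 → (v.toMul : G) ≠ 1 := fun v hv h1 =>
    hv (congrArg Additive.ofMul (Subtype.ext h1 : v.toMul = 1))
  have htrans : ∀ v w : Additive V, v ≠ 0 → w ≠ 0 → ∃ h, ρ h v = w := by
    intro v w hv hw
    obtain ⟨h, hh, hhe⟩ := hHMtrans _ (hVX _ v.toMul.2 (hne v hv)) _ (hVX _ w.toMul.2 (hne w hw))
    exact ⟨⟨h, hh⟩, congrArg Additive.ofMul (Subtype.ext hhe : (_ : V) = w.toMul)⟩
  obtain ⟨r, hr⟩ := IsPGroup.iff_card.mp (S.2.to_le (fun x hx => hx.1) : IsPGroup 2 V)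
  have hVcard : Nat.card (Additive V) = 2 ^ r := (Nat.card_congr Additive.toMul).trans hr
  have hXcard : Nat.card X = 2 ^ r - 1 := by
    have he : (V : Set G) \ {1} = X := by
      ext x
      constructor
      · rintro ⟨hx, hx1⟩; exact hVX x hx hx1
      · rintro ⟨hx, hx2⟩
        exact ⟨⟨h2S x hx hx2, by rw [← pow_two, ← hx2, pow_orderOf_eq_one]⟩, Invol.ne_one hx2⟩
    rw [← he, Nat.card_coe_set_eq, Set.ncard_sdiff_singleton_of_mem V.one_mem,
      ← Nat.card_coe_set_eq]
    exact congrArg (· - 1) hr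
  have hr2 : 2 ≤ r := by
    by_contra hlt
    refine hburn fun m hm => ?_
    obtain ⟨h, hh, s, hs, rfl⟩ := hMdec m hm
    have hsub : Subsingleton X := by
      refine (Finite.card_le_one_iff_subsingleton).mp ?_
      rw [hXcard]
      have : 2 ^ r ≤ 2 ^ 1 := Nat.pow_le_pow_right two_pos (by omega)
      omega
    rw [hfaith h hh fun x hx => congrArg Subtype.val
      (Subsingleton.elim (⟨h * x * h⁻¹, hXconj h hh.2 x hx⟩ : X) ⟨x, hx⟩), one_mul,
      mem_centralizer_iff]
    exact fun y hy => hScomm y hy s hs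
  -- the self-centralizing abelian normal subgroup
  have : Group.IsSolvable ↥HM := S0205.result hodd
  set E := Cfsg.fittingSubgroup ↥HM
  have hEc : ∀ a ∈ E, ∀ b ∈ E, a * b = b * a := by
    have hFA : SylowAbelian ↥E := (hA.subgroup HM).subgroup E
    have hbot := S0089.result (G := ↥E) fun p hp P => haveI := Fact.mk hp; hFA p P
    have hc : commutator ↥E = ⊥ := by
      by_contra hne'
      exact Core.inf_center_ne_bot hne' hbot
    intro a ha b hb
    have h1 : ⁅(⟨a, ha⟩ : ↥E), (⟨b, hb⟩ : ↥E)⁆ ∈ commutator ↥E :=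
      commutator_mem_commutator (mem_top (⟨a, ha⟩ : ↥E)) (mem_top (⟨b, hb⟩ : ↥E))
    rw [hc, mem_bot] at h1
    exact congrArg Subtype.val (commutatorElement_eq_one_iff_mul_comm.mp h1)
  obtain ⟨q, hq, hqd, hqr⟩ := LinTwo.exists_prime_dvd_two_pow_sub_one hr2
  have := Fact.mk hq
  have hsemi : ∀ a ∈ HM, ∀ x ∈ X, (∃ j, orderOf a = q ^ j) → a * x * a⁻¹ = x → a = 1 := by
    intro a ha x hx ⟨j, hj⟩ hax
    have hxV : x ∈ V := ⟨h2S x hx.1 hx.2, by rw [← pow_two, ← hx.2, pow_orderOf_eq_one]⟩
    refine congrArg Subtype.val (LinTwo.eq_one_of_fixes_of_orderOf ρ E hinj htrans inferInstance hEc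
      Core.centralizer_fittingSubgroup_le hVcard hq hqr (a := (⟨a, ha⟩ : ↥HM))
      ((Subgroup.orderOf_mk _ _).trans hj) (v := Additive.ofMul ⟨x, hxV⟩) (fun h => ?_)
      (congrArg Additive.ofMul (Subtype.ext hax : (_ : V) = ⟨x, hxV⟩)))
    exact Invol.ne_one hx.2 (congrArg Subtype.val (congrArg Additive.toMul h))
  -- orders
  have ht₀X : t₀ ∈ X := ⟨ht₀M, ht₀⟩
  have hHMidx : (centralizer ({t₀} : Set G)).relIndex HM = 2 ^ r - 1 := by
    rw [relIndex_centralizer_eq HM t₀ X (fun a ha => hXconj a ha.2 t₀ ht₀X)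
      (hHMtrans t₀ ht₀X), hXcard]
  have hDidx : (centralizer ({t₀} : Set G)).relIndex D = 2 ^ r - 1 := by
    rw [relIndex_centralizer_eq D t₀ X (fun a ha => hXconj a ha.1 t₀ ht₀X)
      (hDtrans t₀ ht₀X), hXcard]
  have hpos : 2 ^ r - 1 ≠ 0 := by
    have : 2 ^ 2 ≤ 2 ^ r := Nat.pow_le_pow_right two_pos hr2
    omega
  have hHMq : (Nat.card HM).factorization q = (2 ^ r - 1).factorization q := by
    rw [← card_mul_index ((centralizer ({t₀} : Set G)).subgroupOf HM),
      Nat.factorization_mul Nat.card_pos.ne' index_ne_zero_of_finite, Finsupp.add_apply,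
      ← relIndex, hHMidx, Nat.factorization_eq_zero_of_not_dvd, zero_add]
    intro hdvd
    obtain ⟨a, ha⟩ := exists_prime_orderOf_dvd_card' q hdvd
    have hac : Commute (a : G) t₀ :=
      mem_centralizer_singleton_iff.mp (mem_subgroupOf.mp a.2)
    have := hsemi _ (a : ↥HM).2 t₀ ht₀X ⟨1, by rw [pow_one, orderOf_coe, orderOf_coe]; exact ha⟩
      (by rw [hac.eq, mul_inv_cancel_right])
    rw [← orderOf_eq_one_iff, orderOf_coe, orderOf_coe, ha] at this
    exact hq.ne_one this
  have hMcard : Nat.card M = Nat.card HM * Nat.card (S : Subgroup G) := by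
    have hc : (HM.subgroupOf M).IsComplement' ((S : Subgroup G).subgroupOf M) := by
      refine isComplement'_of_disjoint_and_mul_eq_univ ?_ (Set.eq_univ_of_forall fun m => ?_)
      · rw [disjoint_iff, eq_bot_iff]
        rintro m ⟨h1, h2⟩
        exact mem_bot.mpr (Subtype.ext (mem_bot.mp (hHSi ▸ ⟨h1.1, h2⟩)))
      · obtain ⟨h, hh, s, hs, he⟩ := hMdec m m.2
        exact ⟨⟨h, hh.2⟩, hh, ⟨s, hSM hs⟩, hs, Subtype.ext he.symm⟩
    rw [← hc.card_mul_card, Nat.card_congr (subgroupOfEquivOfLe inf_le_right).toEquiv,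
      Nat.card_congr (subgroupOfEquivOfLe hSM).toEquiv]
  have hMq : (Nat.card M).factorization q = (2 ^ r - 1).factorization q := by
    rw [hMcard, Nat.factorization_mul Nat.card_pos.ne' Nat.card_pos.ne', Finsupp.add_apply, hHMq,
      card_eq_two_pow_index hH hidx S, Nat.Prime.factorization_pow Nat.prime_two,
      Finsupp.single_eq_of_ne, add_zero]
    intro hq2
    rw [hq2] at hqd
    have h2r : 2 ∣ 2 ^ r := dvd_pow_self 2 (by omega)
    have := Nat.one_le_two_pow (n := r)
    omega
  -- the Sylow subgroup in the two point stabilizer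
  obtain ⟨QD⟩ : Nonempty (Sylow q D) := inferInstance
  set Q₁ := (QD : Subgroup D).map D.subtype with hQ₁
  have hQ₁D : Q₁ ≤ D := map_subtype_le _
  have hQ₁card : Nat.card Q₁ = q ^ (Nat.card D).factorization q := by
    rw [hQ₁, card_map_of_injective D.subtype_injective, Sylow.card_eq_multiplicity]
  have hdvdD : (2 ^ r - 1).factorization q ≤ (Nat.card D).factorization q :=
    (Nat.factorization_le_iff_dvd hpos Nat.card_pos.ne').mpr (hDidx ▸ index_dvd_card _) q
  -- an involution normalizes it
  have huu : u * u = 1 := by rw [← pow_two, ← hu2, pow_orderOf_eq_one]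
  have hui : u⁻¹ = u := inv_eq_of_mul_eq_one_left huu
  have hDu : ∀ x ∈ D, u * x * u⁻¹ ∈ D := by
    intro x hx
    obtain ⟨y, hy, hyx⟩ := hx.2
    refine ⟨?_, ⟨x, hx.1, rfl⟩⟩
    rw [← hyx]
    change u * (u * y * u⁻¹) * u⁻¹ ∈ M
    rw [show u * (u * y * u⁻¹) * u⁻¹ = (u * u) * y * (u * u)⁻¹ by group, huu]
    simpa using hy
  have hNeven : Even (Nat.card (normalizer (Q₁ : Set G))) := by
    set Q₂ := Q₁.map (MulAut.conj u).toMonoidHom with hQ₂
    have hQ₂D : Q₂ ≤ D := by
      rintro _ ⟨x, hx, rfl⟩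
      exact hDu x (hQ₁D hx)
    obtain ⟨R, hR⟩ := ((QD.2.map D.subtype).map (MulAut.conj u).toMonoidHom
      |>.comap_subtype (K := D)).exists_le_sylow
    have hRQ : (R : Subgroup D).map D.subtype = Q₂ := by
      refine (eq_of_le_of_card_ge ?_ ?_).symm
      · intro x hx
        exact ⟨⟨x, hQ₂D hx⟩, hR hx, rfl⟩
      · rw [card_map_of_injective D.subtype_injective, hQ₂,
          card_map_of_injective (f := (MulAut.conj u).toMonoidHom) (MulAut.conj u).injective, hQ₁,
          card_map_of_injective D.subtype_injective, Sylow.card_eq_multiplicity,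
          Sylow.card_eq_multiplicity]
    obtain ⟨d, hd⟩ := MulAction.exists_smul_eq D R QD
    have hmap : Q₂.map (MulAut.conj (d : G)).toMonoidHom = Q₁ := by
      rw [← hRQ, hQ₁, ← hd, Sylow.coe_subgroup_smul, map_map,
        show MulAut.conj d • (R : Subgroup D) = (R : Subgroup D).map (MulAut.conj d).toMonoidHom
          from rfl, map_map]
      rfl
    set e := (d : G) * u with he
    have heN : e ∈ normalizer (Q₁ : Set G) := by
      refine mem_normalizer_iff_map_conj_eq.mpr ?_
      conv_rhs => rw [← hmap, hQ₂, map_map]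
      congr 1
      ext x
      simp [he, mul_assoc]
    have heM : e ∉ D := fun h => huM (by
      have := M.mul_mem (M.inv_mem d.2.1) (h.1 : e ∈ M)
      simpa [he] using this)
    have he2 : e * e ∈ D := by
      rw [he, show (d : G) * u * (d * u) = d * (u * d * u) by group]
      exact mul_mem d.2 (by simpa [hui] using hDu d d.2)
    have heven : Even (orderOf e) := by
      by_contra ho
      obtain ⟨i, hi⟩ := Nat.not_even_iff_odd.mp ho
      apply heM
      have : e = (e * e) ^ (i + 1) := by
        rw [← pow_two, ← pow_mul, show 2 * (i + 1) = orderOf e + 1 by omega, pow_succ,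
          pow_orderOf_eq_one, one_mul]
      rw [this]
      exact pow_mem he2 _
    exact even_iff_two_dvd.mpr ((even_iff_two_dvd.mp heven).trans
      ((Subgroup.orderOf_mk e heN).symm.dvd.trans (orderOf_dvd_natCard _)))
  -- move it into `H`
  obtain ⟨Q₀⟩ : Nonempty (Sylow q ↥HM) := inferInstance
  have hQ₀card : Nat.card (Q₀ : Subgroup ↥HM) = q ^ (2 ^ r - 1).factorization q := by
    rw [Sylow.card_eq_multiplicity, hHMq]
  set Q := (Q₀ : Subgroup ↥HM).map HM.subtype with hQ
  have hQHM : Q ≤ HM := map_subtype_le _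
  have hQcard : Nat.card Q = q ^ (2 ^ r - 1).factorization q := by
    rw [hQ, card_map_of_injective HM.subtype_injective, hQ₀card]
  have hQeven : Even (Nat.card (normalizer (Q : Set G))) := by
    obtain ⟨R₁, hR₁⟩ := (IsPGroup.comap_subtype (K := M)
      (IsPGroup.of_card (G := Q) hQcard)).exists_le_sylow
    obtain ⟨R₂, hR₂⟩ := (IsPGroup.comap_subtype (K := M)
      (IsPGroup.of_card (G := Q₁) hQ₁card)).exists_le_sylow
    have h1 : (R₁ : Subgroup M).map M.subtype = Q := by
      refine (eq_of_le_of_card_ge ?_ ?_).symm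
      · exact fun x hx => ⟨⟨x, (hQHM hx).2⟩, hR₁ hx, rfl⟩
      · rw [card_map_of_injective M.subtype_injective, Sylow.card_eq_multiplicity, hMq, hQcard]
    have h2 : (R₂ : Subgroup M).map M.subtype = Q₁ := by
      refine (eq_of_le_of_card_ge ?_ ?_).symm
      · exact fun x hx => ⟨⟨x, (hQ₁D hx).1⟩, hR₂ hx, rfl⟩
      · rw [card_map_of_injective M.subtype_injective, Sylow.card_eq_multiplicity, hMq, hQ₁card]
        exact Nat.pow_le_pow_right hq.pos hdvdD
    obtain ⟨m, hm⟩ := MulAction.exists_smul_eq M R₂ R₁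
    have hmap : Q₁.map (MulAut.conj (m : G)).toMonoidHom = Q := by
      rw [← h1, ← h2, ← hm, Sylow.coe_subgroup_smul,
        show MulAut.conj m • (R₂ : Subgroup M) = (R₂ : Subgroup M).map (MulAut.conj m).toMonoidHom
          from rfl, map_map, map_map]
      rfl
    rw [← hmap, show Nat.card (normalizer ((Q₁.map (MulAut.conj (m : G)).toMonoidHom : Subgroup G) :
        Set G)) = Nat.card (normalizer (Q₁ : Set G)) from ?_]
    · exact hNeven
    rw [show (MulAut.conj (m : G)).toMonoidHom = (MulAut.conj (m : G) : G ≃* G).toMonoidHom from rfl,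
      ← map_equiv_normalizer_eq, card_map_of_injective (MulAut.conj (m : G)).injective]
  -- its normalizer is covered by `H` and `M`
  set N := normalizer (Q : Set G) with hN
  have hcover : ∀ n ∈ N, ∃ a ∈ N ⊓ H, a⁻¹ * n ∈ M := by
    intro n hn
    obtain ⟨h, hh, s, hs, rfl⟩ := hHS n
    have hle : Q.map (MulAut.conj h⁻¹).toMonoidHom ≤ HM := by
      rintro _ ⟨x, hx, rfl⟩
      change h⁻¹ * x * h⁻¹⁻¹ ∈ HM
      rw [inv_inv]
      refine ⟨H.mul_mem (H.mul_mem (H.inv_mem hh) (hQHM hx).1) hh, ?_⟩
      have h3 : (h * s)⁻¹ * x * (h * s) ∈ Q := by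
        have := (mem_normalizer_iff.mp (inv_mem hn) x).mp hx
        rwa [inv_inv] at this
      have := mul_mem (mul_mem (hSM hs) (hQHM h3).2) (inv_mem (hSM hs))
      simpa [mul_assoc] using this
    obtain ⟨R, hR⟩ := (((Q₀.2.map HM.subtype).map
      (MulAut.conj h⁻¹).toMonoidHom).comap_subtype (K := HM)).exists_le_sylow
    have hRQ : (R : Subgroup ↥HM).map HM.subtype = Q.map (MulAut.conj h⁻¹).toMonoidHom := by
      refine (eq_of_le_of_card_ge ?_ ?_).symm
      · exact fun x hx => ⟨⟨x, hle hx⟩, hR hx, rfl⟩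
      · rw [card_map_of_injective HM.subtype_injective, hQ,
          card_map_of_injective (f := (MulAut.conj h⁻¹).toMonoidHom) (MulAut.conj h⁻¹).injective,
          card_map_of_injective HM.subtype_injective,
          Sylow.card_eq_multiplicity, Sylow.card_eq_multiplicity]
    obtain ⟨m, hm⟩ := MulAction.exists_smul_eq ↥HM Q₀ R
    have hmap : Q.map (MulAut.conj (m : G)).toMonoidHom = Q.map (MulAut.conj h⁻¹).toMonoidHom := by
      rw [← hRQ, ← hm, Sylow.coe_subgroup_smul, hQ,
        show MulAut.conj m • (Q₀ : Subgroup ↥HM) =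
          (Q₀ : Subgroup ↥HM).map (MulAut.conj m).toMonoidHom from rfl, map_map, map_map]
      rfl
    refine ⟨h * m, ⟨?_, mul_mem hh m.2.1⟩, ?_⟩
    · refine mem_normalizer_iff_map_conj_eq.mpr ?_
      have h4 := congrArg (fun K : Subgroup G => K.map (MulAut.conj h).toMonoidHom) hmap
      simp only [map_map] at h4
      convert h4 using 2 <;> ext x <;> simp [mul_assoc]
    · rw [show (h * (m : G))⁻¹ * (h * s) = (m : G)⁻¹ * s by group]
      exact mul_mem (inv_mem m.2.2) (hSM hs)
  have hrel : M.relIndex N ∣ Nat.card H := by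
    have : M.relIndex (N ⊓ H) = M.relIndex N := by
      refine Nat.card_congr (Equiv.ofBijective
        (Quotient.map' (Subgroup.inclusion inf_le_left) fun a b hab => ?_) ⟨?_, ?_⟩)
      · rw [QuotientGroup.leftRel_apply, mem_subgroupOf] at hab ⊢
        exact hab
      · intro a b
        refine Quotient.inductionOn₂' a b fun a b hab => Quotient.sound' ?_
        have := Quotient.exact' hab
        rw [QuotientGroup.leftRel_apply, mem_subgroupOf] at this ⊢
        exact this
      · intro c
        refine Quotient.inductionOn' c fun n => ?_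
        obtain ⟨a, ha, han⟩ := hcover n n.2
        refine ⟨Quotient.mk'' ⟨a, ha⟩, Quotient.sound' ?_⟩
        rw [QuotientGroup.leftRel_apply, mem_subgroupOf]
        exact han
    rw [← this]
    exact (index_dvd_card _).trans (card_dvd_of_le inf_le_right)
  have hNMeven : 2 ∣ Nat.card (M.subgroupOf N) := by
    have h1 := card_mul_index (M.subgroupOf N)
    have h2 : ¬ 2 ∣ (M.subgroupOf N).index := fun h => hH.not_two_dvd_nat (h.trans hrel)
    exact (Nat.prime_two.dvd_mul.mp (h1.symm ▸ even_iff_two_dvd.mp hQeven)).resolve_right h2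
  obtain ⟨t, ht⟩ := exists_prime_orderOf_dvd_card' 2 hNMeven
  have htM : ((t : ↥N) : G) ∈ M := mem_subgroupOf.mp t.2
  have ht2 : orderOf ((t : ↥N) : G) = 2 := by rw [orderOf_coe, orderOf_coe]; exact ht
  -- which centralizes it
  have htriv : Q = ⊥ := by
    rw [eq_bot_iff]
    intro a ha
    refine mem_bot.mpr (hsemi a (hQHM ha) _ ⟨htM, ht2⟩ ?_ ?_)
    · obtain ⟨j, hj⟩ := IsPGroup.iff_orderOf.mp (IsPGroup.of_card (G := Q) hQcard) ⟨a, ha⟩
      exact ⟨j, by rwa [Subgroup.orderOf_mk] at hj⟩
    · set t' : G := ((t : ↥N) : G)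
      have h1 : a * t' * a⁻¹ * t'⁻¹ ∈ (S : Subgroup G) :=
        mul_mem (hSn a (hQHM ha).2 t' (h2S t' htM ht2)) (inv_mem (h2S t' htM ht2))
      have h2 : a * t' * a⁻¹ * t'⁻¹ ∈ H := by
        rw [show a * t' * a⁻¹ * t'⁻¹ = a * (t' * a⁻¹ * t'⁻¹) by group]
        exact mul_mem (hQHM ha).1 (hQHM ((mem_normalizer_iff.mp (t : ↥N).2 a⁻¹).mp (inv_mem ha))).1
      have h3 : a * t' * a⁻¹ * t'⁻¹ ∈ H ⊓ (S : Subgroup G) := ⟨h2, h1⟩
      rw [hHSi, mem_bot] at h3
      exact mul_inv_eq_one.mp h3
  have h1 := hQcard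
  rw [htriv, Subgroup.card_bot] at h1
  rcases Nat.pow_eq_one.mp h1.symm with h | h
  · exact hq.ne_one h
  · exact (hq.factorization_pos_of_dvd hpos hqd).ne' h

end Simple

/-- A finite group with abelian Sylow subgroups and a subgroup of odd order and `2`-power index is
solvable. -/
theorem isSolvable_of_odd_of_index_two_pow [Finite G] (hA : SylowAbelian G) (H : Subgroup G)
    (hH : Odd (Nat.card H)) {k : ℕ} (hidx : H.index = 2 ^ k) : Group.IsSolvable G := by
  induction hn : Nat.card G using Nat.strong_induction_on generalizing G k with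
  | _ n IH =>
  subst hn
  have := Fact.mk Nat.prime_two
  by_contra hns
  have hsub : ∀ (K : Subgroup G), K ≠ ⊤ → (∃ j, H.relIndex K = 2 ^ j) → Group.IsSolvable K := by
    intro K hK ⟨j, hj⟩
    refine IH _ ?_ (hA.subgroup K) (H.subgroupOf K)
      (hH.of_dvd_nat (card_comap_dvd_of_injective H K.subtype K.subtype_injective)) hj rfl
    exact lt_of_le_of_ne (Subgroup.card_le_card_group K) fun h => hK (eq_top_of_card_eq K h)
  have hnormal : ∀ N : Subgroup G, N.Normal → N = ⊥ ∨ N = ⊤ := by
    intro N hNn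
    by_contra! hcon
    refine hns ?_
    have hq : Group.IsSolvable (G ⧸ N) := by
      obtain ⟨j, -, hj⟩ := (Nat.dvd_prime_pow Nat.prime_two).mp
        (hidx ▸ H.index_map_dvd (QuotientGroup.mk'_surjective N))
      refine IH _ ?_ (hA.quotient N) (H.map (QuotientGroup.mk' N))
        (hH.of_dvd_nat (card_map_dvd _ _)) hj rfl
      rw [N.card_eq_card_quotient_mul_card_subgroup]
      exact lt_mul_of_one_lt_right Nat.card_pos ((one_lt_card_iff_ne_bot N).mpr hcon.1)
    have hN : Group.IsSolvable N := by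
      refine hsub N hcon.2 ?_
      have h1 : H.relIndex N = H.relIndex (H ⊔ N) := by
        have e1 := card_mul_index (H.subgroupOf N)
        have e2 := card_mul_index (N.subgroupOf H)
        have e3 := card_mul_index (H.subgroupOf (H ⊔ N))
        have e4 := card_mul_index (N.subgroupOf (H ⊔ N))
        rw [show (N.subgroupOf (H ⊔ N)).index = N.relIndex H from relIndex_sup_right H N,
          Nat.card_congr (subgroupOfEquivOfLe le_sup_right).toEquiv] at e4
        rw [Nat.card_congr (subgroupOfEquivOfLe le_sup_left).toEquiv] at e3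
        rw [← card_map_of_injective N.subtype_injective, subgroupOf_map_subtype] at e1
        rw [← card_map_of_injective H.subtype_injective, subgroupOf_map_subtype, inf_comm] at e2
        change _ * H.relIndex N = _ at e1
        change _ * N.relIndex H = _ at e2
        change _ * H.relIndex (H ⊔ N) = _ at e3
        refine Nat.eq_of_mul_eq_mul_left
          (Nat.mul_pos (Nat.card_pos (α := (H ⊓ N : Subgroup G)))
            (Nat.pos_of_ne_zero (index_ne_zero_of_finite (H := N.subgroupOf H)))) ?_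
        rw [mul_right_comm, e1]
        change Nat.card N * N.relIndex H = Nat.card (H ⊓ N : Subgroup G) * N.relIndex H * _
        rw [e4, e2, e3]
      obtain ⟨j, -, hj⟩ := (Nat.dvd_prime_pow Nat.prime_two).mp
        (hidx ▸ (show H.relIndex (H ⊔ N) ∣ H.index from
          ⟨_, (relIndex_mul_index le_sup_left).symm⟩))
      exact ⟨j, h1.trans hj⟩
    exact Group.isSolvable_of_ker_le_range N.subtype (QuotientGroup.mk' N)
      (by rw [QuotientGroup.ker_mk', Subgroup.range_subtype])
  have hodd : ¬ Odd (Nat.card G) := fun h => hns (S0205.result h)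
  obtain ⟨S⟩ : Nonempty (Sylow 2 G) := inferInstance
  have hScard := card_eq_two_pow_index hH hidx S
  have hS1 : (S : Subgroup G) ≠ ⊥ :=
    S.ne_bot_of_dvd_card (even_iff_two_dvd.mp (Nat.not_odd_iff_even.mp hodd))
  have hHtop : H ≠ ⊤ := fun h => hodd (by rw [h, card_top] at hH; exact hH)
  have hHS : ∀ g : G, ∃ h ∈ H, ∃ s ∈ (S : Subgroup G), g = h * s := by
    have hc : H.IsComplement' (S : Subgroup G) := isComplement'_of_coprime
      (by rw [hScard, ← hidx, card_mul_index])
      (by rw [hScard]; exact (Nat.coprime_two_right.mpr hH).pow_right k)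
    intro g
    obtain ⟨⟨h, s⟩, hhs⟩ := hc.existsUnique g |>.exists
    exact ⟨h, h.2, s, s.2, hhs.symm⟩
  -- what lies in all conjugates of `H` under `S` is trivial
  have hcore : ∀ x : G, x ∈ H → (∀ s ∈ (S : Subgroup G), s * x * s⁻¹ ∈ H) → x = 1 := by
    intro x hx hs
    have hle : normalClosure ({x} : Set G) ≤ H := by
      rw [normalClosure, closure_le]
      intro y hy
      obtain ⟨z, hz, hzy⟩ := Group.mem_conjugatesOfSet_iff.1 hy
      rw [Set.mem_singleton_iff] at hz
      subst hz
      obtain ⟨g, rfl⟩ := isConj_iff.1 hzy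
      obtain ⟨h, hh, s, hsS, rfl⟩ := hHS g
      have := mul_mem (mul_mem hh (hs s hsS)) (inv_mem hh)
      simpa [mul_assoc] using this
    rcases hnormal _ (normalClosure_normal (s := ({x} : Set G))) with h | h
    · exact mem_bot.mp (h ▸ subset_normalClosure (Set.mem_singleton x))
    · exact absurd (eq_top_iff.mpr (h ▸ hle)) hHtop
  have hScomm : ∀ a ∈ (S : Subgroup G), ∀ b ∈ (S : Subgroup G), a * b = b * a := fun a ha b hb =>
    haveI := hA 2 S
    congrArg Subtype.val (mul_comm' (⟨a, ha⟩ : (S : Subgroup G)) ⟨b, hb⟩)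
  have hcen : center G = ⊥ := by
    rcases hnormal (center G) inferInstance with h | h
    · exact h
    · exact absurd (Group.isSolvable_of_comm fun a b =>
        mem_center_iff.mp (h.ge (mem_top b)) a) hns
  -- centralizers of involutions normalize `S`
  have hC : ∀ t ∈ (S : Subgroup G), orderOf t = 2 →
      centralizer ({t} : Set G) ≤ normalizer ((S : Subgroup G) : Set G) := by
    intro t htS ht
    set C := centralizer ({t} : Set G) with hCdef
    have hSC : (S : Subgroup G) ≤ C := fun s hs =>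
      mem_centralizer_singleton_iff.mpr (hScomm s hs t htS)
    have hCtop : C ≠ ⊤ := fun h => Invol.ne_one ht (mem_bot.mp (hcen ▸ mem_center_iff.mpr fun g =>
      mem_centralizer_singleton_iff.mp (h.ge (mem_top g))))
    have hrel := relIndex_of_sylow_le hH hidx S hSC
    have : Group.IsSolvable C := hsub C hCtop ⟨k, hrel⟩
    -- the odd core of `C` is trivial
    have hO : Cfsg.pPrimeCore 2 C = ⊥ := by
      set O := Cfsg.pPrimeCore 2 C
      have hOH : O ≤ H.subgroupOf C := by
        have hKodd : Odd (Nat.card (H.subgroupOf C)) :=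
          hH.of_dvd_nat (card_comap_dvd_of_injective H C.subtype C.subtype_injective)
        set U := O ⊔ H.subgroupOf C
        have hUodd : ¬ 2 ∣ Nat.card U := by
          intro h2
          have h3 : Nat.card U ∣ Nat.card O * Nat.card (H.subgroupOf C) := by
            have e1 := card_mul_index (O.subgroupOf U)
            rw [show (O.subgroupOf U).index = O.relIndex (H.subgroupOf C ⊔ O) by
              rw [sup_comm]; rfl, relIndex_sup_right,
              Nat.card_congr (subgroupOfEquivOfLe le_sup_left).toEquiv] at e1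
            rw [← e1]
            exact mul_dvd_mul_left _ (index_dvd_card _)
          rcases Nat.prime_two.dvd_mul.mp (h2.trans h3) with h | h
          · exact Core.not_dvd_card_pPrimeCore h
          · exact hKodd.not_two_dvd_nat h
        have hUeq : H.subgroupOf C = U := by
          refine eq_of_le_of_card_ge le_sup_right (Nat.le_of_dvd Nat.card_pos ?_)
          have h4 : Nat.card U ∣ Nat.card (H.subgroupOf C) * 2 ^ k := by
            rw [← hrel]
            exact (card_mul_index (H.subgroupOf C)).symm ▸ U.card_subgroup_dvd_card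
          exact ((Nat.coprime_two_right.mpr (Nat.odd_iff.mpr (by omega))).pow_right k).dvd_of_dvd_mul_right h4
        exact le_sup_left.trans hUeq.ge
      rw [eq_bot_iff]
      intro x hx
      refine mem_bot.mpr (Subtype.ext (hcore x (hOH hx) fun s hs => ?_))
      exact hOH ((Core.pPrimeCore_normal (p := 2) (G := C)).conj_mem x hx ⟨s, hSC hs⟩)
    set SC : Sylow 2 C := S.subtype hSC
    have hF : Cfsg.fittingSubgroup C ≤ Cfsg.pCore 2 C := by
      rw [Core.fittingSubgroup_eq_iSup_pCore]
      refine iSup_le fun q => ?_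
      have := Fact.mk q.2
      rcases eq_or_ne (q : ℕ) 2 with h2 | h2
      · rw [h2]
      · obtain ⟨i, hi⟩ := IsPGroup.iff_card.mp (Core.pCore_isPGroup (p := (q : ℕ)) (G := C))
        have hle : Cfsg.pCore (q : ℕ) C ≤ Cfsg.pPrimeCore 2 C := Core.le_pPrimeCore (by
          rw [hi]; exact ((Nat.coprime_primes q.2 Nat.prime_two).mpr h2).pow_left i)
        exact hle.trans (hO.le.trans bot_le)
    have hSCF : (SC : Subgroup C) ≤ Cfsg.pCore 2 C := by
      refine le_trans ?_ hF
      refine le_trans ?_ Core.centralizer_fittingSubgroup_le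
      intro s hs
      rw [mem_centralizer_iff]
      intro f hf
      have hfS : f ∈ (SC : Subgroup C) := Core.pCore_le_sylow SC (hF hf)
      rw [Sylow.coe_subtype, mem_subgroupOf] at hfS hs
      exact Subtype.ext (hScomm f hfS s hs)
    have hSn : (SC : Subgroup C).Normal := by
      rw [le_antisymm hSCF (Core.pCore_le_sylow SC)]; infer_instance
    rw [Sylow.coe_subtype] at hSn
    exact (normal_subgroupOf_iff_le_normalizer hSC).mp hSn
  -- so the normalizer of `S` is strongly embedded
  set M := normalizer ((S : Subgroup G) : Set G) with hMdef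
  have hburn : ¬ M ≤ centralizer ((S : Subgroup G) : Set G) := by
    intro h
    obtain ⟨P, K, hKn, hcomp⟩ := Fusion.hasNormalPComplement_of_normalizer_le_centralizer S h
    rcases hnormal K hKn with hK | hK
    · refine hns ?_
      have hPtop : (P : Subgroup G) = ⊤ := by
        refine eq_top_of_card_eq _ ?_
        rw [← hcomp.card_mul_card, hK, Subgroup.card_bot, one_mul]
      have := P.2
      rw [hPtop] at this
      have := (this.of_equiv topEquiv).isNilpotent
      infer_instance
    · refine P.ne_bot_of_dvd_card (even_iff_two_dvd.mp (Nat.not_odd_iff_even.mp hodd)) ?_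
      refine eq_bot_of_card_eq _ ?_
      have := hcomp.card_mul_card
      rw [hK, card_top] at this
      exact (mul_eq_left₀ Nat.card_pos.ne').mp this
  refine false_of_strongly_embedded hH hidx hA S hcore ((Invol.se_iff M).2 ⟨?_, ?_, ?_⟩) hburn
  · intro h
    rcases hnormal _ (normalizer_eq_top_iff.mp h) with hS | hS
    · exact hS1 hS
    · refine hns ?_
      have hS' := S.2
      rw [hS] at hS'
      have := (hS'.of_equiv topEquiv).isNilpotent
      infer_instance
  · refine even_iff_two_dvd.mpr (dvd_trans ?_ (card_dvd_of_le (le_normalizer (H := (S : Subgroup G)))))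
    rw [hScard]
    refine dvd_pow_self 2 fun hk => hS1 (eq_bot_of_card_eq _ ?_)
    rw [hScard, hk, pow_zero]
  · intro t g ht htM htg
    have h2S : ∀ x ∈ M, orderOf x = 2 → x ∈ (S : Subgroup G) := by
      intro x hx hx2
      have : ((S.subtype le_normalizer : Sylow 2 M) : Subgroup M).Normal := by
        rw [Sylow.coe_subtype]; exact normal_in_normalizer
      obtain ⟨R, hR⟩ := (IsPGroup.of_card (n := 1) (G := zpowers (⟨x, hx⟩ : M))
        (by rw [Nat.card_zpowers, Subgroup.orderOf_mk, hx2, pow_one])).exists_le_sylow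
      have := Sylow.unique_of_normal (S.subtype le_normalizer : Sylow 2 M) this
      rw [Subsingleton.elim R (S.subtype le_normalizer), Sylow.coe_subtype] at hR
      exact mem_subgroupOf.mp (hR (mem_zpowers _))
    have htS := h2S t htM ht
    have htgS : g⁻¹ * t * g ∈ (S : Subgroup G) := by
      refine h2S _ htg ?_
      have := Invol.orderOf_conj g⁻¹ t
      rw [inv_inv] at this
      exact this.trans ht
    obtain ⟨n, hn, hne⟩ := Fusion.exists_mem_normalizer_conj_of_isMulCommutative S (hA 2 S) htS g⁻¹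
      (by rwa [inv_inv])
    rw [inv_inv] at hne
    have hgn : g * n ∈ centralizer ({t} : Set G) := by
      rw [mem_centralizer_singleton_iff]
      calc g * n * t = g * (n * t * n⁻¹) * n := by group
        _ = t * (g * n) := by rw [hne]; group
    have := mul_mem (hC t htS ht hgn) (inv_mem hn)
    rwa [mul_inv_cancel_right] at this

end Cfsg.Agent.Fusion.OddHall
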