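import Cfsg.Agent.S3861
import Cfsg.Agent.Fusion.OddHallAGroup
import Mathlib.GroupTheory.Perm.Cycle.Type

/-!
A finite group with abelian Sylow subgroups in which some class has size `2 ^ a`, no class size
being divisible by `2 ^ (a + 1)`, is solvable.
-/

set_option autoImplicit false
set_option maxHeartbeats 400000

namespace Cfsg.Agent.Fusion.OddHall

open Subgroup
open scoped commutatorElement Pointwise

universe u

variable {G : Type u} [Group G] [Finite G]

theorem isSolvable_of_class_two_pow_max (hA : SylowAbelian G) (a : ℕ)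
    (hmax : ∀ y : G, ¬ 2 ^ (a + 1) ∣ (centralizer ({y} : Set G)).index)
    {x : G} (hx : (centralizer ({x} : Set G)).index = 2 ^ a) : Group.IsSolvable G := by
  classical
  have := Fact.mk Nat.prime_two
  set H := centralizer ({x} : Set G) with hH
  obtain ⟨T⟩ : Nonempty (Sylow 2 H) := inferInstance
  set T' := (T : Subgroup H).map H.subtype with hT'
  obtain ⟨S, hTS⟩ := (T.2.map H.subtype).exists_le_sylow
  have hT'H : T' ≤ H := map_subtype_le _
  have hScomm : ∀ s ∈ (S : Subgroup G), ∀ t ∈ (S : Subgroup G), s * t = t * s := fun s hs t ht =>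
    haveI := hA 2 S
    congrArg Subtype.val (mul_comm' (⟨s, hs⟩ : (S : Subgroup G)) ⟨t, ht⟩)
  -- `G = H S`
  have hHS : ∀ g : G, ∃ h ∈ H, ∃ s ∈ (S : Subgroup G), g = h * s := by
    have hScard : Nat.card (S : Subgroup G) = Nat.card T' * 2 ^ a := by
      rw [hT', card_map_of_injective H.subtype_injective, Sylow.card_eq_multiplicity,
        Sylow.card_eq_multiplicity, ← pow_add, ← card_mul_index H,
        Nat.factorization_mul Nat.card_pos.ne' index_ne_zero_of_finite, Finsupp.add_apply, hx,
        Nat.Prime.factorization_pow Nat.prime_two, Finsupp.single_eq_same]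
    have hinter : H ⊓ (S : Subgroup G) = T' := by
      refine (eq_of_le_of_card_ge (le_inf hT'H hTS) ?_).symm
      obtain ⟨R, hR⟩ := ((S.2.to_le inf_le_right).comap_subtype (K := H) :
        IsPGroup 2 ((H ⊓ (S : Subgroup G)).subgroupOf H)).exists_le_sylow
      rw [← Nat.card_congr (subgroupOfEquivOfLe (inf_le_left (b := (S : Subgroup G)))).toEquiv]
      refine (Nat.le_of_dvd Nat.card_pos (card_dvd_of_le hR)).trans (le_of_eq ?_)
      rw [hT', card_map_of_injective H.subtype_injective, Sylow.card_eq_multiplicity,
        Sylow.card_eq_multiplicity]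
    have hrel : H.relIndex (S : Subgroup G) = H.index := by
      have h1 := card_mul_index (H.subgroupOf (S : Subgroup G))
      rw [← card_map_of_injective (S : Subgroup G).subtype_injective, subgroupOf_map_subtype,
        hinter, hScard] at h1
      rw [hx]
      exact Nat.eq_of_mul_eq_mul_left Nat.card_pos h1
    intro g
    let f : ↥(S : Subgroup G) ⧸ H.subgroupOf (S : Subgroup G) → G ⧸ H :=
      Quotient.map' (Subtype.val) fun s t h => by
        rw [QuotientGroup.leftRel_apply, mem_subgroupOf] at h
        rw [QuotientGroup.leftRel_apply]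
        exact h
    have hf : Function.Injective f := fun c d => by
      refine Quotient.inductionOn₂' c d fun s t h => Quotient.sound' ?_
      have := Quotient.exact' h
      rw [QuotientGroup.leftRel_apply] at this ⊢
      rw [mem_subgroupOf]
      exact this
    obtain ⟨c, hc⟩ := ((Nat.bijective_iff_injective_and_card f).mpr ⟨hf, hrel⟩).2
      (QuotientGroup.mk g⁻¹)
    induction c using Quotient.inductionOn' with
    | h s =>
      have := Quotient.exact' hc
      rw [QuotientGroup.leftRel_apply] at this
      refine ⟨g * (s : G), ?_, (s : G)⁻¹, inv_mem s.2, by group⟩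
      simpa using inv_mem this
  -- the normal closure of `T` is in `H`
  set K := normalClosure (T' : Set G) with hK
  have hKH : K ≤ H := by
    rw [hK, normalClosure, closure_le]
    intro y hy
    obtain ⟨t, ht, hty⟩ := Group.mem_conjugatesOfSet_iff.1 hy
    obtain ⟨g, rfl⟩ := isConj_iff.1 hty
    obtain ⟨h, hh, s, hs, rfl⟩ := hHS g
    rw [show h * s * t * (h * s)⁻¹ = h * (s * t * s⁻¹) * h⁻¹ by group,
      hScomm s hs t (hTS ht), mul_inv_cancel_right]
    exact mul_mem (mul_mem hh (hT'H ht)) (inv_mem hh)
  -- the quotient
  have hq : Group.IsSolvable (G ⧸ K) := by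
    obtain ⟨j, -, hj⟩ := (Nat.dvd_prime_pow Nat.prime_two).mp
      (hx ▸ H.index_map_dvd (QuotientGroup.mk'_surjective K))
    refine isSolvable_of_odd_of_index_two_pow (hA.quotient K) (H.map (QuotientGroup.mk' K)) ?_ hj
    have hcard : Nat.card (H.map (QuotientGroup.mk' K)) =
        ((QuotientGroup.mk' K).comp H.subtype).ker.index := by
      rw [index_ker, ← MonoidHom.map_range, range_subtype]
    have hle : (T : Subgroup H) ≤ ((QuotientGroup.mk' K).comp H.subtype).ker := fun t ht => by
      rw [MonoidHom.mem_ker, MonoidHom.comp_apply, QuotientGroup.mk'_apply,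
        QuotientGroup.eq_one_iff]
      exact subset_normalClosure ⟨t, ht, rfl⟩
    rw [hcard, ← Nat.not_even_iff_odd, even_iff_two_dvd]
    exact fun h => T.not_dvd_index (h.trans (index_dvd_of_le hle))
  -- the perfect residual of `K`
  obtain ⟨n, hn⟩ : ∃ n, derivedSeries K (n + 1) = derivedSeries K n := by
    by_contra! h
    have : ∀ n, Nat.card (derivedSeries K n) + n ≤ Nat.card K := by
      intro n
      induction n with
      | zero => simp
      | succ m IH =>
        have hlt : derivedSeries K (m + 1) < derivedSeries K m :=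
          lt_of_le_of_ne (derivedSeries_antitone K (Nat.le_succ m)) (h m)
        have h1 : Nat.card (derivedSeries K (m + 1)) < Nat.card (derivedSeries K m) :=
          Set.ncard_lt_ncard (SetLike.coe_ssubset_coe.mpr hlt) (Set.toFinite _)
        omega
    have := this (Nat.card K + 1)
    omega
  suffices hbot : derivedSeries K n = ⊥ by
    have : Group.IsSolvable K := ⟨⟨n, hbot⟩⟩
    exact Group.isSolvable_of_ker_le_range K.subtype (QuotientGroup.mk' K)
      (by rw [QuotientGroup.ker_mk', Subgroup.range_subtype])
  set L := (derivedSeries K n).map K.subtype with hL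
  have : (derivedSeries K n).Characteristic := by
    clear_value L
    clear hL hn
    induction n with
    | zero => exact topCharacteristic
    | succ m IH => exact commutator_characteristic _ _
  have hLn : L.Normal := inferInstance
  have hLL : ⁅L, L⁆ = L := by
    rw [hL, ← map_commutator, ← derivedSeries_succ, hn]
  have hLK : L ≤ K := map_subtype_le _
  -- `L` meets the normal closure of `x` trivially
  set V := normalClosure ({x} : Set G) with hV
  have hKV : ∀ z ∈ V, ∀ l ∈ K, z * l = l * z := by
    have hle : V ≤ centralizer (K : Set G) := by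
      rw [hV, normalClosure, closure_le]
      intro y hy
      obtain ⟨z, hz, hzy⟩ := Group.mem_conjugatesOfSet_iff.1 hy
      rw [Set.mem_singleton_iff] at hz
      subst hz
      obtain ⟨g, rfl⟩ := isConj_iff.1 hzy
      refine mem_centralizer_iff.mpr fun l hl => ?_
      have h1 := mem_centralizer_singleton_iff.mp
        (hKH ((inferInstance : K.Normal).conj_mem l hl g⁻¹))
      rw [inv_inv] at h1
      calc l * (g * z * g⁻¹) = g * (g⁻¹ * l * g * z) * g⁻¹ := by group
        _ = g * z * g⁻¹ * l := by rw [h1]; group
    exact fun z hz l hl => (mem_centralizer_iff.mp (hle hz) l hl).symm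
  have hVL : ∀ z ∈ V, z ∈ L → z = 1 := by
    intro z hzV hzL
    have hbot := S0089.result (G := L) fun p hp P => haveI := Fact.mk hp; hA.subgroup L p P
    have hc : (⟨z, hzL⟩ : L) ∈ commutator L ⊓ center L := by
      refine ⟨?_, mem_center_iff.mpr fun l => Subtype.ext (hKV z hzV l (hLK l.2)).symm⟩
      have h1 : (commutator L).map L.subtype = ⁅L, L⁆ := by
        rw [_root_.commutator_def, map_commutator, ← MonoidHom.range_eq_map, range_subtype]
      show (⟨z, hzL⟩ : L) ∈ commutator L
      rw [← mem_map_iff_mem L.subtype_injective, h1, hLL]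
      exact hzL
    rw [hbot, mem_bot] at hc
    exact congrArg Subtype.val hc
  -- no nontrivial element of `L` of odd order is real in `L`
  obtain ⟨P⟩ : Nonempty (Sylow 2 L) := inferInstance
  have hP : (P : Subgroup L).Normal := by
    refine (S3861.result P).mp fun w hw hwodd hconj => ?_
    obtain ⟨g, hg⟩ := isConj_iff.mp hconj
    set y : G := (w : G) with hy
    have hyL : y ∈ L := w.2
    have hcent : centralizer ({x * y} : Set G) = H ⊓ centralizer ({y} : Set G) := by
      refine le_antisymm (fun c hc => ?_) fun c hc => ?_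
      · rw [mem_centralizer_singleton_iff] at hc
        have h1 : (c * x * c⁻¹)⁻¹ * x = (c * y * c⁻¹) * y⁻¹ := by
          rw [inv_mul_eq_iff_eq_mul]
          calc x = x * y * y⁻¹ := by group
            _ = c * x * c⁻¹ * (c * y * c⁻¹) * y⁻¹ := by
              rw [show c * x * c⁻¹ * (c * y * c⁻¹) = c * (x * y) * c⁻¹ by group, hc]; group
            _ = _ := by group
        have h2 : (c * x * c⁻¹)⁻¹ * x = 1 := by
          refine hVL _ (mul_mem (inv_mem ?_) (subset_normalClosure (Set.mem_singleton x))) ?_
          · exact normalClosure_normal.conj_mem x (subset_normalClosure (Set.mem_singleton x)) c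
          · rw [h1]
            exact mul_mem (hLn.conj_mem y hyL c) (inv_mem hyL)
        refine ⟨?_, ?_⟩
        · refine mem_centralizer_singleton_iff.mpr ?_
          rw [inv_mul_eq_one] at h2
          exact mul_inv_eq_iff_eq_mul.mp h2
        · refine mem_centralizer_singleton_iff.mpr ?_
          rw [h1, mul_inv_eq_one] at h2
          exact mul_inv_eq_iff_eq_mul.mp h2
      · rw [mem_centralizer_singleton_iff]
        have hcx := mem_centralizer_singleton_iff.mp hc.1
        have hcy := mem_centralizer_singleton_iff.mp hc.2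
        rw [← mul_assoc, hcx, mul_assoc, hcy, mul_assoc]
    have hodd : ¬ 2 ∣ (centralizer ({y} : Set G)).relIndex H := by
      intro h2
      refine hmax (x * y) ?_
      rw [hcent, ← relIndex_mul_index (inf_le_left (b := centralizer ({y} : Set G))), hx,
        inf_relIndex_left, pow_succ, mul_comm]
      exact mul_dvd_mul h2 dvd_rfl
    set W : Set G := {z | ∃ h ∈ H, h * y * h⁻¹ = z} with hW
    rw [relIndex_centralizer_eq H y W (fun h hh => ⟨h, hh, rfl⟩) fun z hz => hz] at hodd
    have hinv : ∀ z ∈ W, z⁻¹ ∈ W := by
      rintro z ⟨h, hh, rfl⟩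
      refine ⟨h * g, mul_mem hh (hKH (hLK g.2)), ?_⟩
      have hg' : (g : G) * y * (g : G)⁻¹ = y⁻¹ := congrArg Subtype.val hg
      rw [show h * g * y * (h * g)⁻¹ = h * (g * y * (g : G)⁻¹) * h⁻¹ by group, hg']
      group
    let σ : Equiv.Perm W := Function.Involutive.toPerm (fun z => ⟨z.1⁻¹, hinv _ z.2⟩)
      fun z => Subtype.ext (inv_inv z.1)
    refine hodd ?_
    have : Fintype W := Fintype.ofFinite W
    have hσ : σ ^ 2 ^ 1 = 1 := Equiv.ext fun z => by
      rw [pow_one, pow_two]
      exact Subtype.ext (inv_inv z.1)
    have h3 := Equiv.Perm.card_compl_support_modEq hσ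
    have hnofix : ∀ z : W, σ z ≠ z := fun z hz => by
      obtain ⟨h, hh, hhz⟩ := z.2
      have h1 : (z.1)⁻¹ = z.1 := congrArg Subtype.val hz
      have h2 : orderOf z.1 = orderOf w := by
        rw [← hhz, Invol.orderOf_conj, hy, orderOf_coe]
      have h4 : orderOf z.1 ∣ 2 := orderOf_dvd_of_pow_eq_one (by
        rw [pow_two]; nth_rewrite 1 [← h1]; exact inv_mul_cancel _)
      rw [h2] at h4
      rcases (Nat.dvd_prime Nat.prime_two).mp h4 with h5 | h5
      · exact hw (orderOf_eq_one_iff.mp h5)
      · rw [h5] at hwodd; exact Nat.not_odd_iff_even.mpr (by decide) hwodd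
    rw [show σ.supportᶜ = ∅ from Finset.eq_empty_of_forall_notMem fun z hz =>
      hnofix z (by simpa using hz), Finset.card_empty] at h3
    rw [Nat.card_eq_fintype_card]
    exact (Nat.modEq_zero_iff_dvd).mp h3.symm
  -- so `L` is trivial
  have hLsolv : Group.IsSolvable L := by
    have h1 : Group.IsSolvable (↥L ⧸ (P : Subgroup L)) := S0205.result (by
      rw [← index_eq_card, ← Nat.not_even_iff_odd, even_iff_two_dvd]
      exact P.not_dvd_index)
    have := P.2.isNilpotent
    exact Group.isSolvable_of_ker_le_range (P : Subgroup L).subtype (QuotientGroup.mk' (P : Subgroup L))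
      (by rw [QuotientGroup.ker_mk', Subgroup.range_subtype])
  have hLbot : L = ⊥ := by
    by_contra hne
    have : Nontrivial L := (nontrivial_iff_ne_bot L).mpr hne
    have : Group.IsPerfect L := Subgroup.isPerfect_iff.mpr hLL
    exact Group.IsPerfect.not_isSolvable (G := L) inferInstance
  rw [← map_eq_bot_iff_of_injective _ K.subtype_injective]
  exact hLbot

end Cfsg.Agent.Fusion.OddHall
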