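import Cfsg.Agent.Fusion.ClassTwoOrbit
import Cfsg.Agent.Coprime.Action

/-!
Solvability of a group with a nilpotent subgroup, maximal among the proper subgroups invariant under
a coprime operator group, whose Sylow `2`-subgroups have class at most two.
-/

set_option autoImplicit false
set_option linter.unusedSectionVars false
set_option linter.style.haveILetI false

namespace Cfsg.Agent.Fusion.ClassTwoInvariant

open Subgroup Cfsg
open Cfsg.Agent.Fusion.ClassTwoOrbit
open scoped commutatorElement

universe u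

variable {G : Type u} [Group G] [Finite G]

/-- The subgroup `M ⋊ Φ` of the semidirect product. -/
def extend {Φ : Subgroup (MulAut G)} {M : Subgroup G} (hM : ∀ α ∈ Φ, ∀ x ∈ M, α x ∈ M) :
    Subgroup (G ⋊[Φ.subtype] Φ) where
  carrier := {x | x.left ∈ M}
  one_mem' := by simp
  mul_mem' {a b} ha hb := by
    show (a * b).left ∈ M
    rw [SemidirectProduct.mul_left]
    exact mul_mem ha (hM _ a.right.2 _ hb)
  inv_mem' {a} ha := by
    show (a⁻¹).left ∈ M
    rw [SemidirectProduct.inv_left]
    exact hM _ a.right⁻¹.2 _ (inv_mem ha)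

/-- A coprime invariant normal subgroup has a Sylow subgroup fixed by `M` and the operators. -/
theorem exists_sylow_invariant (hFT : FTCons.OddSolvable.{u}) {Φ : Subgroup (MulAut G)}
    {M K : Subgroup G} [K.Normal] (hΦ : Odd (Nat.card Φ)) (hMsol : Group.IsSolvable M)
    (hM : ∀ α ∈ Φ, ∀ x ∈ M, α x ∈ M) (hK : ∀ α ∈ Φ, ∀ x ∈ K, α x ∈ K)
    (h1 : (Nat.card M).Coprime (Nat.card K)) (h2 : (Nat.card Φ).Coprime (Nat.card K))
    (q : ℕ) [Fact q.Prime] :
    ∃ Q : Sylow q K, M ≤ normalizer (((Q : Subgroup K).map K.subtype : Subgroup G) : Set G) ∧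
      ∀ α ∈ Φ, mp α ((Q : Subgroup K).map K.subtype) = (Q : Subgroup K).map K.subtype := by
  haveI := Coprime.finite_semidirect Φ.subtype
  set i : G →* G ⋊[Φ.subtype] Φ := SemidirectProduct.inl with hi
  have hinj : Function.Injective i := SemidirectProduct.inl_injective
  set A := extend hM
  have hconj : ∀ (x : G ⋊[Φ.subtype] Φ) (g : G),
      x * i g * x⁻¹ = i (x.left * (x.right : MulAut G) g * x.left⁻¹) := by
    intro x g
    refine SemidirectProduct.ext ?_ ?_
    · simp [hi, mul_assoc]
    · simp [hi]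
  have hAK : A ≤ normalizer ((K.map i : Subgroup (G ⋊[Φ.subtype] Φ)) : Set (G ⋊[Φ.subtype] Φ)) := by
    intro x _
    refine mem_normalizer_of_conj ?_
    rintro _ ⟨g, hg, rfl⟩
    rw [hconj]
    exact ⟨_, (inferInstance : K.Normal).conj_mem _ (hK _ x.right.2 g hg) _, rfl⟩
  have hAcard : Nat.card A = Nat.card M * Nat.card Φ := by
    rw [← Nat.card_prod]
    exact Nat.card_congr
      { toFun := fun x => (⟨x.1.left, x.2⟩, x.1.right)
        invFun := fun y => ⟨⟨y.1.1, y.2⟩, y.1.2⟩
        left_inv := fun x => rfl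
        right_inv := fun y => rfl }
  have hAsol : Group.IsSolvable A := by
    haveI := hMsol
    haveI : Group.IsSolvable Φ := hFT Φ hΦ
    let f : M →* A :=
      { toFun := fun m => ⟨i m, m.2⟩
        map_one' := Subtype.ext (map_one i)
        map_mul' := fun a b => Subtype.ext (map_mul i _ _) }
    refine Group.isSolvable_of_ker_le_range f
      ((SemidirectProduct.rightHom (φ := Φ.subtype)).comp A.subtype) fun x hx => ?_
    have hx' : (x : G ⋊[Φ.subtype] Φ).right = 1 := hx
    exact ⟨⟨(x : G ⋊[Φ.subtype] Φ).left, x.2⟩, Subtype.ext (SemidirectProduct.ext rfl hx'.symm)⟩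
  have hcop : (Nat.card A).Coprime (Nat.card (K.map i)) := by
    rw [hAcard, card_map_of_injective hinj]
    exact Nat.Coprime.mul_left h1 h2
  obtain ⟨Q, hQ⟩ := Coprime.exists_invariant_sylow hAK hcop (Or.inl hAsol) q
  let e := K.equivMapOfInjective i hinj
  refine ⟨Q.mapSurjective (f := e.symm.toMonoidHom) e.symm.surjective, ?_⟩
  set Q0 := ((Q.mapSurjective (f := e.symm.toMonoidHom) e.symm.surjective : Sylow q K) :
    Subgroup K).map K.subtype with hQ0
  have hmap : Q0.map i = (Q : Subgroup (K.map i)).map (K.map i).subtype := by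
    rw [hQ0]
    change (((Q : Subgroup (K.map i)).map e.symm.toMonoidHom).map K.subtype).map i = _
    rw [Subgroup.map_map, Subgroup.map_map]
    congr 1
    refine MonoidHom.ext fun x => ?_
    obtain ⟨g, rfl⟩ := e.surjective x
    show i (K.subtype (e.symm (e g))) = ((e g : K.map i) : G ⋊[Φ.subtype] Φ)
    rw [MulEquiv.symm_apply_apply]
    rfl
  have key : ∀ x ∈ A, ∀ g ∈ Q0, x.left * (x.right : MulAut G) g * x.left⁻¹ ∈ Q0 := by
    intro x hx g hg
    rw [← mem_map_iff_mem hinj, ← hconj, hmap]
    refine (mem_normalizer_iff.mp (hQ hx) _).mp ?_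
    rw [← hmap]
    exact mem_map_of_mem i hg
  refine ⟨fun m hm => mem_normalizer_of_conj fun g hg => ?_, fun α hα =>
    FTCons.map_eq_of_mem α fun g hg => ?_⟩
  · simpa using key ⟨m, 1⟩ hm g hg
  · simpa using key ⟨1, ⟨α, hα⟩⟩ (one_mem M) g hg

/-- The main theorem, by induction on the order. -/
theorem isSolvable_of_invariant_max (hFT : FTCons.OddSolvable.{u}) :
    ∀ (n : ℕ) (G : Type u) [Group G] [Finite G], Nat.card G ≤ n →
      ∀ (Φ : Subgroup (MulAut G)) (M : Subgroup G), (Nat.card Φ).Coprime (Nat.card G) → M ≠ ⊤ →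
      (∀ α ∈ Φ, mp α M = M) →
      (∀ H : Subgroup G, M ≤ H → H ≠ ⊤ → (∀ α ∈ Φ, mp α H = H) → H = M) →
      Group.IsNilpotent M →
      (∀ a ∈ M, ∀ b ∈ M, ∀ c ∈ M, (∃ k : ℕ, a ^ 2 ^ k = 1) → (∃ k : ℕ, b ^ 2 ^ k = 1) →
        (∃ k : ℕ, c ^ 2 ^ k = 1) → Commute ⁅a, b⁆ c) →
      Group.IsSolvable G := by
  intro n
  induction n with
  | zero => intro G _ _ hn; exact absurd hn (Nat.not_le.2 Nat.card_pos)
  | succ n ih =>
    intro G _ _ hn Φ M hcop hMtop hinv hmax hnil hcl
    haveI := hnil
    have hMsol : Group.IsSolvable M := inferInstance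
    rcases Nat.even_or_odd (Nat.card G) with heven | hodd
    swap
    · exact hFT G hodd
    have hΦodd : Odd (Nat.card Φ) := by
      rw [← Nat.not_even_iff_odd]
      exact fun h => absurd (Nat.dvd_gcd h.two_dvd heven.two_dvd)
        (by rw [hcop.gcd_eq_one]; decide)
    rcases eq_or_ne M.normalCore ⊥ with hcore | hcore
    swap
    · set N := M.normalCore
      have hNM : N ≤ M := normalCore_le M
      have hNi : ∀ α ∈ Φ, mp α N = N := fun α hα => FTCons.map_eq_of_mem α fun x hx => by
        haveI : (mp α N).Normal := Subgroup.Normal.map inferInstance α.toMonoidHom α.surjective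
        exact normal_le_normalCore.mpr ((map_mono hNM).trans (hinv α hα).le)
          (mem_map_of_mem α.toMonoidHom hx)
      haveI : Group.IsSolvable N := solvable_of_solvable_injective (inclusion_injective hNM)
      refine FTCons.isSolvable_ext N inferInstance ?_
      let ψ : Φ →* MulAut (G ⧸ N) :=
        { toFun := fun a => QuotientGroup.congr N N a.1 (hNi a.1 a.2)
          map_one' := MulEquiv.ext fun x => by
            obtain ⟨g, rfl⟩ := QuotientGroup.mk'_surjective N x
            simp
          map_mul' := fun a b => MulEquiv.ext fun x => by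
            obtain ⟨g, rfl⟩ := QuotientGroup.mk'_surjective N x
            rfl }
      have hfs := QuotientGroup.mk'_surjective N
      have hker : (QuotientGroup.mk' N).ker ≤ M := by rw [QuotientGroup.ker_mk']; exact hNM
      have hcomap : (M.map (QuotientGroup.mk' N)).comap (QuotientGroup.mk' N) = M := by
        rw [comap_map_eq, sup_eq_left.mpr hker]
      refine ih (G ⧸ N) ?_ ψ.range (M.map (QuotientGroup.mk' N))
        (((hcop.coprime_dvd_left (card_range_dvd ψ)).coprime_dvd_right (card_quotient_dvd_card N)))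
        (fun e => hMtop (by rw [← hcomap, e, comap_top])) ?_ ?_
        (Group.nilpotent_of_surjective _ ((QuotientGroup.mk' N).subgroupMap_surjective M)) ?_
      · have h1 := N.card_eq_card_quotient_mul_card_subgroup
        have h2 : 2 ≤ Nat.card N := N.one_lt_card_iff_ne_bot.2 hcore
        have h3 : 0 < Nat.card (G ⧸ N) := Nat.card_pos
        nlinarith
      · rintro _ ⟨a, rfl⟩
        refine FTCons.map_eq_of_mem _ ?_
        rintro _ ⟨m, hm, rfl⟩
        exact ⟨a.1 m, FTCons.mem_of_map_eq a.1 (hinv a.1 a.2) hm, rfl⟩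
      · intro H hMH hH hHi
        have hc := hmax (H.comap (QuotientGroup.mk' N)) (map_le_iff_le_comap.mp hMH)
          (fun e => hH (by rw [← map_comap_eq_self_of_surjective hfs H, e,
            Subgroup.map_top_of_surjective _ hfs]))
          fun α hα => FTCons.map_eq_of_mem α fun x hx =>
            FTCons.mem_of_map_eq (ψ ⟨α, hα⟩) (hHi _ ⟨⟨α, hα⟩, rfl⟩) hx
        rw [← map_comap_eq_self_of_surjective hfs H, hc]
      · rintro _ ⟨a, ha, rfl⟩ _ ⟨b, hb, rfl⟩ _ ⟨c, hc, rfl⟩ ⟨k, hk⟩ ⟨l, hl⟩ ⟨r, hr⟩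
        obtain ⟨ja, ha', ea, hea⟩ := exists_two_lift (QuotientGroup.mk' N) a hk
        obtain ⟨jb, hb', eb, heb⟩ := exists_two_lift (QuotientGroup.mk' N) b hl
        obtain ⟨jc, hc', ec, hec⟩ := exists_two_lift (QuotientGroup.mk' N) c hr
        rw [← ha', ← hb', ← hc', ← map_commutatorElement]
        exact (hcl _ (zpow_mem ha ja) _ (zpow_mem hb jb) _ (zpow_mem hc jc)
          ⟨ea, hea⟩ ⟨eb, heb⟩ ⟨ec, hec⟩).map _
    -- the core is trivial
    have hNU : ∀ U : Subgroup G, U ≠ ⊥ → U ≤ M → M ≤ normalizer (U : Set G) →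
        (∀ α ∈ Φ, mp α U = U) → normalizer (U : Set G) = M := by
      intro U hU1 hUM hUn hUi
      refine hmax _ hUn (fun e => hU1 ?_) fun α hα => by
        rw [mp, map_equiv_normalizer_eq]
        have := hUi α hα
        rw [mp] at this
        rw [this]
      haveI := normalizer_eq_top_iff.mp e
      exact le_bot_iff.mp (hcore ▸ normal_le_normalCore.mpr hUM)
    have hpc : ∀ q : ℕ, q.Prime → q ∣ Nat.card M → HasNormalPComplement q G := by
      intro q hq hqM
      haveI := Fact.mk hq
      obtain ⟨T⟩ := (inferInstance : Nonempty (Sylow q M))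
      haveI hTn : (T : Subgroup M).Normal :=
        (Group.isNilpotent_of_finite_tfae.out 0 3 rfl rfl).mp hnil q inferInstance T
      haveI := Sylow.unique_of_normal T hTn
      set P0 : Subgroup G := (T : Subgroup M).map M.subtype with hP0
      have hP0M : P0 ≤ M := map_subtype_le _
      have hP0p : IsPGroup q P0 := T.2.map _
      have huniq : ∀ Q : Subgroup G, Q ≤ M → IsPGroup q Q → Q ≤ P0 := by
        intro Q hQM hQ
        obtain ⟨R, hR⟩ := (hQ.comap_subtype (K := M)).exists_le_sylow
        rw [Subsingleton.elim R T] at hR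
        rw [hP0, ← map_subgroupOf_eq_of_le hQM]
        exact map_mono hR
      have hMn : M ≤ normalizer (P0 : Set G) := by
        rw [hP0]
        have := le_normalizer_map (H := (T : Subgroup M)) M.subtype
        rwa [normalizer_eq_top_iff.mpr hTn, ← MonoidHom.range_eq_map, range_subtype] at this
      have hP01 : P0 ≠ ⊥ := by
        rw [hP0, Ne, map_eq_bot_iff_of_injective _ M.subtype_injective]
        exact T.ne_bot_of_dvd_card hqM
      have hP0i : ∀ α ∈ Φ, mp α P0 = P0 := fun α hα => FTCons.map_eq_of_mem α fun x hx =>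
        huniq (mp α P0) ((map_mono hP0M).trans (hinv α hα).le) (hP0p.map _)
          (mem_map_of_mem α.toMonoidHom hx)
      obtain ⟨P, hP⟩ := hP0p.exists_le_sylow
      have hPeq : (P : Subgroup G) = P0 := by
        by_contra hne
        have hlt := lt_inf_normalizer_of_isPGroup P.2 (lt_of_le_of_ne hP (Ne.symm hne))
        rw [hNU P0 hP01 hP0M hMn hP0i] at hlt
        exact hlt.not_ge (huniq _ inf_le_right P.2.to_inf_left)
      rcases eq_or_ne q 2 with rfl | hq2
      · refine Setup.hasNormalPComplement (P := P) (M := M) (Φ := Φ) ?_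
        have htwo : ∀ g ∈ M, (∃ k : ℕ, g ^ 2 ^ k = 1) → g ∈ (P : Subgroup G) := by
          rintro g hg ⟨k, hk⟩
          rw [hPeq]
          refine huniq (zpowers g) (zpowers_le.mpr hg) ?_ (mem_zpowers g)
          obtain ⟨i, -, hi⟩ := (Nat.dvd_prime_pow Nat.prime_two).1 (orderOf_dvd_of_pow_eq_one hk)
          exact IsPGroup.of_card (n := i) (by rw [Nat.card_zpowers, hi])
        have hP2 : ∀ x ∈ (P : Subgroup G), ∃ k : ℕ, x ^ 2 ^ k = 1 := fun x hx => by
          obtain ⟨k, hk⟩ := P.2 ⟨x, hx⟩
          exact ⟨k, congrArg Subtype.val hk⟩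
        refine { nil := hnil, neBot := hPeq ▸ hP01, le := hPeq ▸ hP0M, two := htwo,
                 dec := ?_, cls := ?_, odd := ?_, mapP := fun α hα => ?_, mapM := hinv,
                 norm := ?_ }
        · intro m hm
          obtain ⟨e, o, ho, he⟩ := Nat.exists_eq_pow_mul_and_not_dvd (orderOf_pos m).ne' 2
            (by norm_num)
          have hco : Nat.Coprime o (2 ^ e) :=
            (((Nat.Prime.coprime_iff_not_dvd Nat.prime_two).mpr ho).symm).pow_right e
          have hbz := Nat.gcd_eq_gcd_ab o (2 ^ e)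
          rw [hco.gcd_eq_one, Nat.cast_one] at hbz
          have hm0 : m ^ (((2 ^ e : ℕ) : ℤ) * (o : ℤ)) = 1 := by
            rw [← Nat.cast_mul, zpow_natCast, ← he, pow_orderOf_eq_one]
          refine ⟨m ^ ((o : ℤ) * Nat.gcdA o (2 ^ e)), ?_,
            m ^ (((2 ^ e : ℕ) : ℤ) * Nat.gcdB o (2 ^ e)), ?_, ?_⟩
          · refine htwo _ (zpow_mem hm _) ⟨e, ?_⟩
            rw [← zpow_natCast, ← zpow_mul, show (o : ℤ) * Nat.gcdA o (2 ^ e) * ((2 ^ e : ℕ) : ℤ) =
              ((2 ^ e : ℕ) : ℤ) * (o : ℤ) * Nat.gcdA o (2 ^ e) by ring, zpow_mul, hm0, one_zpow]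
          · refine mem_centralizer_iff.mpr fun x hx => ?_
            obtain ⟨k, hk⟩ := hP2 x hx
            have hxM : x ∈ M := (hPeq ▸ hP0M : (P : Subgroup G) ≤ M) hx
            have hb : (m ^ (((2 ^ e : ℕ) : ℤ) * Nat.gcdB o (2 ^ e))) ^ o = 1 := by
              rw [← zpow_natCast, ← zpow_mul, show ((2 ^ e : ℕ) : ℤ) * Nat.gcdB o (2 ^ e) *
                (o : ℤ) = ((2 ^ e : ℕ) : ℤ) * (o : ℤ) * Nat.gcdB o (2 ^ e) by ring, zpow_mul, hm0,
                one_zpow]
            have hc : Nat.Coprime (orderOf (⟨x, hxM⟩ : M))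
                (orderOf (⟨_, zpow_mem hm (((2 ^ e : ℕ) : ℤ) * Nat.gcdB o (2 ^ e))⟩ : M)) := by
              rw [Subgroup.orderOf_mk, Subgroup.orderOf_mk]
              exact Nat.Coprime.coprime_dvd_left (orderOf_dvd_of_pow_eq_one hk)
                (Nat.Coprime.coprime_dvd_right (orderOf_dvd_of_pow_eq_one hb)
                  (Nat.Coprime.pow_left k ((Nat.Prime.coprime_iff_not_dvd Nat.prime_two).mpr ho)))
            exact congrArg Subtype.val (Char.commute_of_nilpotent_coprime hc).eq
          · rw [← zpow_add, ← hbz, zpow_one]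
        · intro a ha b hb
          refine mem_centralizer_iff.mpr fun c hc => ?_
          have hle : (P : Subgroup G) ≤ M := hPeq ▸ hP0M
          exact (hcl a (hle ha) b (hle hb) c (hle hc) (hP2 a ha) (hP2 b hb) (hP2 c hc)).eq.symm
        · intro α hα
          refine Odd.of_dvd_nat hΦodd ?_
          have := orderOf_dvd_natCard (⟨α, hα⟩ : Φ)
          rwa [Subgroup.orderOf_mk] at this
        · rw [hPeq]; exact hP0i α hα
        · intro W h1 h2 h3 h4
          exact hNU W h1 (h2.trans (hPeq.le.trans hP0M)) h3 h4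
      · set J := thompsonSubgroupOf q (P : Subgroup G) with hJ
        set ZP := (P : Subgroup G) ⊓ centralizer ((P : Subgroup G) : Set G) with hZP
        have hfix : ∀ e : MulAut G, mp e P0 = P0 → mp e J = J ∧ mp e ZP = ZP := by
          intro e he
          rw [mp, ← hPeq] at he
          constructor
          · rw [mp, hJ, Fusion.thompsonSubgroupOf_map_of_inf_ker, he]
            rw [(MonoidHom.ker_eq_bot_iff e.toMonoidHom).2 e.injective, inf_bot_eq]
          · rw [mp, hZP, Subgroup.map_inf _ _ _ e.injective, FTCons.map_centralizer', he]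
        have hMfix : ∀ m ∈ M, mp (MulAut.conj m) P0 = P0 := fun m hm =>
          FTCons.map_eq_of_mem _ fun x hx => (mem_normalizer_iff.mp (hMn hm) x).mp hx
        have hJle : J ≤ M := ((Thompson.thompsonOf_le q _).trans hPeq.le).trans hP0M
        have hZle : ZP ≤ M := (inf_le_left.trans hPeq.le).trans hP0M
        have hNJ := hNU J (Fusion.thompsonSubgroupOf_ne_bot P.2 (hPeq ▸ hP01)) hJle
          (fun m hm => mem_normalizer_of_conj fun x hx =>
            FTCons.mem_of_map_eq (MulAut.conj m) (hfix _ (hMfix m hm)).1 hx)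
          fun α hα => (hfix α (hP0i α hα)).1
        have hZ1 : ZP ≠ ⊥ := fun h => by
          haveI : Nontrivial (P : Subgroup G) := (nontrivial_iff_ne_bot _).mpr (hPeq ▸ hP01)
          haveI := P.2.center_nontrivial
          obtain ⟨⟨z, hzc⟩, hz1⟩ := exists_ne (1 : center (P : Subgroup G))
          exact hz1 (Subtype.ext (Subtype.ext (mem_bot.mp (h ▸ (⟨z.2, mem_centralizer_iff.mpr
            fun y hy => congrArg Subtype.val (mem_center_iff.mp hzc ⟨y, hy⟩)⟩ : (z : G) ∈ ZP)))))
        have hNZ := hNU ZP hZ1 hZle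
          (fun m hm => mem_normalizer_of_conj fun x hx =>
            FTCons.mem_of_map_eq (MulAut.conj m) (hfix _ (hMfix m hm)).2 hx)
          fun α hα => (hfix α (hP0i α hα)).2
        exact Fusion.hasNormalPComplement_of_thompson hq2 P
          (hasNormalPComplement_of_isNilpotent (Core.isNilpotent_mono hnil hNJ.le))
          (hasNormalPComplement_of_isNilpotent
            (Core.isNilpotent_mono hnil ((centralizer_le_normalizer _).trans hNZ.le)))
    set K : Subgroup G := sInf {R | ∃ q : ℕ, q.Prime ∧ q ∣ Nat.card M ∧ R = pResidual q G} with hK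
    haveI hKn : K.Normal := by
      refine ⟨fun x hx g => ?_⟩
      rw [hK, mem_sInf] at hx ⊢
      rintro R ⟨q, h1, h2, rfl⟩
      exact (inferInstance : (pResidual q G).Normal).conj_mem x (hx _ ⟨q, h1, h2, rfl⟩) g
    have hKi : ∀ α : MulAut G, ∀ x ∈ K, α x ∈ K := by
      intro α x hx
      rw [hK, mem_sInf] at hx ⊢
      rintro R ⟨q, h1, h2, rfl⟩
      haveI := Fact.mk h1
      haveI := Fusion.pResidual_characteristic (p := q) (G := G)
      exact FTCons.mem_of_map_eq α (FTCons.map_characteristic α _) (hx _ ⟨q, h1, h2, rfl⟩)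
    have hKcop : (Nat.card M).Coprime (Nat.card K) := by
      refine Nat.coprime_of_dvd fun q hq hqM hqK => ?_
      haveI := Fact.mk hq
      have h1 := hasNormalPComplement_iff.mp (hpc q hq hqM)
      have h2 : q ∣ Nat.card (pResidual q G) :=
        hqK.trans (card_dvd_of_le (sInf_le ⟨q, hq, hqM, rfl⟩))
      exact (Nat.Prime.coprime_iff_not_dvd hq).mp h1.symm h2
    rcases eq_or_ne K ⊥ with hKb | hKb
    · have hle : ∀ q : ℕ, q.Prime → ∃ d, derivedSeries G d ≤ pResidual q G := by
        intro q hq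
        haveI := Fact.mk hq
        haveI := (isPGroup_quotient_pResidual (G := G) (p := q)).isNilpotent
        obtain ⟨d, hd⟩ := (Group.isSolvable_def _).mp
          (inferInstance : Group.IsSolvable (G ⧸ pResidual q G))
        refine ⟨d, ?_⟩
        rw [← QuotientGroup.ker_mk' (pResidual q G), ← MonoidHom.comap_bot, ← map_le_iff_le_comap,
          ← hd]
        exact map_derivedSeries_le_derivedSeries _ d
      choose! d hd using hle
      refine (Group.isSolvable_def _).mpr ⟨(Nat.card M).primeFactors.sup d, le_bot_iff.mp ?_⟩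
      rw [← hKb, hK]
      refine le_sInf fun R ⟨q, hq, hqM, hR⟩ => hR ▸ le_trans ?_ (hd q hq)
      exact derivedSeries_antitone G
        (Finset.le_sup (f := d) (Nat.mem_primeFactors.mpr ⟨hq, hqM, Nat.card_pos.ne'⟩))
    obtain ⟨q, hq, hqK⟩ := Nat.exists_prime_and_dvd
      (fun h => hKb (card_eq_one.mp h) : Nat.card K ≠ 1)
    haveI := Fact.mk hq
    obtain ⟨Q, hQM, hQi⟩ := exists_sylow_invariant hFT hΦodd hMsol
      (fun α hα x hx => FTCons.mem_of_map_eq α (hinv α hα) hx) (fun α _ => hKi α) hKcop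
      (hcop.coprime_dvd_right (card_subgroup_dvd_card K)) q
    set Q0 := (Q : Subgroup K).map K.subtype
    have hQ01 : Q0 ≠ ⊥ := by
      rw [Ne, map_eq_bot_iff_of_injective _ K.subtype_injective]
      exact Q.ne_bot_of_dvd_card hqK
    have hQMbot : Q0 ⊓ M = ⊥ := Subgroup.inf_eq_bot_of_coprime
      (Nat.Coprime.coprime_dvd_left (card_dvd_of_le (map_subtype_le _)) hKcop.symm)
    have hnotle : ¬ Q0 ≤ M := fun hle => hQ01 (by rwa [inf_eq_left.mpr hle] at hQMbot)
    haveI : Q0.Normal := by
      refine normalizer_eq_top_iff.mp ?_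
      by_contra h
      have := hmax _ hQM h fun α hα => by
        rw [mp, map_equiv_normalizer_eq]
        have := hQi α hα
        rw [mp] at this
        rw [this]
      exact hnotle (Subgroup.le_normalizer.trans this.le)
    have htop : Q0 ⊔ M = ⊤ := by
      by_contra h
      have := hmax _ le_sup_right h fun α hα => by
        rw [mp, Subgroup.map_sup]
        exact congrArg₂ (· ⊔ ·) (hQi α hα) (hinv α hα)
      exact hnotle (le_sup_left.trans this.le)
    haveI : Group.IsSolvable Q0 := by
      haveI := (Q.2.map K.subtype).isNilpotent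
      infer_instance
    refine FTCons.isSolvable_ext Q0 inferInstance ?_
    refine solvable_of_surjective (f := (QuotientGroup.mk' Q0).comp M.subtype) fun y => ?_
    obtain ⟨g, rfl⟩ := QuotientGroup.mk'_surjective Q0 y
    have hg : g ∈ ((Q0 ⊔ M : Subgroup G) : Set G) := htop ▸ mem_top g
    rw [normal_mul] at hg
    obtain ⟨a, ha, m, hm, rfl⟩ := hg
    refine ⟨⟨m, hm⟩, ?_⟩
    exact QuotientGroup.eq.mpr
      (by simpa [mul_assoc] using (inferInstance : Q0.Normal).conj_mem' a ha m)

end Cfsg.Agent.Fusion.ClassTwoInvariant
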