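import Cfsg.Agent.Fusion.ClassTwo
import Cfsg.Agent.Fusion.ThompsonComplement
import Cfsg.Agent.FTCons.MaxNilpotent
import Cfsg.Agent.Bicyclic.Forward

/-!
A normal `2`-complement criterion for a nilpotent subgroup `M` containing a Sylow `2`-subgroup `P`
of class at most two, when `M` is the normaliser of all nontrivial subgroups of `P` normalised by `M`
and invariant under a given group of automorphisms of odd order.
-/

set_option autoImplicit false
set_option linter.unusedSectionVars false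
set_option linter.style.haveILetI false

namespace Cfsg.Agent.Fusion.ClassTwoOrbit

open Subgroup Cfsg
open scoped commutatorElement

universe u

variable {G : Type u} [Group G]

/-- Image of a subgroup under an automorphism. -/
abbrev mp (α : MulAut G) (W : Subgroup G) : Subgroup G := W.map α.toMonoidHom

theorem mem_mp {α : MulAut G} {W : Subgroup G} {x : G} : x ∈ mp α W ↔ α⁻¹ x ∈ W :=
  Subgroup.mem_map_equiv

theorem mp_mul (α β : MulAut G) (W : Subgroup G) : mp (α * β) W = mp α (mp β W) := by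
  ext x
  simp only [mem_mp, mul_inv_rev, MulAut.mul_apply]

theorem mp_one (W : Subgroup G) : mp 1 W = W := by
  ext x
  simp only [mem_mp, inv_one, MulAut.one_apply]

/-- A lift of an element of `2`-power order which has `2`-power order itself. -/
theorem exists_two_lift [Finite G] {H : Type*} [Group H] (f : G →* H) (g : G) {k : ℕ}
    (h : f g ^ 2 ^ k = 1) : ∃ j : ℤ, f (g ^ j) = f g ∧ ∃ e : ℕ, (g ^ j) ^ 2 ^ e = 1 := by
  obtain ⟨e, o, ho, he⟩ := Nat.exists_eq_pow_mul_and_not_dvd (orderOf_pos g).ne' 2 (by norm_num)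
  have hco : Nat.Coprime o (2 ^ k) :=
    (((Nat.Prime.coprime_iff_not_dvd Nat.prime_two).mpr ho).symm).pow_right k
  have hbz := Nat.gcd_eq_gcd_ab o (2 ^ k)
  rw [hco.gcd_eq_one, Nat.cast_one] at hbz
  refine ⟨(o : ℤ) * Nat.gcdA o (2 ^ k), ?_, e, ?_⟩
  · rw [map_zpow]
    conv_rhs => rw [← zpow_one (f g), hbz, zpow_add, zpow_mul (f g) ((2 ^ k : ℕ) : ℤ), zpow_natCast,
      h, one_zpow, mul_one]
  · rw [← zpow_natCast, ← zpow_mul, show (o : ℤ) * Nat.gcdA o (2 ^ k) * ((2 ^ e : ℕ) : ℤ) =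
      ((2 ^ e * o : ℕ) : ℤ) * Nat.gcdA o (2 ^ k) by push_cast; ring, zpow_mul, zpow_natCast, ← he,
      pow_orderOf_eq_one, one_zpow]

theorem mem_normalizer_of_conj [Finite G] {H : Subgroup G} {g : G}
    (h : ∀ x ∈ H, g * x * g⁻¹ ∈ H) : g ∈ normalizer (H : Set G) := by
  have heq := FTCons.map_eq_of_mem (MulAut.conj g) (H := H) h
  rw [mem_normalizer_iff]
  refine fun x => ⟨h x, fun hx => ?_⟩
  rw [← heq] at hx
  obtain ⟨y, hy, hyx⟩ := hx
  have hxy : y = x := (MulAut.conj g).injective hyx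
  exact hxy ▸ hy

variable [Finite G]

/-- The hypotheses. -/
structure Setup (P : Sylow 2 G) (M : Subgroup G) (Φ : Subgroup (MulAut G)) : Prop where
  nil : Group.IsNilpotent M
  neBot : (P : Subgroup G) ≠ ⊥
  le : (P : Subgroup G) ≤ M
  dec : ∀ m ∈ M, ∃ a ∈ (P : Subgroup G), ∃ b ∈ centralizer ((P : Subgroup G) : Set G), m = a * b
  two : ∀ g ∈ M, (∃ k : ℕ, g ^ 2 ^ k = 1) → g ∈ (P : Subgroup G)
  cls : ∀ a ∈ (P : Subgroup G), ∀ b ∈ (P : Subgroup G),
    ⁅a, b⁆ ∈ centralizer ((P : Subgroup G) : Set G)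
  odd : ∀ α ∈ Φ, Odd (orderOf α)
  mapP : ∀ α ∈ Φ, mp α (P : Subgroup G) = P
  mapM : ∀ α ∈ Φ, mp α M = M
  norm : ∀ W : Subgroup G, W ≠ ⊥ → W ≤ P → M ≤ normalizer (W : Set G) →
    (∀ α ∈ Φ, mp α W = W) → normalizer (W : Set G) = M

/-- The centre of the Sylow subgroup. -/
abbrev cen (P : Sylow 2 G) : Subgroup G :=
  (P : Subgroup G) ⊓ centralizer ((P : Subgroup G) : Set G)

/-- The maximal subgroups above the centre with normaliser outside `M`. -/
structure Ess (P : Sylow 2 G) (M : Subgroup G) (U : Subgroup G) : Prop where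
  zle : cen P ≤ U
  le : U ≤ (P : Subgroup G)
  notM : ¬ normalizer (U : Set G) ≤ M
  max : ∀ T : Subgroup G, U < T → T ≤ (P : Subgroup G) → normalizer (T : Set G) ≤ M

variable {P : Sylow 2 G} {M : Subgroup G} {Φ : Subgroup (MulAut G)} {U : Subgroup G}

theorem Setup.comm_mem (S : Setup P M Φ) {m p : G} (hm : m ∈ M) (hp : p ∈ (P : Subgroup G)) :
    ⁅m, p⁆ ∈ cen P := by
  obtain ⟨a, ha, b, hb, rfl⟩ := S.dec m hm
  have h1 : ⁅b, p⁆ = 1 := by
    rw [commutatorElement_eq_one_iff_mul_comm]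
    exact (mem_centralizer_iff.mp hb p hp).symm
  rw [show ⁅a * b, p⁆ = a * ⁅b, p⁆ * a⁻¹ * ⁅a, p⁆ by simp only [commutatorElement_def]; group, h1,
    mul_one, mul_inv_cancel, one_mul]
  refine ⟨?_, S.cls a ha p hp⟩
  show ⁅a, p⁆ ∈ (P : Subgroup G)
  rw [commutatorElement_def]
  exact mul_mem (mul_mem (mul_mem ha hp) (inv_mem ha)) (inv_mem hp)

theorem Setup.le_normalizer (S : Setup P M Φ) {W : Subgroup G} (hZ : cen P ≤ W)
    (hW : W ≤ (P : Subgroup G)) : M ≤ normalizer (W : Set G) := fun m hm =>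
  mem_normalizer_of_conj fun w hw => by
    rw [show m * w * m⁻¹ = ⁅m, w⁆ * w by simp only [commutatorElement_def]; group]
    exact mul_mem (hZ (S.comm_mem hm (hW hw))) hw

theorem Setup.map_cen (S : Setup P M Φ) {α : MulAut G} (hα : α ∈ Φ) : mp α (cen P) = cen P := by
  rw [mp, Subgroup.map_inf _ _ _ α.injective, FTCons.map_centralizer']
  have := S.mapP α hα
  rw [mp] at this
  rw [this]

theorem Setup.cen_ne_bot (S : Setup P M Φ) : cen P ≠ ⊥ := by
  haveI : Nontrivial (P : Subgroup G) := (nontrivial_iff_ne_bot _).mpr S.neBot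
  haveI := P.2.center_nontrivial
  obtain ⟨⟨z, hzc⟩, hz1⟩ := exists_ne (1 : center (P : Subgroup G))
  intro h
  refine hz1 (Subtype.ext (Subtype.ext (mem_bot.mp (h ▸ (⟨z.2, mem_centralizer_iff.mpr fun y hy =>
    congrArg Subtype.val (mem_center_iff.mp hzc ⟨y, hy⟩)⟩ : (z : G) ∈ cen P)))))

theorem Setup.normalizer_cen (S : Setup P M Φ) : normalizer (cen P : Set G) = M :=
  S.norm _ S.cen_ne_bot inf_le_left (S.le_normalizer le_rfl inf_le_left) fun _ h => S.map_cen h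

theorem Setup.normalizer_sylow (S : Setup P M Φ) : normalizer ((P : Subgroup G) : Set G) = M :=
  S.norm _ S.neBot le_rfl (S.le_normalizer inf_le_left le_rfl) S.mapP

theorem Setup.mem_of_centralizes (S : Setup P M Φ) (hU : Ess P M U) {g : G}
    (hg : g ∈ centralizer (U : Set G)) : g ∈ M :=
  S.normalizer_cen ▸ centralizer_le_normalizer _ (centralizer_le hU.zle hg)

theorem Setup.comm_mul_left (S : Setup P M Φ) {a b c : G} (ha : a ∈ (P : Subgroup G))
    (hb : b ∈ (P : Subgroup G)) (hc : c ∈ (P : Subgroup G)) : ⁅a * b, c⁆ = ⁅a, c⁆ * ⁅b, c⁆ := by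
  have h1 : a * ⁅b, c⁆ = ⁅b, c⁆ * a := mem_centralizer_iff.mp (S.cls b hb c hc) a ha
  have h2 : ⁅a, c⁆ * ⁅b, c⁆ = ⁅b, c⁆ * ⁅a, c⁆ :=
    mem_centralizer_iff.mp (S.cls b hb c hc) _ (S.comm_mem (S.le ha) hc).1
  rw [show ⁅a * b, c⁆ = a * ⁅b, c⁆ * a⁻¹ * ⁅a, c⁆ by simp only [commutatorElement_def]; group, h1,
    mul_inv_cancel_right, h2]

theorem Setup.comm_mul_right (S : Setup P M Φ) {a b c : G} (ha : a ∈ (P : Subgroup G))
    (hb : b ∈ (P : Subgroup G)) (hc : c ∈ (P : Subgroup G)) : ⁅a, b * c⁆ = ⁅a, b⁆ * ⁅a, c⁆ := by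
  have h1 : b * ⁅a, c⁆ = ⁅a, c⁆ * b := mem_centralizer_iff.mp (S.cls a ha c hc) b hb
  rw [show ⁅a, b * c⁆ = ⁅a, b⁆ * (b * ⁅a, c⁆ * b⁻¹) by simp only [commutatorElement_def]; group,
    h1, mul_inv_cancel_right]

theorem Ess.map (S : Setup P M Φ) (hU : Ess P M U) {α : MulAut G} (hα : α ∈ Φ) :
    Ess P M (mp α U) := by
  have hNmap : ∀ W : Subgroup G, normalizer (mp α W : Set G) = mp α (normalizer (W : Set G)) :=
    fun W => (map_equiv_normalizer_eq W α).symm
  refine ⟨(S.map_cen hα).ge.trans (map_mono hU.zle), (map_mono hU.le).trans (S.mapP α hα).le,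
    ?_, fun T hT hTP => ?_⟩
  · rw [hNmap, ← S.mapM α hα]
    exact fun h => hU.notM ((map_le_map_iff_of_injective α.injective).mp h)
  · have hT' : mp α (mp α⁻¹ T) = T := by rw [← mp_mul, mul_inv_cancel, mp_one]
    rw [← hT', hNmap, ← S.mapM α hα]
    refine map_mono (hU.max _ ?_ ((map_mono hTP).trans (S.mapP _ (inv_mem hα)).le))
    rw [← hT'] at hT
    exact lt_of_le_not_ge ((map_le_map_iff_of_injective α.injective).mp hT.le)
      fun h => hT.not_ge (map_mono h)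

theorem Setup.mem_of_comm_mem (S : Setup P M Φ) (hU : Ess P M U) {g t : G}
    (hg : g ∈ normalizer (U : Set G)) (ht : t ∈ (P : Subgroup G)) (htU : t ∉ U)
    (h : ⁅g, t⁆ ∈ U) : g ∈ M := by
  refine hU.max (U ⊔ zpowers t) (lt_of_le_of_ne le_sup_left fun e => htU ?_)
    (sup_le hU.le (zpowers_le.mpr ht)) (mem_normalizer_of_conj fun x hx => ?_)
  · rw [e]; exact le_sup_right (a := U) (mem_zpowers t)
  · have hle : U ⊔ zpowers t ≤ (U ⊔ zpowers t).comap (MulAut.conj g).toMonoidHom := by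
      refine sup_le (fun y hy => ?_) (zpowers_le.mpr ?_)
      · exact mem_sup_left ((mem_normalizer_iff.mp hg y).mp hy)
      · show g * t * g⁻¹ ∈ U ⊔ zpowers t
        rw [show g * t * g⁻¹ = ⁅g, t⁆ * t by simp only [commutatorElement_def]; group]
        exact mul_mem_sup h (mem_zpowers t)
    exact hle hx

theorem Setup.mem_of_conj_mem (S : Setup P M Φ) (hU : Ess P M U) {h t : G}
    (hh : h ∈ normalizer (U : Set G)) (ht : t ∈ (P : Subgroup G)) (htU : t ∉ U)
    (hconj : h * t * h⁻¹ ∈ M) : h ∈ M := by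
  obtain ⟨k, hk⟩ := P.2 ⟨t, ht⟩
  have hk' : t ^ 2 ^ k = 1 := congrArg Subtype.val hk
  have hP := S.two _ hconj ⟨k, by rw [conj_pow, hk']; group⟩
  have hnot : h * t * h⁻¹ ∉ U := fun e => htU ((mem_normalizer_iff.mp hh t).mpr e)
  rw [← S.normalizer_sylow]
  refine mem_normalizer_of_conj fun p hp => ?_
  have hN : h * p * h⁻¹ ∈ normalizer (U : Set G) :=
    mul_mem (mul_mem hh (S.le_normalizer hU.zle hU.le (S.le hp))) (inv_mem hh)
  have hc : ⁅h * p * h⁻¹, h * t * h⁻¹⁆ ∈ U := by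
    rw [show ⁅h * p * h⁻¹, h * t * h⁻¹⁆ = h * ⁅p, t⁆ * h⁻¹ by
      simp only [commutatorElement_def]; group]
    exact (mem_normalizer_iff.mp hh _).mp (hU.zle (S.comm_mem (S.le hp) ht))
  obtain ⟨j, hj⟩ := P.2 ⟨p, hp⟩
  have hj' : p ^ 2 ^ j = 1 := congrArg Subtype.val hj
  exact S.two _ (S.mem_of_comm_mem hU hN hP hnot hc) ⟨j, by rw [conj_pow, hj']; group⟩

/-- `U` has index two in `P`. -/
theorem Setup.mul_mem_of_notMem (S : Setup P M Φ) (hU : Ess P M U) :
    ∀ a ∈ (P : Subgroup G), ∀ b ∈ (P : Subgroup G), a ∉ U → b ∉ U → a * b ∈ U := by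
  classical
  set N := normalizer (U : Set G) with hN
  haveI hUn : (U.subgroupOf N).Normal := normal_in_normalizer
  set π := QuotientGroup.mk' (U.subgroupOf N) with hπdef
  have hπ : ∀ w : N, π w = 1 ↔ (w : G) ∈ U := fun w => by
    rw [hπdef, QuotientGroup.mk'_apply, QuotientGroup.eq_one_iff, mem_subgroupOf]
  have hπc : ∀ w v : N, Commute (π w) (π v) ↔ ⁅(w : G), (v : G)⁆ ∈ U := fun w v => by
    rw [← commutatorElement_eq_one_iff_commute, ← map_commutatorElement, hπ]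
    rfl
  have hPN : (P : Subgroup G) ≤ N := S.le.trans (S.le_normalizer hU.zle hU.le)
  have hfirst : ∀ w ∈ (P : Subgroup G), w ∉ U →
      ∃ j : ℕ, w ^ 2 ^ (j + 1) ∈ U ∧ w ^ 2 ^ j ∉ U := by
    intro w hw hwU
    obtain ⟨k, hk⟩ := P.2 ⟨w, hw⟩
    have hk' : w ^ 2 ^ k = 1 := congrArg Subtype.val hk
    have hex : ∃ k : ℕ, w ^ 2 ^ k ∈ U := ⟨k, by rw [hk']; exact one_mem _⟩
    obtain ⟨j, hj⟩ : ∃ j, Nat.find hex = j + 1 := Nat.exists_eq_succ_of_ne_zero fun h0 => hwU (by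
      have := Nat.find_spec hex
      rwa [h0, pow_zero, pow_one] at this)
    exact ⟨j, hj ▸ Nat.find_spec hex, Nat.find_min hex (by omega)⟩
  obtain ⟨n, hnN, hnM⟩ := SetLike.not_le_iff_exists.mp hU.notM
  rcases (hU.le.lt_or_eq) with hlt | heq
  swap
  · exact fun a ha b hb haU _ => absurd (heq ▸ ha) haU
  obtain ⟨w₀, hw₀P, hw₀U⟩ := SetLike.exists_of_lt hlt
  obtain ⟨j₀, hj₀, hj₀'⟩ := hfirst w₀ hw₀P hw₀U
  set x := w₀ ^ 2 ^ j₀ with hx
  have hxP : x ∈ (P : Subgroup G) := pow_mem hw₀P _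
  have hx2 : x * x ∈ U := by
    rw [hx, ← pow_add, ← two_mul, ← pow_succ']; exact hj₀
  set x' : N := ⟨n * x * n⁻¹, mul_mem (mul_mem hnN (hPN hxP)) (inv_mem hnN)⟩ with hx'
  have hx'M : (x' : G) ∉ M := fun e => hnM (S.mem_of_conj_mem hU hnN hxP hj₀' e)
  have hB : π x' * π x' = 1 := by
    rw [← map_mul, hπ]
    show n * x * n⁻¹ * (n * x * n⁻¹) ∈ U
    rw [show n * x * n⁻¹ * (n * x * n⁻¹) = n * (x * x) * n⁻¹ by group]
    exact (mem_normalizer_iff.mp hnN _).mp hx2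
  -- products with `x'` have odd order modulo `U`
  have hodd : ∀ q : N, (q : G) ∈ (P : Subgroup G) → (q : G) ∉ U → π q * π q = 1 →
      Odd (orderOf (π q * π x')) := by
    intro q hqP hqU hA
    by_contra hodd
    obtain ⟨j, hj⟩ := even_iff_two_dvd.mp (Nat.not_odd_iff_even.mp hodd)
    have hpos : 0 < orderOf (π q * π x') := orderOf_pos _
    set A := π q
    set B := π x'
    set I := (A * B) ^ j with hI
    have hI1 : I ≠ 1 := pow_ne_one_of_lt_orderOf (by omega) (by omega)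
    have hI2 : I ^ 2 ^ 1 = 1 := by
      rw [pow_one, hI, ← pow_mul, mul_comm j 2, ← hj, pow_orderOf_eq_one]
    have hAinv : A⁻¹ = A := inv_eq_of_mul_eq_one_right hA
    have hBinv : B⁻¹ = B := inv_eq_of_mul_eq_one_right hB
    have hIA : Commute I A := by
      have h1 : A * I * A⁻¹ = I⁻¹ := by
        rw [hI, ← conj_pow, ← inv_pow, mul_inv_rev, hAinv, hBinv]
        simp only [← mul_assoc]
        rw [hA, one_mul]
      have h2 : I⁻¹ = I := inv_eq_of_mul_eq_one_right (by rw [← pow_two, ← hI2, pow_one])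
      rw [h2, mul_inv_eq_iff_eq_mul] at h1
      exact h1.symm
    have hIB : Commute I B := by
      have h1 : Commute I (A * B) := (Commute.refl _).pow_left j
      have h2 : Commute I (A * (A * B)) := hIA.mul_right h1
      rwa [← mul_assoc, hA, one_mul] at h2
    obtain ⟨i, hi, e, he⟩ := exists_two_lift π ((q * x') ^ j) (k := 1)
      (by rw [map_pow, map_mul]; exact hI2)
    set g := ((q * x') ^ j) ^ i
    have hg : π g = I := by rw [hi, map_pow, map_mul]
    have hgM : (g : G) ∈ M := S.mem_of_comm_mem hU g.2 hqP hqU ((hπc g q).mp (hg ▸ hIA))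
    have hgP : (g : G) ∈ (P : Subgroup G) := S.two _ hgM ⟨e, congrArg Subtype.val he⟩
    exact hx'M (S.mem_of_comm_mem hU x'.2 hgP (fun h => hI1 (hg ▸ (hπ g).mpr h))
      ((hπc x' g).mp (hg ▸ hIB.symm)))
  set xN : N := ⟨x, hPN hxP⟩ with hxN
  have hA : π xN * π xN = 1 := by rw [← map_mul, hπ]; exact hx2
  -- uniqueness of the involution
  have huniq : ∀ q : N, (q : G) ∈ (P : Subgroup G) → (q : G) ∉ U → π q * π q = 1 →
      π q = π xN := by
    intro q hqP hqU hq2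
    obtain ⟨m, hm⟩ := hodd q hqP hqU hq2
    have hcc : (π q * π x') ^ m * π q * ((π q * π x') ^ m)⁻¹ = π x' := by
      have hqinv : (π q)⁻¹ = π q := inv_eq_of_mul_eq_one_right hq2
      have hBinv : (π x')⁻¹ = π x' := inv_eq_of_mul_eq_one_right hB
      have h1 : π q * ((π q * π x') ^ m)⁻¹ * (π q)⁻¹ = (π q * π x') ^ m := by
        rw [← inv_pow, ← conj_pow, mul_inv_rev, hBinv, hqinv]
        congr 1
        rw [show π q * (π x' * π q) * π q = π q * π x' * (π q * π q) by group, hq2, mul_one]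
      have h2 : π q * ((π q * π x') ^ m)⁻¹ = (π q * π x') ^ m * π q := mul_inv_eq_iff_eq_mul.mp h1
      have h3 : (π q * π x') ^ (2 * m + 1) = 1 := hm ▸ pow_orderOf_eq_one _
      rw [mul_assoc, h2, ← mul_assoc, ← pow_add, ← two_mul]
      rw [pow_succ] at h3
      rw [eq_inv_of_mul_eq_one_left h3, mul_inv_rev, hBinv, hqinv, mul_assoc, hq2, mul_one]
    set nN : N := ⟨n, hnN⟩
    set h : N := nN⁻¹ * (q * x') ^ m with hh
    have hhx : π (h * q * h⁻¹) = π xN := by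
      have hx'eq : x' = nN * xN * nN⁻¹ := Subtype.ext rfl
      rw [map_mul, map_mul, map_inv, hh, map_mul, map_pow, map_mul, mul_inv_rev,
        show ∀ a b c d : N ⧸ U.subgroupOf N, a * b * c * (b⁻¹ * d) = a * (b * c * b⁻¹) * d from
          fun a b c d => by group, hcc, hx'eq]
      simp only [map_mul, map_inv]
      group
    have hxmem : ((h * q * h⁻¹ : N) : G) ∈ (P : Subgroup G) := by
      have h1 : π ((h * q * h⁻¹) * xN⁻¹) = 1 := by rw [map_mul, map_inv, hhx, mul_inv_cancel]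
      have h2 := mul_mem (hU.le ((hπ _).mp h1)) hxP
      simpa [hxN] using h2
    have hhM : (h : G) ∈ M := S.mem_of_conj_mem hU h.2 hqP hqU (S.le (by simpa using hxmem))
    have hcomm : Commute (π h) (π q) := (hπc h q).mpr (hU.zle (S.comm_mem hhM hqP))
    rw [← hhx, map_mul, map_mul, map_inv, hcomm.eq, mul_inv_cancel_right]
  -- everything outside `U` is congruent to `x`
  have hall : ∀ q : N, (q : G) ∈ (P : Subgroup G) → (q : G) ∉ U → π q = π xN := by
    intro q hqP hqU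
    obtain ⟨j, hj, hj'⟩ := hfirst q hqP hqU
    rcases Nat.eq_zero_or_pos j with rfl | hjpos
    · refine huniq q hqP hqU ?_
      rw [← map_mul, hπ, coe_mul, ← pow_two]
      simpa using hj
    exfalso
    set y : N := q ^ 2 ^ (j - 1) with hy
    have hyy : y * y = q ^ 2 ^ j := by
      rw [hy, ← pow_add, ← two_mul, ← pow_succ', Nat.sub_add_cancel hjpos]
    have hyx : π (y * y) = π xN := by
      rw [hyy]
      refine huniq _ (pow_mem hqP _) (by simpa using hj') ?_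
      rw [← map_mul, hπ, ← pow_add, ← two_mul, ← pow_succ']
      simpa using hj
    set u₀ : N := (y * y)⁻¹ * xN with hu₀
    have hu₀U : (u₀ : G) ∈ U := (hπ _).mp (by rw [hu₀, map_mul, map_inv, hyx, inv_mul_cancel])
    have hyP : (y : G) ∈ (P : Subgroup G) := by rw [hy, coe_pow]; exact pow_mem hqP _
    -- `x` acts trivially on `U` modulo its Frattini subgroup
    have hUp : IsPGroup 2 U := P.2.to_le hU.le
    haveI := hUp.isNilpotent
    set F := (frattini U).map U.subtype with hF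
    have hsq : ∀ c ∈ U, c * c ∈ F := fun c hc =>
      ⟨⟨c, hc⟩ * ⟨c, hc⟩, Bicyclic.sq_mem_frattini hUp _, rfl⟩
    have hcm : ∀ c ∈ U, ∀ d ∈ U, ⁅c, d⁆ ∈ F := fun c hc d hd =>
      ⟨⁅(⟨c, hc⟩ : U), ⟨d, hd⟩⁆, Core.commutator_le_frattini (commutator_mem_commutator
        (mem_top _) (mem_top _)), rfl⟩
    have hxF : ∀ v ∈ U, ⁅x, v⁆ ∈ F := by
      intro v hv
      have hxe : x = (y : G) * (y : G) * (u₀ : G) := by
        simp [hu₀, hxN, mul_assoc]
      rw [hxe, S.comm_mul_left (mul_mem hyP hyP) (hU.le hu₀U) (hU.le hv),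
        S.comm_mul_left hyP hyP (hU.le hv)]
      exact mul_mem (hsq _ (hU.zle (S.comm_mem (S.le hyP) (hU.le hv)))) (hcm _ hu₀U _ hv)
    have hFn : ∀ k ∈ N, ∀ v ∈ F, k * v * k⁻¹ ∈ F := by
      rintro k hk _ ⟨v, hv, rfl⟩
      refine ⟨normalizerMonoidHom U ⟨k, hk⟩ v, ?_, rfl⟩
      have := characteristic_iff_map_eq.mp (frattini_characteristic (G := U))
        (normalizerMonoidHom U ⟨k, hk⟩)
      rw [← this]
      exact ⟨v, hv, rfl⟩
    have hx'F : ∀ v ∈ U, ⁅(x' : G), v⁆ ∈ F := by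
      intro v hv
      have hv' : n⁻¹ * v * n ∈ U := (mem_normalizer_iff.mp hnN _).mpr (by
        rw [show n * (n⁻¹ * v * n) * n⁻¹ = v by group]; exact hv)
      have := hFn n hnN _ (hxF _ hv')
      rwa [show n * ⁅x, n⁻¹ * v * n⁆ * n⁻¹ = ⁅n * x * n⁻¹, v⁆ by
        simp only [commutatorElement_def]; group] at this
    have hclosed : ∀ a b : N, (∀ v ∈ U, ⁅(a : G), v⁆ ∈ F) → (∀ v ∈ U, ⁅(b : G), v⁆ ∈ F) →
        ∀ v ∈ U, ⁅((a * b : N) : G), v⁆ ∈ F := fun a b hafix hbfix v hv => by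
      rw [coe_mul, show ⁅(a : G) * b, v⁆ = a * ⁅(b : G), v⁆ * (a : G)⁻¹ * ⁅(a : G), v⁆ by
        simp only [commutatorElement_def]; group]
      exact mul_mem (hFn _ a.2 _ (hbfix v hv)) (hafix v hv)
    have hpow : ∀ k : ℕ, ∀ v ∈ U, ⁅(((xN * x') ^ k : N) : G), v⁆ ∈ F := by
      intro k
      induction k with
      | zero => intro v _; rw [pow_zero, coe_one, commutatorElement_one_left]; exact one_mem _
      | succ k ih =>
        intro v hv
        rw [pow_succ]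
        exact hclosed _ _ ih (hclosed _ _ hxF hx'F) v hv
    obtain ⟨e, o, ho, he⟩ := Nat.exists_eq_pow_mul_and_not_dvd
      (orderOf_pos (xN * x')).ne' 2 (by norm_num)
    set g := (xN * x') ^ 2 ^ e with hg
    have hgo : Odd (orderOf g) := by
      rw [hg, orderOf_pow' _ (by positivity), he, Nat.gcd_mul_right_left,
        Nat.mul_div_cancel_left _ (by positivity)]
      exact Nat.odd_iff.mpr (Nat.two_dvd_ne_zero.mp ho)
    have hfg : normalizerMonoidHom U g = 1 := by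
      refine Bicyclic.eq_one_of_trivial hUp (Odd.of_dvd_nat hgo (orderOf_map_dvd _ _)) fun v => ?_
      obtain ⟨c, hc, hcv⟩ := hpow (2 ^ e) v v.2
      have h' : v⁻¹ * normalizerMonoidHom U g v = v⁻¹ * c * v := by
        refine Subtype.ext ?_
        show (v : G)⁻¹ * ((g : G) * v * (g : G)⁻¹) = (v : G)⁻¹ * (c : G) * v
        rw [show ((c : U) : G) = ⁅(g : G), (v : G)⁆ from hcv]
        simp only [commutatorElement_def]
        group
      rw [h']
      exact (inferInstance : (frattini U).Normal).conj_mem' c hc v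
    rw [← MonoidHom.mem_ker, normalizerMonoidHom_ker, mem_subgroupOf] at hfg
    have hgM := S.mem_of_centralizes hU hfg
    have hcomm : Commute (π g) (π xN) := (hπc g xN).mpr (hU.zle (S.comm_mem hgM hxP))
    have hinv : π xN * π g * (π xN)⁻¹ = (π g)⁻¹ := by
      rw [hg, map_pow, map_mul, ← inv_pow, ← conj_pow, mul_inv_rev,
        inv_eq_of_mul_eq_one_right hA, inv_eq_of_mul_eq_one_right hB]
      simp only [← mul_assoc]
      rw [hA, one_mul]
    rw [← hcomm.eq, mul_inv_cancel_right] at hinv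
    have hg1 : π g = 1 := by
      refine orderOf_eq_one_iff.mp (Nat.eq_one_of_dvd_coprimes
        (Nat.coprime_two_right.mpr hgo) (orderOf_map_dvd π g) ?_)
      exact orderOf_dvd_of_pow_eq_one (by rw [pow_two]; exact mul_eq_one_iff_eq_inv.mpr hinv)
    have h1 : π xN * π x' = 1 := by
      refine orderOf_eq_one_iff.mp (Nat.eq_one_of_dvd_coprimes
        ((Nat.coprime_two_right.mpr (hodd xN hxP hj₀' hA)).pow_right e) dvd_rfl ?_)
      exact orderOf_dvd_of_pow_eq_one (by rw [← map_mul, ← map_pow]; exact hg1)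
    rw [← map_mul, hπ] at h1
    refine hx'M (S.le ?_)
    have := mul_mem (inv_mem hxP) (hU.le h1)
    simpa [hxN] using this
  intro a ha b hb haU hbU
  have h := hA
  nth_rw 1 [← hall ⟨a, hPN ha⟩ ha haU] at h
  rw [← hall ⟨b, hPN hb⟩ hb hbU, ← map_mul, hπ] at h
  exact h

theorem Setup.centralizes (S : Setup P M Φ) {V : Subgroup G} (hV : Ess P M V) {x r : G}
    (hxP : x ∈ (P : Subgroup G)) (hxV : x ∈ centralizer (V : Set G)) (hrP : r ∈ (P : Subgroup G))
    (hrV : r ∉ V) (hxr : r * x = x * r) : x ∈ cen P := by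
  refine ⟨hxP, mem_centralizer_iff.mpr fun p hp => ?_⟩
  by_cases hpV : p ∈ V
  · exact mem_centralizer_iff.mp hxV p hpV
  · have hm : r⁻¹ * p ∈ V := S.mul_mem_of_notMem hV _ (inv_mem hrP) _ hp
      (fun h => hrV (by simpa using inv_mem h)) hpV
    have h1 : Commute x r := hxr.symm
    have h2 : Commute x (r⁻¹ * p) := (mem_centralizer_iff.mp hxV _ hm).symm
    have h3 := h1.mul_right h2
    rw [mul_inv_cancel_left] at h3
    exact h3.symm

theorem Setup.mp_notMem (S : Setup P M Φ) {β : MulAut G} (hβ : β ∈ Φ) (hU : Ess P M U)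
    {r x : G} (hr : r ∈ U ⊓ centralizer (U : Set G)) (hrV : r ∉ mp β U)
    (hx : x ∈ U ⊓ centralizer (U : Set G)) (hxZ : x ∉ cen P) :
    β x ∈ mp β U ⊓ centralizer (mp β U : Set G) ∧ β x ∉ U := by
  have h : β x ∈ mp β U ⊓ centralizer (mp β U : Set G) := by
    have := mem_map_of_mem β.toMonoidHom hx
    rwa [Subgroup.map_inf _ _ _ β.injective, FTCons.map_centralizer'] at this
  refine ⟨h, fun hxU => hxZ ?_⟩
  have hz := S.centralizes (hU.map S hβ) (hU.le hxU) h.2 (hU.le hr.1) hrV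
    (mem_centralizer_iff.mp hr.2 _ hxU).symm
  rw [← S.map_cen hβ, mem_mp, MulAut.inv_apply_self] at hz
  exact hz

theorem mem_derived_conj {n c : G} (hn : n ∈ normalizer (U : Set G)) (hc : c ∈ ⁅U, U⁆) :
    n * c * n⁻¹ ∈ ⁅U, U⁆ := by
  have hle : ⁅U, U⁆ ≤ (⁅U, U⁆).comap (MulAut.conj n).toMonoidHom := by
    rw [commutator_le]
    intro a ha b hb
    show MulAut.conj n ⁅a, b⁆ ∈ ⁅U, U⁆
    rw [MulAut.conj_apply, show n * ⁅a, b⁆ * n⁻¹ = ⁅n * a * n⁻¹, n * b * n⁻¹⁆ by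
      simp only [commutatorElement_def]; group]
    exact commutator_mem_commutator ((mem_normalizer_iff.mp hn a).mp ha)
      ((mem_normalizer_iff.mp hn b).mp hb)
  exact hle hc

/-- The data attached to a maximal subgroup with normaliser outside `M`. -/
theorem Setup.exists_partner (S : Setup P M Φ) (hU : Ess P M U) :
    ∃ α ∈ Φ, ∃ z n : G, n ∈ normalizer (U : Set G) ∧ z * z = 1 ∧ z ≠ 1 ∧ z ∉ ⁅U, U⁆ ∧
      n * z * n⁻¹ ∈ U ⊓ centralizer (U : Set G) ∧ n * z * n⁻¹ ∉ mp α U ∧ n * z * n⁻¹ ∉ cen P ∧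
      ∀ p ∈ (P : Subgroup G), p ∉ U → ⁅p, n * z * n⁻¹⁆ = z := by
  obtain ⟨n, hnN, hnM⟩ := SetLike.not_le_iff_exists.mp hU.notM
  have hidx := S.mul_mem_of_notMem hU
  have hZU : cen P ≤ U ⊓ centralizer (U : Set G) :=
    le_inf hU.zle (inf_le_right.trans (centralizer_le hU.le))
  obtain ⟨α, hα, p, hp, v, hv, hout⟩ : ∃ α ∈ Φ, ∃ p ∈ (P : Subgroup G), ∃ v ∈ U,
      α (n * ⁅p, v⁆ * n⁻¹) ∉ U := by
    by_contra hcon
    push Not at hcon
    let W : Subgroup G :=
      { carrier := {g | ∀ α ∈ Φ, α g ∈ U}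
        one_mem' := fun α _ => by simp only [map_one]; exact one_mem _
        mul_mem' := fun hg hh α hα => by simp only [map_mul]; exact mul_mem (hg α hα) (hh α hα)
        inv_mem' := fun hg α hα => by simp only [map_inv]; exact inv_mem (hg α hα) }
    have hWU : W ≤ U := fun g hg => by simpa using hg 1 (one_mem _)
    have hZW : cen P ≤ W := fun g hg α hα => hU.zle (S.map_cen hα ▸ mem_map_of_mem α.toMonoidHom hg)
    have hWmap : ∀ β ∈ Φ, mp β W = W := fun β hβ =>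
      FTCons.map_eq_of_mem β fun g hg α hα => by
        have := hg (α * β) (mul_mem hα hβ)
        rwa [MulAut.mul_apply] at this
    have hNW := S.norm W (fun e => S.cen_ne_bot (le_bot_iff.mp (e ▸ hZW)))
      (hWU.trans hU.le) (S.le_normalizer hZW (hWU.trans hU.le)) hWmap
    refine hnM ?_
    rw [← S.normalizer_sylow]
    refine mem_normalizer_of_conj fun q hq => ?_
    obtain ⟨k, hk⟩ := P.2 ⟨q, hq⟩
    have hk' : q ^ 2 ^ k = 1 := congrArg Subtype.val hk
    refine S.two _ ?_ ⟨k, by rw [conj_pow, hk']; group⟩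
    rw [← hNW]
    refine mem_normalizer_of_conj fun w hw => ?_
    have hw' : n⁻¹ * w * n ∈ U := (mem_normalizer_iff.mp hnN _).mpr (by
      rw [show n * (n⁻¹ * w * n) * n⁻¹ = w by group]; exact hWU hw)
    rw [show n * q * n⁻¹ * w * (n * q * n⁻¹)⁻¹ = n * ⁅q, n⁻¹ * w * n⁆ * n⁻¹ * w by
      simp only [commutatorElement_def]; group]
    exact mul_mem (fun γ hγ => hcon γ hγ q hq _ hw') hw
  set r₀ := n * ⁅p, v⁆ * n⁻¹ with hr₀
  have hconjZU : ∀ c ∈ U ⊓ centralizer (U : Set G), n * c * n⁻¹ ∈ U ⊓ centralizer (U : Set G) := by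
    rintro c ⟨hc1, hc2⟩
    refine ⟨(mem_normalizer_iff.mp hnN c).mp hc1, mem_centralizer_iff.mpr fun y hy => ?_⟩
    have hy' : n⁻¹ * y * n ∈ U := (mem_normalizer_iff.mp hnN _).mpr (by
      rw [show n * (n⁻¹ * y * n) * n⁻¹ = y by group]; exact hy)
    have := mem_centralizer_iff.mp hc2 _ hy'
    calc y * (n * c * n⁻¹) = n * ((n⁻¹ * y * n) * c) * n⁻¹ := by group
      _ = n * (c * (n⁻¹ * y * n)) * n⁻¹ := by rw [this]
      _ = n * c * n⁻¹ * y := by group
  have hr₀ZU : r₀ ∈ U ⊓ centralizer (U : Set G) :=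
    hconjZU _ (hZU (S.comm_mem (S.le hp) (hU.le hv)))
  have hαi : α⁻¹ ∈ Φ := inv_mem hα
  have hr₀V : r₀ ∉ mp α⁻¹ U := fun h => hout (by rwa [mem_mp, inv_inv] at h)
  have hV := hU.map S hαi
  have hr₀Z : r₀ ∉ cen P := fun h => hr₀V (hV.zle h)
  obtain ⟨hs, hsU⟩ := S.mp_notMem hαi hU hr₀ZU hr₀V hr₀ZU hr₀Z
  set s := α⁻¹ r₀ with hs'
  have hsP : s ∈ (P : Subgroup G) := hV.le hs.1
  set z := ⁅s, r₀⁆ with hz
  have hz1 : z ≠ 1 := fun h => hr₀Z (S.centralizes hU (hU.le hr₀ZU.1) hr₀ZU.2 hsP hsU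
    (commutatorElement_eq_one_iff_mul_comm.mp h))
  have hz2 : z * z = 1 := by
    rw [hz, ← S.comm_mul_left hsP hsP (hU.le hr₀ZU.1), commutatorElement_eq_one_iff_mul_comm]
    exact mem_centralizer_iff.mp hr₀ZU.2 _ (hidx s hsP s hsP hsU hsU)
  have hval : ∀ y ∈ U, y ∈ mp α⁻¹ U ∧ ⁅s, y⁆ = 1 ∨ y ∉ mp α⁻¹ U ∧ ⁅s, y⁆ = z := by
    intro y hy
    by_cases hyV : y ∈ mp α⁻¹ U
    · exact Or.inl ⟨hyV, commutatorElement_eq_one_iff_mul_comm.mpr
        (mem_centralizer_iff.mp hs.2 y hyV).symm⟩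
    · refine Or.inr ⟨hyV, ?_⟩
      have hm : r₀⁻¹ * y ∈ mp α⁻¹ U := S.mul_mem_of_notMem hV _ (inv_mem (hU.le hr₀ZU.1)) _
        (hU.le hy) (fun h => hr₀V (by simpa using inv_mem h)) hyV
      have h1 : ⁅s, r₀⁻¹ * y⁆ = 1 := commutatorElement_eq_one_iff_mul_comm.mpr
        (mem_centralizer_iff.mp hs.2 _ hm).symm
      have h2 := S.comm_mul_right hsP (hU.le hr₀ZU.1) (hV.le hm)
      rwa [mul_inv_cancel_left, h1, mul_one] at h2
  have hder : ⁅U, U⁆ ≤ cen P := commutator_le.mpr fun a ha b hb =>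
    S.comm_mem (S.le (hU.le ha)) (hU.le hb)
  -- every commutator is trivial or `z` modulo the derived subgroup
  have hpv : ⁅p, v⁆ ∈ ⁅U, U⁆ ∨ z⁻¹ * ⁅p, v⁆ ∈ ⁅U, U⁆ := by
    by_cases hpU : p ∈ U
    · exact Or.inl (commutator_mem_commutator hpU hv)
    · have hm : s⁻¹ * p ∈ U := hidx _ (inv_mem hsP) _ hp (fun h => hsU (by simpa using inv_mem h)) hpU
      have h2 := S.comm_mul_left hsP (hU.le hm) (hU.le hv)
      rw [mul_inv_cancel_left] at h2
      rcases hval v hv with ⟨-, h⟩ | ⟨-, h⟩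
      · rw [h2, h, one_mul]; exact Or.inl (commutator_mem_commutator hm hv)
      · rw [h2, h, inv_mul_cancel_left]; exact Or.inr (commutator_mem_commutator hm hv)
  have hzv : z⁻¹ * ⁅p, v⁆ ∈ ⁅U, U⁆ := hpv.resolve_left fun h =>
    hr₀V (hV.zle (hder (mem_derived_conj hnN h)))
  have hzU : z ∉ ⁅U, U⁆ := fun h => by
    have h1 := mul_mem h hzv
    rw [mul_inv_cancel_left] at h1
    exact hr₀V (hV.zle (hder (mem_derived_conj hnN h1)))
  have hrV : n * z * n⁻¹ ∉ mp α⁻¹ U := fun h => hr₀V (by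
    have h1 := mul_mem h (hV.zle (hder (mem_derived_conj hnN hzv)))
    rwa [show n * z * n⁻¹ * (n * (z⁻¹ * ⁅p, v⁆) * n⁻¹) = r₀ by rw [hr₀]; group] at h1)
  have hrZU : n * z * n⁻¹ ∈ U ⊓ centralizer (U : Set G) :=
    hconjZU _ (hZU (S.comm_mem (S.le hsP) (hU.le hr₀ZU.1)))
  refine ⟨α⁻¹, hαi, z, n, hnN, hz2, hz1, hzU, hrZU, hrV, fun h => hrV (hV.zle h),
    fun q hq hqU => ?_⟩
  have hm : s⁻¹ * q ∈ U := hidx _ (inv_mem hsP) _ hq (fun h => hsU (by simpa using inv_mem h)) hqU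
  have h2 := S.comm_mul_left hsP (hU.le hm) (hU.le hrZU.1)
  rw [mul_inv_cancel_left] at h2
  rw [h2, commutatorElement_eq_one_iff_mul_comm.mpr (mem_centralizer_iff.mp hrZU.2 _ hm), mul_one]
  exact ((hval _ hrZU.1).resolve_left fun h => hrV h.1).2

/-- There is at most one partner. -/
theorem Setup.partner_unique (S : Setup P M Φ) (hU : Ess P M U) {β γ : MulAut G} (hβ : β ∈ Φ)
    (hγ : γ ∈ Φ) {z n : G} (hnN : n ∈ normalizer (U : Set G)) (hz2 : z * z = 1) (hz1 : z ≠ 1)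
    (hzU : z ∉ ⁅U, U⁆) (hrZU : n * z * n⁻¹ ∈ U ⊓ centralizer (U : Set G))
    (hrZ : n * z * n⁻¹ ∉ cen P) (hr : ∀ p ∈ (P : Subgroup G), p ∉ U → ⁅p, n * z * n⁻¹⁆ = z)
    {r₁ r₂ : G} (hr₁ : r₁ ∈ U ⊓ centralizer (U : Set G)) (hr₁V : r₁ ∉ mp β U)
    (hr₂ : r₂ ∈ U ⊓ centralizer (U : Set G)) (hr₂V : r₂ ∉ mp γ U) : mp β U = mp γ U := by
  set r := n * z * n⁻¹ with hrdef
  have hidx := S.mul_mem_of_notMem hU
  have hrr : r * r = 1 := by
    rw [hrdef, show n * z * n⁻¹ * (n * z * n⁻¹) = n * (z * z) * n⁻¹ by group, hz2]; group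
  have key : ∀ (δ : MulAut G), δ ∈ Φ → ∀ r₃ ∈ U ⊓ centralizer (U : Set G), r₃ ∉ mp δ U →
      ∃ s : G, s ∈ mp δ U ∧ s ∉ U ∧ s * s = 1 ∧ s ∈ centralizer (mp δ U : Set G) ∧
        ∀ y ∈ U, (y ∈ mp δ U → ⁅s, y⁆ = 1) ∧ (y ∉ mp δ U → ⁅s, y⁆ = z) := by
    intro δ hδ r₃ h3 h3V
    obtain ⟨hs, hsU⟩ := S.mp_notMem hδ hU h3 h3V hrZU hrZ
    have hV := hU.map S hδ
    have hsP : δ r ∈ (P : Subgroup G) := hV.le hs.1
    have hrV : r ∉ mp δ U := fun h => hrZ (S.centralizes hU (hU.le hrZU.1) hrZU.2 hsP hsU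
      (mem_centralizer_iff.mp hs.2 r h).symm)
    refine ⟨δ r, hs.1, hsU, by rw [← map_mul, hrr, map_one], hs.2, fun y hy => ⟨fun hyV =>
      commutatorElement_eq_one_iff_mul_comm.mpr (mem_centralizer_iff.mp hs.2 y hyV).symm,
      fun hyV => ?_⟩⟩
    have hm : r⁻¹ * y ∈ mp δ U := S.mul_mem_of_notMem hV _ (inv_mem (hU.le hrZU.1)) _
      (hU.le hy) (fun h => hrV (by simpa using inv_mem h)) hyV
    have h1 : ⁅δ r, r⁻¹ * y⁆ = 1 := commutatorElement_eq_one_iff_mul_comm.mpr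
      (mem_centralizer_iff.mp hs.2 _ hm).symm
    have h2 := S.comm_mul_right hsP (hU.le hrZU.1) (hV.le hm)
    rwa [mul_inv_cancel_left, h1, mul_one, hr _ hsP hsU] at h2
  obtain ⟨s, hsV, hsU, hs2, -, hsval⟩ := key β hβ r₁ hr₁ hr₁V
  obtain ⟨t, htW, htU, ht2, -, htval⟩ := key γ hγ r₂ hr₂ hr₂V
  have hsP : s ∈ (P : Subgroup G) := (hU.map S hβ).le hsV
  have htP : t ∈ (P : Subgroup G) := (hU.map S hγ).le htW
  have hst : s * t ∈ U := hidx s hsP t htP hsU htU
  have hcl : ∀ y ∈ U, ⁅s, y⁆ * ⁅t, y⁆ ∈ ⁅U, U⁆ := fun y hy => by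
    rw [← S.comm_mul_left hsP htP (hU.le hy)]
    exact commutator_mem_commutator hst hy
  have hiff : ∀ y ∈ U, (y ∈ mp β U ↔ y ∈ mp γ U) := fun y hy => by
    constructor
    · intro h; by_contra h'
      exact hzU (by simpa [(hsval y hy).1 h, (htval y hy).2 h'] using hcl y hy)
    · intro h; by_contra h'
      exact hzU (by simpa [(hsval y hy).2 h', (htval y hy).1 h] using hcl y hy)
  by_cases htV : t ∈ mp β U
  · have hle : mp γ U ≤ mp β U := by
      intro g hg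
      by_cases hgU : g ∈ U
      · exact (hiff g hgU).mpr hg
      · have hgt : g * t ∈ U := hidx g ((hU.map S hγ).le hg) t htP hgU htU
        have := mul_mem ((hiff _ hgt).mpr (mul_mem hg htW)) (inv_mem htV)
        simpa using this
    exact (eq_of_le_of_card_ge hle (by
      rw [mp, card_map_of_injective β.injective, mp, card_map_of_injective γ.injective])).symm
  exfalso
  have hstV : s * t ∉ mp β U := fun h => htV (by
    have := mul_mem (inv_mem hsV) h
    simpa using this)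
  have hsinv : s⁻¹ = s := inv_eq_of_mul_eq_one_right hs2
  have htinv : t⁻¹ = t := inv_eq_of_mul_eq_one_right ht2
  have hstz : ⁅s, t⁆ = z := by
    have h2 := S.comm_mul_right hsP hsP (hU.le hst)
    rw [← mul_assoc, hs2, one_mul, commutatorElement_self, one_mul, (hsval _ hst).2 hstV] at h2
    exact h2
  have hstc : s * t ∈ centralizer (U : Set G) := mem_centralizer_iff.mpr fun y hy => by
    refine (commutatorElement_eq_one_iff_mul_comm.mp ?_).symm
    rw [S.comm_mul_left hsP htP (hU.le hy)]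
    by_cases h : y ∈ mp β U
    · rw [(hsval y hy).1 h, (htval y hy).1 ((hiff y hy).mp h), one_mul]
    · rw [(hsval y hy).2 h, (htval y hy).2 (fun h' => h ((hiff y hy).mpr h')), hz2]
  set u := n * (s * t) * n⁻¹ with hu
  have huU : u ∈ U := (mem_normalizer_iff.mp hnN _).mp hst
  have huu : u * u = r := by
    rw [hu, hrdef, ← hstz, commutatorElement_def, hsinv, htinv]
    group
  have hsu : ⁅s, r⁆ = ⁅s, u⁆ * ⁅s, u⁆ := by
    rw [← huu, S.comm_mul_right hsP (hU.le huU) (hU.le huU)]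
  rw [hr s hsP hsU] at hsu
  by_cases h : u ∈ mp β U
  · rw [(hsval u huU).1 h, one_mul] at hsu; exact hz1 hsu
  · rw [(hsval u huU).2 h, hz2] at hsu; exact hz1 hsu

theorem Setup.not_ess (S : Setup P M Φ) : ¬ Ess P M U := by
  intro hU
  obtain ⟨α, hα, z, n, hnN, hz2, hz1, hzU, hrZU, hrV, hrZ, hr⟩ := S.exists_partner hU
  obtain ⟨hs, hsU⟩ := S.mp_notMem hα hU hrZU hrV hrZU hrZ
  have hαi : α⁻¹ ∈ Φ := inv_mem hα
  have h := S.partner_unique hU hα hαi hnN hz2 hz1 hzU hrZU hrZ hr hrZU hrV hrZU (r₂ := n * z * n⁻¹)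
    (fun h => hsU (by rwa [mem_mp, inv_inv] at h))
  have h2 : mp (α ^ 2) U = U := by
    rw [pow_two, mp_mul, h, ← mp_mul, mul_inv_cancel, mp_one]
  have hk : ∀ m : ℕ, mp ((α ^ 2) ^ m) U = U := by
    intro m
    induction m with
    | zero => rw [pow_zero, mp_one]
    | succ m ih => rw [pow_succ, mp_mul, h2, ih]
  obtain ⟨m, hm⟩ := S.odd α hα
  have h3 := hk (m + 1)
  rw [← pow_mul, show 2 * (m + 1) = orderOf α + 1 by omega, pow_succ, pow_orderOf_eq_one,
    one_mul] at h3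
  exact hrV (by rw [h3]; exact hrZU.1)

/-- The criterion. -/
theorem Setup.hasNormalPComplement (S : Setup P M Φ) : HasNormalPComplement 2 G := by
  haveI := S.nil
  refine hasNormalPComplement_of_above_center P fun U hZU hUP => ?_
  by_cases hN : normalizer (U : Set G) ≤ M
  · exact hasNormalPComplement_of_isNilpotent (Core.isNilpotent_mono S.nil hN)
  · obtain ⟨T, hUT, ⟨hT1, hT2, hT3⟩, hTmax⟩ := Finite.exists_le_maximal
      (p := fun T : Subgroup G => cen P ≤ T ∧ T ≤ (P : Subgroup G) ∧ ¬ normalizer (T : Set G) ≤ M)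
      ⟨hZU, hUP, hN⟩
    refine (S.not_ess (U := T) ⟨hT1, hT2, hT3, fun T' hT' hT'P => ?_⟩).elim
    by_contra h
    exact hT'.not_ge (hTmax ⟨hT1.trans hT'.le, hT'P, h⟩ hT'.le)

end Cfsg.Agent.Fusion.ClassTwoOrbit
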