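import Cfsg.Agent.Fusion.PGroup
import Cfsg.Agent.QdFree.S4Plane
import Cfsg.Agent.Invol.BaerSuzuki
import Cfsg.Agent.Layer.PConstraint
import Cfsg.Agent.Core.Frattini
import Cfsg.Agent.LocalStructure.OmegaAction

/-!
# Cyclic subgroups normalised by a self-centralising p-core

`mem_pCore_of_zpowers_normalized` : in a group with `C(O_p) ≤ O_p`, a `p`-element `a` with
`a ^ p ∈ O_p` whose cyclic group is normalised by `O_p` lies in `O_p`, if `p` is odd or the group
is `S₄`-free.
-/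

set_option autoImplicit false

namespace Cfsg.Agent.Fusion

open Subgroup
open scoped commutatorElement

variable {G : Type*} [Group G]

/-- The iterates of a transvection. -/
theorem conj_pow_of_transvection {m v w : G} (hmw : m * w = w * m) (h : m * v * m⁻¹ = v * w) (n : ℕ) :
    m ^ n * v * (m ^ n)⁻¹ = v * w ^ n := by
  induction n with
  | zero => simp
  | succ n ih =>
    calc m ^ (n + 1) * v * (m ^ (n + 1))⁻¹ = m * (m ^ n * v * (m ^ n)⁻¹) * m⁻¹ := by
          rw [pow_succ']; group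
      _ = (m * v * m⁻¹) * (m * w ^ n * m⁻¹) := by rw [ih]; group
      _ = v * w * w ^ n := by
          rw [h, show m * w ^ n * m⁻¹ = w ^ n by
            rw [(show Commute m (w ^ n) from (Commute.pow_right hmw n)).eq, mul_inv_cancel_right]]
      _ = v * w ^ (n + 1) := by rw [pow_succ', mul_assoc]

/-- A transvection of order prime to `p` is trivial. -/
theorem eq_one_of_transvection_coprime {p : ℕ} {m v w : G} (hm : (orderOf m).Coprime p)
    (hw : w ^ p = 1) (hmw : m * w = w * m) (h : m * v * m⁻¹ = v * w) : w = 1 := by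
  have h1 := conj_pow_of_transvection hmw h (orderOf m)
  rw [pow_orderOf_eq_one, one_mul, inv_one, mul_one, left_eq_mul] at h1
  have h2 : orderOf w ∣ Nat.gcd (orderOf m) p :=
    Nat.dvd_gcd (orderOf_dvd_of_pow_eq_one h1) (orderOf_dvd_of_pow_eq_one hw)
  rwa [hm.gcd_eq_one, Nat.dvd_one, orderOf_eq_one_iff] at h2

variable [Finite G] {p : ℕ} [hp : Fact p.Prime]

theorem exists_pow_eq_self_or_pow {w x : G} (hw : orderOf w = p) (hx : x ∈ zpowers w) (hx1 : x ≠ 1) :
    w ∈ zpowers x := by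
  have hle : zpowers x ≤ zpowers w := zpowers_le.mpr hx
  have hcard : Nat.card (zpowers w) = p := (Nat.card_zpowers w).trans hw
  have h1 : Nat.card (zpowers x) ≠ 1 := fun h => hx1 (zpowers_eq_bot.mp (card_eq_one.mp h))
  have h2 := card_dvd_of_le hle
  rw [hcard, Nat.dvd_prime hp.out] at h2
  have he : zpowers x = zpowers w :=
    eq_of_le_of_card_ge hle (by rw [hcard, h2.resolve_left h1])
  exact he ▸ mem_zpowers w

/-- Two transvections of which one fixes the centre of the other generate a `p`-group. -/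
theorem isPGroup_closure_pair {V : Subgroup G} (hcomm : ∀ x ∈ V, ∀ y ∈ V, x * y = y * x)
    (hexp : ∀ x ∈ V, x ^ p = 1) (hC : ∀ x, (∀ v ∈ V, x * v = v * x) → x ∈ V) {a b z y : G}
    (hzV : z ∈ V) (hyV : y ∈ V)
    (haz : a * z = z * a) (hby : b * y = y * b) (hay : a * y = y * a)
    (ha : ∀ v ∈ V, ∃ k : ℤ, a * v * a⁻¹ = v * z ^ k)
    (hb : ∀ v ∈ V, ∃ k : ℤ, b * v * b⁻¹ = v * y ^ k) :
    IsPGroup p (closure {a, b}) := by
  let P : G → Prop := fun m => m * y = y * m ∧ (∃ k : ℤ, m * z * m⁻¹ = z * y ^ k) ∧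
    ∀ v ∈ V, ∃ i j : ℤ, m * v * m⁻¹ = v * z ^ i * y ^ j
  have hconjy : ∀ {m : G}, m * y = y * m → ∀ k : ℤ, m * y ^ k * m⁻¹ = y ^ k := fun hm k => by
    rw [(show Commute _ (y ^ k) from Commute.zpow_right hm k).eq, mul_inv_cancel_right]
  have hzy : ∀ i j : ℤ, z ^ i * y ^ j = y ^ j * z ^ i := fun i j =>
    hcomm _ (V.zpow_mem hzV i) _ (V.zpow_mem hyV j)
  have hone : P 1 := ⟨by simp, ⟨0, by simp⟩, fun v _ => ⟨0, 0, by simp⟩⟩
  have hmul : ∀ m n, P m → P n → P (m * n) := by
    rintro m n ⟨hm1, ⟨k, hm2⟩, hm3⟩ ⟨hn1, ⟨l, hn2⟩, hn3⟩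
    refine ⟨by rw [mul_assoc, hn1, ← mul_assoc, hm1, mul_assoc], ⟨k + l, ?_⟩, fun v hv => ?_⟩
    · calc m * n * z * (m * n)⁻¹ = m * (n * z * n⁻¹) * m⁻¹ := by group
        _ = (m * z * m⁻¹) * (m * y ^ l * m⁻¹) := by rw [hn2]; group
        _ = z * y ^ (k + l) := by rw [hm2, hconjy hm1, mul_assoc, ← _root_.zpow_add]
    · obtain ⟨i, j, hij⟩ := hn3 v hv
      obtain ⟨i', j', hij'⟩ := hm3 v hv
      refine ⟨i' + i, j' + (k * i + j), ?_⟩
      have e1 : m * z ^ i * m⁻¹ = z ^ i * y ^ (k * i) := by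
        rw [← conj_zpow, hm2, (show Commute z (y ^ k) from hcomm _ hzV _ (V.zpow_mem hyV k)).mul_zpow,
          ← _root_.zpow_mul]
      calc m * n * v * (m * n)⁻¹ = m * (n * v * n⁻¹) * m⁻¹ := by group
        _ = (m * v * m⁻¹) * (m * z ^ i * m⁻¹) * (m * y ^ j * m⁻¹) := by rw [hij]; group
        _ = v * z ^ i' * (y ^ j' * z ^ i) * (y ^ (k * i) * y ^ j) := by
            rw [hij', e1, hconjy hm1]; group
        _ = v * z ^ (i' + i) * y ^ (j' + (k * i + j)) := by
            rw [← hzy, ← _root_.zpow_add, _root_.zpow_add z, _root_.zpow_add y j']; group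
  have hpow : ∀ m, P m → ∀ n : ℕ, P (m ^ n) := by
    intro m hm n
    induction n with
    | zero => rw [pow_zero]; exact hone
    | succ n ih => rw [pow_succ]; exact hmul _ _ ih hm
  have hall : ∀ m ∈ closure ({a, b} : Set G), P m := by
    intro m hm
    induction hm using closure_induction with
    | mem x hx =>
      rcases hx with rfl | hx
      · refine ⟨hay, ⟨0, ?_⟩, fun v hv => ?_⟩
        · rw [zpow_zero, mul_one, haz, mul_inv_cancel_right]
        · obtain ⟨k, hk⟩ := ha v hv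
          exact ⟨k, 0, by rw [zpow_zero, mul_one, hk]⟩
      · rw [Set.mem_singleton_iff] at hx
        subst hx
        refine ⟨hby, hb z hzV, fun v hv => ?_⟩
        obtain ⟨k, hk⟩ := hb v hv
        exact ⟨0, k, by rw [zpow_zero, mul_one, hk]⟩
    | one => exact hone
    | mul x y _ _ hx hy => exact hmul x y hx hy
    | inv x _ hx =>
      obtain ⟨n, hn⟩ := mem_powers_iff_mem_zpowers.mpr (inv_mem (mem_zpowers x))
      have hn' : x ^ n = x⁻¹ := hn
      exact hn' ▸ hpow x hx n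
  by_contra hnp
  obtain ⟨m, hm, hm1, hmc⟩ := Layer.exists_coprime_orderOf hnp
  obtain ⟨hm1', ⟨k, hm2⟩, hm3⟩ := hall m hm
  have hyk : y ^ k = 1 := eq_one_of_transvection_coprime hmc (hexp _ (V.zpow_mem hyV k))
    (Commute.zpow_right hm1' k) hm2
  have hmz : m * z = z * m := by
    rw [hyk, mul_one, mul_inv_eq_iff_eq_mul] at hm2
    exact hm2
  have hmV : m ∈ V := hC m fun v hv => by
    obtain ⟨i, j, hij⟩ := hm3 v hv
    have hw : z ^ i * y ^ j = 1 := eq_one_of_transvection_coprime hmc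
      (hexp _ (V.mul_mem (V.zpow_mem hzV i) (V.zpow_mem hyV j)))
      ((Commute.zpow_right hmz i).mul_right (Commute.zpow_right hm1' j))
      (by rw [hij, mul_assoc])
    rw [mul_assoc v, hw, mul_one, mul_inv_eq_iff_eq_mul] at hij
    exact hij
  have h2 : orderOf m ∣ Nat.gcd (orderOf m) p :=
    Nat.dvd_gcd dvd_rfl (orderOf_dvd_of_pow_eq_one (hexp m hmV))
  rw [hmc.gcd_eq_one, Nat.dvd_one, orderOf_eq_one_iff] at h2
  exact hm1 h2

theorem mem_of_elementary (V : Subgroup G) [V.Normal] (hcomm : ∀ x ∈ V, ∀ y ∈ V, x * y = y * x)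
    (hexp : ∀ x ∈ V, x ^ p = 1) (hC : ∀ x, (∀ v ∈ V, x * v = v * x) → x ∈ V)
    (hmax : ∀ N : Subgroup G, N.Normal → IsPGroup p N → N ≤ V)
    (hS4 : p ≠ 2 ∨ ¬ Cfsg.Involves (Equiv.Perm (Fin 4)) G) {a : G} (ha : IsPGroup p (zpowers a))
    (hap : a ^ p ∈ V) (hVA : ∀ v ∈ V, v * a * v⁻¹ ∈ zpowers a) : a ∈ V := by
  by_contra hav
  set z := a ^ p with hz
  have haz : a * z = z * a := (Commute.self_pow a p).eq
  have htv : ∀ v ∈ V, ∃ k : ℤ, a * v * a⁻¹ = v * z ^ k := by
    intro v hv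
    have hu1 : v⁻¹ * (a * v * a⁻¹) ∈ V :=
      V.mul_mem (V.inv_mem hv) (Subgroup.Normal.conj_mem inferInstance v hv a)
    have hu2 : v⁻¹ * (a * v * a⁻¹) ∈ zpowers a := by
      have := hVA v⁻¹ (V.inv_mem hv)
      rw [inv_inv] at this
      have := mul_mem this (inv_mem (mem_zpowers a))
      simpa [mul_assoc] using this
    obtain ⟨i, hi⟩ := mem_zpowers_iff.mp hu2
    by_cases hpi : (p : ℤ) ∣ i
    · obtain ⟨m, rfl⟩ := hpi
      refine ⟨m, ?_⟩
      rw [hz, ← zpow_natCast a p, ← _root_.zpow_mul, hi, mul_inv_cancel_left]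
    · exfalso
      obtain ⟨s, t, hst⟩ : IsCoprime i (p : ℤ) :=
        ((Nat.prime_iff_prime_int.mp hp.out).coprime_iff_not_dvd.mpr hpi).symm
      apply hav
      have : a = (a ^ i) ^ s * z ^ t := by
        rw [hz, ← zpow_natCast a p, ← _root_.zpow_mul, ← _root_.zpow_mul, ← _root_.zpow_add,
          mul_comm i, mul_comm (p : ℤ), hst, zpow_one]
      rw [this]
      exact V.mul_mem (V.zpow_mem (by rw [hi]; exact hu1) s) (V.zpow_mem hap t)
  have hz1 : z ≠ 1 := by
    intro hz1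
    refine hav (hC a fun v hv => ?_)
    obtain ⟨k, hk⟩ := htv v hv
    rw [hz1, one_zpow, mul_one, mul_inv_eq_iff_eq_mul] at hk
    exact hk
  have hzo : orderOf z = p := orderOf_eq_prime (hexp z hap) hz1
  -- a second conjugate
  obtain ⟨g, hg⟩ : ∃ g : G,
      ¬ IsPGroup p ↥(zpowers a ⊔ (zpowers a).map (MulAut.conj g).toMonoidHom) := by
    by_contra hcon
    push Not at hcon
    obtain ⟨N, hN, hNp, hle⟩ := Invol.baerSuzuki (zpowers a) ha hcon
    exact hav (hmax N hN hNp (hle (mem_zpowers a)))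
  set b := g * a * g⁻¹ with hb
  set y := g * z * g⁻¹ with hy
  have hyV : y ∈ V := Subgroup.Normal.conj_mem inferInstance z hap g
  have hy1 : y ≠ 1 := fun h => hz1 (conj_eq_one_iff.mp h)
  have hyo : orderOf y = p := orderOf_eq_prime (hexp y hyV) hy1
  have hbp : b ^ p = y := by rw [hb, conj_pow, hy, hz]
  have hby : b * y = y * b := by rw [← hbp]; exact (Commute.self_pow b p).eq
  have htb : ∀ v ∈ V, ∃ k : ℤ, b * v * b⁻¹ = v * y ^ k := by
    intro v hv
    obtain ⟨k, hk⟩ := htv (g⁻¹ * v * g)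
      (by simpa using Subgroup.Normal.conj_mem inferInstance v hv g⁻¹)
    refine ⟨k, ?_⟩
    calc b * v * b⁻¹ = g * (a * (g⁻¹ * v * g) * a⁻¹) * g⁻¹ := by rw [hb]; group
      _ = v * y ^ k := by rw [hk, hy, conj_zpow]; group
  have hle : zpowers a ⊔ (zpowers a).map (MulAut.conj g).toMonoidHom ≤ closure {a, b} := by
    refine sup_le (zpowers_le.mpr (subset_closure (Or.inl rfl))) ?_
    rw [MonoidHom.map_zpowers]
    exact zpowers_le.mpr (subset_closure (Or.inr rfl))
  have hnp : ¬ IsPGroup p (closure ({a, b} : Set G)) := fun h => hg (h.to_le hle)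
  have hay : a * y ≠ y * a := fun h =>
    hnp (isPGroup_closure_pair hcomm hexp hC hap hyV haz hby h htv htb)
  have hbz : b * z ≠ z * b := fun h =>
    hnp (by
      have := isPGroup_closure_pair hcomm hexp hC hyV hap hby haz h htb htv
      rwa [Set.pair_comm] at this)
  clear_value y b z
  -- powers of `a`, `b` acting as standard transvections
  obtain ⟨k, hk⟩ := htv y hyV
  have hzk : z ^ k ≠ 1 := by
    intro h
    rw [h, mul_one, mul_inv_eq_iff_eq_mul] at hk
    exact hay hk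
  obtain ⟨l, hl⟩ := htb z hap
  have hyl : y ^ l ≠ 1 := by
    intro h
    rw [h, mul_one, mul_inv_eq_iff_eq_mul] at hl
    exact hbz hl
  obtain ⟨i, hi⟩ := mem_powers_iff_mem_zpowers.mpr
    (exists_pow_eq_self_or_pow hzo (zpow_mem (mem_zpowers z) k) hzk)
  obtain ⟨j, hj⟩ := mem_powers_iff_mem_zpowers.mpr
    (inv_mem (exists_pow_eq_self_or_pow hyo (zpow_mem (mem_zpowers y) l) hyl))
  have hi' : (z ^ k) ^ i = z := hi
  have hj' : (y ^ l) ^ j = y⁻¹ := hj
  have hzy : z ≠ y := fun h => hay (by rw [← h]; exact haz)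
  by_cases hp2 : p ≠ 2
  · set A := a ^ i with hA
    set B := b ^ j with hB
    have hAy : A * y * A⁻¹ = y * z := by
      rw [hA, conj_pow_of_transvection (Commute.zpow_right haz k) hk, hi']
    have hBz : B * z * B⁻¹ = z * y⁻¹ := by
      rw [hB, conj_pow_of_transvection (Commute.zpow_right hby l) hl, hj']
    have hAz : A * z * A⁻¹ = z := by
      rw [hA, (show Commute (a ^ i) z from Commute.pow_left haz i).eq, mul_inv_cancel_right]
    have hBy : B * y * B⁻¹ = y := by
      rw [hB, (show Commute (b ^ j) y from Commute.pow_left hby j).eq, mul_inv_cancel_right]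
    set n := A * B * A with hn
    have hnz : n * z * n⁻¹ = y⁻¹ := by
      calc n * z * n⁻¹ = A * (B * (A * z * A⁻¹) * B⁻¹) * A⁻¹ := by rw [hn]; group
        _ = (A * z * A⁻¹) * (A * y * A⁻¹)⁻¹ := by
            rw [show B * (A * z * A⁻¹) * B⁻¹ = z * y⁻¹ by rw [hAz, hBz]]
            group
        _ = y⁻¹ := by rw [hAz, hAy, hcomm y hyV z hap, mul_inv_rev, ← mul_assoc, hcomm z hap y⁻¹ (V.inv_mem hyV), mul_assoc, mul_inv_cancel, mul_one]
    have hny : n * y * n⁻¹ = z := by
      calc n * y * n⁻¹ = A * ((B * y * B⁻¹) * (B * z * B⁻¹)) * A⁻¹ := by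
            rw [hn, show A * B * A * y * (A * B * A)⁻¹ = A * (B * (A * y * A⁻¹) * B⁻¹) * A⁻¹ by group,
              hAy]
            group
        _ = A * z * A⁻¹ := by
            rw [hBy, hBz, hcomm z hap y⁻¹ (V.inv_mem hyV), ← mul_assoc y, mul_inv_cancel, one_mul]
        _ = z := hAz
    set t := n * n with ht
    have htz : t * z * t⁻¹ = z⁻¹ := by
      rw [ht, show n * n * z * (n * n)⁻¹ = n * (n * z * n⁻¹) * n⁻¹ by group, hnz, ← conj_inv, hny]
    have htyy : t * y * t⁻¹ = y⁻¹ := by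
      rw [ht, show n * n * y * (n * n)⁻¹ = n * (n * y * n⁻¹) * n⁻¹ by group, hny, hnz]
    -- `t` commutes with `a` modulo `V`
    have hdec : ∀ v ∈ V, ∃ c ∈ V, ∃ r s : ℤ, v = c * z ^ r * y ^ s ∧ a * c = c * a ∧ t * c = c * t := by
      intro v hv
      obtain ⟨m, hm⟩ := htv v hv
      obtain ⟨q, hq⟩ : ∃ q : ℤ, (z ^ k) ^ q = z ^ m := by
        obtain ⟨q, hq⟩ := mem_zpowers_iff.mp
          (exists_pow_eq_self_or_pow hzo (zpow_mem (mem_zpowers z) k) hzk)
        exact ⟨q * m, by rw [_root_.zpow_mul, hq]⟩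
      have hcV : v * (y ^ q)⁻¹ ∈ V := V.mul_mem hv (V.inv_mem (V.zpow_mem hyV q))
      have hac : a * (v * (y ^ q)⁻¹) * a⁻¹ = v * (y ^ q)⁻¹ := by
        have e : a * y ^ q * a⁻¹ = y ^ q * z ^ m := by
          rw [← conj_zpow, hk,
            (show Commute y (z ^ k) from hcomm _ hyV _ (V.zpow_mem hap k)).mul_zpow, hq]
        calc a * (v * (y ^ q)⁻¹) * a⁻¹ = (a * v * a⁻¹) * (a * y ^ q * a⁻¹)⁻¹ := by group
          _ = v * (y ^ q)⁻¹ := by rw [hm, e]; group
      obtain ⟨m', hm'⟩ := htb _ hcV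
      obtain ⟨q', hq'⟩ : ∃ q' : ℤ, (y ^ l) ^ q' = y ^ m' := by
        obtain ⟨q', hq'⟩ := mem_zpowers_iff.mp
          (exists_pow_eq_self_or_pow hyo (zpow_mem (mem_zpowers y) l) hyl)
        exact ⟨q' * m', by rw [_root_.zpow_mul, hq']⟩
      set c := v * (y ^ q)⁻¹ * (z ^ q')⁻¹ with hc
      have hbc : b * c * b⁻¹ = c := by
        have e : b * z ^ q' * b⁻¹ = z ^ q' * y ^ m' := by
          rw [← conj_zpow, hl,
            (show Commute z (y ^ l) from hcomm _ hap _ (V.zpow_mem hyV l)).mul_zpow, hq']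
        calc b * c * b⁻¹ = (b * (v * (y ^ q)⁻¹) * b⁻¹) * (b * z ^ q' * b⁻¹)⁻¹ := by rw [hc]; group
          _ = c := by rw [hm', e, hc]; group
      have hac' : a * c * a⁻¹ = c := by
        have e : a * z ^ q' * a⁻¹ = z ^ q' := by
          rw [(show Commute a (z ^ q') from Commute.zpow_right haz q').eq, mul_inv_cancel_right]
        calc a * c * a⁻¹ = (a * (v * (y ^ q)⁻¹) * a⁻¹) * (a * z ^ q' * a⁻¹)⁻¹ := by rw [hc]; group
          _ = c := by rw [hac, e, hc]
      have hcA : Commute c a := (mul_inv_eq_iff_eq_mul.mp hac').symm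
      have hcB : Commute c b := (mul_inv_eq_iff_eq_mul.mp hbc).symm
      refine ⟨c, V.mul_mem hcV (V.inv_mem (V.zpow_mem hap q')), q', q, ?_, hcA.symm.eq, ?_⟩
      · rw [hc, inv_mul_cancel_right, inv_mul_cancel_right]
      · have hcn : Commute c n := ((hcA.pow_right i).mul_right (hcB.pow_right j)).mul_right (hcA.pow_right i)
        exact (hcn.mul_right hcn).symm.eq
    have hat : (a * t)⁻¹ * (t * a) ∈ V := by
      refine hC _ fun v hv => ?_
      obtain ⟨c, hcV, r, s, rfl, hca, hct⟩ := hdec v hv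
      have key : ∀ w ∈ V, t * (a * w * a⁻¹) * t⁻¹ = a * (t * w * t⁻¹) * a⁻¹ →
          Commute ((a * t)⁻¹ * (t * a)) w := by
        intro w _ hw
        change _ = _
        calc (a * t)⁻¹ * (t * a) * w = (a * t)⁻¹ * (t * (a * w * a⁻¹) * t⁻¹) * (t * a) := by group
          _ = w * ((a * t)⁻¹ * (t * a)) := by rw [hw]; group
      have kc : Commute ((a * t)⁻¹ * (t * a)) c := key c hcV (by
        rw [hca, mul_inv_cancel_right, hct, mul_inv_cancel_right, hca, mul_inv_cancel_right])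
      have kz : Commute ((a * t)⁻¹ * (t * a)) z := key z hap (by
        rw [haz, mul_inv_cancel_right, htz, ← conj_inv, haz, mul_inv_cancel_right])
      have ky : Commute ((a * t)⁻¹ * (t * a)) y := key y hyV (by
        rw [hk, show t * (y * z ^ k) * t⁻¹ = (t * y * t⁻¹) * (t * z ^ k * t⁻¹) by group, htyy,
          ← conj_zpow (a := t), htz, show a * y⁻¹ * a⁻¹ = (a * y * a⁻¹)⁻¹ by group, hk, mul_inv_rev, inv_zpow,
          hcomm y⁻¹ (V.inv_mem hyV) _ (V.inv_mem (V.zpow_mem hap k))])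
      exact ((kc.mul_right (kz.zpow_right r)).mul_right (ky.zpow_right s)).eq
    -- the `p`-th power of `t a t⁻¹` gives a contradiction
    have hw : t * ((a * t)⁻¹ * (t * a)) * t⁻¹ ∈ V := Subgroup.Normal.conj_mem inferInstance _ hat t
    set w := t * ((a * t)⁻¹ * (t * a)) * t⁻¹ with hwdef
    have hta : t * a * t⁻¹ = a * w := by rw [hwdef]; group
    obtain ⟨m, hm⟩ := htv w hw
    have hcomm' : ⁅w, a⁆ = (z ^ m)⁻¹ := by
      rw [commutatorElement_def, show w * a * w⁻¹ * a⁻¹ = w * (a * w * a⁻¹)⁻¹ by group, hm]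
      group
      rw [hcomm _ hw _ (V.zpow_mem hap (-m))]
      group
    have h1 : (a * w) ^ p = z := by
      rw [mul_pow_of_commute_commutator (x := a) (y := w)
        (hcomm' ▸ (Commute.zpow_left haz.symm m).inv_left)
        (hcomm' ▸ hcomm _ (V.inv_mem (V.zpow_mem hap m)) _ hw), hexp w hw, ← hz, mul_one, hcomm']
      obtain ⟨c, hc⟩ := Nat.Prime.dvd_choose_self hp.out two_ne_zero
        (lt_of_le_of_ne hp.out.two_le (Ne.symm hp2))
      rw [hc, pow_mul, hexp _ (V.inv_mem (V.zpow_mem hap m)), one_pow, mul_one]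
    rw [← hta, conj_pow, ← hz, htz] at h1
    have h2 : z ^ 2 = 1 := by
      rw [pow_two]; nth_rewrite 1 [← h1]; exact inv_mul_cancel z
    have := Nat.le_of_dvd two_pos (hzo ▸ orderOf_dvd_of_pow_eq_one h2)
    have := hp.out.two_le
    omega
  · push Not at hp2
    subst hp2
    replace hS4 : ¬ Cfsg.Involves (Equiv.Perm (Fin 4)) G := hS4.resolve_left (fun h => h rfl)
    apply hS4
    have hz2 : z * z = 1 := by rw [← pow_two]; exact hexp z hap
    have hy2 : y * y = 1 := by rw [← pow_two]; exact hexp y hyV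
    have hzk' : z ^ k = z := by
      rcases Int.even_or_odd k with ⟨m, hm⟩ | ⟨m, hm⟩
      · exact absurd (by rw [hm, _root_.zpow_add, ← (Commute.refl z).mul_zpow, hz2, one_zpow]) hzk
      · rw [hm, _root_.zpow_add, _root_.zpow_mul, zpow_one, zpow_two, hz2, one_zpow, one_mul]
    have hyl' : y ^ l = y := by
      rcases Int.even_or_odd l with ⟨m, hm⟩ | ⟨m, hm⟩
      · exact absurd (by rw [hm, _root_.zpow_add, ← (Commute.refl y).mul_zpow, hy2, one_zpow]) hyl
      · rw [hm, _root_.zpow_add, _root_.zpow_mul, zpow_one, zpow_two, hy2, one_zpow, one_mul]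
    rw [hzk'] at hk
    rw [hyl'] at hl
    have hA2 : a * a = z := by rw [hz, pow_two]
    have hB2 : b * b = y := by rw [← hbp, pow_two]
    refine QdFree.involves_s4_of_plane (u := y) (w := z) (r := a * y) (t := b * z) ?_ ?_ hy2 hz2
      (hcomm y hyV z hap) hy1 hz1 (Ne.symm hzy) ?_ ?_ ?_ ?_
    · calc a * y * (a * y) = (a * y * a⁻¹) * (a * a) * y := by group
        _ = 1 := by rw [hk, hA2, mul_assoc y, hz2, mul_one, hy2]
    · calc b * z * (b * z) = (b * z * b⁻¹) * (b * b) * z := by group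
        _ = 1 := by rw [hl, hB2, mul_assoc z, hy2, mul_one, hz2]
    · calc a * y * z * (a * y)⁻¹ = a * (y * z * y⁻¹) * a⁻¹ := by group
        _ = z := by rw [hcomm y hyV z hap, mul_inv_cancel_right, haz, mul_inv_cancel_right]
    · calc a * y * y * (a * y)⁻¹ = a * y * a⁻¹ := by group
        _ = z * y := by rw [hk, hcomm y hyV z hap]
    · calc b * z * y * (b * z)⁻¹ = b * (z * y * z⁻¹) * b⁻¹ := by group
        _ = y := by rw [hcomm z hap y hyV, mul_inv_cancel_right, hby, mul_inv_cancel_right]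
    · calc b * z * z * (b * z)⁻¹ = b * z * b⁻¹ := by group
        _ = y * z := by rw [hl, hcomm z hap y hyV]


theorem normal_map_frattini (V : Subgroup G) [V.Normal] : ((frattini V).map V.subtype).Normal :=
  normalizer_eq_top_iff.mp (top_le_iff.mp
    (LocalStructure.le_normalizer_map_characteristic (by rw [normalizer_eq_top]) (frattini V)))

/-- In a group with `C(O_p) ≤ O_p`, a `p`-element whose cyclic group is normalised by `O_p` lies in
`O_p`, for `p` odd or `S₄`-free groups. -/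
theorem mem_pCore_of_zpowers_normalized (hsc : Layer.PCoreSelfCentral p G)
    (hS4 : p ≠ 2 ∨ ¬ Cfsg.Involves (Equiv.Perm (Fin 4)) G) {a : G} (ha : IsPGroup p (zpowers a))
    (hVA : ∀ v ∈ pCore p G, v * a * v⁻¹ ∈ zpowers a) : a ∈ pCore p G := by
  set V := pCore p G with hV
  have hVn : V.Normal := Core.pCore_normal
  have hVp : IsPGroup p V := Core.pCore_isPGroup
  -- it is enough to treat the elements with `p`-th power in `V`
  suffices key : ∀ c : G, c ∈ zpowers a → c ^ p ∈ V → c ∈ V by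
    obtain ⟨n, hn⟩ := ha ⟨a, mem_zpowers a⟩
    have hn' : a ^ p ^ n = 1 := congrArg Subtype.val hn
    have : ∀ j : ℕ, a ^ p ^ j ∈ V → a ∈ V := by
      intro j
      induction j with
      | zero => simp
      | succ j ih =>
        intro hj
        refine ih (key _ (pow_mem (mem_zpowers a) _) ?_)
        rwa [← pow_mul, ← pow_succ]
    exact this n (hn' ▸ V.one_mem)
  intro c hc hcp
  obtain ⟨i, rfl⟩ := mem_zpowers_iff.mp hc
  have hcA : ∀ v ∈ V, v * a ^ i * v⁻¹ ∈ zpowers (a ^ i) := by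
    intro v hv
    obtain ⟨j, hj⟩ := mem_zpowers_iff.mp (hVA v hv)
    refine ⟨j, ?_⟩
    show (a ^ i) ^ j = _
    rw [← conj_zpow, ← hj, ← _root_.zpow_mul, ← _root_.zpow_mul, mul_comm]
  set F := (frattini V).map V.subtype with hF
  have hFV : F ≤ V := map_subtype_le _
  have hFn : F.Normal := normal_map_frattini V
  set f := QuotientGroup.mk' F with hf
  have hfs := QuotientGroup.mk'_surjective F
  have hfker : ∀ g, f g = 1 ↔ g ∈ F := fun g => QuotientGroup.eq_one_iff g
  set W := V.map f with hW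
  have hWn : W.Normal := hVn.map f hfs
  have hback : ∀ g, f g ∈ W → g ∈ V := by
    intro g hg
    have : g ∈ W.comap f := hg
    rwa [hW, comap_map_eq, QuotientGroup.ker_mk', sup_eq_left.mpr hFV] at this
  have := hVp.isNilpotent
  refine hback _ (mem_of_elementary W ?_ ?_ ?_ ?_
    (hS4.imp_right fun h h' => h (QdFree.involves_of_surjective h' hfs)) ?_ ?_ ?_)
  · rintro _ ⟨x, hx, rfl⟩ _ ⟨y, hy, rfl⟩
    rw [← map_mul, ← map_mul]
    refine (QuotientGroup.eq.mpr ?_)
    refine ⟨(⟨x, hx⟩ * ⟨y, hy⟩ : V)⁻¹ * (⟨y, hy⟩ * ⟨x, hx⟩), ?_, by simp⟩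
    refine Core.commutator_le_frattini ?_
    have := commutator_mem_commutator (mem_top (⟨y, hy⟩ : V)⁻¹) (mem_top (⟨x, hx⟩ : V)⁻¹)
    rw [_root_.commutator_def]
    convert this using 1
    rw [commutatorElement_def]
    group
  · rintro _ ⟨x, hx, rfl⟩
    rw [← map_pow, hfker]
    exact ⟨⟨x, hx⟩ ^ p, Core.pow_mem_frattini hVp _, rfl⟩
  · intro x hx
    obtain ⟨g, rfl⟩ := hfs x
    refine mem_map_of_mem f ?_
    set K := (centralizer (W : Set (G ⧸ F))).comap f with hK
    have hgK : g ∈ K := mem_centralizer_iff.mpr fun w hw => (hx w hw).symm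
    have hKn : K.Normal := Subgroup.Normal.comap inferInstance f
    refine Core.le_pCore ?_ hgK
    by_contra hnp
    obtain ⟨q, hq, hq1, hqc⟩ := Layer.exists_coprime_orderOf hnp
    obtain ⟨m, hm⟩ := IsPGroup.iff_card.mp (hVp.to_subgroup (frattini V))
    have hcen : zpowers q ≤ centralizer (V : Set G) := by
      refine Coprime.le_centralizer_of_trivial_mod_frattini
        (by rw [normalizer_eq_top]; exact le_top) ?_ fun r hr v hv => ?_
      · rw [Nat.card_zpowers, hm]
        exact hqc.pow_right m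
      · rw [← hfker, map_mul, map_mul, map_mul, map_inv, map_inv]
        have hrK : r ∈ K := (zpowers_le.mpr hq) hr
        rw [← mem_centralizer_iff.mp hrK (f v) ⟨v, hv, rfl⟩, mul_inv_cancel_right, mul_inv_cancel]
    have hqV : q ∈ V := hsc (hcen (mem_zpowers q))
    obtain ⟨k, hk⟩ := hVp ⟨q, hqV⟩
    have h1 : orderOf q ∣ Nat.gcd (orderOf q) (p ^ k) :=
      Nat.dvd_gcd dvd_rfl (orderOf_dvd_of_pow_eq_one (congrArg Subtype.val hk))
    rw [(hqc.pow_right k).gcd_eq_one, Nat.dvd_one, orderOf_eq_one_iff] at h1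
    exact hq1 h1
  · intro N hN hNp
    have hker : IsPGroup p f.ker := by
      rw [hf, QuotientGroup.ker_mk']
      exact hVp.to_le hFV
    have : (N.comap f).Normal := hN.comap f
    rw [← map_comap_eq_self_of_surjective hfs N]
    exact map_mono (Core.le_pCore (hNp.comap_of_ker_isPGroup f hker))
  · rw [← MonoidHom.map_zpowers]
    exact (ha.to_le (zpowers_le.mpr (zpow_mem (mem_zpowers a) i))).map f
  · exact ⟨_, hcp, map_pow f _ p⟩
  · rintro _ ⟨v, hv, rfl⟩
    rw [← map_mul, ← map_inv, ← map_mul, ← MonoidHom.map_zpowers]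
    exact mem_map_of_mem f (hcA v hv)

end Cfsg.Agent.Fusion
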