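import Cfsg.Agent.OddLocal.ZGroupFixed
import Cfsg.Agent.Fusion.Extraspecial
import Cfsg.Agent.Fusion.OmegaFixed
import Cfsg.Agent.Fusion.Critical
import Cfsg.Agent.S0606

/-!
# A `p`-element with a single centralised line of fixed points

`le_centralizer_of_fixed_line` : `p` odd, `b ^ p = 1`, `b` acts on the `p`-group `R` so that all its
fixed points of order `p` lie in one subgroup `Z` of order at most `p`; then a `p'`-group `Q`,
normalised by `b` without fixed points, that normalises `R` and centralises `Z`, centralises `R`.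
-/

set_option autoImplicit false
set_option linter.unusedSectionVars false

namespace Cfsg.Agent.Fusion.FixedLine

open Subgroup
open scoped commutatorElement

section module

variable {p : ℕ} [hp : Fact p.Prime]

theorem sub_one_pow_eq_geom {R : Type*} [Ring R] [Algebra (ZMod p) R] (a : R) :
    (a - 1) ^ (p - 1) = ∑ i ∈ Finset.range p, a ^ i := by
  open Polynomial in
  have h : ((X : (ZMod p)[X]) - 1) ^ (p - 1) = ∑ i ∈ Finset.range p, X ^ i := by
    refine mul_right_cancel₀ (X_sub_C_ne_zero (1 : ZMod p)) ?_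
    rw [map_one, geom_sum_mul, ← pow_succ, Nat.sub_add_cancel hp.out.one_le, sub_pow_char, one_pow]
  have h' := congrArg (Polynomial.aeval a) h
  simpa only [map_pow, map_sub, Polynomial.aeval_X, map_one, map_sum] using h'

theorem sub_one_pow_p {R : Type*} [Ring R] [Algebra (ZMod p) R] (a : R) :
    (a - 1) ^ p = a ^ p - 1 := by
  have h := congrArg (Polynomial.aeval a)
    (sub_pow_char (p := p) (Polynomial.X : Polynomial (ZMod p)) 1)
  simpa only [map_pow, map_sub, Polynomial.aeval_X, map_one, one_pow] using h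

/-- A nilpotent endomorphism with kernel of order at most `p`. -/
theorem card_le_of_nilpotent {A : Type*} [AddCommGroup A] [Finite A] [Module (ZMod p) A]
    (f : Module.End (ZMod p) A) {k : ℕ} (hf : f ^ k = 0) (hker : Nat.card {a : A // f a = 0} ≤ p) :
    Nat.card A ≤ p ^ k := by
  have hj : ∀ j : ℕ, Nat.card {a : A // (f ^ j) a = 0} ≤ p ^ j := by
    intro j
    induction j with
    | zero =>
      haveI : Subsingleton {a : A // (f ^ 0) a = 0} :=
        ⟨fun a b => Subtype.ext (by have ha := a.2; have hb := b.2; simp at ha hb; rw [ha, hb])⟩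
      rw [pow_zero p]
      exact Finite.card_le_one_iff_subsingleton.mpr inferInstance
    | succ j ih =>
      let K := LinearMap.ker (f ^ (j + 1))
      let g : K →ₗ[ZMod p] A := f.comp K.subtype
      have e := (LinearMap.ker g).card_eq_card_quotient_mul_card
      have h1 : Nat.card (K ⧸ LinearMap.ker g) ≤ p ^ j := by
        rw [Nat.card_congr g.quotKerEquivRange.toEquiv]
        refine le_trans (Nat.card_le_card_of_injective
          (fun a : LinearMap.range g => (⟨a.1, ?_⟩ : {a : A // (f ^ j) a = 0})) ?_) ih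
        · obtain ⟨x, hx⟩ := a.2
          rw [← hx]
          have hx2 : (f ^ (j + 1)) (x : A) = 0 := x.2
          rw [pow_succ, Module.End.mul_apply] at hx2
          exact hx2
        · exact fun a b h => Subtype.ext (congrArg (fun c : {a : A // (f ^ j) a = 0} => (c : A)) h)
      have h2 : Nat.card (LinearMap.ker g) ≤ p := by
        refine le_trans (Nat.card_le_card_of_injective
          (fun a : LinearMap.ker g => (⟨((a : K) : A), a.2⟩ : {a : A // f a = 0})) ?_) hker
        exact fun a b h => Subtype.ext (Subtype.ext (congrArg (fun c : {a : A // f a = 0} => (c : A)) h))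
      calc Nat.card {a : A // (f ^ (j + 1)) a = 0} = Nat.card K := rfl
        _ = Nat.card (LinearMap.ker g) * Nat.card (K ⧸ LinearMap.ker g) := by rw [e]
        _ ≤ p * p ^ j := Nat.mul_le_mul h2 h1
        _ = p ^ (j + 1) := (pow_succ' p j).symm
  refine le_trans (Nat.card_le_card_of_injective (fun a : A => (⟨a, by rw [hf]; rfl⟩ : {a : A // (f ^ k) a = 0}))
    fun a b h => congrArg Subtype.val h) (hj k)

/-- A nilpotent endomorphism of a group of order `p ^ n` satisfies `f ^ n = 0`. -/
theorem pow_eq_zero_of_card {A : Type*} [AddCommGroup A] [Finite A] [Module (ZMod p) A]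
    (f : Module.End (ZMod p) A) {k n : ℕ} (hf : f ^ k = 0) (hn : Nat.card A = p ^ n) : f ^ n = 0 := by
  let R : ℕ → AddSubgroup A := fun j => (LinearMap.range (f ^ j)).toAddSubgroup
  have hj : ∀ j, Nat.card (R j) * p ^ j ≤ p ^ n ∨ f ^ j = 0 := by
    intro j
    induction j with
    | zero =>
      left
      rw [pow_zero p, mul_one, ← hn]
      exact Nat.card_le_card_of_injective _ Subtype.val_injective
    | succ j ih =>
      rcases ih with h | h
      swap
      · right; rw [pow_succ, h, zero_mul]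
      by_cases h0 : f ^ (j + 1) = 0
      · exact Or.inr h0
      left
      have hle : R (j + 1) ≤ R j := by
        rintro _ ⟨a, rfl⟩
        exact ⟨f a, by rw [pow_succ, Module.End.mul_apply]⟩
      have hne : R (j + 1) ≠ R j := by
        intro e
        -- then all later images agree
        have hall : ∀ i, R (j + i) = R j := by
          intro i
          induction i with
          | zero => rfl
          | succ i ihi =>
            refine le_antisymm ?_ ?_
            · refine le_trans ?_ ihi.le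
              rintro _ ⟨a, rfl⟩
              exact ⟨f a, by rw [← add_assoc, pow_succ, Module.End.mul_apply]⟩
            · rw [← ihi]
              rintro _ ⟨a, rfl⟩
              obtain ⟨c, hc⟩ : (f ^ j) a ∈ R (j + 1) := e ▸ ⟨a, rfl⟩
              refine ⟨c, ?_⟩
              rw [show j + (i + 1) = i + (j + 1) by ring, add_comm j i, pow_add f i (j + 1), pow_add f i j,
                Module.End.mul_apply, Module.End.mul_apply, hc]
        apply h0
        ext a
        have : (f ^ j) a ∈ R (j + k) := (hall k).symm ▸ ⟨a, rfl⟩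
        obtain ⟨c, hc⟩ := this
        rw [pow_succ', Module.End.mul_apply, ← hc, pow_add, hf, mul_zero]
        simp
      have hlt := Set.Finite.card_lt_card (Set.toFinite _) (SetLike.coe_ssubset_coe.mpr (lt_of_le_of_ne hle hne))
      obtain ⟨a, -, ha⟩ := (Nat.dvd_prime_pow hp.out).mp (hn ▸ (R j).card_addSubgroup_dvd_card)
      obtain ⟨b, -, hb⟩ := (Nat.dvd_prime_pow hp.out).mp (hn ▸ (R (j + 1)).card_addSubgroup_dvd_card)
      replace hlt : p ^ b < p ^ a := ha ▸ hb ▸ hlt
      have hba := (Nat.pow_lt_pow_iff_right hp.out.one_lt).mp hlt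
      rw [ha] at h
      rw [hb]
      calc p ^ b * p ^ (j + 1) = p ^ (b + 1) * p ^ j := by ring
        _ ≤ p ^ a * p ^ j := Nat.mul_le_mul_right _ (Nat.pow_le_pow_right hp.out.pos hba)
        _ ≤ p ^ n := h
  rcases hj n with h | h
  · have h1 : Nat.card (R n) ≤ 1 :=
      Nat.le_of_mul_le_mul_right (h.trans (one_mul _).ge) (pow_pos hp.out.pos n)
    ext a
    have hs : Subsingleton (R n) := Finite.card_le_one_iff_subsingleton.mp h1
    exact congrArg Subtype.val (hs.elim ⟨_, a, rfl⟩ ⟨0, (R n).zero_mem⟩)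
  · exact h

end module

/-- If `B` has no fixed points on `A`, `x` none on `B`, and the norm of `x` vanishes on `A`, then
`A` has exponent dividing `|B|`. -/
theorem pow_card_eq_one_of_norm {E A : Type*} [Group E] [CommGroup A] (φ : E →* MulAut A) (B : Subgroup E)
    [Finite B] (x : E) {r : ℕ} (hr : 0 < r) (hxB : ∀ b ∈ B, x * b * x⁻¹ ∈ B)
    (hfree : ∀ i, 0 < i → i < r → ∀ b ∈ B, Commute (x ^ i) b → b = 1)
    (hC : ∀ v, (∀ b ∈ B, φ b v = v) → v = 1)
    (hN : ∀ v, ∏ i ∈ Finset.range r, φ (x ^ i) v = 1) (v : A) : v ^ Nat.card B = 1 := by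
  have := Fintype.ofFinite B
  have hpowB : ∀ i : ℕ, ∀ b ∈ B, x ^ i * b * (x ^ i)⁻¹ ∈ B := by
    intro i
    induction i with
    | zero => simp
    | succ i ih =>
      intro b hb
      have := hxB _ (ih b hb)
      convert this using 1
      rw [pow_succ', mul_inv_rev]
      group
  have hcomp : ∀ (a b : E) (w : A), φ a (φ b w) = φ (a * b) w := fun a b w => by rw [map_mul]; rfl
  have hC' : ∀ w : A, ∏ b : B, φ b w = 1 := fun w => by
    refine hC _ fun c hc => ?_
    simp only [map_prod, hcomp]
    exact Fintype.prod_bijective (fun b : B => (⟨c, hc⟩ : B) * b) (Group.mulLeft_bijective _)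
      (fun b : B => φ (c * b) w) (fun b : B => φ b w) fun b => rfl
  have key : ∏ i ∈ Finset.range r, ∏ b : B, φ ((b : E) * x ^ i * (b : E)⁻¹) v = 1 := by
    rw [Finset.prod_comm]
    refine Finset.prod_eq_one fun b _ => ?_
    have h1 : φ (b : E) (∏ i ∈ Finset.range r, φ (x ^ i) (φ (b : E)⁻¹ v)) = 1 := by rw [hN, map_one]
    rw [map_prod] at h1
    simpa only [hcomp, ← mul_assoc] using h1
  obtain ⟨r', rfl⟩ := Nat.exists_eq_add_of_le' (show 1 ≤ r from hr)
  rw [Finset.prod_range_succ', Finset.prod_eq_one fun i hi => ?_, one_mul] at key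
  · simpa [Finset.card_univ] using key
  · let f : B → B := fun b => ⟨(b : E) * (x ^ (i + 1) * (b : E)⁻¹ * (x ^ (i + 1))⁻¹),
      B.mul_mem b.2 (hpowB _ _ (B.inv_mem b.2))⟩
    have hf : Function.Bijective f := by
      refine Finite.injective_iff_bijective.mp fun a b hab => ?_
      have h1 : (a : E) * x ^ (i + 1) * (a : E)⁻¹ = (b : E) * x ^ (i + 1) * (b : E)⁻¹ := by
        have h2 := congrArg (fun t : B => (t : E) * x ^ (i + 1)) hab
        simpa [f, mul_assoc] using h2
      have h3 : Commute (x ^ (i + 1)) ((b : E)⁻¹ * a) := by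
        calc x ^ (i + 1) * ((b : E)⁻¹ * a)
            = (b : E)⁻¹ * ((b : E) * x ^ (i + 1) * (b : E)⁻¹) * a := by group
          _ = (b : E)⁻¹ * ((a : E) * x ^ (i + 1) * (a : E)⁻¹) * a := by rw [h1]
          _ = (b : E)⁻¹ * a * x ^ (i + 1) := by group
      exact Subtype.ext (inv_mul_eq_one.mp (hfree (i + 1) (Nat.succ_pos i)
        (Nat.succ_lt_succ (Finset.mem_range.mp hi)) _ (B.mul_mem (B.inv_mem b.2) a.2) h3)).symm
    rw [← hC' (φ (x ^ (i + 1)) v)]
    refine Fintype.prod_bijective f hf _ _ fun b => ?_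
    simp only [f, hcomp]
    congr 2
    group

/-- An elementary abelian group with a `p'`-group without fixed points and an element `x` of order `p`
normalising it without fixed points on it: if `x` fixes at most `p` points, the order is exactly `p ^ p`. -/
theorem card_eq_pow_of_fixed_le {E A : Type*} [Group E] [CommGroup A] [Finite A] {p : ℕ} [hp : Fact p.Prime]
    (hA : ∀ v : A, v ^ p = 1) (φ : E →* MulAut A) (B : Subgroup E) [Finite B] (hB : (Nat.card B).Coprime p)
    (x : E) (hx : x ^ p = 1) (hxB : ∀ b ∈ B, x * b * x⁻¹ ∈ B)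
    (hfree : ∀ i, 0 < i → i < p → ∀ b ∈ B, Commute (x ^ i) b → b = 1)
    (hC : ∀ v, (∀ b ∈ B, φ b v = v) → v = 1) (hfix : Nat.card {v : A // φ x v = v} ≤ p) [Nontrivial A] :
    Nat.card A = p ^ p := by
  obtain ⟨n, hn⟩ := IsPGroup.iff_card.mp (fun v => ⟨1, by rw [pow_one]; exact hA v⟩ : IsPGroup p A)
  haveI : Module (ZMod p) (Additive A) := AddCommGroup.zmodModule (G := Additive A) fun v => hA (Additive.toMul v)
  let α : Module.End (ZMod p) (Additive A) :=
    (MonoidHom.toAdditive (φ x).toMonoidHom).toZModLinearMap p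
  have hpow : ∀ i : ℕ, ∀ v : A, (α ^ i : Module.End (ZMod p) (Additive A)) (Additive.ofMul v) = Additive.ofMul (φ (x ^ i) v) := by
    intro i
    induction i with
    | zero => intro v; rw [pow_zero, pow_zero, map_one]; rfl
    | succ i ih =>
      intro v
      rw [pow_succ', pow_succ', map_mul, Module.End.mul_apply, ih]
      rfl
  have hαp : (α - 1) ^ p = 0 := by
    rw [sub_one_pow_p]
    refine sub_eq_zero.mpr (LinearMap.ext fun v => ?_)
    have h := hpow p (Additive.toMul v)
    rw [hx, map_one] at h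
    exact h
  have hker : Nat.card {a : Additive A // (α - 1) a = 0} ≤ p := by
    refine le_trans (Nat.card_le_card_of_injective
      (fun a : {a : Additive A // (α - 1) a = 0} => (⟨Additive.toMul a.1, ?_⟩ : {v : A // φ x v = v}))
      fun a b h => Subtype.ext (congrArg (fun c : {v : A // φ x v = v} => (c : A)) h :)) hfix
    have h := a.2
    rw [LinearMap.sub_apply, Module.End.one_apply, sub_eq_zero] at h
    exact h
  have hle : n ≤ p := (Nat.pow_le_pow_iff_right hp.out.one_lt).mp
    (hn ▸ card_le_of_nilpotent (A := Additive A) (α - 1) hαp hker)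
  rcases Nat.lt_or_eq_of_le hle with hlt | rfl
  swap
  · exact hn
  exfalso
  have h0 : (α - 1) ^ (p - 1) = 0 := by
    have h := pow_eq_zero_of_card (A := Additive A) (α - 1) hαp hn
    rw [show p - 1 = (p - 1 - n) + n by omega, pow_add, h, mul_zero]
  rw [sub_one_pow_eq_geom] at h0
  have hN : ∀ v : A, ∏ i ∈ Finset.range p, φ (x ^ i) v = 1 := fun v => by
    have h := LinearMap.congr_fun h0 (Additive.ofMul v)
    rw [LinearMap.sum_apply, Finset.sum_congr rfl fun i _ => hpow i v, LinearMap.zero_apply] at h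
    exact h
  obtain ⟨v, hv⟩ := exists_ne (1 : A)
  refine hv (orderOf_eq_one_iff.mp (Nat.eq_one_of_dvd_coprimes hB ?_ (orderOf_dvd_of_pow_eq_one (hA v))))
  exact orderOf_dvd_of_pow_eq_one
    (pow_card_eq_one_of_norm φ B x hp.out.pos hxB hfree hC hN v)

theorem map_top_commutator {E : Type*} [Group E] (H : Subgroup E) [H.Normal] :
    Subgroup.map (QuotientGroup.mk' H) ⁅(⊤ : Subgroup E), ⊤⁆ = _root_.commutator (E ⧸ H) := by
  rw [map_commutator, map_top_of_surjective _ (QuotientGroup.mk'_surjective H), _root_.commutator_def]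

/-- A group of exponent `p` and class two, with a subgroup `D` of order `p` containing the commutators
and a central subgroup `H` complementary to `D` in the centre, has centre of even index. -/
theorem center_index_even {E : Type*} [Group E] [Finite E] {p : ℕ} [hp : Fact p.Prime]
    (hexp : ∀ x : E, x ^ p = 1) (H : Subgroup E) [H.Normal] (hH : H ≤ center E)
    (hcomm : commutator E ≤ center E) (hidx : Nat.card (center E) = p * Nat.card H)
    (hnot : ¬ commutator E ≤ H) (hdet : ∀ x : E, (∀ y, ⁅x, y⁆ ∈ H) → x ∈ center E) :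
    ∃ m, (center E).index = p ^ (2 * m) := by
  set f := QuotientGroup.mk' H
  have hfs : Function.Surjective f := QuotientGroup.mk'_surjective H
  have hcen : center (E ⧸ H) = (center E).map f := by
    refine le_antisymm (fun z hz => ?_) ?_
    · obtain ⟨x, rfl⟩ := hfs z
      refine ⟨x, hdet x fun y => (QuotientGroup.eq_one_iff _).mp ?_, rfl⟩
      show f ⁅x, y⁆ = 1
      rw [map_commutatorElement, commutatorElement_eq_one_iff_mul_comm]
      exact (mem_center_iff.mp hz (f y)).symm
    · rintro _ ⟨x, hx, rfl⟩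
      refine mem_center_iff.mpr fun z => ?_
      obtain ⟨y, rfl⟩ := hfs z
      rw [← map_mul, ← map_mul, mem_center_iff.mp hx y]
  have hcard : Nat.card (center (E ⧸ H)) = p := by
    have h1 := (H.subgroupOf (center E)).card_mul_index
    rw [Nat.card_congr (subgroupOfEquivOfLe hH).toEquiv, hidx, mul_comm p] at h1
    rw [hcen, ← relIndex_ker, QuotientGroup.ker_mk']
    exact Nat.eq_of_mul_eq_mul_left Nat.card_pos h1
  have hE2 : IsPGroup p (E ⧸ H) :=
    (show IsPGroup p E from fun x => ⟨1, by rw [pow_one]; exact hexp x⟩).to_quotient H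
  have hcle : commutator (E ⧸ H) ≤ center (E ⧸ H) := by
    rw [hcen, ← map_top_commutator]
    exact map_mono (le_of_eq_of_le (by rw [_root_.commutator_def]) hcomm)
  have heq : commutator (E ⧸ H) = center (E ⧸ H) := by
    refine eq_of_le_of_card_ge hcle ?_
    obtain ⟨k, hk⟩ := (hE2.to_subgroup (commutator (E ⧸ H))).exists_card_eq
    rcases k with - | k
    · exfalso
      rw [pow_zero, Subgroup.card_eq_one, ← map_top_commutator, Subgroup.map_eq_bot_iff,
        QuotientGroup.ker_mk'] at hk
      exact hnot (le_of_eq_of_le (by rw [_root_.commutator_def]) hk)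
    · rw [hk, hcard]; exact Nat.le_self_pow (by omega) p
  have hes : Cfsg.IsExtraspecial p (E ⧸ H) := by
    refine ⟨⟨hE2, le_antisymm ?_ ?_, heq⟩, hcard⟩
    · refine frattini_le_of_elementary (p := p) _ hcle fun z => ?_
      obtain ⟨x, rfl⟩ := hfs z
      rw [← map_pow, hexp x, map_one]
      exact one_mem _
    · have := hE2.isNilpotent
      exact heq ▸ Core.commutator_le_frattini
  obtain ⟨m, hm⟩ := es_card_eq hes ⊤ le_top es_top_nondeg
  rw [card_top, ← index_eq_card] at hm
  refine ⟨m, ?_⟩
  have h1 := relIndex_mul_index hH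
  have h2 := (H.subgroupOf (center E)).card_mul_index
  rw [Nat.card_congr (subgroupOfEquivOfLe hH).toEquiv, hidx, mul_comm p] at h2
  have h3 : H.relIndex (center E) = p := Nat.eq_of_mul_eq_mul_left Nat.card_pos h2
  rw [h3, hm, pow_succ'] at h1
  exact Nat.eq_of_mul_eq_mul_left hp.out.pos h1

/-- If all fixed points of order `p` of `b` on the `p`-group `R` lie in one subgroup `Z` of order at
most `p`, a `p'`-group on which `b` has no fixed points and which centralises `Z` centralises `R`. -/
theorem le_centralizer_of_fixed_line {G : Type*} [Group G] [Finite G] {p : ℕ} [hp : Fact p.Prime]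
    (hp2 : p ≠ 2) {Q Z : Subgroup G} {b : G} (hb : b ^ p = 1) (hQ : (Nat.card Q).Coprime p)
    (hbQ : b ∈ normalizer (Q : Set G)) (hfree : Q ⊓ centralizer {b} = ⊥)
    (hQZ : Q ≤ centralizer (Z : Set G)) (hZ : Nat.card Z ≤ p) :
    ∀ R : Subgroup G, IsPGroup p R → b ∈ normalizer (R : Set G) → Q ≤ normalizer (R : Set G) →
      (∀ x ∈ R, x ^ p = 1 → Commute x b → x ∈ Z) → Q ≤ centralizer (R : Set G) := by
  have hpp : p.Prime := hp.out
  intro R
  induction R using WellFoundedLT.induction with
  | _ R ih =>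
  intro hR hbR hQR hΩ
  by_contra hnc
  set C := zpowers b with hC
  have hCR : C ≤ normalizer (R : Set G) := zpowers_le.mpr hbR
  obtain ⟨k, hk⟩ := hR.exists_card_eq
  have hcop : (Nat.card Q).Coprime (Nat.card R) := hk ▸ hQ.pow_right k
  haveI := hR.isNilpotent
  have hsol : Group.IsSolvable Q ∨ Group.IsSolvable R := Or.inr inferInstance
  -- invariant proper subgroups are centralised
  have hsub : ∀ L : Subgroup G, L ≤ R → L ≠ R → b ∈ normalizer (L : Set G) →
      Q ≤ normalizer (L : Set G) → Q ≤ centralizer (L : Set G) := fun L hL hne h1 h2 =>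
    ih L (lt_of_le_of_ne hL hne) (hR.to_le hL) h1 h2 fun x hx => hΩ x (hL hx)
  have hRQ : ⁅R, Q⁆ = R := by
    by_contra hne
    have hle := Coprime.commutator_le_of_le_normalizer hQR
    have h1 := hsub _ hle hne (FixedPointFree.mem_normalizer_commutator hbR hbQ)
      (normalizer_commutator_ge_right R Q)
    have h2 : ⁅⁅R, Q⁆, Q⁆ = ⊥ := commutator_eq_bot_iff_le_centralizer.mpr (le_centralizer_iff.mp h1)
    rw [Coprime.commutator_commutator_eq hQR hcop hsol, commutator_eq_bot_iff_le_centralizer] at h2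
    exact hnc (le_centralizer_iff.mp h2)
  have hRne : R ≠ ⊥ := fun h => hnc (by
    rw [h]; exact le_centralizer_iff.mp bot_le)
  obtain ⟨F, hFR, hFne, hQF, hRF, hDF, hpF, hDe⟩ := OddLocal.ZFix.class_two_of_minimal hR hQR hRQ hRne
    fun L hL hne hn => hsub L hL hne (hn hbR) (hQR.trans hn)
  -- exponent `p`
  have hchoose : p ∣ p.choose 2 := Nat.Prime.dvd_choose_self hpp two_ne_zero
    (lt_of_le_of_ne hpp.two_le (Ne.symm hp2))
  have hcommR : ∀ x ∈ R, ∀ y ∈ R, ⁅x, y⁆ ^ p = 1 ∧ ∀ w ∈ R, Commute ⁅x, y⁆ w := fun x hx y hy =>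
    ⟨hDe.2 _ (commutator_mem_commutator hx hy), fun w hw =>
      (mem_centralizer_iff.mp (hRF hw) _ (hDF (commutator_mem_commutator hx hy)))⟩
  have hexp : ∀ x ∈ R, x ^ p = 1 := by
    have hmul : ∀ x ∈ R, ∀ y ∈ R, (x * y) ^ p = x ^ p * y ^ p := by
      intro x hx y hy
      obtain ⟨t, ht⟩ := hchoose
      rw [mul_pow_of_commute_commutator ((hcommR y hy x hx).2 x hx) ((hcommR y hy x hx).2 y hy), ht,
        pow_mul, (hcommR y hy x hx).1, one_pow, mul_one]
    let S : Subgroup G :=
      { carrier := {x | x ∈ R ∧ x ^ p = 1}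
        one_mem' := ⟨R.one_mem, one_pow p⟩
        mul_mem' := fun {x y} hx hy => ⟨R.mul_mem hx.1 hy.1, by
          rw [hmul x hx.1 y hy.1, hx.2, hy.2, one_mul]⟩
        inv_mem' := fun {x} hx => ⟨R.inv_mem hx.1, by rw [inv_pow, hx.2, inv_one]⟩ }
    have hle : ⁅R, Q⁆ ≤ S := by
      rw [commutator_le]
      intro x hx q hq
      have hq' : q * x⁻¹ * q⁻¹ ∈ R := (mem_normalizer_iff.mp (hQR hq) _).mp (R.inv_mem hx)
      have e : ⁅x, q⁆ = x * (q * x⁻¹ * q⁻¹) := by rw [commutatorElement_def]; group
      refine ⟨e ▸ R.mul_mem hx hq', ?_⟩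
      have hqc : x ^ p * q = q * x ^ p := mem_centralizer_iff.mp (hQF hq) _ (hpF x hx)
      rw [e, hmul x hx _ hq', conj_pow, inv_pow]
      calc x ^ p * (q * (x ^ p)⁻¹ * q⁻¹) = (x ^ p * q) * (x ^ p)⁻¹ * q⁻¹ := by group
        _ = 1 := by rw [hqc]; group
    exact fun x hx => (hle (hRQ.ge hx)).2
  by_cases hab : IsMulCommutative R
  · haveI := hab
    have h := Coprime.centralizer_inf_commutator_eq_bot hQR hcop
    rw [hRQ, inf_eq_left.mpr inf_le_left] at h
    refine OddLocal.ZFix.inf_centralizer_ne_bot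
      (show IsPGroup p C from fun c => ⟨1, ?_⟩) R hR hCR hRne ?_
    · obtain ⟨i, hi⟩ := mem_zpowers_iff.mp c.2
      refine Subtype.ext ?_
      rw [pow_one, SubmonoidClass.coe_pow, ← hi, ← zpow_natCast, ← zpow_mul, mul_comm, zpow_mul,
        zpow_natCast, hb, one_zpow]
      rfl
    · refine le_bot_iff.mp (le_trans (fun x hx => ?_) h.le)
      refine ⟨hx.1, mem_centralizer_iff.mpr fun q hq => (mem_centralizer_iff.mp (hQZ hq) x
        (hΩ x hx.1 (hexp x hx.1) (mem_centralizer_iff.mp hx.2 b (mem_zpowers b)).symm)).symm⟩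
  -- the centre is the set of fixed points of `Q`
  set Zc := R ⊓ centralizer (R : Set G) with hZc
  have hZcne : Zc ≠ R := fun h => hab (le_centralizer_iff_isMulCommutative.mp (inf_eq_left.mp h))
  have hQZc : Q ≤ centralizer (Zc : Set G) := hsub Zc inf_le_left hZcne
    (Coprime.le_normalizer_inf (zpowers_le.mpr hbR) (Coprime.le_normalizer_centralizer
      (zpowers_le.mpr hbR)) (mem_zpowers b))
    (Coprime.le_normalizer_inf hQR (Coprime.le_normalizer_centralizer hQR))
  have hfixQ : R ⊓ centralizer (Q : Set G) ≤ Zc := by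
    refine le_inf inf_le_left ?_
    set K := R ⊓ centralizer (Q : Set G)
    have h1 : ⁅⁅K, Q⁆, R⁆ = ⊥ := by
      rw [commutator_eq_bot_iff_le_centralizer.mpr (inf_le_right : K ≤ centralizer (Q : Set G)),
        commutator_bot_left]
    have h2 : ⁅⁅R, K⁆, Q⁆ = ⊥ := commutator_eq_bot_iff_le_centralizer.mpr
      (le_centralizer_iff.mp (hQF.trans (centralizer_le ((commutator_mono le_rfl inf_le_left).trans hDF))))
    have h3 : ⁅⁅Q, R⁆, K⁆ = ⊥ := Subgroup.commutator_commutator_eq_bot_of_rotate h2 h1
    rw [commutator_comm Q R, hRQ, commutator_eq_bot_iff_le_centralizer] at h3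
    exact le_centralizer_iff.mp h3
  have hcenmap : (center R).map R.subtype = Zc := by
    ext x
    constructor
    · rintro ⟨y, hy, rfl⟩
      exact ⟨y.2, mem_centralizer_iff.mpr fun w hw => congrArg Subtype.val (mem_center_iff.mp hy ⟨w, hw⟩)⟩
    · rintro ⟨hx, hxc⟩
      exact ⟨⟨x, hx⟩, mem_center_iff.mpr fun w => Subtype.ext (mem_centralizer_iff.mp hxc w w.2), rfl⟩
  -- the action on the quotient by the centre
  set U := R ⧸ center R
  let iU : CommGroup U :=
    { (inferInstance : Group U) with
      mul_comm := fun a c => by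
        obtain ⟨a, rfl⟩ := QuotientGroup.mk'_surjective _ a
        obtain ⟨c, rfl⟩ := QuotientGroup.mk'_surjective _ c
        show QuotientGroup.mk' (center R) a * QuotientGroup.mk' (center R) c =
          QuotientGroup.mk' (center R) c * QuotientGroup.mk' (center R) a
        rw [← commutatorElement_eq_one_iff_mul_comm, ← map_commutatorElement]
        exact (QuotientGroup.eq_one_iff _).mpr (mem_center_iff.mpr fun w => Subtype.ext
          ((hcommR a a.2 c c.2).2 w w.2).eq.symm) }
  have hchar : ∀ a : MulAut R, (center R).map a.toMonoidHom = center R := fun a =>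
    characteristic_iff_map_eq.mp inferInstance a
  let ρ : MulAut R →* MulAut U :=
    { toFun := fun a => QuotientGroup.congr (center R) (center R) a (hchar a)
      map_one' := by
        ext u
        obtain ⟨u, rfl⟩ := QuotientGroup.mk'_surjective _ u
        rfl
      map_mul' := fun a c => by
        ext u
        obtain ⟨u, rfl⟩ := QuotientGroup.mk'_surjective _ u
        rfl }
  set N := normalizer (R : Set G) with hN
  let φ : N →* MulAut U := ρ.comp R.normalizerMonoidHom
  have hUexp : ∀ v : U, v ^ p = 1 := fun v => by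
    obtain ⟨v, rfl⟩ := QuotientGroup.mk'_surjective _ v
    show QuotientGroup.mk' (center R) v ^ p = 1
    rw [← map_pow, show v ^ p = 1 from Subtype.ext (hexp v v.2), map_one]
  haveI : Nontrivial U := by
    refine QuotientGroup.nontrivial_iff.mpr fun h => hZcne ?_
    rw [← hcenmap, h, ← MonoidHom.range_eq_map, range_subtype]
  have hU : Nat.card U = p ^ p := by
    refine card_eq_pow_of_fixed_le hUexp φ (Q.subgroupOf N) ?_ ⟨b, hbR⟩ (Subtype.ext hb)
      (fun q hq => (mem_normalizer_iff.mp hbQ (q : G)).mp hq) ?_ ?_ ?_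
    · rwa [Nat.card_congr (subgroupOfEquivOfLe hQR).toEquiv]
    · intro i hi hip q hq hcom
      have h1 : Commute (b ^ i) (q : G) := by
        have := congrArg Subtype.val hcom.eq
        simpa [Commute, SemiconjBy] using this
      obtain ⟨m, hm⟩ := exists_pow_eq_self_of_coprime (x := b) (n := i)
        (((hpp.coprime_iff_not_dvd.mpr (Nat.not_dvd_of_pos_of_lt hi hip)).symm).coprime_dvd_right
          (orderOf_dvd_of_pow_eq_one hb))
      exact Subtype.ext (FixedPointFree.eq_one_of_fixed hfree hq (hm ▸ h1.pow_left m))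
    · intro v hv
      obtain ⟨x, rfl⟩ := QuotientGroup.mk'_surjective _ v
      refine (QuotientGroup.eq_one_iff x).mpr ?_
      suffices hxc : (x : G) ∈ Zc by
        rw [← hcenmap] at hxc
        obtain ⟨y, hy, hye⟩ := hxc
        exact (Subtype.ext hye : y = x) ▸ hy
      refine hfixQ ⟨x.2, mem_centralizer_iff.mpr fun q hq => ?_⟩
      have h1 := hv ⟨q, hQR hq⟩ hq
      change QuotientGroup.mk' (center R) (R.normalizerMonoidHom ⟨q, hQR hq⟩ x) =
        QuotientGroup.mk' (center R) x at h1
      have h2 := (QuotientGroup.eq (s := center R)).mp h1.symm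
      have hwZ : (x : G)⁻¹ * (q * x * q⁻¹) ∈ Zc := hcenmap ▸ ⟨_, h2, rfl⟩
      set w := (x : G)⁻¹ * (q * x * q⁻¹)
      have hqw : q * w = w * q := (mem_centralizer_iff.mp (hQZc hq) w hwZ).symm
      have hit : ∀ n : ℕ, q ^ n * (x : G) * (q ^ n)⁻¹ = x * w ^ n := by
        intro n
        induction n with
        | zero => simp
        | succ n ihn =>
          calc q ^ (n + 1) * (x : G) * (q ^ (n + 1))⁻¹ = q * (q ^ n * x * (q ^ n)⁻¹) * q⁻¹ := by
                rw [pow_succ']; group
            _ = (q * x * q⁻¹) * (q * w ^ n * q⁻¹) := by rw [ihn]; group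
            _ = x * w * w ^ n := by
                rw [((show Commute q w from hqw).pow_right n).eq, mul_inv_cancel_right,
                  show q * (x : G) * q⁻¹ = x * w from (mul_inv_cancel_left _ _).symm]
            _ = x * w ^ (n + 1) := by rw [pow_succ', mul_assoc]
      have h3 := hit (orderOf q)
      rw [pow_orderOf_eq_one, one_mul, inv_one, mul_one, left_eq_mul] at h3
      have hw1 : w = 1 := orderOf_eq_one_iff.mp (Nat.eq_one_of_dvd_coprimes
        (hQ.coprime_dvd_left (Subgroup.orderOf_dvd_natCard Q hq)) (orderOf_dvd_of_pow_eq_one h3)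
        (orderOf_dvd_of_pow_eq_one (hexp w hwZ.1)))
      have h4 : q * (x : G) * q⁻¹ = x := by
        have := (mul_inv_cancel_left (x : G) (q * x * q⁻¹)).symm
        rwa [show (x : G)⁻¹ * (q * x * q⁻¹) = 1 from hw1, mul_one] at this
      exact mul_inv_eq_iff_eq_mul.mp h4
    · -- at most `p` fixed points
      let V0 : Subgroup U :=
        { carrier := {v | φ ⟨b, hbR⟩ v = v}
          one_mem' := map_one _
          mul_mem' := fun {u v} (hu : φ _ u = u) (hv : φ _ v = v) => show φ _ (u * v) = u * v by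
            rw [map_mul, hu, hv]
          inv_mem' := fun {u} (hu : φ _ u = u) => show φ _ u⁻¹ = u⁻¹ by rw [map_inv, hu] }
      let X := (V0.comap (QuotientGroup.mk' (center R)))
      have hXc : Nat.card X = Nat.card (center R) * Nat.card V0 := by
        have h1 := (center R).subgroupOf X |>.card_mul_index
        rw [Nat.card_congr (subgroupOfEquivOfLe (show center R ≤ X from
          le_trans (QuotientGroup.ker_mk' _).ge (comap_mono bot_le))).toEquiv] at h1
        rw [← h1]
        congr 1
        show (center R).relIndex X = _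
        conv_lhs => rw [← QuotientGroup.ker_mk' (center R)]
        rw [relIndex_ker, map_comap_eq_self_of_surjective (QuotientGroup.mk'_surjective _)]
      have hmemX : ∀ x : X, ⁅((x : R) : G), b⁆ ∈ Zc := by
        intro x
        have h1 : QuotientGroup.mk' (center R) (R.normalizerMonoidHom ⟨b, hbR⟩ (x : R)) =
          QuotientGroup.mk' (center R) (x : R) := x.2
        have h2 : ((x : R) : G)⁻¹ * (b * (x : R) * b⁻¹) ∈ Zc :=
          hcenmap ▸ ⟨_, (QuotientGroup.eq (s := center R)).mp h1.symm, rfl⟩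
        have hc : Commute ((x : R) : G) (((x : R) : G)⁻¹ * (b * (x : R) * b⁻¹)) :=
          mem_centralizer_iff.mp h2.2 _ (x : R).2
        have e : ⁅((x : R) : G), b⁆ = (((x : R) : G)⁻¹ * (b * (x : R) * b⁻¹))⁻¹ := by
          calc ⁅((x : R) : G), b⁆
              = (x : R) * ((((x : R) : G)⁻¹ * (b * (x : R) * b⁻¹))⁻¹) * ((x : R) : G)⁻¹ := by
                rw [commutatorElement_def]; group
            _ = _ := by rw [hc.inv_right.eq, mul_inv_cancel_right]
        rw [e]
        exact Zc.inv_mem h2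
      let ψ : X →* Zc := MonoidHom.mk' (fun x => ⟨_, hmemX x⟩) fun x y => Subtype.ext (by
        show ⁅(((x * y : X) : R) : G), b⁆ = ⁅((x : R) : G), b⁆ * ⁅((y : R) : G), b⁆
        have hc : Commute ((x : R) : G) ⁅((y : R) : G), b⁆ :=
          mem_centralizer_iff.mp (hmemX y).2 _ (x : R).2
        rw [show ⁅(((x * y : X) : R) : G), b⁆ =
          (x : R) * ⁅((y : R) : G), b⁆ * ((x : R) : G)⁻¹ * ⁅((x : R) : G), b⁆ by
            simp only [commutatorElement_def, Subgroup.coe_mul]; group,
          hc.eq, mul_inv_cancel_right]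
        exact mem_centralizer_iff.mp (hmemX x).2 _ (hmemX y).1)
      have hker : Nat.card ψ.ker ≤ p := by
        refine le_trans (Nat.card_le_card_of_injective (fun x : ψ.ker => (⟨((x : X) : R), ?_⟩ : Z))
          fun a c h => Subtype.ext (Subtype.ext (Subtype.ext (congrArg (fun z : Z => (z : G)) h :)))) hZ
        exact hΩ _ ((x : X) : R).2 (hexp _ ((x : X) : R).2)
          (commutatorElement_eq_one_iff_mul_comm.mp (congrArg Subtype.val x.2 :))
      have h1 := ψ.ker.card_mul_index
      rw [index_ker] at h1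
      have h2 : Nat.card X ≤ p * Nat.card Zc := by
        rw [← h1]
        exact Nat.mul_le_mul hker (Nat.le_of_dvd Nat.card_pos (card_subgroup_dvd_card _))
      rw [hXc, ← hcenmap, card_map_of_injective R.subtype_injective, mul_comm p] at h2
      exact Nat.le_of_mul_le_mul_left h2 Nat.card_pos
  -- parity
  set D := ⁅R, R⁆ with hD
  have hDR : D ≤ R := commutator_le_self R
  have hDne : D ≠ ⊥ := fun h => hab (le_centralizer_iff_isMulCommutative.mp
    (commutator_eq_bot_iff_le_centralizer.mp h))
  have hDC : Q ≤ centralizer (D : Set G) := hQF.trans (centralizer_le hDF)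
  have hbD : b ∈ normalizer (D : Set G) := FixedPointFree.mem_normalizer_commutator hbR hbR
  obtain ⟨D₀, hD₀D, hD₀c, hbD₀⟩ : ∃ D₀ : Subgroup G, D₀ ≤ D ∧ p * Nat.card D₀ = Nat.card D ∧
      b ∈ normalizer (D₀ : Set G) := by
    set Γ := zpowers b ⊔ D with hΓ
    haveI : (D.subgroupOf Γ).Normal := by
      rw [normal_subgroupOf_iff_le_normalizer le_sup_right]
      exact sup_le (zpowers_le.mpr hbD) le_normalizer
    have hCp : IsPGroup p (zpowers b) := by
      obtain ⟨i, -, hi⟩ := (Nat.dvd_prime_pow hpp).mp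
        ((orderOf_dvd_of_pow_eq_one hb).trans (dvd_of_eq (pow_one p).symm))
      exact IsPGroup.of_card (n := i) (by rw [Nat.card_zpowers, hi])
    have hΓp : IsPGroup p Γ :=
      IsPGroup.to_sup_of_normal_right' hCp (hR.to_le hDR) (zpowers_le.mpr hbD)
    obtain ⟨j, hj⟩ := (hR.to_le hDR).exists_card_eq
    have hDc : Nat.card (D.subgroupOf Γ) = p ^ j := by
      rw [Nat.card_congr (subgroupOfEquivOfLe le_sup_right).toEquiv, hj]
    rcases j with - | j
    · exact absurd (card_eq_one.mp (by rw [hj, pow_zero])) hDne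
    obtain ⟨L, hLn, hLD, hLc⟩ := exists_normal_le_card_eq hΓp (D.subgroupOf Γ) (i := j)
      (by rw [hDc]; exact Nat.pow_le_pow_right hpp.pos (Nat.le_succ j))
    refine ⟨L.map Γ.subtype, ?_, ?_, ?_⟩
    · rintro _ ⟨l, hl, rfl⟩; exact hLD hl
    · rw [card_map_of_injective Γ.subtype_injective, hLc, hj, pow_succ']
    · have hbΓ : b ∈ Γ := mem_sup_left (mem_zpowers b)
      refine mem_normalizer_iff.mpr fun x => ⟨?_, ?_⟩
      · rintro ⟨l, hl, rfl⟩
        exact ⟨_, hLn.conj_mem l hl ⟨b, hbΓ⟩, rfl⟩
      · rintro ⟨l, hl, hle⟩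
        refine ⟨_, hLn.conj_mem l hl ⟨b, hbΓ⟩⁻¹, ?_⟩
        simp only [coe_subtype, Subgroup.coe_mul, Subgroup.coe_inv] at hle ⊢
        rw [hle]; group
  have hQD₀ : Q ≤ normalizer (D₀ : Set G) :=
    hDC.trans ((centralizer_le hD₀D).trans (centralizer_le_normalizer _))
  have hnot : ¬ D ≤ D₀ := fun h => by
    have h1 := card_le_of_le h
    rw [← hD₀c] at h1
    exact h1.not_gt (lt_mul_of_one_lt_left Nat.card_pos hpp.one_lt)
  have hDZ : D ≤ Zc := le_inf hDR (le_centralizer_iff.mp (hRF.trans (centralizer_le hDF)))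
  -- elements commuting modulo `D₀` are central
  have hdet : ∀ x ∈ R, (∀ y ∈ R, ⁅x, y⁆ ∈ D₀) → x ∈ Zc := by
    let T : Subgroup G :=
      { carrier := {x | x ∈ R ∧ ∀ y ∈ R, ⁅x, y⁆ ∈ D₀}
        one_mem' := ⟨R.one_mem, fun y _ => by rw [commutatorElement_one_left]; exact D₀.one_mem⟩
        mul_mem' := fun {x y} hx hy => ⟨R.mul_mem hx.1 hy.1, fun w hw => by
          rw [show ⁅x * y, w⁆ = x * ⁅y, w⁆ * x⁻¹ * ⁅x, w⁆ by simp only [commutatorElement_def]; group,
            ← ((hcommR y hy.1 w hw).2 x hx.1).eq, mul_inv_cancel_right]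
          exact D₀.mul_mem (hy.2 w hw) (hx.2 w hw)⟩
        inv_mem' := fun {x} hx => ⟨R.inv_mem hx.1, fun w hw => by
          rw [show ⁅x⁻¹, w⁆ = x⁻¹ * ⁅x, w⁆⁻¹ * x by simp only [commutatorElement_def]; group,
            mul_assoc, (((hcommR x hx.1 w hw).2 x hx.1).inv_left).eq, inv_mul_cancel_left]
          exact D₀.inv_mem (hx.2 w hw)⟩ }
    have hTn : ∀ g : G, g ∈ normalizer (R : Set G) → g ∈ normalizer (D₀ : Set G) →
        ∀ x ∈ T, g * x * g⁻¹ ∈ T := by
      intro g hg hg0 x hx
      refine ⟨(mem_normalizer_iff.mp hg x).mp hx.1, fun y hy => ?_⟩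
      rw [show ⁅g * x * g⁻¹, y⁆ = g * ⁅x, g⁻¹ * y * g⁆ * g⁻¹ by simp only [commutatorElement_def]; group]
      exact (mem_normalizer_iff.mp hg0 _).mp (hx.2 _ ((mem_normalizer_iff''.mp hg y).mp hy))
    have hnorm : ∀ g : G, g ∈ normalizer (R : Set G) → g ∈ normalizer (D₀ : Set G) →
        g ∈ normalizer (T : Set G) := fun g hg hg0 => mem_normalizer_iff.mpr fun x =>
      ⟨hTn g hg hg0 x, fun hx => by
        simpa [mul_assoc] using hTn g⁻¹ (inv_mem hg) (inv_mem hg0) _ hx⟩
    have hTne : T ≠ R := fun h => hnot (by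
      rw [hD, commutator_le]
      exact fun x hx y hy => (h.ge hx).2 y hy)
    have hQT := hsub T (fun x hx => hx.1) hTne (hnorm b hbR hbD₀) fun q hq => hnorm q (hQR hq) (hQD₀ hq)
    exact fun x hx hxy => hfixQ ⟨hx, le_centralizer_iff.mp hQT (show x ∈ T from ⟨hx, hxy⟩)⟩
  obtain ⟨H, ⟨hH0, hHZ, hHD⟩, hHmax⟩ := Set.Finite.exists_maximal
    (Set.toFinite {H : Subgroup G | D₀ ≤ H ∧ H ≤ Zc ∧ ¬ D ≤ H})
    ⟨D₀, le_rfl, hD₀D.trans hDZ, hnot⟩
  haveI hZcc : IsMulCommutative Zc := ⟨⟨fun x y => Subtype.ext
    (mem_centralizer_iff.mp y.2.2 x x.2.1)⟩⟩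
  have hsupD : ∀ K : Subgroup G, H < K → K ≤ Zc → D ≤ K := fun K hlt hK => by
    by_contra hcon
    exact hlt.not_ge (hHmax ⟨hH0.trans hlt.le, hK, hcon⟩ hlt.le)
  have hHD0 : H ⊓ D = D₀ := by
    refine (eq_of_le_of_card_ge (le_inf hH0 hD₀D) ?_).symm
    obtain ⟨a, ha⟩ := (hR.to_le (inf_le_right.trans hDR : H ⊓ D ≤ R)).exists_card_eq
    obtain ⟨c, hc⟩ := (hR.to_le hDR).exists_card_eq
    obtain ⟨e, he⟩ := (hR.to_le (hD₀D.trans hDR)).exists_card_eq
    have h1 : Nat.card (H ⊓ D : Subgroup G) < Nat.card D := lt_of_le_of_ne (card_le_of_le inf_le_right)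
      fun h => hHD ((eq_of_le_of_card_ge inf_le_right h.ge).ge.trans inf_le_left)
    rw [ha, hc] at h1
    rw [he, hc, ← pow_succ'] at hD₀c
    have h2 := Nat.pow_right_injective hpp.two_le hD₀c
    have h3 := (Nat.pow_lt_pow_iff_right hpp.one_lt).mp h1
    rw [ha, he]
    exact Nat.pow_le_pow_right hpp.pos (by omega)
  have hHDcard : Nat.card (H ⊔ D : Subgroup G) = p * Nat.card H := by
    have h := S0606.card_sup_mul_card_inf_of_le_normalizer (H := H) (N := D)
      ((hHZ.trans (le_centralizer_iff_isMulCommutative.mpr hZcc)).trans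
        ((centralizer_le hDZ).trans (centralizer_le_normalizer _)))
    rw [hHD0, ← hD₀c] at h
    exact Nat.eq_of_mul_eq_mul_right (Nat.card_pos (α := D₀)) (h.trans (by ring))
  have hZcHD : Zc = H ⊔ D := by
    refine le_antisymm (fun x hx => ?_) (sup_le hHZ hDZ)
    by_cases hxH : x ∈ H
    · exact mem_sup_left hxH
    set K := H ⊔ zpowers x
    have hlt : H < K := lt_of_le_of_ne le_sup_left fun h => hxH (h.ge (mem_sup_right (mem_zpowers x)))
    have hDK : D ≤ K := hsupD K hlt (sup_le hHZ (zpowers_le.mpr hx))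
    have hKc : Nat.card K ≤ p * Nat.card H := by
      have h := S0606.card_sup_mul_card_inf_of_le_normalizer (H := H) (N := zpowers x)
        ((hHZ.trans (le_centralizer_iff_isMulCommutative.mpr hZcc)).trans
          ((centralizer_le (zpowers_le.mpr hx)).trans (centralizer_le_normalizer _)))
      calc Nat.card K ≤ Nat.card K * Nat.card (H ⊓ zpowers x : Subgroup G) :=
            Nat.le_mul_of_pos_right _ Nat.card_pos
        _ = Nat.card H * Nat.card (zpowers x) := h
        _ ≤ Nat.card H * p := Nat.mul_le_mul_left _ (by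
            rw [Nat.card_zpowers]
            exact Nat.le_of_dvd hpp.pos (orderOf_dvd_of_pow_eq_one (hexp x hx.1)))
        _ = p * Nat.card H := mul_comm _ _
    rw [eq_of_le_of_card_ge (sup_le le_sup_left hDK : H ⊔ D ≤ K) (hKc.trans hHDcard.ge)]
    exact mem_sup_right (mem_zpowers x)
  -- contradiction with the parity
  haveI : (H.subgroupOf R).Normal := by
    rw [normal_subgroupOf_iff_le_normalizer (hHZ.trans inf_le_left)]
    exact (le_centralizer_iff.mp (hHZ.trans inf_le_right)).trans (centralizer_le_normalizer _)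
  obtain ⟨m, hm⟩ := center_index_even (p := p) (fun x : R => Subtype.ext (hexp x x.2)) (H.subgroupOf R)
    (fun x hx => mem_center_iff.mpr fun y => Subtype.ext
      (mem_centralizer_iff.mp (hHZ hx).2 y y.2))
    (by
      rw [_root_.commutator_def, commutator_le]
      exact fun x _ y _ => mem_center_iff.mpr fun w => Subtype.ext
        ((hcommR x x.2 y y.2).2 w w.2).eq.symm)
    (by
      rw [← card_map_of_injective (K := center R) R.subtype_injective, hcenmap, hZcHD, hHDcard,
        Nat.card_congr (subgroupOfEquivOfLe (hHZ.trans inf_le_left)).toEquiv])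
    (fun h => hHD (by
      rw [hD, commutator_le]
      exact fun x hx y hy => h (commutator_mem_commutator (mem_top (⟨x, hx⟩ : R)) (mem_top ⟨y, hy⟩))))
    (fun x hxH => by
      have hxZ : (x : G) ∈ Zc := hdet x x.2 fun y hy => by
        rw [← hHD0]
        exact ⟨hxH ⟨y, hy⟩, commutator_mem_commutator x.2 hy⟩
      rw [← hcenmap] at hxZ
      obtain ⟨y, hy, hye⟩ := hxZ
      exact (Subtype.ext hye : y = x) ▸ hy)
  rw [index_eq_card] at hm
  have h := Nat.pow_right_injective hpp.two_le (hm.symm.trans hU)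
  obtain ⟨t, ht⟩ := hpp.odd_of_ne_two hp2
  omega

end Cfsg.Agent.Fusion.FixedLine
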