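import Cfsg.Agent.Fusion.LocalZ
import Cfsg.Agent.Fusion.ThompsonComplement
import Cfsg.Agent.KInf.AbTop
import Cfsg.Agent.Control.Sections

/-!
# The Glauberman–Thompson normal `p`-complement theorem

`IsZSel W` : `W` chooses, compatibly with homomorphisms injective on its argument, a subgroup that is
normal for strongly closed arguments in `p`-stable groups with `C(O_p) ≤ O_p`.
`hasNormalPComplement_of_sel` : if `N(W D)` has a normal `p`-complement for some `D` strongly closed in a
Sylow subgroup, so does `G`.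
-/

set_option autoImplicit false
set_option maxHeartbeats 1000000

namespace Cfsg.Agent.Fusion.GlaubermanThompson

open Subgroup
open scoped commutatorElement

universe u

variable {p : ℕ}

/-- A selection of a subgroup of each `p`-subgroup, as in the ZJ-theorem. -/
structure IsZSel (p : ℕ) (W : ∀ (G : Type u) [Group G], Subgroup G → Subgroup G) : Prop where
  le : ∀ (G : Type u) [Group G] [Finite G] (D : Subgroup G), W G D ≤ D
  ne_bot : ∀ (G : Type u) [Group G] [Finite G] (D : Subgroup G), IsPGroup p D → D ≠ ⊥ → W G D ≠ ⊥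
  map : ∀ (G H : Type u) [Group G] [Group H] [Finite G] (f : G →* H) (D : Subgroup G),
    D ⊓ f.ker = ⊥ → (W G D).map f = W H (D.map f)
  normal : ∀ (G : Type u) [Group G] [Finite G], PStableNormal p G →
    centralizer (pCore p G : Set G) ≤ pCore p G → ∀ (S : Sylow p G) (D : Subgroup G),
      IsStronglyClosed D (S : Subgroup G) → (W G D).Normal

variable {W : ∀ (G : Type u) [Group G], Subgroup G → Subgroup G}

theorem IsZSel.map_injective (hW : IsZSel p W) {G H : Type u} [Group G] [Group H] [Finite G]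
    {f : G →* H} (hf : Function.Injective f) (D : Subgroup G) : (W G D).map f = W H (D.map f) :=
  hW.map G H f D (by rw [(MonoidHom.ker_eq_bot_iff f).mpr hf, inf_bot_eq])

open Classical in
/-- `U ↦ W (dHat D U)`, replaced by `W U` where `dHat D U` is trivial. -/
noncomputable def selFun (W : ∀ (G : Type u) [Group G], Subgroup G → Subgroup G) {G : Type u}
    [Group G] (D U : Subgroup G) : Subgroup G :=
  if dHat D U = ⊥ then W G U else W G (dHat D U)

variable {G : Type u} [Group G] [Finite G] [hp : Fact p.Prime]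

theorem isConjugacyFunctor_selFun (hW : IsZSel p W) (D : Subgroup G) :
    IsConjugacyFunctor p (selFun W D) := by
  intro P hP
  refine ⟨?_, fun hne => ?_, fun g => ?_⟩
  · unfold selFun
    split
    · exact hW.le G P
    · exact (hW.le G _).trans (dHat_le D P)
  · unfold selFun
    split
    · exact hW.ne_bot G P hP hne
    · next h => exact hW.ne_bot G _ (hP.to_le (dHat_le D P)) h
  · change selFun W D (Control.cjSub g P) = Control.cjSub g (selFun W D P)
    unfold selFun
    rw [dHat_cjSub]
    by_cases h : dHat D P = ⊥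
    · rw [if_pos h, if_pos (by rw [h]; exact map_bot _)]
      exact (hW.map_injective (MulAut.conj g).injective P).symm
    · rw [if_neg h, if_neg (Control.cjSub_ne_bot h)]
      exact (hW.map_injective (MulAut.conj g).injective _).symm

theorem selFun_sylow (S : Sylow p G) {D : Subgroup G} (hD : IsStronglyClosed D (S : Subgroup G))
    (hne : D ≠ ⊥) : selFun W D (S : Subgroup G) = W G D := by
  rw [selFun, dHat_eq_inf hD le_rfl, inf_of_le_left hD.1, if_neg hne]

theorem exists_selFun_eq (S : Sylow p G) {D : Subgroup G} (hD : IsStronglyClosed D (S : Subgroup G))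
    {T : Subgroup G} (hT : IsPGroup p T) :
    ∃ D' : Subgroup G, IsStronglyClosed D' T ∧ selFun W D T = W G D' := by
  by_cases h : dHat D T = ⊥
  · exact ⟨T, ⟨le_rfl, fun _ _ _ h => h⟩, if_pos h⟩
  obtain ⟨Q, hQ⟩ := hT.exists_le_sylow
  obtain ⟨g, hg⟩ := MulAction.exists_smul_eq G S Q
  have hTg : T ≤ Control.cjSub g (S : Subgroup G) := by rw [← hg] at hQ; exact hQ
  refine ⟨dHat D T, ⟨dHat_le D T, fun x hx n hn => ?_⟩, if_neg h⟩
  have e : dHat D T = Control.cjSub g (D ⊓ Control.cjSub g⁻¹ T) := by
    conv_lhs => rw [show T = Control.cjSub g (Control.cjSub g⁻¹ T) by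
      rw [Control.cjSub_cjSub, mul_inv_cancel, Control.cjSub_one]]
    rw [dHat_cjSub, dHat_eq_inf hD ?_]
    exact (map_mono hTg).trans (le_of_eq ((Control.cjSub_cjSub g⁻¹ g _).trans
      (by rw [inv_mul_cancel, Control.cjSub_one])))
  rw [e, Control.mem_cjSub] at hx ⊢
  refine ⟨?_, Control.mem_cjSub.mpr (by simpa [mul_assoc] using hn)⟩
  have h2 := hD.2 _ hx.1 (g⁻¹ * n * g) (by
    have := Control.mem_cjSub.mp (hTg hn)
    simpa [mul_assoc] using this)
  simpa [mul_assoc] using h2

/-- Strong closure survives a quotient by a normal subgroup meeting the Sylow subgroup in `1`. -/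
theorem isStronglyClosed_map_of_coprime {H : Type u} [Group H] {f : G →* H} (hfs : Function.Surjective f)
    (hker : (Nat.card f.ker).Coprime p) (S : Sylow p G)
    {D : Subgroup G} (hD : IsStronglyClosed D (S : Subgroup G)) :
    IsStronglyClosed (D.map f) ((S : Subgroup G).map f) := by
  refine ⟨map_mono hD.1, ?_⟩
  rintro _ ⟨x, hx, rfl⟩ h hh
  obtain ⟨y, hy, hy'⟩ := hh
  obtain ⟨g, rfl⟩ := hfs h
  have hxg : g * x * g⁻¹ ∈ f.ker ⊔ (S : Subgroup G) := by
    have hk : g * x * g⁻¹ * y⁻¹ ∈ f.ker :=
      MonoidHom.mem_ker.mpr (by rw [map_mul, map_inv, hy', map_mul, map_mul, map_inv, mul_inv_cancel])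
    have := mul_mem (mem_sup_left hk : g * x * g⁻¹ * y⁻¹ ∈ f.ker ⊔ (S : Subgroup G)) (mem_sup_right hy)
    rwa [inv_mul_cancel_right] at this
  have hz : IsPGroup p (zpowers (g * x * g⁻¹)) :=
    (S.2.map (MulAut.conj g).toMonoidHom).to_le (zpowers_le.mpr ⟨x, hD.1 hx, rfl⟩)
  obtain ⟨d, hd, hdle⟩ := ((Control.sylIn_top S).mono (H := ⊤) (K := f.ker ⊔ (S : Subgroup G))
    le_sup_right le_top).exists_cjSub_le hz (zpowers_le.mpr hxg)
  obtain ⟨s, hs, k, hk, rfl⟩ := mem_sup_of_normal_right.mp (show d ∈ (S : Subgroup G) ⊔ f.ker by rwa [sup_comm])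
  have h1 : s * k * (g * x * g⁻¹) * (s * k)⁻¹ ∈ (S : Subgroup G) := hdle ⟨_, mem_zpowers _, rfl⟩
  have h2 := mul_mem (mul_mem (Subgroup.inv_mem _ hs) h1) hs
  have h3 : k * g * x * (k * g)⁻¹ ∈ (S : Subgroup G) := by simpa [mul_assoc] using h2
  refine ⟨_, hD.2 x hx (k * g) h3, ?_⟩
  rw [map_mul, map_mul, map_inv, map_mul, MonoidHom.mem_ker.mp hk, one_mul]

omit [Finite G] hp in
/-- Strong closure survives a quotient by a normal subgroup inside `S`. -/
theorem isStronglyClosed_map_of_le {H : Type u} [Group H] {f : G →* H} (hfs : Function.Surjective f)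
    {S D : Subgroup G} (hker : f.ker ≤ S) (hD : IsStronglyClosed D S) :
    IsStronglyClosed (D.map f) (S.map f) := by
  refine ⟨map_mono hD.1, ?_⟩
  rintro _ ⟨x, hx, rfl⟩ h hh
  obtain ⟨g, rfl⟩ := hfs h
  rw [← map_inv, ← map_mul, ← map_mul] at hh ⊢
  have : g * x * g⁻¹ ∈ S := by
    obtain ⟨y, hy, hyx⟩ := hh
    have := mul_mem hy (hker (show y⁻¹ * (g * x * g⁻¹) ∈ f.ker from
      MonoidHom.mem_ker.mpr (by rw [map_mul, map_inv, hyx, inv_mul_cancel])))
    rwa [mul_inv_cancel_left] at this
  exact mem_map_of_mem f (hD.2 x hx g this)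

omit [Finite G] hp in
theorem cjSub_isStronglyClosed {S D : Subgroup G} (hD : IsStronglyClosed D S) (g : G) :
    IsStronglyClosed (Control.cjSub g D) (Control.cjSub g S) := by
  refine ⟨map_mono hD.1, fun x hx n hn => ?_⟩
  rw [Control.mem_cjSub] at hx hn ⊢
  have h2 := hD.2 _ hx (g⁻¹ * n * g) (by simpa [mul_assoc] using hn)
  simpa [mul_assoc] using h2

/-- The normal `p`-complement criterion. -/
theorem hasNormalPComplement_of_sel (hW : IsZSel p W) (hp2 : p ≠ 2) {G : Type u} [Group G] [Finite G]
    (S : Sylow p G) (D : Subgroup G) (hD : IsStronglyClosed D (S : Subgroup G))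
    (hN : HasNormalPComplement p ↥(normalizer (W G D : Set G))) : HasNormalPComplement p G := by
  induction hn : Nat.card G using Nat.strong_induction_on generalizing G with
  | _ n IH =>
  subst hn
  have hpp := hp.out
  by_contra hG
  have htopc : ∀ {L : Subgroup G}, L = ⊤ → Cfsg.HasNormalPComplement p L → False := fun hL h => by
    subst hL; exact hG ((Fusion.hasNormalPComplement_congr topEquiv).mp h)
  have hDne : D ≠ ⊥ := fun h => htopc (normalizer_eq_top_iff.mpr (by
    rw [le_bot_iff.mp ((hW.le G D).trans h.le)]; infer_instance)) hN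
  -- no normal `p'`-subgroup
  have hO' : Cfsg.pPrimeCore p G = ⊥ := by
    by_contra hne
    set M := Cfsg.pPrimeCore p G
    set f := QuotientGroup.mk' M with hf
    have hfs := QuotientGroup.mk'_surjective M
    have hker : (Nat.card f.ker).Coprime p := by
      rw [hf, QuotientGroup.ker_mk']; exact Core.coprime_card_pPrimeCore
    refine hG (Fusion.hasNormalPComplement_of_quotient M Core.coprime_card_pPrimeCore ?_)
    have hDp : IsPGroup p D := S.2.to_le hD.1
    refine IH _ (Core.card_quotient_lt hne) (S.mapSurjective hfs) (D.map f) ?_ ?_ rfl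
    · rw [Sylow.coe_mapSurjective]; exact isStronglyClosed_map_of_coprime hfs hker S hD
    rw [← hW.map G _ f D (Layer.inf_eq_bot_of_isPGroup hDp hker),
      ← Layer.map_normalizer_of_coprime hfs hker (hDp.to_le (hW.le G D))]
    exact Fusion.hasNormalPComplement_map f hN le_rfl
  obtain ⟨U, hU, hU1, hUn, hUmax⟩ := Fusion.exists_normalizer_not_complement hG
  set N := normalizer (U : Set G) with hNdef
  obtain ⟨T⟩ := (inferInstance : Nonempty (Sylow p N))
  set S₁ : Subgroup G := (T : Subgroup N).map N.subtype with hS₁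
  have hS₁p : IsPGroup p S₁ := T.2.map _
  obtain ⟨R, hSR⟩ := hS₁p.exists_le_sylow
  obtain ⟨g, hg⟩ := MulAction.exists_smul_eq G S R
  replace hN : HasNormalPComplement p ↥(normalizer (W G (Control.cjSub g D) : Set G)) := by
    refine Fusion.hasNormalPComplement_of_map_le (f := (MulAut.conj g⁻¹).toMonoidHom)
      (MulAut.conj g⁻¹).injective ?_ hN
    rw [← hW.map_injective (MulAut.conj g).injective]
    exact Fusion.map_normalizer_conj g _
  replace hD : IsStronglyClosed (Control.cjSub g D) (R : Subgroup G) := by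
    rw [← hg]; exact cjSub_isStronglyClosed hD g
  replace hDne : Control.cjSub g D ≠ ⊥ := Control.cjSub_ne_bot hDne
  generalize Control.cjSub g D = E at hN hD hDne
  clear hg g
  clear! S
  clear D
  rename' E => D
  rename' R => P
  set F := selFun W D with hF
  have hWc : IsConjugacyFunctor p F := isConjugacyFunctor_selFun hW D
  have hFP : F (P : Subgroup G) = W G D := selFun_sylow P hD hDne
  have hsub : ∀ (H : Subgroup G), H ≠ ⊤ → ∀ (T : Sylow p H),
      HasNormalPComplement p (normalizer ((F ((T : Subgroup H).map H.subtype) : Subgroup G) : Set G)) →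
      HasNormalPComplement p H := by
    intro H hH T h1
    obtain ⟨D', hD', he⟩ := exists_selFun_eq (W := W) P hD (T.2.map H.subtype)
    rw [hF, he] at h1
    have hD'H : (D'.subgroupOf H).map H.subtype = D' :=
      map_subgroupOf_eq_of_le (hD'.1.trans (map_subtype_le _))
    refine IH _ (Core.card_lt_of_ne_top hH) T (D'.subgroupOf H) ?_ ?_ rfl
    · refine ⟨fun x hx => ?_, fun x hx h hh => hD'.2 _ hx h (mem_map_of_mem H.subtype hh)⟩
      exact (mem_map_iff_mem H.subtype_injective).mp (hD'.1 hx)
    refine Fusion.hasNormalPComplement_of_map_le H.subtype_injective ?_ h1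
    conv_rhs => rw [← hD'H, ← hW.map_injective H.subtype_injective]
    exact le_normalizer_map _
  have hTS : (T : Subgroup N) = S₁.subgroupOf N :=
    (comap_map_eq_self_of_injective N.subtype_injective _).symm
  have hUS : U ≤ S₁ := by
    have hUN : (U.subgroupOf N).Normal := normal_in_normalizer
    have h1 : U.subgroupOf N ≤ (T : Subgroup N) :=
      (Core.le_pCore (hN := hUN) (hU.comap_subtype (K := N))).trans (Core.pCore_le_sylow T)
    intro x hx
    exact mem_map_of_mem N.subtype (h1 (show (⟨x, le_normalizer hx⟩ : N) ∈ U.subgroupOf N from hx))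
  have hS1 : S₁ ≠ ⊥ := fun h => hU1 (le_bot_iff.mp (h ▸ hUS))
  have hnormW : ∀ {X : Subgroup G}, IsPGroup p X → ∀ {x : G}, x ∈ normalizer (X : Set G) →
      x ∈ normalizer ((F X : Subgroup G) : Set G) := fun {X} hX x hx => by
    refine Control.mem_normalizer_of_cjSub_eq (((hWc X hX).2.2 x).symm.trans ?_)
    exact congrArg _ (Control.cjSub_eq_of_mem hx)
  have hSP : S₁ = (P : Subgroup G) := by
    by_contra hne
    have hlt : S₁ < (P : Subgroup G) := lt_of_le_of_ne hSR hne
    obtain ⟨x, hx, hxS⟩ := SetLike.exists_of_lt (Fusion.lt_inf_normalizer_of_isPGroup P.2 hlt)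
    obtain ⟨hxP, hxn⟩ := hx
    have hS' : S₁ ⊔ zpowers x ≤ normalizer ((F S₁ : Subgroup G) : Set G) :=
      sup_le (fun s hs => hnormW hS₁p (le_normalizer hs)) (zpowers_le.mpr (hnormW hS₁p hxn))
    have hWn : Cfsg.HasNormalPComplement p
        ↥(normalizer ((F S₁ : Subgroup G) : Set G)) := by
      by_contra hc
      have h1 := (hUmax _ (hS₁p.to_le (hWc _ hS₁p).1) ((hWc _ hS₁p).2.1 hS1) hc).1
      obtain ⟨i, hi⟩ := IsPGroup.iff_card.mp (P.2.to_le (sup_le hSR (zpowers_le.mpr hxP)) :
        IsPGroup p (S₁ ⊔ zpowers x : Subgroup G))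
      have h2 : Nat.card S₁ < Nat.card (S₁ ⊔ zpowers x : Subgroup G) :=
        Core.card_lt_of_lt (lt_of_le_of_ne le_sup_left
          fun h => hxS (h ▸ mem_sup_right (mem_zpowers x)))
      have h3 : Nat.card S₁ = p ^ (Nat.card N).factorization p := by
        rw [hS₁, card_map_of_injective N.subtype_injective, T.card_eq_multiplicity]
      rw [h3, hi] at h2
      have h4 := (Nat.pow_lt_pow_iff_right hpp.one_lt).mp h2
      have h5 : i ≤ (Nat.card (normalizer
          ((F S₁ : Subgroup G) : Set G))).factorization p :=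
        (hpp.pow_dvd_iff_le_factorization Nat.card_pos.ne').mp (hi ▸ card_dvd_of_le hS')
      omega
    refine hUn (hsub N (fun ht => hxS ?_) T hWn)
    have h1 : (P : Subgroup G).subgroupOf N = (T : Subgroup N) :=
      T.3 (P.2.comap_subtype (K := N)) (by rw [hTS]; exact fun y hy => hSR hy)
    have h2 : (⟨x, ht ▸ mem_top x⟩ : N) ∈ (P : Subgroup G).subgroupOf N := hxP
    rw [h1] at h2
    exact mem_map_of_mem N.subtype h2
  have hNtop : N = ⊤ := by
    by_contra hne
    refine hUn (hsub N hne T ?_)
    rw [← hS₁, hSP, hFP]; exact hN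
  set O := Cfsg.pCore p G with hO
  have hUO : U ≤ O := by
    have := normalizer_eq_top_iff.mp hNtop
    exact Core.le_pCore hU
  have hOp : IsPGroup p O := Core.pCore_isPGroup
  have hO1 : O ≠ ⊥ := fun h => hU1 (le_bot_iff.mp (h ▸ hUO))
  have hOP : O ≤ (P : Subgroup G) := Core.pCore_le_sylow P
  have hWn : ¬ (W G D).Normal := fun h =>
    htopc (normalizer_eq_top_iff.mpr h) hN
  have hlocal : ∀ X : Subgroup G, IsPGroup p X → O < X → (P : Subgroup G) ≤ normalizer (X : Set G) →
      Cfsg.HasNormalPComplement p (normalizer (X : Set G)) := by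
    intro X hX hlt hPX
    by_contra hc
    have h1 := hUmax X hX (fun h => by rw [h] at hlt; exact not_lt_bot hlt) hc
    have h2 : (Nat.card (normalizer (X : Set G))).factorization p =
        (Nat.card N).factorization p := by
      refine le_antisymm h1.1 ((hpp.pow_dvd_iff_le_factorization Nat.card_pos.ne').mp ?_)
      rw [hNtop, card_top, ← P.card_eq_multiplicity]
      exact card_dvd_of_le hPX
    have h3 := h1.2 h2
    have h4 : Nat.card U ≤ Nat.card O := Nat.le_of_dvd Nat.card_pos (card_dvd_of_le hUO)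
    have := Core.card_lt_of_lt hlt
    omega
  -- `G / O`
  set f := QuotientGroup.mk' O with hf
  have hfs := QuotientGroup.mk'_surjective O
  have hfker : f.ker = O := QuotientGroup.ker_mk' O
  have hfO : ∀ y ∈ O, f y = 1 := fun y hy => (QuotientGroup.eq_one_iff y).mpr hy
  have hcomap : ∀ X : Subgroup (G ⧸ O), O ≤ X.comap f := fun X y hy =>
    mem_comap.mpr ((hfO y hy).symm ▸ one_mem X)
  set Pb : Subgroup (G ⧸ O) := (P : Subgroup G).map f with hPb
  set Db : Subgroup (G ⧸ O) := D.map f with hDb
  have hPbp : IsPGroup p Pb := P.2.map f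
  have hDbp : IsPGroup p Db := hPbp.to_le (map_mono hD.1)
  have hDb1 : Db ≠ ⊥ := fun h => hWn <| by
    rw [hDb, Subgroup.map_eq_bot_iff, hfker] at h
    have hDn : D.Normal := ⟨fun x hx g => hD.2 x hx g (hOP ((inferInstance : O.Normal).conj_mem x (h hx) g))⟩
    refine ⟨fun x hx g => ?_⟩
    have h2 := hW.map_injective (f := (MulAut.conj g).toMonoidHom) (MulAut.conj g).injective D
    rw [show D.map (MulAut.conj g).toMonoidHom = D from
      mem_normalizer_iff_map_conj_eq.mp (normalizer_eq_top D ▸ mem_top g)] at h2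
    exact h2.le ⟨x, hx, rfl⟩
  have hDbS : IsStronglyClosed Db Pb :=
    isStronglyClosed_map_of_le hfs (by rw [hfker]; exact hOP) hD
  have hQ : Cfsg.HasNormalPComplement p (G ⧸ O) := by
    refine IH _ (Core.card_quotient_lt hO1) (P.mapSurjective hfs) Db ?_ ?_ rfl
    · rw [Sylow.coe_mapSurjective]; exact hDbS
    set X := W (G ⧸ O) Db with hX
    have hWb : X ≤ Pb := (hW.le _ Db).trans hDbS.1
    have hlt : O < X.comap f := lt_of_le_of_ne (hcomap X) fun he => hW.ne_bot _ Db hDbp hDb1 (by
        rw [← hX, ← map_comap_eq_self_of_surjective hfs X, ← he, Subgroup.map_eq_bot_iff, hfker])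
    have hXP : X.comap f ≤ (P : Subgroup G) := by
      refine (Subgroup.comap_mono hWb).trans ?_
      rw [hPb, Subgroup.comap_map_eq, hfker]
      exact sup_le le_rfl hOP
    have hPX : Pb ≤ normalizer (X : Set (G ⧸ O)) := by
      intro y hy
      have h2 := hW.map_injective (f := (MulAut.conj y).toMonoidHom) (MulAut.conj y).injective Db
      rw [show Db.map (MulAut.conj y).toMonoidHom = Db from mem_normalizer_iff_map_conj_eq.mp ?_] at h2
      · exact mem_normalizer_iff_map_conj_eq.mpr h2
      · have hS : ((P.mapSurjective hfs : Subgroup (G ⧸ O))) = Pb := Sylow.coe_mapSurjective _ _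
        exact le_normalizer_of_isStronglyClosed (S := P.mapSurjective hfs) (hS ▸ hDbS) (hS ▸ hy)
    have h1 := hlocal _ (P.2.to_le hXP) hlt
      (fun y hy => le_normalizer_comap f (hPX (mem_map_of_mem f hy)))
    refine Fusion.hasNormalPComplement_map f h1 (fun y hy => ?_)
    obtain ⟨g, rfl⟩ := hfs y
    exact mem_map_of_mem f (le_normalizer_comap f hy)
  set Mb := Cfsg.pResidual p (G ⧸ O) with hMb
  have hMbc : (Nat.card Mb).Coprime p := Fusion.coprime_card_pResidual_of_hasNormalPComplement hQ
  set M := Mb.comap f with hM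
  have hMn : M.Normal := Normal.comap inferInstance f
  have hOM : O ≤ M := hcomap Mb
  have htop : Mb ⊔ Pb = ⊤ := by
    have := Fusion.sylow_sup_pResidual (P.mapSurjective hfs)
    rwa [Sylow.coe_mapSurjective, sup_comm] at this
  have hdisj : Pb ⊓ Mb = ⊥ := Layer.inf_eq_bot_of_isPGroup hPbp hMbc
  have hsc : centralizer (O : Set G) ≤ O := by
    refine Layer.pCoreSelfCentral_of_isPSolvable ?_ hO'
    refine ⟨3, ![⊥, O, M, ⊤], rfl, rfl, ?_, ?_, ?_⟩
    · rw [Fin.monotone_iff_le_succ]
      intro i
      fin_cases i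
      · exact bot_le
      · exact hOM
      · exact le_top
    · intro i
      fin_cases i
      · exact (inferInstance : (⊥ : Subgroup G).Normal)
      · exact (inferInstance : (Cfsg.pCore p G).Normal)
      · exact hMn
      · exact (inferInstance : (⊤ : Subgroup G).Normal)
    · intro i
      fin_cases i
      · left
        obtain ⟨m, hm⟩ := IsPGroup.iff_card.mp hOp
        exact ⟨m, by show (⊥ : Subgroup G).relIndex O = _; rw [relIndex_bot_left, hm]⟩
      · right
        show (O.relIndex M).Coprime p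
        have e := Subgroup.relIndex_ker f (K := M)
        rw [hfker] at e
        rw [e, hM, map_comap_eq_self_of_surjective hfs]
        exact hMbc
      · left
        obtain ⟨m, hm⟩ := Fusion.index_pResidual_eq_pow (G := G ⧸ O) (p := p)
        exact ⟨m, by show M.relIndex ⊤ = _; rw [relIndex_top_right, hM,
          index_comap_of_surjective _ hfs, hm]⟩
  -- the Sylow subgroup is maximal
  have hPmax : ∀ H : Subgroup G, (P : Subgroup G) ≤ H → H ≠ ⊤ → H ≤ (P : Subgroup G) := by
    intro H hPH hH
    have hHc : Cfsg.HasNormalPComplement p H := by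
      refine hsub H hH (P.subtype hPH) ?_
      rw [Sylow.coe_subtype, map_subgroupOf_eq_of_le hPH, hFP]
      exact hN
    set K : Subgroup G := (Cfsg.pResidual p H).map H.subtype with hK
    have hKc : (Nat.card K).Coprime p := by
      rw [hK, card_map_of_injective H.subtype_injective]
      exact Fusion.coprime_card_pResidual_of_hasNormalPComplement hHc
    have hOH : O ≤ H := hOP.trans hPH
    have hKn : O ≤ normalizer (K : Set G) := fun y hy => le_normalizer_map H.subtype
      ⟨⟨y, hOH hy⟩, (normalizer_eq_top (H := Cfsg.pResidual p H)).ge (mem_top _), rfl⟩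
    have hK1 : K = ⊥ := by
      refine Layer.eq_bot_of_isPGroup_of_coprime (hOp.to_le (le_trans ?_ hsc)) hKc
      rw [← commutator_eq_bot_iff_le_centralizer, Subgroup.commutator_comm, ← le_bot_iff,
        ← Layer.inf_eq_bot_of_isPGroup hOp hKc]
      exact le_inf (commutator_le_left _ _) (le_normalizer_iff_commutator_le_right.mp hKn)
    have hHp : IsPGroup p H := by
      have hb : Cfsg.pResidual p H = ⊥ := by
        rw [hK, Subgroup.map_eq_bot_iff, ker_subtype, le_bot_iff] at hK1; exact hK1
      exact (Fusion.isPGroup_quotient_pResidual (p := p) (G := H)).of_equiv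
        ((QuotientGroup.quotientMulEquivOfEq hb).trans QuotientGroup.quotientBot)
    exact (P.3 hHp hPH).le
  have hmin : ∀ X : Subgroup (G ⧸ O), X ≤ Mb → Pb ≤ normalizer (X : Set (G ⧸ O)) →
      X = ⊥ ∨ X = Mb := by
    intro X hX hXn
    rcases eq_or_ne ((X ⊔ Pb).comap f) ⊤ with ht | ht
    · right
      have ht' : X ⊔ Pb = ⊤ := by
        rw [← map_comap_eq_self_of_surjective hfs (X ⊔ Pb), ht, map_top_of_surjective f hfs]
      refine le_antisymm hX fun y hy => ?_
      have hy' : y ∈ ((X ⊔ Pb : Subgroup _) : Set (G ⧸ O)) := by rw [ht']; trivial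
      rw [coe_mul_of_right_le_normalizer_left _ _ hXn] at hy'
      obtain ⟨a, ha, b, hb, rfl⟩ := hy'
      have : b ∈ Pb ⊓ Mb := ⟨hb, by
        have := mul_mem (Subgroup.inv_mem _ (hX ha)) hy; rwa [inv_mul_cancel_left] at this⟩
      rw [hdisj, mem_bot] at this
      simpa [this] using ha
    · left
      refine le_bot_iff.mp (hdisj ▸ le_inf ?_ hX)
      have h1 := hPmax _ (fun y hy => mem_comap.mpr (mem_sup_right (mem_map_of_mem f hy))) ht
      intro y hy
      obtain ⟨z, rfl⟩ := hfs y
      exact mem_map_of_mem f (h1 (mem_sup_left hy))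
  have hMb1 : Mb ≠ ⊥ := by
    intro h
    refine hG (Fusion.hasNormalPComplement_of_isPGroup ?_)
    rw [h, bot_sup_eq] at htop
    have hsupP : (P : Subgroup G) = ⊤ := by
      rw [← sup_eq_left.mpr hOP, ← hfker, ← Subgroup.comap_map_eq, ← hPb, htop, Subgroup.comap_top]
    exact (hsupP ▸ P.2 : IsPGroup p (⊤ : Subgroup G)).of_equiv topEquiv
  have hMbcomm : IsMulCommutative Mb := by
    obtain ⟨q, hq, hqd⟩ := Nat.exists_prime_and_dvd
      (fun h => hMb1 (eq_bot_of_card_eq Mb h))
    have := Fact.mk hq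
    obtain ⟨Y, hY⟩ := Coprime.exists_invariant_sylow (A := Pb) (K := Mb) le_normalizer_of_normal
      (Layer.coprime_card_of_isPGroup hPbp hMbc) (Or.inl (Layer.isSolvable_of_isPGroup hPbp)) q
    have hYtop : (Y : Subgroup Mb).map Mb.subtype = Mb := by
      refine (hmin _ (map_subtype_le _) hY).resolve_left fun h => ?_
      rw [Subgroup.map_eq_bot_iff, ker_subtype, le_bot_iff] at h
      exact Y.ne_bot_of_dvd_card hqd h
    have hMq : IsPGroup q Mb := hYtop ▸ (Y.2.map Mb.subtype)
    rcases hmin ⁅Mb, Mb⁆ (commutator_le_self Mb) le_normalizer_of_normal with h | h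
    · exact ⟨⟨fun a b => Subtype.ext (commutatorElement_eq_one_iff_mul_comm.mp
        (mem_bot.mp (h ▸ commutator_mem_commutator a.2 b.2)))⟩⟩
    · exact absurd h (Fusion.isPGroup_commutator_lt hMq hMb1).ne
  have hab : KInf.AbTop p G := by
    refine ⟨O, M, inferInstance, hMn, hOp, Nat.card Mb, Nat.card_pos, hMbc, ?_, ?_, fun x => ?_⟩
    · intro a ha b hb
      refine (QuotientGroup.eq_one_iff _).mp (show f ⁅a, b⁆ = 1 from ?_)
      rw [map_commutatorElement, commutatorElement_eq_one_iff_mul_comm]
      exact congrArg (fun z : Mb => (z : G ⧸ O)) (hMbcomm.is_comm.comm ⟨f a, ha⟩ ⟨f b, hb⟩)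
    · intro a ha
      refine (QuotientGroup.eq_one_iff _).mp (show f (a ^ Nat.card Mb) = 1 from ?_)
      rw [map_pow]
      exact congrArg (fun z : Mb => (z : G ⧸ O)) (pow_card_eq_one' (x := (⟨f a, ha⟩ : Mb)))
    · obtain ⟨a, ha⟩ := Fusion.isPGroup_quotient_pResidual (p := p) (G := G ⧸ O)
        (QuotientGroup.mk (f x))
      rw [← QuotientGroup.mk_pow, QuotientGroup.eq_one_iff, ← map_pow] at ha
      exact ⟨a, mem_comap.mpr ha⟩
  exact hWn (hW.normal G (pStableNormal_of_isNormalizerPStable
    (KInf.isNormalizerPStable_of_abTop hab hp2)) hsc P D hD)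

theorem isZSel_zInter (hp2 : p ≠ 2) {e : ℕ} (hd : p ∣ e) (he : e = 0 ∨ Odd e) :
    IsZSel.{u} p (fun G _ D => zInter e D) where
  le _ _ _ D := zInter_le e D
  ne_bot _ _ _ _ hD hne := zInter_ne_bot hD hne hd
  map _ _ _ _ _ f _ h := zInter_map_of_inf_ker f h
  normal _ _ _ hst hc _ _ hD := normal_zInter hp2 he hst hD hc

end Cfsg.Agent.Fusion.GlaubermanThompson
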