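import Cfsg.Agent.Fusion.ZJElem

/-!
# Control of strong fusion by `N(zInter e D)`

`isNormalizerPStable_subgroup` : the normalizer form of `p`-stability passes to subgroups.
`controlsStrongFusion_zInter` : `N(zInter e D)` controls strong fusion if all `p`-local subgroups are
`p`-constrained and `p`-stable.
-/

set_option autoImplicit false
set_option maxHeartbeats 400000

namespace Cfsg.Agent.Fusion

open Subgroup
open scoped commutatorElement

variable {G : Type*} [Group G] [Finite G] {p : ℕ} [Fact p.Prime]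

theorem isNormalizerPStable_subgroup (h : IsNormalizerPStable p G) (M : Subgroup G) :
    IsNormalizerPStable p M := by
  intro P hP g hg hq
  set P' := P.map M.subtype with hP'
  have hg' : (g : G) ∈ normalizer (P' : Set G) := le_normalizer_map M.subtype ⟨g, hg, rfl⟩
  have hq' : ⁅⁅P', zpowers (g : G)⁆, zpowers (g : G)⁆ = ⊥ := by
    rw [show zpowers (g : G) = (zpowers g).map M.subtype from (MonoidHom.map_zpowers M.subtype g).symm,
      hP', ← map_commutator, ← map_commutator, hq, Subgroup.map_bot]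
  have h1 := h P' (hP.map _) g hg' hq'
  set N := normalizer (P : Set M)
  set C := (centralizer (P : Set M)).subgroupOf N
  set N' := normalizer (P' : Set G)
  set C' := (centralizer (P' : Set G)).subgroupOf N'
  let ι : N →* N' := (M.subtype.comp N.subtype).codRestrict N'
    fun x => le_normalizer_map M.subtype ⟨x, x.2, rfl⟩
  have hC : C = C'.comap ι := by
    ext x
    show (x : M) ∈ centralizer (P : Set M) ↔ ((x : M) : G) ∈ centralizer (P' : Set G)
    rw [mem_centralizer_iff, mem_centralizer_iff]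
    constructor
    · rintro hx _ ⟨y, hy, rfl⟩
      exact congrArg Subtype.val (hx y hy)
    · exact fun hx y hy => Subtype.ext (hx _ ⟨y, hy, rfl⟩)
  let φ : N ⧸ C →* N' ⧸ C' := QuotientGroup.map C C' ι hC.le
  have hφ : Function.Injective φ := by
    rw [← MonoidHom.ker_eq_bot_iff, eq_bot_iff]
    intro x hx
    obtain ⟨x, rfl⟩ := QuotientGroup.mk'_surjective C x
    refine mem_bot.mpr ((QuotientGroup.eq_one_iff x).mpr ?_)
    rw [hC]
    exact (QuotientGroup.eq_one_iff (ι x)).mp hx
  exact Core.le_pCore (hN := (inferInstance : (pCore p (N' ⧸ C')).Normal).comap φ)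
    (Core.pCore_isPGroup.comap_of_injective φ hφ) (show φ _ ∈ pCore p _ from h1)

theorem pStableNormal_quotient_of_isNormalizerPStable (h : IsNormalizerPStable p G) :
    PStableNormal p (G ⧸ pPrimeCore p G) :=
  pStableNormal_quotient_of fun P a _ hP ha _ _ hq => h P hP a ha hq

/-- The ZJ-theorem modulo `O_{p'}`. -/
theorem sup_normalizer_zInter_eq_top' (hp : p ≠ 2) {e : ℕ} (he : e = 0 ∨ Odd e)
    (hc : IsPConstrained p G) (hs : PStableNormal p (G ⧸ pPrimeCore p G)) (S : Sylow p G)
    {D : Subgroup G} (hD : IsStronglyClosed D (S : Subgroup G)) :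
    pPrimeCore p G ⊔ normalizer (zInter e D : Set G) = ⊤ := by
  set N := pPrimeCore p G with hN
  set f := QuotientGroup.mk' N with hf
  have hfs : Function.Surjective f := QuotientGroup.mk'_surjective N
  have hker : f.ker = N := QuotientGroup.ker_mk' N
  have hkc : (Nat.card f.ker).Coprime p := by rw [hker]; exact Core.coprime_card_pPrimeCore
  have hDp : IsPGroup p D := S.2.to_le hD.1
  have hD' : IsStronglyClosed (D.map f) (S.mapSurjective hfs : Subgroup (G ⧸ N)) := by
    rw [Sylow.coe_mapSurjective]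
    exact GlaubermanThompson.isStronglyClosed_map_of_coprime hfs hkc S hD
  have hnZ := normal_zInter hp he hs hD' (Layer.isPConstrained_iff_selfCentral.mp hc) (e := e)
  rw [← zInter_map_of_inf_ker f (Layer.inf_eq_bot_of_isPGroup hDp hkc)] at hnZ
  have h2 := Layer.map_normalizer_of_coprime hfs hkc (hDp.to_le (zInter_le e D))
  rw [normalizer_eq_top_iff.mpr hnZ] at h2
  have := congrArg (comap f) h2
  rwa [comap_map_eq, hker, comap_top, sup_comm] at this

omit [Fact p.Prime] in
/-- If `H = O N` with `O` a normal `p'`-subgroup, conjugation between subsets of a `p`-subgroup of `N`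
is induced in `N`. -/
theorem exists_mem_conj_eq [Fact p.Prime] {O N T : Subgroup G} [O.Normal]
    (hO : (Nat.card O).Coprime p) (hTN : T ≤ N) (hT : IsPGroup p T) {A : Set G} (hA : A ⊆ T) {x : G}
    (hx : x ∈ N ⊔ O) (hxA : ∀ a ∈ A, x * a * x⁻¹ ∈ T) :
    ∃ y ∈ N, ∀ a ∈ A, y * a * y⁻¹ = x * a * x⁻¹ := by
  obtain ⟨w, hw, c, hc, rfl⟩ := mem_sup_of_normal_right.mp hx
  set X := Subgroup.closure A with hX
  have hXT : X ≤ T := (closure_le _).mpr hA
  have hXN : X ≤ N := hXT.trans hTN
  set K := O ⊓ N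
  have hB : X.map (MulAut.conj c).toMonoidHom ≤ K ⊔ X := by
    rw [hX, MonoidHom.map_closure, closure_le]
    rintro _ ⟨a, ha, rfl⟩
    show c * a * c⁻¹ ∈ _
    have h1 : c * a * c⁻¹ ∈ N := by
      have := mul_mem (mul_mem (inv_mem hw) (hTN (hxA a ha))) hw
      convert this using 1
      group
    have h2 : c * a * c⁻¹ * a⁻¹ ∈ K := by
      refine ⟨?_, Subgroup.mul_mem N h1 (N.inv_mem (hTN (hA ha)))⟩
      rw [SetLike.mem_coe, mul_assoc, mul_assoc, ← mul_assoc a]
      exact mul_mem hc ((inferInstance : O.Normal).conj_mem _ (inv_mem hc) a)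
    have := mul_mem (mem_sup_left h2 : c * a * c⁻¹ * a⁻¹ ∈ K ⊔ X)
      (mem_sup_right (subset_closure ha))
    rwa [inv_mul_cancel_right] at this
  have hXK : X ≤ normalizer (K : Set G) := by
    intro g hg
    rw [mem_normalizer_iff]
    intro z
    exact and_congr (mem_normalizer_iff.mp (normalizer_eq_top O ▸ mem_top g) z)
      (mem_normalizer_iff.mp (le_normalizer (hXN hg)) z)
  have hXp : IsPGroup p X := hT.to_le hXT
  obtain ⟨k, hk, hke⟩ := Coprime.exists_conj_eq hXK
    (Layer.coprime_card_of_isPGroup hXp (hO.coprime_dvd_left (card_dvd_of_le inf_le_left)))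
    (Or.inl (Layer.isSolvable_of_isPGroup hXp)) hB (card_map_of_injective (MulAut.conj c).injective)
  rw [Coprime.conj_smul_eq_map, map_map] at hke
  refine ⟨w * k⁻¹, mul_mem hw (inv_mem hk.2), fun a ha => ?_⟩
  have haX : a ∈ X := subset_closure ha
  have h1 : k * (c * a * c⁻¹) * k⁻¹ ∈ X := by
    rw [← hke]; exact ⟨a, haX, rfl⟩
  have h2 : (k * c) * a * (k * c)⁻¹ * a⁻¹ = 1 := by
    rw [← mem_bot, ← Layer.inf_eq_bot_of_isPGroup hXp hO]
    refine ⟨?_, ?_⟩
    · have := mul_mem h1 (inv_mem haX)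
      simpa [mul_assoc] using this
    · rw [SetLike.mem_coe, mul_assoc, mul_assoc, ← mul_assoc a]
      exact mul_mem (mul_mem hk.1 hc) ((inferInstance : O.Normal).conj_mem _ (inv_mem (mul_mem hk.1 hc)) a)
  calc w * k⁻¹ * a * (w * k⁻¹)⁻¹ = w * k⁻¹ * (k * c * a * (k * c)⁻¹) * (w * k⁻¹)⁻¹ := by
        rw [mul_inv_eq_one.mp h2]
    _ = w * c * a * (w * c)⁻¹ := by group

/-- Strong fusion in a Sylow subgroup of `M` happens in `N_M(zFun e D T)`. -/
theorem fusCtrl_zFun (hp : p ≠ 2) {e : ℕ} (he : e = 0 ∨ Odd e) (S : Sylow p G) {D : Subgroup G}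
    (hD : IsStronglyClosed D (S : Subgroup G)) {M T : Subgroup G} (hT : Control.SylIn p T M)
    (hst : PStableNormal p (↥M ⧸ pPrimeCore p M)) (hc : IsPConstrained p M) :
    Control.FusCtrl (Control.normSet {zFun e D} M T) T M := by
  obtain ⟨D', hD', heq⟩ := exists_strongly_closed S hD hT.isPGroup e
  obtain ⟨P, hP⟩ := Control.SylIn.exists_sylow (G := M) (T := T.subgroupOf M)
    ⟨le_top, hT.isPGroup.comap_subtype, by rw [relIndex_top_right]; exact hT.not_dvd⟩
  have hD'M : (D'.subgroupOf M).map M.subtype = D' := map_subgroupOf_eq_of_le (hD'.1.trans hT.le)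
  have hD'' : IsStronglyClosed (D'.subgroupOf M) (P : Subgroup M) := by
    rw [hP]
    exact ⟨fun x hx => hD'.1 hx, fun x hx g hg => hD'.2 _ hx g hg⟩
  have htop := sup_normalizer_zInter_eq_top' hp he hc hst P hD''
  intro A x hxM hA hxA
  set O := pPrimeCore p M
  set NW := normalizer (zInter e (D'.subgroupOf M) : Set M)
  have hPN : (P : Subgroup M) ≤ NW := le_normalizer_zInter hD''
  obtain ⟨y, hy, hye⟩ := exists_mem_conj_eq (O := O) (N := NW) Core.coprime_card_pPrimeCore hPN
    P.2 (A := {a : M | (a : G) ∈ A}) (x := (⟨x, hxM⟩ : M))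
    (fun a ha => hP.ge (show a ∈ T.subgroupOf M from hA ha))
    (by rw [sup_comm, htop]; exact mem_top _)
    (fun a ha => hP.ge (show _ ∈ T.subgroupOf M from hxA ⟨(a : G), ha, rfl⟩))
  have hyW : (y : G) ∈ M ⊓ normalizer (zFun e D T : Set G) := by
    refine ⟨y.2, ?_⟩
    rw [heq, ← hD'M, ← zInter_map M.subtype_injective]
    exact le_normalizer_map M.subtype ⟨y, hy, rfl⟩
  have heq' : ∀ a ∈ A, (y : G) * a * (y : G)⁻¹ = x * a * x⁻¹ := fun a ha =>
    congrArg Subtype.val (hye ⟨a, hT.le (hA ha)⟩ ha)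
  refine Control.Ctrl.of_eqOn (Control.Ctrl.of_mem ⟨_, rfl, rfl⟩ hyW ?_) heq'
  rintro _ ⟨a, ha, rfl⟩
  show (y : G) * a * (y : G)⁻¹ ∈ (T : Set G)
  rw [heq' a ha]
  exact hxA ⟨a, ha, rfl⟩

/-- `N(zInter e D)` controls strong fusion. -/
theorem controlsStrongFusion_zInter (hp : p ≠ 2) {e : ℕ} (he : e = 0 ∨ Odd e) (hpe : p ∣ e)
    (S : Sylow p G) {D : Subgroup G} (hD : IsStronglyClosed D (S : Subgroup G))
    (hst : IsNormalizerPStable p G)
    (hc : ∀ U : Subgroup G, U ≤ (S : Subgroup G) → U ≠ ⊥ → IsPConstrained p ↥(normalizer (U : Set G)))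
    (A : Set G) (hA : A ⊆ (S : Subgroup G)) :
    ControlsStrongFusionOf (normalizer (zInter e D : Set G)) (S : Subgroup G) A := by
  refine ⟨hA, fun g hg => ?_⟩
  rcases eq_or_ne D ⊥ with hD1 | hD1
  · refine ⟨g, ?_, fun a _ => rfl⟩
    rw [hD1, le_bot_iff.mp (zInter_le e (⊥ : Subgroup G)), normalizer_eq_top]
    exact mem_top g
  have hW := isConjugacyFunctor_zFun (G := G) (p := p) hpe D
  have h𝓕 : ∀ W ∈ ({zFun e D} : Set (Subgroup G → Subgroup G)), IsConjugacyFunctor p W :=
    fun W hW' => hW' ▸ hW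
  have key := Control.fusCtrl_of_local S h𝓕 (Control.allFull_fullSet S) (Control.movers_fullSet S)
    (fun Q hQ hQ1 => Control.famFus_iff.mpr ⟨_, (Control.allFull_fullSet S Q hQ).2,
      fusCtrl_zFun hp he S hD (Control.allFull_fullSet S Q hQ).2
        (pStableNormal_quotient_of_isNormalizerPStable (isNormalizerPStable_subgroup hst _))
        (hc Q (Control.allFull_fullSet S Q hQ).1 hQ1)⟩)
  obtain ⟨c, hcR, hce⟩ := key A g (mem_top g) hA hg
  refine ⟨c, hcR.mem ?_, fun a ha => (hce a ha).symm⟩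
  rintro _ ⟨W, hW', rfl⟩
  obtain rfl : W = zFun e D := hW'
  show ⊤ ⊓ normalizer (zFun e D (S : Subgroup G) : Set G) ≤ _
  rw [zFun_sylow S hD hD1]
  exact inf_le_right

end Cfsg.Agent.Fusion
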