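import Cfsg.Agent.Fusion.ZJConstrained
import Cfsg.Agent.Control.Family

/-!
# From `p`-local subgroups to the normalizer of `zInter e D`

`dHat D U` : the closure of the elements of `U` conjugate to an element of `D`; it is `D ∩ U` if `D` is
strongly closed in a Sylow subgroup containing `U`.
`zFun e D` : the conjugacy functor `U ↦ zInter e (dHat D U)`.
`normalizer_le_of_local` : if `N(Q) ≤ N(W T)` in every `p`-local subgroup, then `N(Q) ≤ N(W S)`.
-/

set_option autoImplicit false
set_option maxHeartbeats 400000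

namespace Cfsg.Agent.Fusion

open Subgroup Control
open scoped commutatorElement

variable {G : Type*} [Group G]

/-- The closure of the elements of `U` conjugate to an element of `D`. -/
def dHat (D U : Subgroup G) : Subgroup G :=
  Subgroup.closure {x : G | x ∈ U ∧ ∃ g : G, g * x * g⁻¹ ∈ D}

theorem dHat_le (D U : Subgroup G) : dHat D U ≤ U :=
  (closure_le _).mpr fun _ hx => hx.1

theorem dHat_cjSub (D U : Subgroup G) (g : G) : dHat D (cjSub g U) = cjSub g (dHat D U) := by
  show Subgroup.closure _ = (Subgroup.closure _).map _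
  rw [MonoidHom.map_closure]
  congr 1
  ext x
  constructor
  · rintro ⟨hx, h, hh⟩
    refine ⟨g⁻¹ * x * g, ⟨mem_cjSub.mp hx, h * g, ?_⟩, ?_⟩
    · simpa [mul_assoc] using hh
    · show g * (g⁻¹ * x * g) * g⁻¹ = x
      group
  · rintro ⟨y, ⟨hy, h, hh⟩, rfl⟩
    refine ⟨mem_map_of_mem _ hy, h * g⁻¹, ?_⟩
    show h * g⁻¹ * (g * y * g⁻¹) * (h * g⁻¹)⁻¹ ∈ D
    simpa [mul_assoc] using hh

theorem dHat_eq_inf {D S U : Subgroup G} (hD : IsStronglyClosed D S) (hU : U ≤ S) :
    dHat D U = D ⊓ U := by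
  refine le_antisymm ((closure_le _).mpr ?_) fun x hx => subset_closure ⟨hx.2, 1, by simpa using hx.1⟩
  rintro x ⟨hx, g, hg⟩
  refine ⟨?_, hx⟩
  have := hD.2 _ hg g⁻¹ (by simpa [mul_assoc] using hU hx)
  simpa [mul_assoc] using this

variable [Finite G] {p : ℕ} [Fact p.Prime]

open Classical in
/-- `U ↦ zInter e (dHat D U)`, replaced by `zInter e U` where `dHat D U` is trivial. -/
noncomputable def zFun (e : ℕ) (D U : Subgroup G) : Subgroup G :=
  if dHat D U = ⊥ then zInter e U else zInter e (dHat D U)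

theorem zInter_ne_bot {U : Subgroup G} (hU : IsPGroup p U) (h : U ≠ ⊥) {e : ℕ} (he : p ∣ e) :
    zInter e U ≠ ⊥ := by
  haveI : Nontrivial U := (nontrivial_iff_ne_bot U).mpr h
  haveI := hU.center_nontrivial
  obtain ⟨n, hn⟩ := IsPGroup.iff_card.mp (hU.to_subgroup (center U))
  have hd : p ∣ Nat.card (center U) := by
    rcases n with _ | n
    · exact absurd hn (by simpa using (Finite.one_lt_card (α := center U)).ne')
    · exact hn ▸ dvd_pow_self p n.succ_ne_zero
  obtain ⟨z, hz⟩ := exists_prime_orderOf_dvd_card' (G := center U) p hd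
  intro hbot
  have hmem : ((z : U) : G) ∈ zInter e U := by
    refine mem_sInf.mpr fun A hA => mem_of_commute hA (z : U).2 ?_ fun a ha => ?_
    · obtain ⟨k, rfl⟩ := he
      have hzp : ((z : U) : G) ^ p = 1 := by
        rw [← orderOf_dvd_iff_pow_eq_one, orderOf_coe, orderOf_coe, hz]
      rw [pow_mul, hzp, one_pow]
    · exact congrArg Subtype.val (mem_center_iff.mp z.2 ⟨a, hA.le ha⟩)
  rw [hbot, mem_bot] at hmem
  have : z = 1 := Subtype.ext (Subtype.ext hmem)
  rw [this, orderOf_one] at hz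
  exact (Fact.out : p.Prime).ne_one hz.symm

theorem isConjugacyFunctor_zFun {e : ℕ} (he : p ∣ e) (D : Subgroup G) :
    IsConjugacyFunctor p (zFun e D) := by
  intro P hP
  refine ⟨?_, fun hne => ?_, fun g => ?_⟩
  · unfold zFun
    split
    · exact zInter_le e P
    · exact (zInter_le e _).trans (dHat_le D P)
  · unfold zFun
    split
    · exact zInter_ne_bot hP hne he
    · next h => exact zInter_ne_bot (hP.to_le (dHat_le D P)) h he
  · change zFun e D (cjSub g P) = cjSub g (zFun e D P)
    unfold zFun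
    rw [dHat_cjSub]
    by_cases h : dHat D P = ⊥
    · rw [if_pos h, if_pos (by rw [h]; exact map_bot _)]
      exact (zInter_map (MulAut.conj g).injective).symm
    · rw [if_neg h, if_neg (cjSub_ne_bot h)]
      exact (zInter_map (MulAut.conj g).injective).symm

theorem zFun_sylow {e : ℕ} (S : Sylow p G) {D : Subgroup G} (hD : IsStronglyClosed D (S : Subgroup G))
    (hne : D ≠ ⊥) : zFun e D (S : Subgroup G) = zInter e D := by
  rw [zFun, dHat_eq_inf hD le_rfl, inf_of_le_left hD.1, if_neg hne]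

theorem exists_strongly_closed (S : Sylow p G) {D : Subgroup G}
    (hD : IsStronglyClosed D (S : Subgroup G)) {T : Subgroup G} (hT : IsPGroup p T) (e : ℕ) :
    ∃ D' : Subgroup G, IsStronglyClosed D' T ∧ zFun e D T = zInter e D' := by
  by_cases h : dHat D T = ⊥
  · exact ⟨T, ⟨le_rfl, fun _ _ _ h => h⟩, if_pos h⟩
  obtain ⟨Q, hQ⟩ := hT.exists_le_sylow
  obtain ⟨g, hg⟩ := MulAction.exists_smul_eq G S Q
  have hTg : T ≤ cjSub g (S : Subgroup G) := by rw [← hg] at hQ; exact hQ
  refine ⟨cjSub g D ⊓ T, ⟨inf_le_right, fun x hx n hn => ⟨?_, hn⟩⟩, ?_⟩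
  · refine mem_cjSub.mpr ?_
    have h1 : g⁻¹ * x * g ∈ D := mem_cjSub.mp hx.1
    have h2 := hD.2 _ h1 (g⁻¹ * n * g) (by
      have := mem_cjSub.mp (hTg hn)
      simpa [mul_assoc] using this)
    simpa [mul_assoc] using h2
  · rw [zFun, if_neg h]
    congr 1
    refine le_antisymm ((closure_le _).mpr ?_) fun x hx =>
      subset_closure ⟨hx.2, g⁻¹, by simpa using mem_cjSub.mp hx.1⟩
    rintro x ⟨hx, m, hm⟩
    refine ⟨?_, hx⟩
    refine mem_cjSub.mpr ?_
    have h2 := hD.2 _ hm (g⁻¹ * m⁻¹) (by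
      have := mem_cjSub.mp (hTg hx)
      simpa [mul_assoc] using this)
    simpa [mul_assoc] using h2

/-- From `p`-local subgroups to the Sylow normalizer. -/
theorem normalizer_le_of_local {W : Subgroup G → Subgroup G} (hW : IsConjugacyFunctor p W)
    (S : Sylow p G)
    (hloc : ∀ Q T : Subgroup G, IsPGroup p Q → Q ≠ ⊥ → SylIn p T (normalizer (Q : Set G)) →
      normalizer (Q : Set G) ≤ normalizer (W T : Set G)) :
    ∀ Q : Subgroup G, Q ≤ (S : Subgroup G) → Q ≠ ⊥ →
      normalizer (Q : Set G) ≤ normalizer (W (S : Subgroup G) : Set G) := by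
  set M := normalizer (W (S : Subgroup G) : Set G) with hM
  have hSM : (S : Subgroup G) ≤ M := self_le_normalizer_functor hW S.2
  intro Q
  induction hk : Nat.card G - Nat.card ((S : Subgroup G) ⊓ normalizer (Q : Set G) : Subgroup G)
    using Nat.strong_induction_on generalizing Q with
  | _ k IH =>
  subst hk
  intro hQS hQ1
  set R := (S : Subgroup G) ⊓ normalizer (Q : Set G) with hR
  have hIH : ∀ U : Subgroup G, U ≤ (S : Subgroup G) → U ≠ ⊥ →
      Nat.card R < Nat.card ((S : Subgroup G) ⊓ normalizer (U : Set G) : Subgroup G) →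
      normalizer (U : Set G) ≤ M := by
    intro U hU hU1 hlt
    have := Nat.le_of_dvd Nat.card_pos
      (card_subgroup_dvd_card ((S : Subgroup G) ⊓ normalizer (U : Set G)))
    exact IH _ (by omega) U rfl hU hU1
  have hQR : Q ≤ R := le_inf hQS le_normalizer
  have hR1 : R ≠ ⊥ := fun h => hQ1 (le_bot_iff.mp (h ▸ hQR))
  -- conjugates of `S` with a large intersection
  have inner : ∀ g : G, Nat.card R ≤ Nat.card ((S : Subgroup G) ⊓ cjSub g (S : Subgroup G) : Subgroup G) →
      g ∈ M := by
    intro g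
    induction hd : Nat.card G - Nat.card ((S : Subgroup G) ⊓ cjSub g (S : Subgroup G) : Subgroup G)
      using Nat.strong_induction_on generalizing g with
    | _ d IHd =>
    subst hd
    intro hcard
    set D := (S : Subgroup G) ⊓ cjSub g (S : Subgroup G) with hD
    rcases (inf_le_left : D ≤ (S : Subgroup G)).eq_or_lt with hDS | hDS
    · refine le_normalizer_functor hW S.2 (mem_normalizer_of_cjSub_eq ?_)
      exact (eq_of_le_of_card_ge (hDS.symm.le.trans inf_le_right) (card_cjSub g _).le).symm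
    have hD1 : D ≠ ⊥ := fun h => by
      rw [h, card_bot] at hcard
      exact hR1 (eq_bot_of_card_le R hcard)
    have hDS' : D < cjSub g (S : Subgroup G) := lt_of_le_of_ne inf_le_right fun h => by
      have := card_cjSub g (S : Subgroup G)
      rw [← h] at this
      exact (Core.card_lt_of_lt hDS).ne this
    have h1 := lt_inf_normalizer_of_isPGroup S.2 hDS
    have hN : normalizer (D : Set G) ≤ M := hIH D inf_le_left hD1 (hcard.trans_lt (Core.card_lt_of_lt h1))
    have h2 := lt_inf_normalizer_of_isPGroup (isPGroup_cjSub S.2) hDS'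
    set T' := cjSub g (S : Subgroup G) ⊓ normalizer (D : Set G)
    obtain ⟨h, hh, hle⟩ := ((sylIn_top S).mono hSM le_top).exists_cjSub_le
      (P := T') ((isPGroup_cjSub S.2).to_inf_left) (inf_le_right.trans hN)
    have hbig : cjSub h T' ≤ (S : Subgroup G) ⊓ cjSub (h * g) (S : Subgroup G) :=
      le_inf hle (by rw [← cjSub_cjSub]; exact map_mono inf_le_left)
    have hlt : Nat.card D < Nat.card ((S : Subgroup G) ⊓ cjSub (h * g) (S : Subgroup G) : Subgroup G) :=
      (Core.card_lt_of_lt h2).trans_le ((card_cjSub h T').ge.trans (card_le_of_le hbig))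
    have := Nat.le_of_dvd Nat.card_pos
      (card_subgroup_dvd_card ((S : Subgroup G) ⊓ cjSub (h * g) (S : Subgroup G)))
    have hhg := IHd _ (by omega) (h * g) rfl (hcard.trans hlt.le)
    simpa using mul_mem (inv_mem hh) hhg
  obtain ⟨T, hT, hRT⟩ := SylIn.exists_ge (p := p) (H := normalizer (Q : Set G))
    (S.2.to_inf_left : IsPGroup p R) inf_le_right
  obtain ⟨P, hP⟩ := hT.isPGroup.exists_le_sylow
  obtain ⟨g, hg⟩ := MulAction.exists_smul_eq G S P
  have hTg : T ≤ cjSub g (S : Subgroup G) := by rw [← hg] at hP; exact hP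
  have hgM : g ∈ M := inner g (card_le_of_le (le_inf inf_le_left (hRT.trans hTg)))
  by_cases hTR : T = R
  · rcases (inf_le_left : R ≤ (S : Subgroup G)).eq_or_lt with hRS | hRS
    · refine (hloc Q T (S.2.to_le hQS) hQ1 hT).trans ?_
      rw [hTR, show R = (S : Subgroup G) from hRS]
    · refine (hloc Q T (S.2.to_le hQS) hQ1 hT).trans ?_
      rw [hTR]
      have hRp : IsPGroup p R := S.2.to_inf_left
      refine hIH _ ((hW R hRp).1.trans inf_le_left) ((hW R hRp).2.1 hR1) ?_
      exact Core.card_lt_of_lt ((lt_inf_normalizer_of_isPGroup S.2 hRS).trans_le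
        (inf_le_inf_left _ (le_normalizer_functor hW hRp)))
  · have hlt : R < T := lt_of_le_of_ne hRT (Ne.symm hTR)
    have hinv : ∀ X : Subgroup G, X ≤ cjSub g (S : Subgroup G) → cjSub g⁻¹ X ≤ (S : Subgroup G) :=
      fun X hX => (map_mono hX).trans (le_of_eq ((cjSub_cjSub g⁻¹ g _).trans (by rw [inv_mul_cancel, cjSub_one])))
    have hQg : cjSub g⁻¹ Q ≤ (S : Subgroup G) := hinv Q (hQR.trans (hRT.trans hTg))
    have h3 : cjSub g⁻¹ T ≤ (S : Subgroup G) ⊓ normalizer (cjSub g⁻¹ Q : Set G) :=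
      le_inf (hinv T hTg) (by rw [← cjSub_normalizer]; exact map_mono hT.le)
    have h4 := hIH _ hQg (cjSub_ne_bot hQ1)
      ((Core.card_lt_of_lt hlt).trans_le ((card_cjSub g⁻¹ T).ge.trans (card_le_of_le h3)))
    intro n hn
    have h5 : g⁻¹ * n * g ∈ normalizer (cjSub g⁻¹ Q : Set G) := by
      rw [← cjSub_normalizer, mem_cjSub]
      simpa [mul_assoc] using hn
    simpa [mul_assoc] using mul_mem (mul_mem hgM (h4 h5)) (inv_mem hgM)

/-- The ZJ-theorem inside a subgroup `M`. -/
theorem le_normalizer_zFun (hp : p ≠ 2) {e : ℕ} (he : e = 0 ∨ Odd e) (S : Sylow p G) {D : Subgroup G}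
    (hD : IsStronglyClosed D (S : Subgroup G)) {M T : Subgroup G} (hT : SylIn p T M)
    (hst : PStableNormal p M) (hc : centralizer (pCore p M : Set M) ≤ pCore p M) :
    M ≤ normalizer (zFun e D T : Set G) := by
  obtain ⟨D', hD', heq⟩ := exists_strongly_closed S hD hT.isPGroup e
  rw [heq]
  obtain ⟨P, hP⟩ := SylIn.exists_sylow (G := M) (T := T.subgroupOf M)
    ⟨le_top, hT.isPGroup.comap_subtype, by rw [relIndex_top_right]; exact hT.not_dvd⟩
  have hD'M : (D'.subgroupOf M).map M.subtype = D' := map_subgroupOf_eq_of_le (hD'.1.trans hT.le)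
  have hD'' : IsStronglyClosed (D'.subgroupOf M) (P : Subgroup M) := by
    rw [hP]
    exact ⟨fun x hx => hD'.1 hx, fun x hx g hg => hD'.2 _ hx g hg⟩
  have hn := normal_zInter hp he hst hD'' hc
  rw [← hD'M, ← zInter_map M.subtype_injective]
  intro m hm
  refine le_normalizer_map M.subtype ⟨⟨m, hm⟩, ?_, rfl⟩
  rw [normalizer_eq_top_iff.mpr hn]
  exact mem_top _

end Cfsg.Agent.Fusion
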