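import Mathlib
import Cfsg.Agent.Core.PCore

/-!
# Solvable subgroups of odd order of `GL(2, p)` have `p`-groups as commutator subgroups
-/

set_option autoImplicit false
set_option maxHeartbeats 400000

namespace Cfsg.Agent.Fusion.OddGL2

open Matrix Cfsg
open scoped commutatorElement

variable {p : ℕ} [hp : Fact p.Prime]

local notation "M2" => Matrix (Fin 2) (Fin 2) (ZMod p)

theorem cayley (M : M2) : M * M = M.trace • M - M.det • (1 : M2) := by
  ext i j
  fin_cases i <;> fin_cases j <;>
    simp [Matrix.mul_apply, Matrix.det_fin_two, Matrix.trace_fin_two] <;> ring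

/-- Scalar matrices. -/
def IsScalar (M : M2) : Prop := ∃ c : ZMod p, M = c • (1 : M2)

theorem exists_eq_of_commute {f g : M2} (hf : ¬ IsScalar f) (h : Commute g f) :
    ∃ a b : ZMod p, g = a • (1 : M2) + b • f := by
  have h00 := congrFun (congrFun h.eq 0) 0
  have h01 := congrFun (congrFun h.eq 0) 1
  have h10 := congrFun (congrFun h.eq 1) 0
  simp [Matrix.mul_apply] at h00 h01 h10
  by_cases hq : f 0 1 = 0
  · by_cases hr : f 1 0 = 0
    · have hps : f 0 0 - f 1 1 ≠ 0 := fun e => hf ⟨f 0 0, by
        ext i j; fin_cases i <;> fin_cases j <;> simp [hq, hr]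
        linear_combination -e⟩
      simp only [hq, hr, mul_zero, zero_mul, zero_add, add_zero] at h01 h10
      have hg01 : g 0 1 = 0 := by
        have : g 0 1 * (f 0 0 - f 1 1) = 0 := by linear_combination -h01
        rcases mul_eq_zero.mp this with h' | h'
        · exact h'
        · exact absurd h' hps
      have hg10 : g 1 0 = 0 := by
        have : g 1 0 * (f 0 0 - f 1 1) = 0 := by linear_combination h10
        rcases mul_eq_zero.mp this with h' | h'
        · exact h'
        · exact absurd h' hps
      set b := (g 0 0 - g 1 1) / (f 0 0 - f 1 1) with hb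
      have hbe : b * (f 0 0 - f 1 1) = g 0 0 - g 1 1 := div_mul_cancel₀ _ hps
      refine ⟨g 0 0 - b * f 0 0, b, ?_⟩
      ext i j; fin_cases i <;> fin_cases j <;> simp [hq, hr, hg01, hg10]
      linear_combination hbe
    · set b := g 1 0 / f 1 0 with hb
      have hbe : b * f 1 0 = g 1 0 := div_mul_cancel₀ _ hr
      refine ⟨g 0 0 - b * f 0 0, b, ?_⟩
      simp only [hq, mul_zero, zero_mul, zero_add, add_zero] at h01 h00
      have hg01 : g 0 1 = 0 := by
        have : g 0 1 * f 1 0 = 0 := by linear_combination h00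
        rcases mul_eq_zero.mp this with h' | h'
        · exact h'
        · exact absurd h' hr
      ext i j; fin_cases i <;> fin_cases j <;> simp [hq, hg01, hbe]
      apply mul_left_cancel₀ hr
      linear_combination h10 + (f 0 0 - f 1 1) * hbe
  · set b := g 0 1 / f 0 1 with hb
    have hbe : b * f 0 1 = g 0 1 := div_mul_cancel₀ _ hq
    refine ⟨g 0 0 - b * f 0 0, b, ?_⟩
    ext i j; fin_cases i <;> fin_cases j <;> simp [hbe]
    · apply mul_left_cancel₀ hq
      linear_combination -h00 - f 1 0 * hbe
    · apply mul_left_cancel₀ hq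
      linear_combination -h01 + (f 0 0 - f 1 1) * hbe

theorem commute_of_commute {f g h : M2} (hf : ¬ IsScalar f) (hg : Commute g f) (hh : Commute h f) :
    Commute g h := by
  obtain ⟨a, b, rfl⟩ := exists_eq_of_commute hf hg
  exact ((Commute.one_left h).smul_left a).add_left (hh.symm.smul_left b)

theorem isScalar_of_nilpotent_sub {M : M2} (c : ZMod p) (h : (M - c • 1) ^ p = 0) :
    (M - c • 1) * (M - c • 1) = 0 := by
  set n := M - c • (1 : M2) with hn
  have hd : n.det = 0 := by
    have h1 := congrArg Matrix.det h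
    rw [Matrix.det_pow, Matrix.det_zero] at h1
    exact eq_zero_of_pow_eq_zero h1
  have h2 : n * n = n.trace • n := by rw [cayley n, hd, zero_smul, sub_zero]
  have h3 : ∀ k : ℕ, n ^ (k + 1) = n.trace ^ k • n := by
    intro k
    induction k with
    | zero => simp
    | succ k ih => rw [pow_succ, ih, smul_mul_assoc, h2, smul_smul, ← pow_succ]
  obtain ⟨k, hk⟩ : ∃ k, p = k + 1 := ⟨p - 1, (Nat.succ_pred_eq_of_pos hp.out.pos).symm⟩
  rw [show n ^ p = n.trace ^ k • n by rw [← h3, ← hk]] at h
  rw [h2]
  rcases smul_eq_zero.mp h with h4 | h4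
  · rw [eq_zero_of_pow_eq_zero h4, zero_smul]
  · rw [h4, smul_zero]

theorem pow_p_eq (a b : ZMod p) {n : M2} (hn : n * n = 0) :
    (a • (1 : M2) + b • n) ^ p = a • (1 : M2) := by
  have h : ∀ k : ℕ, (a • (1 : M2) + b • n) ^ (k + 1) =
      a ^ (k + 1) • (1 : M2) + ((k + 1 : ℕ) * a ^ k * b) • n := by
    intro k
    induction k with
    | zero => simp
    | succ k ih =>
      rw [pow_succ, ih]
      simp only [add_mul, mul_add, smul_mul_assoc, mul_smul_comm, one_mul, mul_one, smul_smul, hn,
        smul_zero, add_zero]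
      match_scalars <;> push_cast <;> ring
  obtain ⟨k, hk⟩ : ∃ k, p = k + 1 := ⟨p - 1, (Nat.succ_pred_eq_of_pos hp.out.pos).symm⟩
  conv_lhs => arg 2; rw [hk]
  rw [h, ← hk, ZMod.natCast_self, zero_mul, zero_mul, zero_smul, add_zero, ZMod.pow_card]

variable (hp2 : p ≠ 2) (X : Subgroup (GL (Fin 2) (ZMod p)))

include hp2 in
theorem two_ne_zero' : (2 : ZMod p) ≠ 0 := by
  intro h
  have h1 : ((2 : ℕ) : ZMod p) = 0 := by exact_mod_cast h
  rw [ZMod.natCast_eq_zero_iff] at h1
  exact hp2 ((Nat.prime_dvd_prime_iff_eq hp.out Nat.prime_two).mp h1)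

/-- The matrix of an element of `X`. -/
def mat : X →* M2 := (Units.coeHom M2).comp X.subtype

theorem mat_injective : Function.Injective (mat X) := fun _ _ h => Subtype.ext (Units.ext h)

theorem mat_mul_inv (g : X) : mat X g * mat X g⁻¹ = 1 := by
  rw [← map_mul, mul_inv_cancel, map_one]

theorem mat_inv_mul (g : X) : mat X g⁻¹ * mat X g = 1 := by
  rw [← map_mul, inv_mul_cancel, map_one]

theorem det_mul_inv (g : X) : (mat X g).det * (mat X g⁻¹).det = 1 := by
  rw [← Matrix.det_mul, mat_mul_inv, Matrix.det_one]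

theorem mat_conj_trace (g f : X) : (mat X (g * f * g⁻¹)).trace = (mat X f).trace := by
  rw [map_mul, map_mul, Matrix.trace_mul_comm, ← Matrix.mul_assoc, mat_inv_mul, Matrix.one_mul]

theorem mat_conj_det (g f : X) : (mat X (g * f * g⁻¹)).det = (mat X f).det := by
  rw [map_mul, map_mul, Matrix.det_mul, Matrix.det_mul, mul_right_comm, det_mul_inv, one_mul]

theorem eq_one_of_sq {G : Type*} [Group G] [Finite G] (hodd : Odd (Nat.card G)) {x : G}
    (h : x ^ 2 = 1) : x = 1 :=
  orderOf_eq_one_iff.mp (Nat.eq_one_of_dvd_coprimes (Nat.coprime_two_right.mpr hodd)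
    (orderOf_dvd_natCard x) (orderOf_dvd_of_pow_eq_one h))

theorem central_of_isScalar {z : X} (hz : IsScalar (mat X z)) (g : X) : g * z = z * g := by
  obtain ⟨c, hc⟩ := hz
  apply mat_injective X
  rw [map_mul, map_mul, hc, mul_smul_comm, smul_mul_assoc, mul_one, one_mul]

include hp2 in
/-- The case with a nontrivial normal `p`-subgroup. -/
theorem isPGroup_commutator_of_pCore (hodd : Odd (Nat.card X)) (hP : pCore p X ≠ ⊥) :
    IsPGroup p (commutator X) := by
  haveI : Nontrivial (pCore p X) := (Subgroup.nontrivial_iff_ne_bot _).mpr hP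
  haveI := (Core.pCore_isPGroup (p := p) (G := X)).center_nontrivial
  obtain ⟨k, hk, hcard⟩ := ((Core.pCore_isPGroup (p := p) (G := X)).to_subgroup
    (Subgroup.center (pCore p X))).nontrivial_iff_card.mp inferInstance
  obtain ⟨u, hu⟩ := exists_prime_orderOf_dvd_card' (G := Subgroup.center (pCore p X)) p
    (by rw [hcard]; exact dvd_pow_self p hk.ne')
  set u' : X := ((u : pCore p X) : X) with hu'
  have hu1 : u' ≠ 1 := fun e => by
    have : u = 1 := Subtype.ext (Subtype.ext e)
    rw [this, orderOf_one] at hu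
    exact hp.out.one_lt.ne hu
  have hnil : ∀ x : X, x ^ p = 1 →
      (mat X x - (1 : ZMod p) • 1) * (mat X x - (1 : ZMod p) • 1) = 0 := by
    intro x hx
    refine isScalar_of_nilpotent_sub 1 ?_
    rw [one_smul, sub_pow_char_of_commute _ (Commute.one_right _), one_pow, ← map_pow, hx, map_one,
      sub_self]
  set n : M2 := mat X u' - (1 : ZMod p) • 1 with hn
  have hup : u' ^ p = 1 := by
    have h1 : u ^ orderOf u = 1 := pow_orderOf_eq_one u
    have h2 := congrArg (fun w : Subgroup.center (pCore p X) => ((w : pCore p X) : X)) h1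
    simp only [Subgroup.coe_pow, Subgroup.coe_one] at h2
    exact (congrArg (fun m => u' ^ m) hu).symm.trans h2
  have hnn : n * n = 0 := hnil u' hup
  have hn0 : n ≠ 0 := fun e => hu1 (mat_injective X (by
    rw [hn, one_smul, sub_eq_zero] at e
    rw [e, map_one]))
  have hns : ¬ IsScalar n := by
    rintro ⟨c, hc⟩
    rw [hc] at hnn
    have h1 := congrFun (congrFun hnn 0) 0
    simp at h1
    exact hn0 (by rw [hc, h1, zero_smul])
  have hscale : ∀ g : X, ∃ b : ZMod p, mat X g * n = b • (n * mat X g) := by
    intro g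
    have hgu : g * u' * g⁻¹ ∈ pCore p X :=
      (inferInstance : (pCore p X).Normal).conj_mem u' (u : pCore p X).2 g
    have hcom : Commute (g * u' * g⁻¹) u' := by
      have := Subgroup.mem_center_iff.mp u.2 ⟨_, hgu⟩
      exact congrArg Subtype.val this
    set v : M2 := mat X (g * u' * g⁻¹) - (1 : ZMod p) • 1 with hv
    have hvv : v * v = 0 := hnil _ (by rw [conj_pow, hup, mul_one, mul_inv_cancel])
    have hcomm : Commute v n :=
      ((hcom.map (mat X)).sub_right ((Commute.one_right _).smul_right _)).sub_left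
        ((Commute.one_left _).smul_left _)
    obtain ⟨a, b, hab⟩ := exists_eq_of_commute hns hcomm
    have ha : a = 0 := by
      rw [hab] at hvv
      simp only [add_mul, mul_add, smul_mul_assoc, mul_smul_comm, one_mul, mul_one, smul_smul, hnn,
        smul_zero, add_zero] at hvv
      have h3 : (a * a) • (1 : M2) + (2 * (a * b)) • n = 0 := by
        rw [← hvv]
        module
      by_contra hane
      by_cases hb : b = 0
      · subst hb
        have h1 := congrFun (congrFun h3 0) 0
        simp at h1
        exact hane h1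
      · have h2 : (2 * (a * b)) ≠ 0 := mul_ne_zero (two_ne_zero' hp2) (mul_ne_zero hane hb)
        refine hns ⟨-(a * a) / (2 * (a * b)), smul_right_injective M2 h2 ?_⟩
        show (2 * (a * b)) • n = (2 * (a * b)) • ((-(a * a) / (2 * (a * b))) • (1 : M2))
        rw [smul_smul, mul_div_cancel₀ _ h2, neg_smul, eq_neg_iff_add_eq_zero, add_comm]
        exact h3
    refine ⟨b, ?_⟩
    rw [ha, zero_smul, zero_add] at hab
    rw [← smul_mul_assoc, ← hab, hv, hn, one_smul, map_mul, map_mul, Matrix.mul_sub, Matrix.sub_mul,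
      Matrix.mul_assoc (mat X g * mat X u'), mat_inv_mul, Matrix.mul_one, Matrix.mul_one,
      Matrix.one_mul]
  -- commutators commute with `n` and have determinant one
  let T : Subgroup X :=
    { carrier := {c | Commute (mat X c) n ∧ (mat X c).det = 1}
      mul_mem' := fun {a b} ha hb => ⟨by rw [map_mul]; exact ha.1.mul_left hb.1, by
        rw [map_mul, Matrix.det_mul, ha.2, hb.2, one_mul]⟩
      one_mem' := ⟨by rw [map_one]; exact Commute.one_left _, by rw [map_one, Matrix.det_one]⟩
      inv_mem' := fun {a} ha => ⟨by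
        show mat X a⁻¹ * n = n * mat X a⁻¹
        calc mat X a⁻¹ * n = mat X a⁻¹ * (n * mat X a) * mat X a⁻¹ := by
              rw [← Matrix.mul_assoc, Matrix.mul_assoc (mat X a⁻¹ * n), mat_mul_inv, Matrix.mul_one]
          _ = n * mat X a⁻¹ := by
              rw [← ha.1.eq, ← Matrix.mul_assoc, mat_inv_mul, Matrix.one_mul], by
        have h1 := det_mul_inv X a
        rwa [ha.2, one_mul] at h1⟩ }
  have hle : commutator X ≤ T := by
    rw [commutator_def, Subgroup.commutator_le]
    intro g _ h _
    refine ⟨?_, ?_⟩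
    · obtain ⟨b, hb⟩ := hscale g
      obtain ⟨c, hc⟩ := hscale h
      have hb0 : b ≠ 0 := fun e => hn0 (by
        rw [e, zero_smul] at hb
        calc n = mat X g⁻¹ * (mat X g * n) := by rw [← Matrix.mul_assoc, mat_inv_mul, Matrix.one_mul]
          _ = 0 := by rw [hb, Matrix.mul_zero])
      have hc0 : c ≠ 0 := fun e => hn0 (by
        rw [e, zero_smul] at hc
        calc n = mat X h⁻¹ * (mat X h * n) := by rw [← Matrix.mul_assoc, mat_inv_mul, Matrix.one_mul]
          _ = 0 := by rw [hc, Matrix.mul_zero])
      have hinv : ∀ (x : X) (β : ZMod p), β ≠ 0 → mat X x * n = β • (n * mat X x) →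
          mat X x⁻¹ * n = β⁻¹ • (n * mat X x⁻¹) := by
        intro x β hβ hx
        calc mat X x⁻¹ * n = β⁻¹ • (mat X x⁻¹ * (β • (n * mat X x)) * mat X x⁻¹) := by
              rw [Matrix.mul_smul, Matrix.smul_mul, smul_smul, inv_mul_cancel₀ hβ, one_smul,
                ← Matrix.mul_assoc, Matrix.mul_assoc (mat X x⁻¹ * n), mat_mul_inv, Matrix.mul_one]
          _ = β⁻¹ • (n * mat X x⁻¹) := by
              rw [← hx, ← Matrix.mul_assoc, mat_inv_mul, Matrix.one_mul]
      show mat X ⁅g, h⁆ * n = n * mat X ⁅g, h⁆
      rw [commutatorElement_def, map_mul, map_mul, map_mul]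
      calc mat X g * mat X h * mat X g⁻¹ * mat X h⁻¹ * n
          = mat X g * (mat X h * (mat X g⁻¹ * (mat X h⁻¹ * n))) := by simp only [Matrix.mul_assoc]
        _ = c⁻¹ • (mat X g * (mat X h * ((mat X g⁻¹ * n) * mat X h⁻¹))) := by
            rw [hinv h c hc0 hc]; simp only [Matrix.mul_smul, Matrix.mul_assoc]
        _ = (c⁻¹ * b⁻¹) • (mat X g * ((mat X h * n) * (mat X g⁻¹ * mat X h⁻¹))) := by
            rw [hinv g b hb0 hb]
            simp only [Matrix.mul_smul, Matrix.smul_mul, Matrix.mul_assoc, smul_smul]
        _ = (c⁻¹ * b⁻¹ * c) • ((mat X g * n) * (mat X h * (mat X g⁻¹ * mat X h⁻¹))) := by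
            rw [hc]; simp only [Matrix.mul_smul, Matrix.smul_mul, Matrix.mul_assoc, smul_smul]
        _ = (c⁻¹ * b⁻¹ * c * b) • (n * (mat X g * mat X h * mat X g⁻¹ * mat X h⁻¹)) := by
            rw [hb]; simp only [Matrix.smul_mul, Matrix.mul_assoc, smul_smul]
        _ = n * (mat X g * mat X h * mat X g⁻¹ * mat X h⁻¹) := by
            rw [show c⁻¹ * b⁻¹ * c * b = (c⁻¹ * c) * (b⁻¹ * b) by ring, inv_mul_cancel₀ hc0,
              inv_mul_cancel₀ hb0, mul_one, one_smul]
    · show (mat X ⁅g, h⁆).det = 1
      rw [commutatorElement_def, map_mul, Matrix.det_mul, mat_conj_det, det_mul_inv]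
  intro x
  refine ⟨1, ?_⟩
  rw [pow_one]
  obtain ⟨hxc, hxd⟩ := hle x.2
  apply Subtype.ext
  set w : X := (x : X) with hw
  show w ^ p = 1
  obtain ⟨a, b, hab⟩ := exists_eq_of_commute hns hxc
  have hpow : mat X (w ^ p) = a • (1 : M2) := by rw [map_pow, hab, pow_p_eq a b hnn]
  have hd : a ^ 2 = 1 := by
    have h1 := congrArg Matrix.det hpow
    rw [map_pow, Matrix.det_pow, hxd, one_pow] at h1
    simpa using h1.symm
  refine eq_one_of_sq hodd (mat_injective X ?_)
  rw [map_pow, hpow, smul_pow, hd, one_pow, one_smul, map_one]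

theorem isScalar_pow {f : M2} (hD : f.trace ^ 2 = 4 * f.det) (h2 : (2 : ZMod p) ≠ 0) :
    IsScalar (f ^ p) := by
  set c := f.trace / 2 with hc
  have h2c : 2 * c = f.trace := mul_div_cancel₀ _ h2
  have hdc : f.det = c * c := by
    apply mul_left_cancel₀ (mul_ne_zero h2 h2)
    linear_combination -hD - (2 * c + f.trace) * h2c
  have hnn : (f - c • 1) * (f - c • 1) = 0 := by
    simp only [sub_mul, mul_sub, smul_mul_assoc, mul_smul_comm, one_mul, mul_one, smul_smul]
    rw [cayley f, hdc, ← h2c]
    module
  refine ⟨c, ?_⟩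
  conv_lhs => rw [show f = c • (1 : M2) + (1 : ZMod p) • (f - c • 1) by module]
  rw [pow_p_eq c 1 hnn]

include hp2 in
/-- Without normal `p`-subgroups the group is abelian. -/
theorem commute_of_pCore_eq_bot (hodd : Odd (Nat.card X)) [Group.IsSolvable X]
    (hP : pCore p X = ⊥) : ∀ x y : X, x * y = y * x := by
  have h2 := two_ne_zero' hp2
  by_cases hN : ∃ N : Subgroup X, N.Normal ∧ IsMulCommutative N ∧ ∃ f ∈ N, ¬ IsScalar (mat X f)
  · obtain ⟨N, hNn, hNa, f, hf, hfs⟩ := hN
    set F := mat X f with hF
    have hcop : (orderOf f).Coprime p := by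
      refine (hp.out.coprime_iff_not_dvd.mpr fun hd => ?_).symm
      let R : Subgroup X :=
        { carrier := {x | x ∈ N ∧ x ^ p = 1}
          mul_mem' := fun {a b} ha hb => ⟨mul_mem ha.1 hb.1, by
            have hab : Commute a b :=
              congrArg Subtype.val (hNa.is_comm.comm ⟨a, ha.1⟩ ⟨b, hb.1⟩)
            rw [hab.mul_pow, ha.2, hb.2, one_mul]⟩
          one_mem' := ⟨one_mem _, one_pow p⟩
          inv_mem' := fun {a} ha => ⟨inv_mem ha.1, by rw [inv_pow, ha.2, inv_one]⟩ }
      haveI : R.Normal := ⟨fun a ha g => ⟨hNn.conj_mem a ha.1 g, by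
        rw [conj_pow, ha.2, mul_one, mul_inv_cancel]⟩⟩
      have hR : IsPGroup p R := fun a => ⟨1, Subtype.ext (by rw [pow_one]; exact a.2.2)⟩
      obtain ⟨z, hz⟩ := exists_prime_orderOf_dvd_card' (G := Subgroup.zpowers f) p
        (by rwa [Nat.card_zpowers])
      have hzp : z ^ p = 1 :=
        (congrArg (fun m => z ^ m) hz).symm.trans (pow_orderOf_eq_one z)
      have hzR : (z : X) ∈ pCore p X := Core.le_pCore hR
        ⟨(Subgroup.zpowers_le.mpr hf) z.2, congrArg Subtype.val hzp⟩
      rw [hP, Subgroup.mem_bot] at hzR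
      have hz1 : z = 1 := Subtype.ext hzR
      rw [hz1, orderOf_one] at hz
      exact hp.out.one_lt.ne hz
    have hD : F.trace ^ 2 ≠ 4 * F.det := by
      intro hD
      obtain ⟨c, hc⟩ := isScalar_pow hD h2
      obtain ⟨m, hm⟩ := exists_pow_eq_self_of_coprime (n := p) (x := f) hcop.symm
      refine hfs ⟨c ^ m, ?_⟩
      rw [hF, ← hm, map_pow, map_pow, ← hF, hc, smul_pow, one_pow]
    have hcen : ∀ g : X, g * f = f * g := by
      intro g
      obtain ⟨f', hf'⟩ : ∃ f', f' = g * f * g⁻¹ := ⟨_, rfl⟩
      have hcom : Commute (mat X f') F :=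
        Commute.map (congrArg Subtype.val
          (hNa.is_comm.comm ⟨f', hf' ▸ hNn.conj_mem f hf g⟩ ⟨f, hf⟩) : Commute f' f) (mat X)
      obtain ⟨a, b, hab⟩ := exists_eq_of_commute hfs hcom
      have htr : (mat X f').trace = F.trace := hf' ▸ mat_conj_trace X g f
      have hdet : (mat X f').det = F.det := hf' ▸ mat_conj_det X g f
      rw [hab] at htr hdet
      simp [Matrix.trace_fin_two, Matrix.det_fin_two] at htr hdet hD
      have hb : (b ^ 2 - 1) * ((F 0 0 + F 1 1) ^ 2 - 4 * (F 0 0 * F 1 1 - F 0 1 * F 1 0)) = 0 := by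
        linear_combination (2 * a + b * (F 0 0 + F 1 1) + (F 0 0 + F 1 1)) * htr - 4 * hdet
      rcases mul_eq_zero.mp hb with hb1 | hb1
      · rcases mul_eq_zero.mp (show (b - 1) * (b + 1) = 0 by linear_combination hb1) with h1 | h1
        · have hb' : b = 1 := by linear_combination h1
          subst hb'
          have ha : a = 0 := by
            rcases mul_eq_zero.mp (show 2 * a = 0 by linear_combination htr) with h | h
            · exact absurd h h2
            · exact h
          subst ha
          have hff : f' = f := mat_injective X (by rw [hab, zero_smul, one_smul, zero_add])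
          rw [hf', mul_inv_eq_iff_eq_mul] at hff
          exact hff
        · -- then `g²` centralises `f`
          have hb' : b = -1 := by linear_combination h1
          subst hb'
          have e1 : mat X g * F * mat X g⁻¹ = a • (1 : M2) + (-1 : ZMod p) • F := by
            rw [← hab, hf', map_mul, map_mul]
          have hgg : g * f' * g⁻¹ = f := by
            apply mat_injective X
            rw [map_mul, map_mul, hab, mul_add, add_mul, mul_smul_comm, smul_mul_assoc, mul_one,
              mat_mul_inv, mul_smul_comm, smul_mul_assoc, e1, ← hF]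
            module
          have h2g : g ^ 2 * f = f * g ^ 2 := by
            rw [pow_two]
            calc g * g * f = (g * (g * f * g⁻¹) * g⁻¹) * (g * g) := by group
              _ = f * (g * g) := by rw [← hf', hgg]
          obtain ⟨m, hm⟩ := exists_pow_eq_self_of_coprime (n := 2) (x := g)
            ((Nat.coprime_two_right.mpr hodd).coprime_dvd_left (orderOf_dvd_natCard g)).symm
          have := (show Commute (g ^ 2) f from h2g).pow_left m
          rwa [hm] at this
      · exact absurd (by linear_combination hb1) hD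
    intro x y
    have hx : Commute (mat X x) F := (show Commute x f from hcen x).map (mat X)
    have hy : Commute (mat X y) F := (show Commute y f from hcen y).map (mat X)
    exact mat_injective X (by rw [map_mul, map_mul]; exact (commute_of_commute hfs hx hy).eq)
  · -- all abelian normal subgroups are scalar
    have hall : ∀ (j : ℕ), (∀ x ∈ derivedSeries X j, IsScalar (mat X x)) →
        ∀ x : X, IsScalar (mat X x) := by
      intro j
      induction j with
      | zero => exact fun h x => h x (Subgroup.mem_top x)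
      | succ j ih =>
        intro h
        refine ih fun x hx => ?_
        by_contra hxs
        refine hN ⟨derivedSeries X j, derivedSeries_normal X j, ⟨⟨fun a b => ?_⟩⟩, x, hx, hxs⟩
        apply Subtype.ext
        have hk : ⁅(a : X), (b : X)⁆ ∈ derivedSeries X (j + 1) :=
          Subgroup.commutator_mem_commutator a.2 b.2
        obtain ⟨c, hc⟩ := h _ hk
        have hdet : c ^ 2 = 1 := by
          have h1 := congrArg Matrix.det hc
          rw [commutatorElement_def, map_mul, Matrix.det_mul, mat_conj_det, det_mul_inv] at h1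
          simpa using h1.symm
        refine commutatorElement_eq_one_iff_mul_comm.mp (eq_one_of_sq hodd (mat_injective X ?_))
        rw [map_pow, hc, smul_pow, hdet, one_pow, one_smul, map_one]
    obtain ⟨n, hn⟩ := (Group.IsSolvable.solvable (G := X))
    have hscal := hall n (fun x hx => by
      rw [hn, Subgroup.mem_bot] at hx
      exact ⟨1, by rw [hx, map_one, one_smul]⟩)
    exact fun x y => central_of_isScalar X (hscal y) x

include hp2 in
theorem isPGroup_commutator (hodd : Odd (Nat.card X)) [Group.IsSolvable X] :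
    IsPGroup p (commutator X) := by
  by_cases hP : pCore p X = ⊥
  · have h := commute_of_pCore_eq_bot hp2 X hodd hP
    intro x
    refine ⟨0, ?_⟩
    have hx : commutator X ≤ ⊥ := by
      rw [commutator_def, Subgroup.commutator_le]
      intro a _ b _
      rw [Subgroup.mem_bot]
      exact commutatorElement_eq_one_iff_mul_comm.mpr (h a b)
    exact (pow_one x).trans (Subtype.ext (hx x.2))
  · exact isPGroup_commutator_of_pCore hp2 X hodd hP

end Cfsg.Agent.Fusion.OddGL2
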