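import Cfsg.Agent.Coprime.Generation
import Cfsg.Agent.Thompson.Basic

/-!
# Quadratic action and the size of centralizers for an action on a `p'`-group

`mem_centralizer_of_quadratic` : for odd `p`, a quadratic element normalising an abelian
`p'`-group `Q` acts trivially on `Q` modulo the centralizer of the module.

`relIndex_lt_of_faithful` : a nontrivial elementary abelian group acting on an abelian `p'`-group
faithfully on a module `V` has `|V : C_V(A)| > |A|`.
-/

set_option autoImplicit false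

namespace Cfsg.Agent.Fusion

open Subgroup
open scoped commutatorElement

universe u

/-- In a ring of odd prime characteristic a square-zero perturbation of `1` commutes with a unit
of order prime to `p` once this unit commutes with both of its conjugates. -/
theorem commute_of_quadratic {R : Type u} [Ring R] {p k : ℕ} (hodd : Odd p) (hR : (p : R) = 0)
    (hk : Nat.Coprime k p) {n r : R} (hn : n * n = 0) (hr : r ^ k = 1)
    (h₁ : Commute r ((1 + n) * r * (1 - n))) (h₂ : Commute r ((1 - n) * r * (1 + n))) :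
    Commute r n := by
  obtain ⟨m, hm⟩ := hodd
  have h2 : ∀ x : R, x + x = 0 → x = 0 := by
    intro x hx
    have hp : ((p : R)) * x = (m : R) * (x + x) + x := by
      rw [hm]
      push_cast
      noncomm_ring
    rw [hR, hx, mul_zero, zero_mul, zero_add] at hp
    exact hp.symm
  set D := n * r - r * n with hD
  have hDr : Commute r D := by
    have h3 : Commute r (((1 + n) * r * (1 - n)) - ((1 - n) * r * (1 + n))) := h₁.sub_right h₂
    have h4 : ((1 + n) * r * (1 - n)) - ((1 - n) * r * (1 + n)) = D + D := by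
      rw [hD]; noncomm_ring
    rw [h4] at h3
    refine sub_eq_zero.mp (h2 _ ?_)
    calc r * D - D * r + (r * D - D * r) = r * (D + D) - (D + D) * r := by noncomm_ring
      _ = 0 := sub_eq_zero.mpr h3.eq
  have hpow : ∀ j : ℕ, n * r ^ (j + 1) - r ^ (j + 1) * n = ((j + 1 : ℕ) : R) * (r ^ j * D) := by
    intro j
    induction j with
    | zero => simp [hD]
    | succ j ih =>
      calc n * r ^ (j + 1 + 1) - r ^ (j + 1 + 1) * n
          = (n * r ^ (j + 1) - r ^ (j + 1) * n) * r + r ^ (j + 1) * (n * r - r * n) := by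
            rw [pow_succ r (j + 1)]; noncomm_ring
        _ = ((j + 1 : ℕ) : R) * (r ^ j * (D * r)) + r ^ (j + 1) * D := by
            rw [ih, ← hD]; noncomm_ring
        _ = ((j + 1 + 1 : ℕ) : R) * (r ^ (j + 1) * D) := by
            rw [← hDr.eq, ← mul_assoc (r ^ j), ← pow_succ, Nat.cast_succ (j + 1), add_mul, one_mul]
  rcases k with _ | j
  · simp only [Nat.coprime_zero_left] at hk
    subst hk
    have : ∀ x : R, x = 0 := fun x => by simpa [Nat.cast_one] using congrArg (· * x) hR
    rw [commute_iff_eq, this (r * n), this (n * r)]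
  · have h0 := hpow j
    rw [hr, mul_one, one_mul, sub_self] at h0
    obtain ⟨a, b, hab⟩ : ∃ a b : ℤ, ((j + 1 : ℕ) : ℤ) * a + (p : ℤ) * b = 1 :=
      ⟨_, _, (Nat.gcd_eq_gcd_ab (j + 1) p).symm.trans (by rw [hk.gcd_eq_one]; rfl)⟩
    have habR : ((j + 1 : ℕ) : R) * (a : R) = 1 := by
      have := congrArg (Int.cast : ℤ → R) hab
      push_cast at this
      rw [hR, zero_mul, add_zero] at this
      exact_mod_cast this
    have hrD : r ^ j * D = 0 := by
      calc r ^ j * D = ((j + 1 : ℕ) : R) * (a : R) * (r ^ j * D) := by rw [habR, one_mul]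
        _ = (a : R) * (((j + 1 : ℕ) : R) * (r ^ j * D)) := by
          rw [← (Int.cast_commute a _).eq, mul_assoc]
        _ = 0 := by rw [← h0, mul_zero]
    have hD0 : D = 0 := by
      calc D = r ^ (j + 1) * D := by rw [hr, one_mul]
        _ = r * (r ^ j * D) := by rw [pow_succ', mul_assoc]
        _ = 0 := by rw [hrD, mul_zero]
    exact (sub_eq_zero.mp hD0).symm

variable {G : Type u} [Group G] [Finite G] {p : ℕ}

/-- A quadratic element normalising an abelian `p'`-group `Q` centralises `Q` modulo the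
centralizer of the module. -/
theorem mem_centralizer_of_quadratic (hodd : Odd p) {V Q : Subgroup G} (hV : IsElementaryAbelian p V)
    {x : G} (hxV : x ∈ normalizer (V : Set G)) (hQV : Q ≤ normalizer (V : Set G))
    (hq : ∀ v ∈ V, x * (x * v * x⁻¹ * v⁻¹) = (x * v * x⁻¹ * v⁻¹) * x)
    (hQc : IsMulCommutative Q) (hQ : (Nat.card Q).Coprime p) (hxQ : x ∈ normalizer (Q : Set G))
    {r : G} (hr : r ∈ Q) : x * r * x⁻¹ * r⁻¹ ∈ centralizer (V : Set G) := by
  have := hV.1
  open scoped IsMulCommutative in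
  let φ : normalizer (V : Set G) →* AddMonoid.End (Additive V) :=
    { toFun := fun g => AddMonoidHom.mk'
        (fun v => Additive.ofMul (V.normalizerMonoidHom g (Additive.toMul v)))
        (fun v w => congrArg Additive.ofMul (map_mul (V.normalizerMonoidHom g) _ _))
      map_one' := AddMonoidHom.ext fun v => congrArg Additive.ofMul (by rw [map_one]; rfl)
      map_mul' := fun g h => AddMonoidHom.ext fun v =>
        congrArg Additive.ofMul (by rw [map_mul]; rfl) }
  open scoped IsMulCommutative in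
  have key : Commute (φ ⟨r, hQV hr⟩) (φ ⟨x, hxV⟩) := by
    have hR : (p : AddMonoid.End (Additive V)) = 0 := by
      refine AddMonoidHom.ext fun v => Additive.toMul.injective (Subtype.ext ?_)
      show ((Additive.toMul ((p : AddMonoid.End (Additive V)) v) : V) : G) = 1
      rw [AddMonoid.End.natCast_apply, toMul_nsmul, SubmonoidClass.coe_pow]
      exact hV.2 _ (Additive.toMul v).2
    set a := φ ⟨x, hxV⟩ with ha
    have hn : (a - 1) * (a - 1) = 0 := by
      refine AddMonoidHom.ext fun v => Additive.toMul.injective (Subtype.ext ?_)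
      obtain ⟨v, rfl⟩ := Additive.ofMul.surjective v
      have h1 := hq v v.2
      show x * ((x * (v : G) * x⁻¹) / (v : G)) * x⁻¹ / ((x * (v : G) * x⁻¹) / (v : G)) = 1
      simp only [div_eq_mul_inv]
      rw [h1, mul_inv_cancel_right, mul_inv_cancel]
    have hinv : φ ⟨x, hxV⟩⁻¹ = 1 - (a - 1) := by
      calc φ ⟨x, hxV⟩⁻¹ = φ ⟨x, hxV⟩⁻¹ * ((1 + (a - 1)) * (1 - (a - 1))) := by
            rw [(Commute.one_left (a - 1)).mul_self_sub_mul_self_eq.symm, one_mul, hn,
              sub_zero, mul_one]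
        _ = φ ⟨x, hxV⟩⁻¹ * a * (1 - (a - 1)) := by rw [add_sub_cancel, mul_assoc]
        _ = 1 - (a - 1) := by rw [ha, ← map_mul, inv_mul_cancel, map_one, one_mul]
    have hcomm : ∀ (y : normalizer (V : Set G)), (y : G) ∈ Q →
        Commute (φ ⟨r, hQV hr⟩) (φ y) := fun y hy =>
      (show Commute (⟨r, hQV hr⟩ : normalizer (V : Set G)) y from Subtype.ext
        (congrArg (fun z : Q => (z : G)) (hQc.is_comm.comm ⟨r, hr⟩ ⟨y, hy⟩))).map φ
    have h₁ := hcomm (⟨x, hxV⟩ * ⟨r, hQV hr⟩ * ⟨x, hxV⟩⁻¹)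
      ((mem_normalizer_iff.mp hxQ r).mp hr)
    have h₂ := hcomm (⟨x, hxV⟩⁻¹ * ⟨r, hQV hr⟩ * ⟨x, hxV⟩)
      ((mem_normalizer_iff''.mp hxQ r).mp hr)
    rw [map_mul, map_mul, hinv] at h₁ h₂
    have hrk : φ ⟨r, hQV hr⟩ ^ orderOf r = 1 := by
      rw [← map_pow, ← map_one φ]
      exact congrArg φ (Subtype.ext (by simp [pow_orderOf_eq_one]))
    have := commute_of_quadratic hodd hR (hQ.coprime_dvd_left (orderOf_dvd_natCard Q hr)) hn hrk
      (by rwa [add_sub_cancel]) (by rwa [add_sub_cancel])
    have h3 := this.add_right (Commute.one_right _)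
    rwa [sub_add_cancel] at h3
  rw [mem_centralizer_iff]
  intro v hv
  open scoped IsMulCommutative in
  have h := congrArg (fun f : AddMonoid.End (Additive V) =>
    ((Additive.toMul (f (Additive.ofMul (⟨r⁻¹ * x⁻¹ * v * (x * r),
      (mem_normalizer_iff''.mp (Subgroup.mul_mem _ hxV (hQV hr)) v).mp hv |> fun h => by
        simpa [mul_assoc] using h⟩ : V))) : V) : G)) key.eq
  have e : r * (x * (r⁻¹ * x⁻¹ * v * (x * r)) * x⁻¹) * r⁻¹ =
      x * (r * (r⁻¹ * x⁻¹ * v * (x * r)) * r⁻¹) * x⁻¹ := h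
  have e2 : x * (r * (r⁻¹ * x⁻¹ * v * (x * r)) * r⁻¹) * x⁻¹ = v := by group
  rw [e2] at e
  have e3 : (r * x * r⁻¹ * x⁻¹) * v = v * (r * x * r⁻¹ * x⁻¹) := by
    calc (r * x * r⁻¹ * x⁻¹) * v
        = (r * (x * (r⁻¹ * x⁻¹ * v * (x * r)) * x⁻¹) * r⁻¹) * (r * x * r⁻¹ * x⁻¹) := by group
      _ = v * (r * x * r⁻¹ * x⁻¹) := by rw [e]
  calc v * (x * r * x⁻¹ * r⁻¹)
      = (x * r * x⁻¹ * r⁻¹) * ((r * x * r⁻¹ * x⁻¹) * v) * (x * r * x⁻¹ * r⁻¹) := by group
    _ = (x * r * x⁻¹ * r⁻¹) * (v * (r * x * r⁻¹ * x⁻¹)) * (x * r * x⁻¹ * r⁻¹) := by rw [e3]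
    _ = x * r * x⁻¹ * r⁻¹ * v := by group

variable [Fact p.Prime]

/-- A `p`-element with centralizer of index at most `p` in an elementary abelian module is
quadratic on it. -/
theorem quadratic_of_relIndex_le {V : Subgroup G} (hV : IsElementaryAbelian p V) {x : G}
    (hx : IsPGroup p (zpowers x)) (hxV : x ∈ normalizer (V : Set G))
    (hi : (centralizer ({x} : Set G)).relIndex V ≤ p) {v : G} (hv : v ∈ V) :
    x * (x * v * x⁻¹ * v⁻¹) = (x * v * x⁻¹ * v⁻¹) * x := by
  have hVc := hV.1
  have hcj : ∀ {u : G}, u ∈ V → x * u * x⁻¹ ∈ V := fun hu =>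
    (mem_normalizer_iff.mp hxV _).mp hu
  let θ : V →* G := MonoidHom.mk' (fun u => x * u * x⁻¹ * (u : G)⁻¹) fun u w => by
    have h1 : (x * w * x⁻¹ * (w : G)⁻¹) * (u : G)⁻¹ = (u : G)⁻¹ * (x * w * x⁻¹ * (w : G)⁻¹) :=
      congrArg (fun z : V => (z : G))
        (hVc.is_comm.comm ⟨_, mul_mem (hcj w.2) (Subgroup.inv_mem _ w.2)⟩ ⟨_, Subgroup.inv_mem _ u.2⟩)
    calc x * ((u : G) * w) * x⁻¹ * ((u : G) * w)⁻¹
        = (x * u * x⁻¹) * ((x * w * x⁻¹ * (w : G)⁻¹) * (u : G)⁻¹) := by group
      _ = (x * u * x⁻¹) * ((u : G)⁻¹ * (x * w * x⁻¹ * (w : G)⁻¹)) := by rw [h1]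
      _ = (x * u * x⁻¹ * (u : G)⁻¹) * (x * w * x⁻¹ * (w : G)⁻¹) := by group
  set T := θ.range with hT
  have hTV : T ≤ V := by
    rintro _ ⟨u, rfl⟩
    exact mul_mem (hcj u.2) (Subgroup.inv_mem _ u.2)
  have hxT : zpowers x ≤ normalizer (T : Set G) := by
    rw [zpowers_le, mem_normalizer_iff_map_conj_eq]
    refine eq_of_le_of_card_ge ?_ (card_map_of_injective (MulAut.conj x).injective).ge
    rintro _ ⟨_, ⟨u, rfl⟩, rfl⟩
    refine ⟨⟨x * u * x⁻¹, hcj u.2⟩, ?_⟩
    show x * (x * u * x⁻¹) * x⁻¹ * (x * u * x⁻¹)⁻¹ = x * (x * u * x⁻¹ * (u : G)⁻¹) * x⁻¹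
    group
  have hker : θ.ker = (centralizer ({x} : Set G)).subgroupOf V := by
    ext u
    rw [MonoidHom.mem_ker, mem_subgroupOf, mem_centralizer_singleton_iff]
    show x * u * x⁻¹ * (u : G)⁻¹ = 1 ↔ _
    rw [mul_inv_eq_one, mul_inv_eq_iff_eq_mul]
    exact eq_comm
  have hTp : IsPGroup p T := (Thompson.ea_isPGroup hV).to_le hTV
  have hTcard : Nat.card T ≤ p := by
    rw [hT, ← index_ker, hker]
    exact hi
  have hmem : x * v * x⁻¹ * v⁻¹ ∈ T := ⟨⟨v, hv⟩, rfl⟩
  rcases eq_or_ne T ⊥ with h0 | h0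
  · rw [h0, mem_bot] at hmem
    rw [hmem, mul_one, one_mul]
  · have hlt := Coprime.commutator_lt_of_isPGroup hx hTp hxT h0
    have h1 : ⁅T, zpowers x⁆ = ⊥ := by
      by_contra hne
      obtain ⟨i, hi'⟩ := IsPGroup.iff_card.mp (hTp.to_le hlt.le)
      have hcl : Nat.card (⁅T, zpowers x⁆ : Subgroup G) < Nat.card T := Core.card_lt_of_lt hlt
      rcases i with _ | i
      · exact hne (eq_bot_of_card_eq _ (by simpa using hi'))
      · have : p ≤ p ^ (i + 1) := Nat.le_self_pow (Nat.succ_ne_zero i) p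
        omega
    exact mem_centralizer_iff.mp (commutator_eq_bot_iff_le_centralizer.mp h1 hmem) x
      (mem_zpowers x)

/-- A `p`-group `A` acting with elementary abelian kernel quotient, faithfully on an abelian
`p'`-group `Q`, which is itself faithful on `V`, has `|V : C_V(A)| > |A : C_A(V)|`. -/
theorem relIndex_lt_of_faithful (hodd : Odd p) (A V Q : Subgroup G) (hV : IsElementaryAbelian p V)
    (hA : IsPGroup p A) (hAV : A ≤ normalizer (V : Set G)) (hQV : Q ≤ normalizer (V : Set G))
    (hAQ : A ≤ normalizer (Q : Set G)) (hQc : IsMulCommutative Q) (hQ : (Nat.card Q).Coprime p)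
    (hQf : Q ⊓ centralizer (V : Set G) = ⊥) (hder : ⁅A, A⁆ ≤ centralizer (V : Set G))
    (hpow : ∀ a ∈ A, a ^ p ∈ centralizer (V : Set G))
    (hfaith : A ⊓ centralizer (Q : Set G) ≤ centralizer (V : Set G))
    (hne : ¬ A ≤ centralizer (V : Set G)) :
    (centralizer (V : Set G)).relIndex A < (centralizer (A : Set G)).relIndex V := by
  induction A using WellFoundedLT.induction with
  | _ A IH =>
  have hp := (Fact.out : p.Prime)
  have hQone : ∀ {y : G}, y ∈ Q → y ∈ centralizer (V : Set G) → y = 1 := fun hy hy' =>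
    mem_bot.mp (hQf ▸ (⟨hy, hy'⟩ : _ ∈ Q ⊓ centralizer (V : Set G)))
  have hCn : ∀ {g : G}, g ∈ normalizer (V : Set G) → ∀ {c : G},
      c ∈ centralizer (V : Set G) → g * c * g⁻¹ ∈ centralizer (V : Set G) := by
    intro g hg c hc
    rw [mem_centralizer_iff] at hc ⊢
    intro w hw
    have := hc _ ((mem_normalizer_iff''.mp hg w).mp hw)
    calc w * (g * c * g⁻¹) = g * ((g⁻¹ * w * g) * c) * g⁻¹ := by group
      _ = g * (c * (g⁻¹ * w * g)) * g⁻¹ := by rw [this]
      _ = g * c * g⁻¹ * w := by group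
  have hAQone : ∀ {a : G}, a ∈ A → a ∈ centralizer (V : Set G) → a ∈ centralizer (Q : Set G) := by
    intro a ha hac
    rw [mem_centralizer_iff]
    intro r hr
    have h1 : a * r * a⁻¹ * r⁻¹ = 1 := by
      refine hQone (mul_mem ((mem_normalizer_iff.mp (hAQ ha) r).mp hr) (Subgroup.inv_mem _ hr)) ?_
      rw [mul_assoc, mul_assoc, ← mul_assoc r]
      exact mul_mem hac (hCn (hQV hr) (Subgroup.inv_mem _ hac))
    rw [mul_inv_eq_one, mul_inv_eq_iff_eq_mul] at h1
    exact h1.symm
  set S : Set (Subgroup G) := {B | B < A ∧ A ⊓ centralizer (V : Set G) ≤ B ∧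
    ¬ Q ⊓ centralizer (B : Set G) ≤ centralizer (A : Set G)} with hS
  have hS0 : A ⊓ centralizer (V : Set G) ∈ S := by
    refine ⟨lt_of_le_of_ne inf_le_left fun h => hne (inf_eq_left.mp h), le_rfl, fun hle => hne ?_⟩
    intro a ha
    refine hfaith ⟨ha, ?_⟩
    refine mem_centralizer_iff.mpr ?_
    intro r hr
    refine (mem_centralizer_iff.mp (hle ⟨hr, ?_⟩) a ha).symm
    refine mem_centralizer_iff.mpr ?_
    intro b hb
    exact (mem_centralizer_iff.mp (hAQone hb.1 hb.2) r hr).symm
  obtain ⟨B, hBS, hBmax⟩ := wellFounded_gt.has_min S ⟨_, hS0⟩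
  obtain ⟨hBA, hB0, hBQ⟩ := hBS
  have hderB : ∀ {a b : G}, a ∈ A → b ∈ A → a * b * a⁻¹ * b⁻¹ ∈ B := by
    intro a b ha hb
    exact hB0 ⟨by
      exact mul_mem (mul_mem (mul_mem ha hb) (Subgroup.inv_mem _ ha)) (Subgroup.inv_mem _ hb),
      hder (commutator_mem_commutator ha hb)⟩
  have hBnorm : A ≤ normalizer (B : Set G) := by
    intro a ha
    rw [mem_normalizer_iff_map_conj_eq]
    refine eq_of_le_of_card_ge ?_ (card_map_of_injective (MulAut.conj a).injective).ge
    rintro _ ⟨b, hb, rfl⟩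
    have := mul_mem (hderB ha (hBA.le hb)) hb
    rwa [inv_mul_cancel_right] at this
  set K := Q ⊓ centralizer (B : Set G) with hK
  have hAK : A ≤ normalizer (K : Set G) := by
    intro a ha
    have h1 : a ∈ normalizer (centralizer (B : Set G) : Set G) := by
      rw [mem_normalizer_iff_map_conj_eq]
      refine eq_of_le_of_card_ge ?_ (card_map_of_injective (MulAut.conj a).injective).ge
      rintro _ ⟨c, hc, rfl⟩
      replace hc := mem_centralizer_iff.mp hc
      rw [mem_centralizer_iff]
      intro b hb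
      have := hc _ ((mem_normalizer_iff''.mp (hBnorm ha) b).mp hb)
      show b * (a * c * a⁻¹) = a * c * a⁻¹ * b
      calc b * (a * c * a⁻¹) = a * ((a⁻¹ * b * a) * c) * a⁻¹ := by group
        _ = a * (c * (a⁻¹ * b * a)) * a⁻¹ := by rw [this]
        _ = a * c * a⁻¹ * b := by group
    rw [mem_normalizer_iff]
    intro x
    rw [hK, mem_inf, mem_inf, ← mem_normalizer_iff.mp (hAQ ha) x, ← mem_normalizer_iff.mp h1 x]
  have hKc : IsMulCommutative K :=
    ⟨⟨fun x y => Subtype.ext (congrArg (fun z : Q => (z : G))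
      (hQc.is_comm.comm ⟨x.1, x.2.1⟩ ⟨y.1, y.2.1⟩))⟩⟩
  -- `A / B` is cyclic
  obtain ⟨a, ha, haB⟩ := SetLike.exists_of_lt hBA
  have hgen : B ⊔ zpowers a = A := by
    by_contra hne'
    have hle : B ⊔ zpowers a ≤ A := sup_le hBA.le (zpowers_le.mpr ha)
    obtain ⟨b, hb, hbB⟩ := SetLike.exists_of_lt (lt_of_le_of_ne hle hne')
    refine hBQ fun r hr => ?_
    have hfix : ∀ c ∈ A, c ∉ B → B ⊔ zpowers c < A → ∀ x ∈ K, c * x * c⁻¹ = x →
        x ∈ centralizer (A : Set G) := by
      intro c hc hcB hclt x hx hcx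
      have hnmax := hBmax (B ⊔ zpowers c)
      by_contra hxA
      refine hnmax ⟨hclt, hB0.trans le_sup_left, fun hle' => hxA (hle' ⟨hx.1, ?_⟩)⟩ ?_
      · refine mem_centralizer_iff.mpr ?_
        intro y hy
        have hsub : B ⊔ zpowers c ≤ centralizer ({x} : Set G) := by
          refine sup_le (fun y hy => ?_) (zpowers_le.mpr ?_)
          · rw [mem_centralizer_singleton_iff]
            exact (mem_centralizer_iff.mp hx.2 y hy)
          · rw [mem_centralizer_singleton_iff]
            exact mul_inv_eq_iff_eq_mul.mp hcx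
        exact mem_centralizer_singleton_iff.mp (hsub hy)
      · exact lt_of_le_of_ne le_sup_left fun h => hcB (h ▸ mem_sup_right (mem_zpowers c))
    open scoped IsMulCommutative in
    let ψ : A →* MulAut K := K.normalizerMonoidHom.comp (inclusion hAK)
    open scoped IsMulCommutative in
    have hψ : ∀ c : A, (c : G) ∈ centralizer (V : Set G) → ψ c = 1 := fun c hc => by
      refine MulEquiv.ext fun z => Subtype.ext ?_
      show (c : G) * z * (c : G)⁻¹ = z
      rw [← mem_centralizer_iff.mp (hAQone c.2 hc) z z.2.1, mul_inv_cancel_right]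
    open scoped IsMulCommutative in
    have h := Coprime.pow_mem_closure_fixed (α := ψ ⟨a, ha⟩) (β := ψ ⟨b, hb⟩) hp
      (by rw [← map_pow]; exact hψ _ (by simpa using hpow a ha))
      (by rw [← map_pow]; exact hψ _ (by simpa using hpow b hb))
      (by
        rw [commute_iff_eq, ← mul_inv_eq_one, mul_inv_rev, ← mul_assoc, ← map_inv, ← map_inv,
          ← map_mul, ← map_mul, ← map_mul]
        exact hψ _ (hder (commutator_mem_commutator ha hb)))
      (⟨r, hr⟩ : K)
    have hcl : ∀ z : K, z ∈ Subgroup.closure {w : K | ψ ⟨a, ha⟩ w = w ∨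
        ∃ k : ℕ, ((ψ ⟨a, ha⟩) ^ k * ψ ⟨b, hb⟩) w = w} → (z : G) ∈ centralizer (A : Set G) := by
      intro z hz
      refine mem_subgroupOf.mp ((Subgroup.closure_le ((centralizer (A : Set G)).subgroupOf K)).mpr ?_ hz)
      rintro w (hw | ⟨i, hw⟩)
      · refine hfix a ha haB ?_ w w.2 (congrArg (fun z : K => (z : G)) hw)
        exact lt_of_le_of_ne hle hne'
      · have hcA : a ^ i * b ∈ A := mul_mem (pow_mem ha i) hb
        have hcn : a ^ i * b ∉ B ⊔ zpowers a := fun hin => hbB (by
          have := mul_mem (Subgroup.inv_mem _ (pow_mem (mem_sup_right (mem_zpowers a) :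
            a ∈ B ⊔ zpowers a) i)) hin
          rwa [inv_mul_cancel_left] at this)
        rw [← map_pow, ← map_mul] at hw
        refine hfix _ hcA (fun h => hcn (mem_sup_left h)) ?_ w w.2 ?_
        rotate_left
        · have e : (a ^ i * b) * (w : G) * (a ^ i * b)⁻¹ = (w : G) :=
            congrArg (fun z : K => (z : G)) hw
          exact e
        refine lt_of_le_of_ne (sup_le hBA.le (zpowers_le.mpr hcA)) fun heq => ?_
        -- `B ⊔ zpowers c` has order at most `p * |B|`, too small to be `A`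
        have haB' : a ∈ B ⊔ zpowers (a ^ i * b) := heq ▸ ha
        set c := a ^ i * b with hc
        have hcn' : zpowers c ≤ normalizer (B : Set G) := zpowers_le.mpr (hBnorm hcA)
        rw [← SetLike.mem_coe, coe_mul_of_right_le_normalizer_left _ _ hcn'] at haB'
        obtain ⟨y, hy, _, ⟨j, rfl⟩, hyj⟩ := haB'
        have hcp : c ^ p ∈ B := hB0 ⟨pow_mem hcA p, hpow c hcA⟩
        by_cases hj : (p : ℤ) ∣ j
        · obtain ⟨m, rfl⟩ := hj
          refine haB (hyj ▸ ?_)
          refine mul_mem hy ?_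
          show c ^ ((p : ℤ) * m) ∈ B
          rw [zpow_mul, zpow_natCast]
          exact zpow_mem hcp m
        · obtain ⟨s, t, hst⟩ : ∃ s t : ℤ, s * j + t * p = 1 := by
            obtain ⟨s, t, h⟩ := ((Prime.coprime_iff_not_dvd (Nat.prime_iff_prime_int.mp hp)).mpr
              hj).symm
            exact ⟨s, t, h⟩
          refine hcn ?_
          have h1 : c ^ j ∈ B ⊔ zpowers a := by
            have h2 : c ^ j = y⁻¹ * a := by rw [← hyj]; exact (inv_mul_cancel_left y _).symm
            rw [h2]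
            exact mul_mem (Subgroup.inv_mem _ (mem_sup_left hy)) (mem_sup_right (mem_zpowers a))
          have h3 : c ^ (p : ℤ) ∈ B ⊔ zpowers a := mem_sup_left (by rwa [zpow_natCast])
          have h4 := mul_mem (zpow_mem h1 s) (zpow_mem h3 t)
          rwa [← zpow_mul, ← zpow_mul, ← zpow_add, mul_comm j s, mul_comm (p : ℤ) t, hst,
            zpow_one] at h4
    have hrp : r ^ p ∈ centralizer (A : Set G) := by
      simpa using hcl _ h
    obtain ⟨m, hm⟩ := exists_pow_eq_self_of_coprime
      (hQ.coprime_dvd_left (orderOf_dvd_natCard Q hr.1)).symm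
    exact hm ▸ pow_mem hrp m
  have hap : a ^ p ∈ B := hB0 ⟨pow_mem ha p, hpow a ha⟩
  have hBi : (centralizer (V : Set G)).relIndex A ≤ (centralizer (V : Set G)).relIndex B * p := by
    have h1 : B.relIndex A ≤ p := by
      have hn : (B.subgroupOf A).Normal := (normal_subgroupOf_iff_le_normalizer hBA.le).mpr hBnorm
      rw [relIndex, index_eq_card]
      have hgen' : zpowers (QuotientGroup.mk ⟨a, ha⟩ : A ⧸ B.subgroupOf A) = ⊤ := by
        rw [eq_top_iff]
        intro q _
        obtain ⟨⟨z, hz⟩, rfl⟩ := QuotientGroup.mk_surjective q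
        have hz' : z ∈ ((B ⊔ zpowers a : Subgroup G) : Set G) := hgen ▸ hz
        rw [coe_mul_of_right_le_normalizer_left _ _ (zpowers_le.mpr (hBnorm ha))] at hz'
        obtain ⟨y, hy, _, ⟨j, rfl⟩, rfl⟩ := hz'
        refine ⟨j, ?_⟩
        show (QuotientGroup.mk ⟨a, ha⟩ : A ⧸ B.subgroupOf A) ^ j = _
        rw [← QuotientGroup.mk_zpow, QuotientGroup.eq, mem_subgroupOf]
        have := (mem_normalizer_iff''.mp (hBnorm (zpow_mem ha j)) y).mp hy
        simpa [mul_assoc] using this
      rw [← card_top, ← hgen', Nat.card_zpowers]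
      refine Nat.le_of_dvd hp.pos (orderOf_dvd_of_pow_eq_one ?_)
      rw [← QuotientGroup.mk_pow, QuotientGroup.eq_one_iff, mem_subgroupOf]
      simpa using hap
    have h2 := relIndex_mul_relIndex (centralizer (V : Set G) ⊓ A) B A
      (by rw [inf_comm]; exact hB0) hBA.le
    rw [inf_relIndex_right] at h2
    rw [← h2]
    have h3 : (centralizer (V : Set G) ⊓ A).relIndex B = (centralizer (V : Set G)).relIndex B := by
      rw [← inf_relIndex_right, inf_assoc, inf_eq_right.mpr hBA.le, inf_relIndex_right]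
    rw [h3]
    exact Nat.mul_le_mul_left _ h1
  by_cases hBV : B ≤ centralizer (V : Set G)
  · rw [relIndex_eq_one.mpr hBV, one_mul] at hBi
    refine lt_of_le_of_lt hBi ?_
    by_contra hle
    push Not at hle
    have hCa : ∀ v ∈ V, a * v = v * a → v ∈ centralizer (A : Set G) := by
      intro v hv hav
      rw [mem_centralizer_iff]
      intro y hy
      have hsub : A ≤ centralizer ({v} : Set G) := by
        rw [← hgen]
        refine sup_le (fun z hz => ?_) (zpowers_le.mpr ?_)
        · rw [mem_centralizer_singleton_iff]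
          exact (mem_centralizer_iff.mp (hBV hz) v hv).symm
        · rw [mem_centralizer_singleton_iff]; exact hav
      exact mem_centralizer_singleton_iff.mp (hsub hy)
    have hi : (centralizer ({a} : Set G)).relIndex V ≤ p := by
      refine le_trans (le_of_eq ?_) hle
      rw [← inf_relIndex_right, ← inf_relIndex_right (centralizer (A : Set G))]
      congr 1
      refine le_antisymm (fun v hv => ⟨hCa v hv.2 (mem_centralizer_singleton_iff.mp hv.1).symm,
        hv.2⟩) (inf_le_inf_right _ (centralizer_le (by simpa using ha)))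
    refine hne (hgen ▸ sup_le hBV (zpowers_le.mpr (hfaith ⟨ha, ?_⟩)))
    refine mem_centralizer_iff.mpr ?_
    intro r hr
    have h1 := hQone (mul_mem ((mem_normalizer_iff.mp (hAQ ha) r).mp hr) (Subgroup.inv_mem _ hr))
      (mem_centralizer_of_quadratic hodd hV (hAV ha) hQV
        (fun v hv => quadratic_of_relIndex_le hV (hA.to_le (zpowers_le.mpr ha)) (hAV ha) hi hv)
        hQc hQ (hAQ ha) hr)
    rw [mul_inv_eq_one, mul_inv_eq_iff_eq_mul] at h1
    exact h1.symm
  · have hIH := IH B hBA (hA.to_le hBA.le) (hBA.le.trans hAV) (hBA.le.trans hAQ)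
      ((commutator_mono hBA.le hBA.le).trans hder) (fun b hb => hpow b (hBA.le hb))
      ((inf_le_inf_right _ hBA.le).trans hfaith) hBV
    by_contra hle
    push Not at hle
    have hpp : ∀ H : Subgroup G, ∃ i, H.relIndex V = p ^ i := fun H => by
      obtain ⟨n, hn⟩ := IsPGroup.iff_card.mp (Thompson.ea_isPGroup hV)
      obtain ⟨i, -, hi⟩ := (Nat.dvd_prime_pow hp).mp (hn ▸ (H.subgroupOf V).index_dvd_card)
      exact ⟨i, hi⟩
    obtain ⟨i, hi⟩ := hpp (centralizer (B : Set G))
    obtain ⟨_, j, -, hj⟩ : ∃ n, ∃ j ≤ n, (centralizer (V : Set G)).relIndex B = p ^ j := by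
      obtain ⟨n, hn⟩ := IsPGroup.iff_card.mp (hA.to_le hBA.le)
      have := relIndex_dvd_card (centralizer (V : Set G)) B
      rw [hn] at this
      exact ⟨_, (Nat.dvd_prime_pow hp).mp this⟩
    have hCle : centralizer (A : Set G) ≤ centralizer (B : Set G) := centralizer_le hBA.le
    have h1 : (centralizer (B : Set G)).relIndex V ∣ (centralizer (A : Set G)).relIndex V :=
      relIndex_dvd_of_le_left V hCle
    have hne0 : (centralizer (A : Set G)).relIndex V ≠ 0 := index_ne_zero_of_finite
    have h2 : (centralizer (V : Set G)).relIndex B * p ≤ (centralizer (B : Set G)).relIndex V := by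
      rw [hj, hi] at hIH ⊢
      rw [← pow_succ]
      exact Nat.pow_le_pow_right hp.pos ((Nat.pow_lt_pow_iff_right hp.one_lt).mp hIH)
    have h3 : (centralizer (A : Set G)).relIndex V = (centralizer (B : Set G)).relIndex V :=
      le_antisymm ((hle.trans hBi).trans h2) (Nat.le_of_dvd (Nat.pos_of_ne_zero hne0) h1)
    have hfixB : ∀ v ∈ V, v ∈ centralizer (B : Set G) → v ∈ centralizer (A : Set G) := by
      intro v hv hvB
      have h4 := relIndex_mul_relIndex (centralizer (A : Set G) ⊓ V)
        (centralizer (B : Set G) ⊓ V) V (inf_le_inf_right _ hCle) inf_le_right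
      rw [inf_relIndex_right, inf_relIndex_right, h3] at h4
      have h5 : (centralizer (A : Set G) ⊓ V).relIndex (centralizer (B : Set G) ⊓ V) = 1 :=
        (mul_eq_right₀ (h3 ▸ hne0)).mp h4
      exact (relIndex_eq_one.mp h5 ⟨hvB, hv⟩).1
    refine hBQ fun r hr => ?_
    rw [mem_centralizer_iff]
    have hsub : A ≤ centralizer ({r} : Set G) := by
      rw [← hgen]
      refine sup_le (fun z hz => ?_) (zpowers_le.mpr ?_)
      · rw [mem_centralizer_singleton_iff]
        exact mem_centralizer_iff.mp hr.2 z hz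
      rw [mem_centralizer_singleton_iff]
      set x := a * r * a⁻¹ * r⁻¹ with hx
      have hxK : x ∈ K :=
        mul_mem ((mem_normalizer_iff.mp (hAK ha) r).mp hr) (Subgroup.inv_mem _ hr)
      have hxV : x ∈ centralizer (V : Set G) := by
        refine zpowers_le.mp (Coprime.thompson_pxq (P := B) (U := V) (hA.to_le hBA.le) ?_
          (Thompson.ea_isPGroup hV) ?_ (hBA.le.trans hAV) (zpowers_le.mpr (hQV hxK.1)) ?_)
        · rw [Nat.card_zpowers]
          exact hQ.coprime_dvd_left (orderOf_dvd_natCard Q hxK.1)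
        · rw [le_centralizer_iff, zpowers_le]
          exact hxK.2
        · rintro v ⟨hv, hvB⟩
          have hvA := hfixB v hv hvB
          have hva : a * v = v * a := mem_centralizer_iff.mp hvA a ha
          have hv'V : r⁻¹ * v * r ∈ V := (mem_normalizer_iff''.mp (hQV hr.1) v).mp hv
          have hv'a : a * (r⁻¹ * v * r) = (r⁻¹ * v * r) * a := by
            refine mem_centralizer_iff.mp (hfixB _ hv'V ?_) a ha
            rw [mem_centralizer_iff]
            intro z hz
            have e1 : z * v = v * z := mem_centralizer_iff.mp hvB z hz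
            have e2 : z * r = r * z := mem_centralizer_iff.mp hr.2 z hz
            have e3 : z * r⁻¹ = r⁻¹ * z := (Commute.inv_right e2).eq
            calc z * (r⁻¹ * v * r) = (z * r⁻¹) * v * r := by group
              _ = r⁻¹ * (z * v) * r := by rw [e3]; group
              _ = r⁻¹ * v * (z * r) := by rw [e1]; group
              _ = r⁻¹ * v * r * z := by rw [e2]; group
          have hxv : x * v = v * x := by
            calc x * v = a * r * (a⁻¹ * ((r⁻¹ * v * r) * a) * a⁻¹) * r⁻¹ := by rw [hx]; group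
              _ = a * r * (a⁻¹ * (a * (r⁻¹ * v * r)) * a⁻¹) * r⁻¹ := by rw [hv'a]
              _ = (a * v) * (r * a⁻¹ * r⁻¹) := by group
              _ = v * x := by rw [hva, hx]; group
          refine mem_centralizer_iff.mpr ?_
          rintro _ ⟨i, rfl⟩
          exact ((show Commute x v from hxv).zpow_left i).eq
      have hx1 : a * r * a⁻¹ * r⁻¹ = 1 := hQone hxK.1 hxV
      rwa [mul_inv_eq_one, mul_inv_eq_iff_eq_mul] at hx1
    intro y hy
    exact mem_centralizer_singleton_iff.mp (hsub hy)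

end Cfsg.Agent.Fusion
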