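import Cfsg.Agent.Fusion.ActionStable
import Cfsg.Agent.Fusion.LocalZ
import Cfsg.Agent.QdFree.Control

/-!
# Strong fusion controlled through SL₂(p)-free local subgroups

If no `N(P)`, `Z(S) ≤ P ≤ S`, has a section SL₂(p), then `N(Z(J(S)))` controls strong fusion in `S`.
-/

set_option autoImplicit false
set_option maxHeartbeats 800000

namespace Cfsg.Agent.Fusion

open Subgroup Control
open scoped commutatorElement

universe u

variable {G : Type u} [Group G] [Finite G] {p : ℕ} [Fact p.Prime]

/-- An SL₂(p)-free group has strong fusion controlled by `Z(J)`. -/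
theorem gFus_zj_of_free (h2 : p ≠ 2)
    (h : ¬ Involves (Matrix.SpecialLinearGroup (Fin 2) (ZMod p)) G) :
    Control.GFus {QdFree.zjFunctor 0} p G := by
  refine Control.gFus_of_quotients
    (fun V hV => Set.mem_singleton_iff.mp hV ▸ QdFree.isCharPFunctor_zj)
    (fun K R _ hc => ?_) Control.IsSec.refl
  obtain ⟨T⟩ := (inferInstance : Nonempty (Sylow p (↥K ⧸ R.subgroupOf K)))
  have hst : IsNormalizerPStable p (↥K ⧸ R.subgroupOf K) :=
    QdFree.isNormalizerPStable_of_free h2 fun _ _ _ hi =>
      h (QdFree.involves_of_subgroup (QdFree.involves_of_surjective (QdFree.involves_of_subgroup hi)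
        (QuotientGroup.mk'_surjective _)))
  refine Control.famFus_iff.mpr ⟨_, Control.sylIn_top T, fun A g _ _ hgA =>
    Control.Ctrl.of_mem ⟨_, ⟨_, rfl, rfl⟩, rfl⟩ ⟨mem_top g, ?_⟩ hgA⟩
  show g ∈ normalizer ((Cfsg.inducedFunctor (QdFree.zjFunctor 0) (T : Subgroup (↥K ⧸ R.subgroupOf K)) : Subgroup _) : Set _)
  rw [QdFree.inducedFunctor_zj,
    normalizer_eq_top_iff.mpr (QdFree.normal_zInter_of_pStable h2 (Or.inl rfl) hst hc T)]
  exact mem_top g

/-- `N(Z(J(S)))` controls strong fusion if the local subgroups over `Z(S)` have no section SL₂(p). -/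
theorem controlsStrongFusion_zInter_of_free (h2 : p ≠ 2) (S : Sylow p G)
    (hfree : ∀ P : Subgroup G, (S : Subgroup G) ⊓ centralizer ((S : Subgroup G) : Set G) ≤ P →
      P ≤ (S : Subgroup G) →
      ¬ Involves (Matrix.SpecialLinearGroup (Fin 2) (ZMod p)) ↥(normalizer (P : Set G)))
    (A : Set G) (hA : A ⊆ (S : Subgroup G)) :
    ControlsStrongFusionOf (normalizer (zInter 0 (S : Subgroup G) : Set G)) (S : Subgroup G) A := by
  have hW := isConjugacyFunctor_zFun (G := G) (p := p) (dvd_zero p) (⊤ : Subgroup G)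
  have hWeq : ∀ T : Subgroup G, zFun 0 (⊤ : Subgroup G) T = zInter 0 T := by
    intro T
    have h1 : dHat (⊤ : Subgroup G) T = T := le_antisymm (dHat_le _ T)
      fun x hx => subset_closure ⟨hx, 1, mem_top _⟩
    unfold zFun
    rw [h1]
    exact ite_self _
  set 𝒩 : Set (Subgroup G) := {normalizer (zInter 0 (S : Subgroup G) : Set G)} with h𝒩
  set ZS := (S : Subgroup G) ⊓ centralizer ((S : Subgroup G) : Set G) with hZS
  -- `Z(S) ≤ W R` when `Z(S) ≤ R ≤ S`
  have hZW : ∀ R : Subgroup G, R ≤ (S : Subgroup G) → ZS ≤ R → ZS ≤ zInter 0 R := by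
    intro R hRS hR z hz
    exact mem_sInf.mpr fun B hB => mem_of_commute hB (hR hz) (pow_zero z) fun b hb =>
      mem_centralizer_iff.mp hz.2 b (hRS (hB.le hb))
  suffices key : ∀ k : ℕ,
      (∀ U : Subgroup G, U ≤ (S : Subgroup G) → k ≤ Nat.card U → ∀ g : G,
        cjSub g U ≤ (S : Subgroup G) → Ctrl 𝒩 (S : Subgroup G) (U : Set G) g) ∧
      (∀ V : Subgroup G, ZS ≤ (S : Subgroup G) ⊓ normalizer (V : Set G) →
        SylIn p ((S : Subgroup G) ⊓ normalizer (V : Set G)) (normalizer (V : Set G)) →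
        ¬ Involves (Matrix.SpecialLinearGroup (Fin 2) (ZMod p)) ↥(normalizer (V : Set G)) →
        k ≤ Nat.card ((S : Subgroup G) ⊓ normalizer (V : Set G) : Subgroup G) →
        ∀ x ∈ normalizer (V : Set G), ∀ B : Set G,
          B ⊆ ((S : Subgroup G) ⊓ normalizer (V : Set G) : Subgroup G) →
          cj x B ⊆ ((S : Subgroup G) ⊓ normalizer (V : Set G) : Subgroup G) →
          Ctrl 𝒩 (S : Subgroup G) B x) by
    refine ⟨hA, fun g hg => ?_⟩
    obtain ⟨c, hcR, hce⟩ := ((key 0).1 (Subgroup.closure A) ((closure_le _).mpr hA) (Nat.zero_le _) g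
      (closure_subset_of_cj hg)).mono subset_closure
    exact ⟨c, hcR.mem (fun N hN => (Set.mem_singleton_iff.mp hN).le), fun a ha => (hce a ha).symm⟩
  intro k
  induction hj : Nat.card G + 1 - k using Nat.strong_induction_on generalizing k with
  | _ j IH =>
  subst hj
  rcases lt_or_ge (Nat.card G) k with hk | hk
  · constructor
    · intro U _ hU
      have := Nat.le_of_dvd Nat.card_pos (card_subgroup_dvd_card U)
      omega
    · intro V _ _ _ hV
      have := Nat.le_of_dvd Nat.card_pos
        (card_subgroup_dvd_card ((S : Subgroup G) ⊓ normalizer (V : Set G)))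
      omega
  obtain ⟨IH1, IH2⟩ := IH _ (by omega) (k + 1) rfl
  constructor
  · intro U hUS hU g hg
    have hch := famChain_of_conjSub_le S (allFull_fullSet S) (movers_fullSet S) U g⁻¹ hUS
      (by rw [conjSub_eq_cjSub, inv_inv]; exact hg)
    have hch' := hch.big (k := k) (hU.trans_eq (Nat.card_coe_set_eq _))
    refine inv_inv g ▸ ctrl_of_chain hch' ?_
    rintro F ⟨hF, hFk⟩ n hn B hB
    obtain ⟨hFS, hFN⟩ := allFull_fullSet S F hF
    set C := centralizer (F : Set G) with hC
    have hCN : C ≤ normalizer (F : Set G) := centralizer_le_normalizer _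
    have hNC : normalizer (F : Set G) ≤ normalizer (C : Set G) := fun x hx => by
      refine Control.mem_normalizer_of_cjSub_eq (eq_of_le_of_card_ge ?_ (card_cjSub x C).ge)
      rintro _ ⟨c, hc, rfl⟩
      refine mem_centralizer_iff.mpr fun f hf => ?_
      have := mem_centralizer_iff.mp hc _ ((mem_normalizer_iff''.mp hx f).mp hf)
      show f * (x * c * x⁻¹) = x * c * x⁻¹ * f
      calc f * (x * c * x⁻¹) = x * ((x⁻¹ * f * x) * c) * x⁻¹ := by group
        _ = x * (c * (x⁻¹ * f * x)) * x⁻¹ := by rw [this]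
        _ = x * c * x⁻¹ * f := by group
    set RC := ((S : Subgroup G) ⊓ normalizer (F : Set G)) ⊓ C with hRC
    have hRCs : SylIn p RC C := hFN.inf_normal hCN hNC
    -- replace `n` by an element normalising `F ⊔ RC`
    have hcjRC : SylIn p (cjSub n RC) C := by
      have := hRCs.cjSub n
      rwa [cjSub_eq_of_mem (hNC hn)] at this
    obtain ⟨d, hd, hde⟩ := hRCs.exists_conj hcjRC
    rw [cjSub_cjSub] at hde
    have hmF : d * n ∈ normalizer (F : Set G) := mul_mem (hCN hd) hn
    have hact : ∀ a ∈ B, d * n * a * (d * n)⁻¹ = n * a * n⁻¹ := fun a ha => by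
      have h1 : n * a * n⁻¹ ∈ F := (mem_normalizer_iff.mp hn a).mp (hB ha)
      calc d * n * a * (d * n)⁻¹ = d * (n * a * n⁻¹) * d⁻¹ := by group
        _ = n * a * n⁻¹ * d * d⁻¹ := by rw [mem_centralizer_iff.mp hd _ h1]
        _ = n * a * n⁻¹ := by group
    refine Ctrl.of_eqOn ?_ hact
    have hmP : cjSub (d * n) (F ⊔ RC) = F ⊔ RC := by
      show (F ⊔ RC).map (MulAut.conj (d * n)).toMonoidHom = _
      rw [Subgroup.map_sup]
      exact congrArg₂ (· ⊔ ·) (cjSub_eq_of_mem hmF) hde
    have hplusS : F ⊔ RC ≤ (S : Subgroup G) := sup_le hFS (inf_le_left.trans inf_le_left)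
    by_cases hcen : RC ≤ F
    · -- a centric subgroup
      have hZF : ZS ≤ F := fun z hz => hcen ⟨⟨hz.1, hCN (mem_centralizer_iff.mpr fun f hf =>
        mem_centralizer_iff.mp hz.2 f (hFS hf))⟩, mem_centralizer_iff.mpr fun f hf =>
        mem_centralizer_iff.mp hz.2 f (hFS hf)⟩
      rcases hFS.eq_or_lt with hFeq | hFlt
      · refine Ctrl.of_mem (Set.mem_singleton _) ?_ ?_
        · rw [← hWeq, ← hFeq]
          exact le_normalizer_functor hW (hFeq ▸ S.2) hmF
        · refine (cj_mono hB).trans ?_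
          rw [← coe_cjSub, cjSub_eq_of_mem hmF]
          exact SetLike.coe_subset_coe.mpr hFS
      · have hlt := lt_inf_normalizer_of_isPGroup S.2 hFlt
        refine IH2 F (hZF.trans hlt.le) hFN (hfree F hZF hFS)
          (by have := Core.card_lt_of_lt hlt; omega) _ hmF B
          (hB.trans (SetLike.coe_subset_coe.mpr hlt.le)) ?_
        refine (cj_mono hB).trans ?_
        rw [← coe_cjSub, cjSub_eq_of_mem hmF]
        exact SetLike.coe_subset_coe.mpr hlt.le
    · have hlt : F < F ⊔ RC := lt_of_le_of_ne le_sup_left fun h => hcen (h ▸ le_sup_right)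
      exact (IH1 _ hplusS (by have := Core.card_lt_of_lt hlt; omega) _ (hmP.le.trans hplusS)).mono
        (hB.trans (SetLike.coe_subset_coe.mpr le_sup_left))
  · intro V hZR hVN hVfree hVk x hx B hB hxB
    set N := normalizer (V : Set G) with hN
    set R := (S : Subgroup G) ⊓ N with hR
    have hF : ∀ W ∈ ({QdFree.zjFunctor 0} : Set (∀ (Q : Type u) [Group Q], Subgroup Q)),
        IsCharPFunctor.{u} p W := fun W hW => Set.mem_singleton_iff.mp hW ▸ QdFree.isCharPFunctor_zj
    have hloc := Control.famFus_map hF (f := N.subtype) N.subtype_injective (gFus_zj_of_free h2 hVfree)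
    rw [range_subtype] at hloc
    have hfus := (famFus_iff_forall (isConjugacyFunctor_iF hF) hVN).mp hloc B x hx hB hxB
    refine hfus.bind hB ?_
    rintro _ ⟨_, ⟨W, hW', rfl⟩, rfl⟩ y hy C hC hyC
    have hy' : y ∈ normalizer (zInter 0 R : Set G) := by
      have h1 := hy.2
      rw [Set.mem_singleton_iff.mp hW'] at h1
      change y ∈ normalizer ((Cfsg.inducedFunctor (QdFree.zjFunctor 0) R : Subgroup G) : Set G) at h1
      rw [QdFree.inducedFunctor_zj] at h1
      exact h1
    rcases (inf_le_left : R ≤ (S : Subgroup G)).eq_or_lt with hRS | hRS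
    · refine Ctrl.of_mem (Set.mem_singleton _) ?_ (hyC.trans (SetLike.coe_subset_coe.mpr inf_le_left))
      rwa [show R = (S : Subgroup G) from hRS] at hy'
    set R2 := (S : Subgroup G) ⊓ normalizer (zInter 0 R : Set G) with hR2
    have hlt : R < R2 := by
      have := (lt_inf_normalizer_of_isPGroup S.2 hRS).trans_le (inf_le_inf_left _
        (le_normalizer_functor hW (S.2.to_inf_left (K := N))))
      rwa [hWeq] at this
    have hcard := Core.card_lt_of_lt hlt
    obtain ⟨a, ha, haR2⟩ := movers_fullSet S (zInter 0 R) ((zInter_le 0 R).trans inf_le_left)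
    set V2 := cjSub a (zInter 0 R) with hV2
    have hR2V : cjSub a R2 ≤ (S : Subgroup G) ⊓ normalizer (V2 : Set G) :=
      le_inf haR2 (by rw [hV2, ← cjSub_normalizer]; exact map_mono inf_le_right)
    have hfree2 : ¬ Involves (Matrix.SpecialLinearGroup (Fin 2) (ZMod p)) ↥(normalizer (V2 : Set G)) := by
      intro hi
      refine hfree (zInter 0 R) (hZW R inf_le_left hZR) ((zInter_le 0 R).trans inf_le_left) ?_
      rw [hV2, ← cjSub_normalizer] at hi
      exact QdFree.involves_of_surjective hi ((MulAut.conj a).toMonoidHom.subgroupMap_surjective _)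
    have hZ2 : ZS ≤ (S : Subgroup G) ⊓ normalizer (V2 : Set G) := by
      intro z hz
      refine ⟨hz.1, centralizer_le_normalizer _ (mem_centralizer_iff.mpr fun v hv => ?_)⟩
      exact mem_centralizer_iff.mp hz.2 v ((allFull_fullSet S V2 ha).1 hv)
    have hmove : ∀ C : Set G, C ⊆ R2 → Ctrl 𝒩 (S : Subgroup G) C a := fun C hC =>
      (IH1 R2 inf_le_left (by omega) a haR2).mono hC
    have hCR2 : C ⊆ (R2 : Set G) := hC.trans (SetLike.coe_subset_coe.mpr hlt.le)
    have hyCR2 : cj y C ⊆ (R2 : Set G) := hyC.trans (SetLike.coe_subset_coe.mpr hlt.le)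
    have h1 := hmove C hCR2
    have hsub : ∀ D : Set G, D ⊆ R2 →
        cj a D ⊆ ((S : Subgroup G) ⊓ normalizer (V2 : Set G) : Subgroup G) := fun D hD =>
      (cj_mono hD).trans ((coe_cjSub a R2).symm.le.trans (SetLike.coe_subset_coe.mpr hR2V))
    have h3 : Ctrl 𝒩 (S : Subgroup G) (cj a C) (a * y * a⁻¹) := by
      refine IH2 V2 hZ2 (allFull_fullSet S V2 ha).2 hfree2
        (by have := (card_cjSub a R2).ge.trans (card_le_of_le hR2V); omega) _ ?_ _ (hsub C hCR2) ?_
      · rw [hV2, ← cjSub_normalizer, mem_cjSub]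
        simpa [mul_assoc] using hy'
      · rw [← cj_mul, show a * y * a⁻¹ * a = a * y by group, cj_mul]
        exact hsub _ hyCR2
    have h4 := (hmove _ hyCR2).inv (hyCR2.trans (SetLike.coe_subset_coe.mpr inf_le_left))
    have h13 := h1.trans h3
    rw [← cj_mul, show a * y = a * y * a⁻¹ * a by group] at h4
    have := h13.trans h4
    rwa [show a⁻¹ * (a * y * a⁻¹ * a) = y by group] at this

end Cfsg.Agent.Fusion
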