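import Cfsg.Agent.Fusion.FixedPointFree
import Cfsg.Agent.Fusion.PGroup

/-!
# Cosets consisting of elements of order `p` (Kegel, Hughes–Thompson)

`isNilpotent_of_splitting` : if `c` normalises `L` and `(l * c) ^ p = 1` for all `l ∈ L`, then `L`
is nilpotent.
`index_hughes` : a proper Hughes subgroup of a group that is not a `p`-group has index `p`.
-/

set_option autoImplicit false

namespace Cfsg.Agent.Fusion

open Subgroup
open scoped commutatorElement

universe u

/-- A group `B⟨x⟩` with `x` free on `B` whose element `x` has vanishing norm on a module without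
`B`-fixed points kills `|B|`. -/
theorem pow_card_eq_one_of_norm {E A : Type*} [Group E] [CommGroup A] (φ : E →* MulAut A)
    (B : Subgroup E) [Finite B] (x : E) {r : ℕ} (hr : 0 < r)
    (hxB : ∀ b ∈ B, x * b * x⁻¹ ∈ B)
    (hfree : ∀ i, 0 < i → i < r → ∀ b ∈ B, Commute (x ^ i) b → b = 1)
    (hC : ∀ v, (∀ b ∈ B, φ b v = v) → v = 1)
    (horb : ∀ w : A, ∏ i ∈ Finset.range r, φ (x ^ i) w = 1) (v : A) :
    v ^ Nat.card B = 1 := by
  have := Fintype.ofFinite B
  have hpowB : ∀ i : ℕ, ∀ b ∈ B, x ^ i * b * (x ^ i)⁻¹ ∈ B := by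
    intro i
    induction i with
    | zero => simp
    | succ i ih =>
      intro b hb
      have := hxB _ (ih b hb)
      convert this using 1
      rw [pow_succ', mul_inv_rev]
      group
  have hcomp : ∀ (a b : E) (w : A), φ a (φ b w) = φ (a * b) w := fun a b w => by
    rw [map_mul]; rfl
  have hC' : ∀ w : A, ∏ b : B, φ b w = 1 := fun w => by
    refine hC _ fun c hc => ?_
    simp only [map_prod, hcomp]
    exact Fintype.prod_bijective (fun b : B => (⟨c, hc⟩ : B) * b) (Group.mulLeft_bijective _)
      (fun b : B => φ (c * b) w) (fun b : B => φ b w) fun b => rfl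
  have key : ∏ i ∈ Finset.range r, ∏ b : B, φ ((b : E) * x ^ i * (b : E)⁻¹) v = 1 := by
    rw [Finset.prod_comm]
    refine Finset.prod_eq_one fun b _ => ?_
    have h1 := congrArg (φ (b : E)) (horb (φ (b : E)⁻¹ v))
    rw [map_prod, map_one] at h1
    simpa only [hcomp, ← mul_assoc] using h1
  obtain ⟨r', rfl⟩ := Nat.exists_eq_add_of_le' (show 1 ≤ r from hr)
  rw [Finset.prod_range_succ', Finset.prod_eq_one fun i hi => ?_, one_mul] at key
  · simpa [Finset.card_univ] using key
  · let f : B → B := fun b => ⟨(b : E) * (x ^ (i + 1) * (b : E)⁻¹ * (x ^ (i + 1))⁻¹),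
      B.mul_mem b.2 (hpowB _ _ (B.inv_mem b.2))⟩
    have hf : Function.Bijective f := by
      refine Finite.injective_iff_bijective.mp fun a b hab => ?_
      have h1 : (a : E) * x ^ (i + 1) * (a : E)⁻¹ = (b : E) * x ^ (i + 1) * (b : E)⁻¹ := by
        have h2 := congrArg (fun t : B => (t : E) * x ^ (i + 1)) hab
        simpa [f, mul_assoc] using h2
      have h3 : Commute (x ^ (i + 1)) ((b : E)⁻¹ * a) := by
        calc x ^ (i + 1) * ((b : E)⁻¹ * a)
            = (b : E)⁻¹ * ((b : E) * x ^ (i + 1) * (b : E)⁻¹) * a := by group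
          _ = (b : E)⁻¹ * ((a : E) * x ^ (i + 1) * (a : E)⁻¹) * a := by rw [h1]
          _ = (b : E)⁻¹ * a * x ^ (i + 1) := by group
      exact Subtype.ext (inv_mul_eq_one.mp (hfree (i + 1) (Nat.succ_pos i)
        (Nat.succ_lt_succ (Finset.mem_range.mp hi)) _ (B.mul_mem (B.inv_mem b.2) a.2) h3)).symm
    rw [← hC' (φ (x ^ (i + 1)) v)]
    refine Fintype.prod_bijective f hf _ _ fun b => ?_
    simp only [f, hcomp]
    congr 2
    group

variable {G : Type u} [Group G] [Finite G] {p : ℕ}

/-- If all the `a ^ k * b` are fixed-point-free on the abelian group `V` and `a`, `b` act as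
commuting elements of order dividing `p` on it, then `a` centralises `V`. -/
theorem mem_centralizer_of_fpf_coset (hp : p.Prime) {V : Subgroup G} (hVc : IsMulCommutative V)
    (hcop : (Nat.card V).Coprime p) {a b : G} (ha : a ∈ normalizer (V : Set G))
    (hb : b ∈ normalizer (V : Set G)) (hab : a * b * a⁻¹ * b⁻¹ ∈ centralizer (V : Set G))
    (hap : a ^ p ∈ centralizer (V : Set G)) (hbp : b ^ p ∈ centralizer (V : Set G))
    (hfix : ∀ k : ℕ, V ⊓ centralizer {a ^ k * b} = ⊥) : a ∈ centralizer (V : Set G) := by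
  open scoped IsMulCommutative in
  let ψ := V.normalizerMonoidHom
  have hψ : ∀ g : normalizer (V : Set G), (g : G) ∈ centralizer (V : Set G) → ψ g = 1 := by
    intro g hg
    refine MulEquiv.ext fun z => Subtype.ext ?_
    show (g : G) * z * (g : G)⁻¹ = z
    rw [← mem_centralizer_iff.mp hg z z.2, mul_inv_cancel_right]
  rw [mem_centralizer_iff]
  intro v hv
  open scoped IsMulCommutative in
  have h := Coprime.pow_mem_closure_fixed (α := ψ ⟨a, ha⟩) (β := ψ ⟨b, hb⟩) hp
    (by rw [← map_pow]; exact hψ _ (by simpa using hap))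
    (by rw [← map_pow]; exact hψ _ (by simpa using hbp))
    (by
      rw [commute_iff_eq, ← mul_inv_eq_one, mul_inv_rev, ← mul_assoc, ← map_inv, ← map_inv,
        ← map_mul, ← map_mul, ← map_mul]
      exact hψ _ hab)
    (⟨v, hv⟩ : V)
  have hle : Subgroup.closure {w : V | ψ ⟨a, ha⟩ w = w ∨
      ∃ k : ℕ, ((ψ ⟨a, ha⟩) ^ k * ψ ⟨b, hb⟩) w = w} ≤ (centralizer {a}).subgroupOf V := by
    rw [Subgroup.closure_le]
    rintro w (hw | ⟨k, hw⟩)
    · show (w : G) ∈ centralizer {a}
      have hw' : a * (w : G) * a⁻¹ = w := congrArg (fun z : V => (z : G)) hw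
      exact mem_centralizer_singleton_iff.mpr (mul_inv_eq_iff_eq_mul.mp hw').symm
    · rw [← map_pow, ← map_mul] at hw
      have hw' : (a ^ k * b) * (w : G) * (a ^ k * b)⁻¹ = w := congrArg (fun z : V => (z : G)) hw
      have h1 : (w : G) ∈ V ⊓ centralizer {a ^ k * b} :=
        ⟨w.2, mem_centralizer_singleton_iff.mpr (mul_inv_eq_iff_eq_mul.mp hw').symm⟩
      rw [hfix k, mem_bot] at h1
      show (w : G) ∈ centralizer {a}
      rw [h1]
      exact one_mem _
  have hvp : v ^ p ∈ centralizer {a} := by simpa [mem_subgroupOf] using hle h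
  obtain ⟨m, hm⟩ := exists_pow_eq_self_of_coprime
    ((hcop.coprime_dvd_left (orderOf_dvd_natCard V hv)).symm)
  exact mem_centralizer_singleton_iff.mp (hm ▸ pow_mem hvp m)

/-- Elements of `L` commuting with an element of a coset of elements of order `p` have order
dividing `p`. -/
theorem fixed_eq_bot_of_splitting {L X : Subgroup G} {c : G}
    (hsp : ∀ l ∈ L, (l * c) ^ p = 1) (hXL : X ≤ L) (hcop : (Nat.card X).Coprime p) :
    X ⊓ centralizer {c} = ⊥ := by
  rw [eq_bot_iff]
  rintro x ⟨hx, hxc⟩
  have h1 : Commute x c := mem_centralizer_singleton_iff.mp hxc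
  have hc : c ^ p = 1 := by simpa using hsp 1 (one_mem L)
  have h2 := hsp x (hXL hx)
  rw [h1.mul_pow, hc, mul_one] at h2
  refine mem_bot.mpr (orderOf_eq_one_iff.mp (Nat.eq_one_of_dvd_coprimes hcop
    (orderOf_dvd_natCard X hx) (orderOf_dvd_of_pow_eq_one h2)))

theorem exists_central_element [Fact p.Prime] (hG : IsPGroup p G) (N : Subgroup G) [N.Normal]
    (hN : N ≠ ⊥) : ∃ z ∈ N, z ∈ center G ∧ orderOf z = p := by
  obtain ⟨Z, hZN, hZc, -, hZp⟩ := exists_central_card_prime hG N hN
  obtain ⟨z, hz⟩ := exists_prime_orderOf_dvd_card' (G := Z) p hZp.symm.dvd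
  exact ⟨z, hZN z.2, hZc z.2, by rw [Subgroup.orderOf_coe, hz]⟩

theorem splitting_of_mul {L : Subgroup G} {c : G} (hsp : ∀ l ∈ L, (l * c) ^ p = 1) {l : G}
    (hl : l ∈ L) : ∀ x ∈ L, (x * (l * c)) ^ p = 1 := fun x hx => by
  rw [← mul_assoc]
  exact hsp _ (mul_mem hx hl)

/-- An element of the coset normalising a given Sylow subgroup of `L`. -/
theorem exists_mul_mem_normalizer_sylow {L : Subgroup G} [L.Normal] (c : G) {r : ℕ}
    [Fact r.Prime] (R : Sylow r L) :
    ∃ l ∈ L, l * c ∈ normalizer ((R : Subgroup L).map L.subtype : Set G) := by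
  have h : c ∈ ((L ⊔ normalizer ((R : Subgroup L).map L.subtype : Set G) : Subgroup G) : Set G) := by
    rw [sup_comm, R.normalizer_sup_eq_top]; trivial
  rw [normal_mul] at h
  obtain ⟨l, hl, n, hn, rfl⟩ := h
  exact ⟨l⁻¹, inv_mem hl, by simpa using hn⟩

theorem isNilpotent_of_splitting_normal (hp : p.Prime) :
    ∀ n : ℕ, ∀ {Δ : Type u} [Group Δ] [Finite Δ] (L : Subgroup Δ) [L.Normal] (c : Δ),
      (∀ l ∈ L, (l * c) ^ p = 1) → Nat.card L ≤ n → Group.IsNilpotent L := by
  intro n
  induction n with
  | zero => intro Δ _ _ L _ c _ h; exact absurd h (by have := Nat.card_pos (α := L); omega)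
  | succ n ih =>
    intro Δ _ _ L hLn c hsp hn
    have := Fact.mk hp
    have hc : c ^ p = 1 := by simpa using hsp 1 (one_mem L)
    -- quotients
    have quot : ∀ V : Subgroup Δ, ∀ [V.Normal], V ≤ L → V ≠ ⊥ →
        Group.IsNilpotent (L.map (QuotientGroup.mk' V)) := by
      intro V _ hVL hV
      have := hLn.map (QuotientGroup.mk' V) (QuotientGroup.mk'_surjective V)
      refine ih (L.map (QuotientGroup.mk' V)) (QuotientGroup.mk' V c) ?_
        (Nat.lt_succ_iff.mp ((FixedPointFree.card_map_quotient_lt hVL hV).trans_le hn))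
      rintro _ ⟨l, hl, rfl⟩
      rw [← map_mul, ← map_pow, hsp l hl, map_one]
    -- proper subgroups normalised by an element of the coset
    have proper : ∀ X : Subgroup Δ, X ≤ L → X ≠ L → ∀ l ∈ L,
        l * c ∈ normalizer (X : Set Δ) → Group.IsNilpotent X := by
      intro X hXL hne l hl hlX
      have : (X.subgroupOf (normalizer (X : Set Δ))).Normal := normal_in_normalizer
      have hlt := Core.card_lt_of_lt (lt_of_le_of_ne hXL hne)
      have h := ih (X.subgroupOf (normalizer (X : Set Δ))) ⟨l * c, hlX⟩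
        (fun x hx => Subtype.ext (by simpa using splitting_of_mul hsp hl _ (hXL hx)))
        (by rw [Coprime.card_subgroupOf le_normalizer]; omega)
      exact (Group.isNilpotent_congr (subgroupOfEquivOfLe le_normalizer)).mp h
    have hsolv : Group.IsSolvable L := by
      have step : ∀ V : Subgroup Δ, V.Normal → V ≤ L → V ≠ ⊥ → Group.IsSolvable V →
          Group.IsSolvable L := by
        intro V hVn hVL hV hVs
        set π := QuotientGroup.mk' V
        have := quot V hVL hV
        have hk : (π.subgroupMap L).ker ≤ (inclusion hVL).range := by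
          intro x hx
          have : π (x : Δ) = 1 := congrArg (fun y : L.map π => (y : Δ ⧸ V)) hx
          exact ⟨⟨x, (QuotientGroup.eq_one_iff _).mp this⟩, rfl⟩
        exact Group.isSolvable_of_ker_le_range _ _ hk
      by_cases h2 : IsPGroup 2 L
      · have := h2.isNilpotent
        infer_instance
      obtain ⟨r, hr, hrd, hr2⟩ : ∃ r, r.Prime ∧ r ∣ Nat.card L ∧ r ≠ 2 := by
        by_contra hno
        push Not at hno
        refine h2 (IsPGroup.iff_card.mpr ⟨(Nat.card L).primeFactorsList.length,
          Nat.eq_prime_pow_of_unique_prime_dvd Nat.card_pos.ne' fun hd he => hno _ hd he⟩)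
      have := Fact.mk hr
      by_cases hO : (pCore r L).map L.subtype = ⊥
      swap
      · exact step _ inferInstance (map_subtype_le _) hO
          (Layer.isSolvable_of_isPGroup ((Core.pCore_isPGroup (p := r) (G := L)).map L.subtype))
      by_cases hZ : (center L).map L.subtype = ⊥
      swap
      · refine step _ inferInstance (map_subtype_le _) hZ ?_
        have : IsMulCommutative ((center L).map L.subtype) := inferInstance
        exact Group.isSolvable_of_comm fun a b => IsMulCommutative.is_comm.comm a b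
      obtain ⟨R⟩ := (inferInstance : Nonempty (Sylow r L))
      obtain ⟨l₀, hl₀, hnorm⟩ := exists_mul_mem_normalizer_sylow c R
      set R' : Subgroup Δ := (R : Subgroup L).map L.subtype with hR'
      set d := l₀ * c
      have hR1 : (R : Subgroup L) ≠ ⊥ := R.ne_bot_of_dvd_card hrd
      have hnR : ∀ V : Subgroup L, V ≤ (R : Subgroup L) → V.Normal → V = ⊥ := by
        intro V hV hVn
        have h1 : V.map L.subtype ≤ ⊥ :=
          hO ▸ Subgroup.map_mono (Core.le_pCore (hN := hVn) (R.2.to_le hV))
        rwa [le_bot_iff, Subgroup.map_eq_bot_iff, ker_subtype, le_bot_iff] at h1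
      have key : HasNormalPComplement r L := by
        refine hasNormalPComplement_of_thompson hr2 R ?_ ?_
        · have hXne : L ⊓ normalizer ((thompsonSubgroupOf r R' : Subgroup Δ) : Set Δ) ≠ L := by
            intro he
            refine thompsonSubgroupOf_ne_bot R.2 hR1 (hnR _ (Thompson.thompsonOf_le r _) ?_)
            rw [← normalizer_eq_top_iff, eq_top_iff]
            intro x _
            have hx : (x : Δ) ∈ normalizer ((thompsonSubgroupOf r R' : Subgroup Δ) : Set Δ) :=
              (inf_eq_left.mp he) x.2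
            rw [hR', ← Thompson.thompsonOf_map_of_injective L.subtype_injective] at hx
            rw [mem_normalizer_iff]
            intro z
            have h1 := mem_normalizer_iff.mp hx (z : Δ)
            rw [show (x : Δ) * z * (x : Δ)⁻¹ = L.subtype (x * z * x⁻¹) by simp] at h1
            exact (Subgroup.mem_map_iff_mem L.subtype_injective).symm.trans
              (h1.trans (Subgroup.mem_map_iff_mem L.subtype_injective))
          have hX := proper _ inf_le_left hXne l₀ hl₀ (Coprime.le_normalizer_inf
            (A := zpowers d) le_normalizer_of_normal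
            (zpowers_le.mpr (le_normalizer (mem_normalizer_thompsonSubgroupOf hnorm))) (mem_zpowers d))
          refine hasNormalPComplement_of_map_le L.subtype_injective ?_
            (hasNormalPComplement_of_isNilpotent hX)
          refine le_inf (map_subtype_le _) ?_
          rw [hR', ← Thompson.thompsonOf_map_of_injective L.subtype_injective]
          exact le_normalizer_map _
        · set Z : Subgroup L := (R : Subgroup L) ⊓ centralizer ((R : Subgroup L) : Set L) with hZdef
          have hZ1 : Z ≠ ⊥ := by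
            intro hc'
            have := (nontrivial_iff_ne_bot _).mpr hR1
            have := R.2.center_nontrivial
            refine not_subsingleton (center (R : Subgroup L)) ⟨fun a b => ?_⟩
            have hz : ∀ z : center (R : Subgroup L), z = 1 := fun z => by
              refine Subtype.ext (Subtype.ext (mem_bot.mp (hc' ▸ ⟨z.1.2, ?_⟩)))
              exact mem_centralizer_iff.mpr fun y hy =>
                congrArg (fun w : (R : Subgroup L) => (w : L)) (mem_center_iff.mp z.2 ⟨y, hy⟩)
            rw [hz a, hz b]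
          have hXne : L ⊓ centralizer ((Z.map L.subtype : Subgroup Δ) : Set Δ) ≠ L := by
            intro he
            refine hZ1 (le_bot_iff.mp ?_)
            intro z hz
            have h1 : z ∈ center L := mem_center_iff.mpr fun x => Subtype.ext
              (mem_centralizer_iff.mp ((inf_eq_left.mp he) x.2) z (mem_map_of_mem _ hz)).symm
            have h2 := hZ ▸ mem_map_of_mem L.subtype h1
            exact mem_bot.mpr (Subtype.ext (mem_bot.mp h2))
          have hdX : d ∈ normalizer ((L ⊓ centralizer ((Z.map L.subtype : Subgroup Δ) : Set Δ)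
              : Subgroup Δ) : Set Δ) := by
            have hdZ : d ∈ normalizer ((Z.map L.subtype : Subgroup Δ) : Set Δ) := by
              rw [mem_normalizer_iff_map_conj_eq,
                map_inf_centralizer_of_inf_ker L.subtype (by rw [ker_subtype, inf_bot_eq])]
              show Subgroup.map (MulAut.conj d).toMonoidHom _ = _
              rw [map_inf_centralizer_of_inf_ker (MulAut.conj d).toMonoidHom (by
                rw [(MonoidHom.ker_eq_bot_iff _).mpr (MulAut.conj d).injective, inf_bot_eq])]
              have : R'.map (MulAut.conj d).toMonoidHom = R' :=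
                mem_normalizer_iff_map_conj_eq.mp hnorm
              rw [this]
            rw [mem_normalizer_iff]
            intro x
            rw [mem_inf, mem_inf]
            refine and_congr ⟨fun hx => hLn.conj_mem x hx d,
              fun hx => by simpa [mul_assoc] using hLn.conj_mem _ hx d⁻¹⟩ ?_
            simp only [mem_centralizer_iff]
            refine ⟨fun hh y hy => ?_, fun hh y hy => ?_⟩
            · have := hh _ ((mem_normalizer_iff''.mp hdZ y).mp hy)
              calc y * (d * x * d⁻¹) = d * ((d⁻¹ * y * d) * x) * d⁻¹ := by group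
                _ = d * (x * (d⁻¹ * y * d)) * d⁻¹ := by rw [this]
                _ = d * x * d⁻¹ * y := by group
            · have := hh _ ((mem_normalizer_iff.mp hdZ y).mp hy)
              calc y * x = d⁻¹ * ((d * y * d⁻¹) * (d * x * d⁻¹)) * d := by group
                _ = d⁻¹ * ((d * x * d⁻¹) * (d * y * d⁻¹)) * d := by rw [this]
                _ = x * y := by group
          refine hasNormalPComplement_of_map_le L.subtype_injective ?_
            (hasNormalPComplement_of_isNilpotent (proper _ inf_le_left hXne l₀ hl₀ hdX))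
          refine le_inf (map_subtype_le _) ((map_centralizer_le_centralizer_image _ _).trans_eq ?_)
          rw [coe_map]
      have hKne : (pResidual r L).map L.subtype ≠ L := by
        intro he
        have hcard := card_map_of_injective (K := pResidual r L) L.subtype_injective
        rw [he] at hcard
        exact ((Nat.Prime.coprime_iff_not_dvd hr).mp
          (coprime_card_pResidual_of_hasNormalPComplement key).symm) (hcard ▸ hrd)
      have := pResidual_characteristic (p := r) (G := L)
      have hKs := proper _ (map_subtype_le (pResidual r L)) hKne 1 (one_mem L)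
        (normalizer_eq_top (H := (pResidual r L).map L.subtype) ▸ mem_top _)
      have : Group.IsNilpotent (L ⧸ pResidual r L) := (isPGroup_quotient_pResidual).isNilpotent
      have : Group.IsSolvable (pResidual r L) :=
        Group.isSolvable_of_surjective
          (f := ((pResidual r L).equivMapOfInjective L.subtype L.subtype_injective).symm.toMonoidHom)
          (MulEquiv.surjective _)
      exact Group.isSolvable_of_ker_le_range (pResidual r L).subtype
        (QuotientGroup.mk' (pResidual r L)) (by rw [QuotientGroup.ker_mk', range_subtype])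
    by_cases hL : L = ⊥
    · subst hL; infer_instance
    obtain ⟨V, hVL, hVmin⟩ := Core.exists_isMinNormal_le hL
    have := hVmin.normal
    have : Group.IsSolvable V := Core.isSolvable_mono hsolv hVL
    have hVc := hVmin.isMulCommutative
    obtain ⟨l, hl, hVl, -⟩ := hVmin.exists_isPGroup
    have := Fact.mk hl
    refine FixedPointFree.isNilpotent_of_map hVL (quot V hVL hVmin.ne_bot) hl hVl fun q hq hql => ?_
    have := Fact.mk hq
    obtain ⟨S⟩ := (inferInstance : Nonempty (Sylow q L))
    obtain ⟨l₀, hl₀, hnorm⟩ := exists_mul_mem_normalizer_sylow c S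
    refine ⟨S, ?_⟩
    set Q : Subgroup Δ := (S : Subgroup L).map L.subtype with hQ
    have hsp' := splitting_of_mul hsp hl₀
    set d := l₀ * c
    have hdp : d ^ p = 1 := hsp l₀ hl₀
    have hQL : Q ≤ L := map_subtype_le _
    have hQp : IsPGroup q Q := S.2.map _
    have hcopQ : q ≠ p → (Nat.card Q).Coprime p := by
      intro hne
      obtain ⟨k, hk⟩ := IsPGroup.iff_card.mp hQp
      rw [hk]
      exact ((Nat.coprime_primes hq hp).mpr hne).pow_left k
    have hcopV : l ≠ p → (Nat.card V).Coprime p := by
      intro hne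
      obtain ⟨k, hk⟩ := IsPGroup.iff_card.mp hVl
      rw [hk]
      exact ((Nat.coprime_primes hl hp).mpr hne).pow_left k
    have hQV : Q ≤ normalizer (V : Set Δ) := le_normalizer_of_normal
    have hdV : d ∈ normalizer (V : Set Δ) := normalizer_eq_top (H := V) ▸ mem_top _
    have hcop : (Nat.card Q).Coprime (Nat.card V) := by
      obtain ⟨a, ha⟩ := IsPGroup.iff_card.mp hQp
      obtain ⟨b, hb⟩ := IsPGroup.iff_card.mp hVl
      rw [ha, hb]
      exact ((Nat.coprime_primes hq hl).mpr hql).pow a b
    rcases eq_or_ne l p with hlp | hlp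
    · -- `V` is a `p`-group: the norm of `d` vanishes on it
      have hqp : q ≠ p := hlp ▸ hql
      have hfQ : Q ⊓ centralizer {d} = ⊥ := fixed_eq_bot_of_splitting hsp' hQL (hcopQ hqp)
      rw [le_centralizer_iff, ← commutator_eq_bot_iff_le_centralizer]
      set W := ⁅V, Q⁆ with hW
      have hWV : W ≤ V := Coprime.commutator_le_of_le_normalizer hQV
      have hWc : IsMulCommutative W := ⟨⟨fun a b => Subtype.ext
        (setLike_mul_comm (hWV a.2) (hWV b.2))⟩⟩
      have hQW : Q ≤ normalizer (W : Set Δ) :=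
        le_sup_right.trans (Coprime.le_normalizer_commutator (K := V) (A := Q))
      have hdW : d ∈ normalizer (W : Set Δ) :=
        FixedPointFree.mem_normalizer_commutator hdV hnorm
      open scoped IsMulCommutative in
      have key : ∀ v : W, v ^ Nat.card (Q.subgroupOf (normalizer (W : Set Δ))) = 1 := by
        intro v
        refine pow_card_eq_one_of_norm (normalizerMonoidHom W) (Q.subgroupOf _) ⟨d, hdW⟩ hp.pos
          (fun b hb => (mem_normalizer_iff.mp hnorm (b : Δ)).mp hb) ?_ ?_ ?_ v
        · intro i hi hip b hb hcom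
          have h1 : Commute (d ^ i) (b : Δ) := by
            have := congrArg Subtype.val hcom.eq
            simpa [Commute, SemiconjBy] using this
          obtain ⟨m, hm⟩ := exists_pow_eq_self_of_coprime (x := d) (n := i)
            (((hp.coprime_iff_not_dvd.mpr (Nat.not_dvd_of_pos_of_lt hi hip)).symm).coprime_dvd_right
              (orderOf_dvd_of_pow_eq_one hdp))
          exact Subtype.ext (FixedPointFree.eq_one_of_fixed hfQ hb (hm ▸ h1.pow_left m))
        · intro w hw
          have h1 : (w : Δ) ∈ (V ⊓ centralizer (Q : Set Δ)) ⊓ W := by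
            refine ⟨⟨hWV w.2, fun x hx => ?_⟩, w.2⟩
            have h' : x * (w : Δ) * x⁻¹ = w := congrArg Subtype.val (hw ⟨x, hQW hx⟩ hx)
            exact mul_inv_eq_iff_eq_mul.mp h'
          exact Subtype.ext (mem_bot.mp ((Coprime.abelian_decomposition hQV hcop).1.le h1))
        · intro w
          have hnorm' : ∀ i : ℕ, ((w : Δ) * d) ^ i =
              ((∏ j ∈ Finset.range i, normalizerMonoidHom W (⟨d, hdW⟩ ^ j) w : W) : Δ) * d ^ i := by
            intro i
            induction i with
            | zero => simp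
            | succ i hi =>
              rw [pow_succ, hi, Finset.prod_range_succ, Subgroup.coe_mul]
              have e : ((normalizerMonoidHom W (⟨d, hdW⟩ ^ i) w : W) : Δ) =
                  d ^ i * (w : Δ) * (d ^ i)⁻¹ := rfl
              rw [e, pow_succ]
              group
          have h1 := hnorm' p
          rw [hsp' _ (hVL (hWV w.2)), hdp, mul_one] at h1
          exact Subtype.ext h1.symm
      rw [eq_bot_iff]
      intro w hw
      have h1 : orderOf (⟨w, hw⟩ : W) ∣ 1 := by
        rw [← (hcop.coprime_dvd_right (card_dvd_of_le hWV)).gcd_eq_one]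
        refine Nat.dvd_gcd ?_ (orderOf_dvd_natCard _)
        rw [← Coprime.card_subgroupOf hQW]
        exact orderOf_dvd_of_pow_eq_one (key _)
      rw [Nat.dvd_one, orderOf_eq_one_iff] at h1
      exact mem_bot.mpr (congrArg Subtype.val h1)
    have hfV : V ⊓ centralizer {d} = ⊥ := fixed_eq_bot_of_splitting hsp' hVL (hcopV hlp)
    rcases eq_or_ne q p with hqp | hqp
    · -- `Q` is a `p`-group
      subst hqp
      by_contra hne
      set P := Q ⊔ zpowers d with hP
      have hdQ : zpowers d ≤ normalizer (Q : Set Δ) := zpowers_le.mpr hnorm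
      have hPp : IsPGroup q P := hQp.to_sup_of_normal_left'
        (FixedPointFree.isPGroup_zpowers hdp) hdQ
      set π := QuotientGroup.mk' (centralizer (V : Set Δ))
      set Qb := (Q.map π).subgroupOf (P.map π) with hQb
      have hQbn : Qb.Normal := by
        refine (normal_subgroupOf_iff_le_normalizer (Subgroup.map_mono le_sup_left)).mpr ?_
        exact (Subgroup.map_mono (sup_le le_normalizer hdQ)).trans (le_normalizer_map π)
      have hQb1 : Qb ≠ ⊥ := by
        intro h
        refine hne fun x hx => ?_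
        have h1 : (⟨π x, mem_map_of_mem π (mem_sup_left hx)⟩ : P.map π) ∈ Qb := mem_map_of_mem π hx
        rw [h, mem_bot] at h1
        exact (QuotientGroup.eq_one_iff x).mp (congrArg Subtype.val h1)
      obtain ⟨z, hzQ, hzc, hzo⟩ := exists_central_element (hPp.map π) Qb hQb1
      obtain ⟨z₀, hz₀, hz₀e'⟩ := hzQ
      have hz₀e : π z₀ = (z : Δ ⧸ centralizer (V : Set Δ)) := hz₀e'
      refine absurd hzo ?_
      have hcz : (z₀ : Δ) * d * z₀⁻¹ * d⁻¹ ∈ centralizer (V : Set Δ) := by
        rw [← QuotientGroup.eq_one_iff]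
        show π (z₀ * d * z₀⁻¹ * d⁻¹) = 1
        have e := congrArg (fun y : P.map π => (y : Δ ⧸ centralizer (V : Set Δ)))
          (mem_center_iff.mp hzc ⟨π d, mem_map_of_mem π (mem_sup_right (mem_zpowers d))⟩)
        simp only [Subgroup.coe_mul] at e
        rw [← hz₀e] at e
        rw [map_mul, map_mul, map_mul, map_inv, map_inv]
        calc π z₀ * π d * (π z₀)⁻¹ * (π d)⁻¹ = (π z₀ * π d) * ((π z₀)⁻¹ * (π d)⁻¹) := by group
          _ = (π d * π z₀) * ((π z₀)⁻¹ * (π d)⁻¹) := by rw [← e]
          _ = 1 := by group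
      have hzp : z₀ ^ q ∈ centralizer (V : Set Δ) := by
        rw [← QuotientGroup.eq_one_iff]
        show π (z₀ ^ q) = 1
        rw [map_pow, hz₀e, ← hzo, ← Subgroup.orderOf_coe]
        exact pow_orderOf_eq_one _
      have hmem := mem_centralizer_of_fpf_coset hq hVc (hcopV hlp) (hQV hz₀) hdV hcz hzp
        (by rw [hdp]; exact one_mem _) (fun k => ?_)
      · intro ho
        have h1 : (z : P.map π) = 1 :=
          Subtype.ext (hz₀e.symm.trans ((QuotientGroup.eq_one_iff z₀).mpr hmem))
        rw [h1, orderOf_one] at ho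
        exact hq.ne_one ho.symm
      · refine fixed_eq_bot_of_splitting (L := L) ?_ hVL (hcopV hlp)
        exact splitting_of_mul hsp' (pow_mem (hQL hz₀) k)
    · exact FixedPointFree.le_centralizer_of_frobenius hp hdp hQV hdV hnorm hcop hfV
        (fixed_eq_bot_of_splitting hsp' hQL (hcopQ hqp))

/-- If `c` normalises `L` and every element of `L c` has order dividing the prime `p`, then `L` is
nilpotent. -/
theorem isNilpotent_of_splitting (hp : p.Prime) {L : Subgroup G} {c : G}
    (hcL : c ∈ normalizer (L : Set G)) (hsp : ∀ l ∈ L, (l * c) ^ p = 1) : Group.IsNilpotent L := by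
  have hn : (L.subgroupOf (normalizer (L : Set G))).Normal := normal_in_normalizer
  have h := isNilpotent_of_splitting_normal hp (Nat.card L) (L.subgroupOf (normalizer (L : Set G)))
    ⟨c, hcL⟩ (fun l hl => Subtype.ext (by simpa using hsp l hl))
    (Coprime.card_subgroupOf le_normalizer).le
  exact (Group.isNilpotent_congr (subgroupOfEquivOfLe le_normalizer)).mp h

/-- A proper normal subgroup containing all elements of order different from `1` and `p`, in a
group that is not a `p`-group, has index `p`. -/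
theorem index_eq_of_forall_pow_eq_one (hp : p.Prime) (hG : ¬ IsPGroup p G) {H : Subgroup G}
    [H.Normal] (hH : H ≠ ⊤) (hpow : ∀ x : G, x ∉ H → x ^ p = 1) : H.index = p := by
  have := Fact.mk hp
  have hPQ : IsPGroup p (G ⧸ H) := by
    intro y
    obtain ⟨x, rfl⟩ := QuotientGroup.mk_surjective y
    refine ⟨1, ?_⟩
    rw [pow_one, ← QuotientGroup.mk_pow, QuotientGroup.eq_one_iff]
    by_cases hx : x ∈ H
    · exact pow_mem hx p
    · rw [hpow x hx]; exact one_mem H
  obtain ⟨m, hm⟩ := IsPGroup.iff_card.mp hPQ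
  rw [← index_eq_card] at hm
  have hm0 : m ≠ 0 := fun h => hH (index_eq_one.mp (by rw [hm, h, pow_zero]))
  by_contra hne
  have hm2 : 2 ≤ m := by
    rcases m with _ | _ | m
    · exact absurd rfl hm0
    · exact absurd (by rw [hm, pow_one]) hne
    · omega
  obtain ⟨q, hq, hqd, hqp⟩ : ∃ q, q.Prime ∧ q ∣ Nat.card H ∧ q ≠ p := by
    by_contra hno
    push Not at hno
    obtain ⟨a, ha⟩ : ∃ a, Nat.card H = p ^ a := ⟨(Nat.card H).primeFactorsList.length,
      Nat.eq_prime_pow_of_unique_prime_dvd Nat.card_pos.ne' fun hd he => hno _ hd he⟩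
    exact hG (IsPGroup.iff_card.mpr ⟨a + m, by rw [← H.card_mul_index, ha, hm, pow_add]⟩)
  have := Fact.mk hq
  obtain ⟨S⟩ := (inferInstance : Nonempty (Sylow q H))
  set Q : Subgroup G := (S : Subgroup H).map H.subtype with hQ
  set V : Subgroup G := Q ⊓ centralizer (Q : Set G) with hV
  have hQp : IsPGroup q Q := S.2.map _
  have hVc : IsMulCommutative V :=
    ⟨⟨fun a b => Subtype.ext (mem_centralizer_iff.mp b.2.2 a a.2.1)⟩⟩
  have hV1 : V ≠ ⊥ := by
    intro h
    have hQ1 : Q ≠ ⊥ := fun h' => S.ne_bot_of_dvd_card hqd (by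
      rwa [Subgroup.map_eq_bot_iff, ker_subtype, le_bot_iff] at h')
    have := (nontrivial_iff_ne_bot _).mpr hQ1
    have := hQp.center_nontrivial
    refine not_subsingleton (center Q) ⟨fun a b => ?_⟩
    have hz : ∀ z : center Q, z = 1 := fun z => by
      refine Subtype.ext (Subtype.ext (mem_bot.mp (h ▸ ⟨z.1.2, ?_⟩)))
      exact mem_centralizer_iff.mpr fun y hy =>
        congrArg (fun w : Q => (w : G)) (mem_center_iff.mp z.2 ⟨y, hy⟩)
    rw [hz a, hz b]
  have hcopV : (Nat.card V).Coprime p := by
    obtain ⟨k, hk⟩ := IsPGroup.iff_card.mp (hQp.to_le (inf_le_left : V ≤ Q))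
    rw [hk]
    exact ((Nat.coprime_primes hq hp).mpr hqp).pow_left k
  have hVH : V ≤ H := inf_le_left.trans (map_subtype_le _)
  have hfix : ∀ x : G, x ∉ H → V ⊓ centralizer {x} = ⊥ := fun x hx =>
    fixed_eq_bot_of_splitting (L := H)
      (fun l hl => hpow _ fun h => hx (by simpa using mul_mem (Subgroup.inv_mem _ hl) h)) hVH hcopV
  set N := normalizer (Q : Set G) with hN
  have hNV : N ≤ normalizer (V : Set G) := fun g hg => by
    rw [mem_normalizer_iff_map_conj_eq]
    show Subgroup.map (MulAut.conj g).toMonoidHom _ = _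
    rw [map_inf_centralizer_of_inf_ker (MulAut.conj g).toMonoidHom (by
      rw [(MonoidHom.ker_eq_bot_iff _).mpr (MulAut.conj g).injective, inf_bot_eq])]
    have : Q.map (MulAut.conj g).toMonoidHom = Q := mem_normalizer_iff_map_conj_eq.mp hg
    rw [this]
  -- a Sylow `p`-subgroup of `N_G(Q)` covers `G / H`
  obtain ⟨P₀⟩ := (inferInstance : Nonempty (Sylow p N))
  set P : Subgroup G := (P₀ : Subgroup N).map N.subtype with hP
  have hPp : IsPGroup p P := P₀.2.map _
  have hcover : ∀ g : G, ∃ x ∈ P, g⁻¹ * x ∈ H := by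
    set f := (QuotientGroup.mk' H).comp N.subtype with hf
    have hfs : Function.Surjective f := fun y => by
      obtain ⟨g, rfl⟩ := QuotientGroup.mk_surjective y
      have : g ∈ ((N ⊔ H : Subgroup G) : Set G) := by rw [S.normalizer_sup_eq_top]; trivial
      rw [mul_normal] at this
      obtain ⟨x, hx, h, hh, rfl⟩ := this
      exact ⟨⟨x, hx⟩, QuotientGroup.eq.mpr (by simpa using hh)⟩
    have htop : ((P₀.mapSurjective hfs : Sylow p (G ⧸ H)) : Subgroup (G ⧸ H)) = ⊤ :=
      ((P₀.mapSurjective hfs).3 (hPQ.to_subgroup ⊤) le_top).symm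
    intro g
    have hg : (QuotientGroup.mk g : G ⧸ H) ∈
        ((P₀.mapSurjective hfs : Sylow p (G ⧸ H)) : Subgroup (G ⧸ H)) := htop ▸ mem_top _
    rw [Sylow.coe_mapSurjective] at hg
    obtain ⟨x, hx, hxg⟩ := hg
    exact ⟨(x : G), mem_map_of_mem N.subtype hx, QuotientGroup.eq.mp hxg.symm⟩
  have hPV : P ≤ normalizer (V : Set G) := (map_subtype_le _).trans hNV
  let ψ : P →* MulAut V := V.normalizerMonoidHom.comp (inclusion hPV)
  have hker : ∀ x : P, ψ x = 1 → (x : G) ∈ centralizer (V : Set G) := fun x hx => by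
    rw [mem_centralizer_iff]
    intro v hv
    have h1 : (x : G) * v * (x : G)⁻¹ = v :=
      congrArg (fun e : MulAut V => ((e ⟨v, hv⟩ : V) : G)) hx
    exact (mul_inv_eq_iff_eq_mul.mp h1).symm
  have hnc : ∀ x : G, x ∉ H → x ∉ centralizer (V : Set G) := by
    intro x hx hc
    refine hV1 (le_bot_iff.mp (fun v hv => ?_))
    rw [← hfix x hx]
    exact ⟨hv, mem_centralizer_singleton_iff.mpr (mem_centralizer_iff.mp hc v hv)⟩
  obtain ⟨g₀, hg₀⟩ : ∃ g, g ∉ H := not_forall.mp fun h => hH (eq_top_iff.mpr fun g _ => h g)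
  obtain ⟨a, haP, ha⟩ := hcover g₀
  have haH : a ∉ H := fun h => hg₀ (by simpa using mul_mem h (Subgroup.inv_mem _ ha))
  have hR1 : (⊤ : Subgroup ψ.range) ≠ ⊥ := fun h => by
    have h1 : (⟨ψ ⟨a, haP⟩, ⟨_, rfl⟩⟩ : ψ.range) ∈ (⊥ : Subgroup ψ.range) := h ▸ mem_top _
    exact hnc a haH (hker ⟨a, haP⟩ (congrArg Subtype.val (mem_bot.mp h1)))
  obtain ⟨z, -, hzc, hzo⟩ :=
    exists_central_element (hPp.of_surjective ψ.rangeRestrict ψ.rangeRestrict_surjective) ⊤ hR1
  obtain ⟨z₀, hz₀⟩ := ψ.rangeRestrict_surjective z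
  have hz₀p : (z₀ : G) ^ p ∈ centralizer (V : Set G) := by
    refine hker (z₀ ^ p) ?_
    have h1 : z ^ p = 1 := hzo ▸ pow_orderOf_eq_one z
    rw [← hz₀, ← map_pow] at h1
    exact congrArg Subtype.val h1
  have hz₀H : (z₀ : G) ^ p ∈ H := by
    by_cases h : (z₀ : G) ∈ H
    · exact pow_mem h p
    · rw [hpow _ h]; exact one_mem H
  -- some element lies outside `H ⟨z₀⟩`
  obtain ⟨g₁, hg₁⟩ : ∃ g : G, (QuotientGroup.mk g : G ⧸ H) ∉
      zpowers (QuotientGroup.mk (z₀ : G) : G ⧸ H) := by
    by_contra hall
    push Not at hall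
    have h1 : Nat.card (G ⧸ H) ≤ p := by
      rw [← card_top, ← show zpowers (QuotientGroup.mk (z₀ : G) : G ⧸ H) = ⊤ from
        eq_top_iff.mpr fun y _ => by obtain ⟨g, rfl⟩ := QuotientGroup.mk_surjective y; exact hall g,
        Nat.card_zpowers]
      refine Nat.le_of_dvd hp.pos (orderOf_dvd_of_pow_eq_one ?_)
      rw [← QuotientGroup.mk_pow, QuotientGroup.eq_one_iff]
      exact hz₀H
    rw [← index_eq_card, hm] at h1
    have h2 : p ^ 2 ≤ p ^ m := Nat.pow_le_pow_right hp.pos hm2
    have h3 : p * 1 < p * p := Nat.mul_lt_mul_of_pos_left hp.one_lt hp.pos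
    rw [mul_one] at h3
    rw [pow_two] at h2
    omega
  obtain ⟨b, hbP, hb⟩ := hcover g₁
  have hbk : ∀ k : ℕ, (z₀ : G) ^ k * b ∉ H := by
    intro k hk
    refine hg₁ ?_
    have h1 : (QuotientGroup.mk g₁ : G ⧸ H) = QuotientGroup.mk b := QuotientGroup.eq.mpr hb
    have h2 : (QuotientGroup.mk ((z₀ : G) ^ k * b) : G ⧸ H) = 1 := (QuotientGroup.eq_one_iff _).mpr hk
    rw [QuotientGroup.mk_mul, QuotientGroup.mk_pow, mul_eq_one_iff_eq_inv] at h2
    rw [h1, ← inv_mem_iff, ← h2]
    exact pow_mem (mem_zpowers _) k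
  have hbH : b ∉ H := by simpa using hbk 0
  have hcomm : (z₀ : G) * b * (z₀ : G)⁻¹ * b⁻¹ ∈ centralizer (V : Set G) := by
    refine hker (z₀ * ⟨b, hbP⟩ * z₀⁻¹ * ⟨b, hbP⟩⁻¹) ?_
    have h1 : ψ.rangeRestrict ⟨b, hbP⟩ * z = z * ψ.rangeRestrict ⟨b, hbP⟩ :=
      mem_center_iff.mp hzc _
    rw [← hz₀] at h1
    have h2 : ψ ⟨b, hbP⟩ * ψ z₀ = ψ z₀ * ψ ⟨b, hbP⟩ := congrArg Subtype.val h1
    rw [map_mul, map_mul, map_mul, map_inv, map_inv, ← h2]
    group
  have hmem := mem_centralizer_of_fpf_coset hp hVc hcopV (hPV z₀.2) (hPV hbP) hcomm hz₀p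
    (by rw [hpow b hbH]; exact one_mem _) (fun k => hfix _ (hbk k))
  have hz1 : z = 1 := by
    refine hz₀ ▸ Subtype.ext ?_
    refine MulEquiv.ext fun v => Subtype.ext ?_
    show (z₀ : G) * v * (z₀ : G)⁻¹ = v
    rw [← mem_centralizer_iff.mp hmem v v.2, mul_inv_cancel_right]
  rw [hz1, orderOf_one] at hzo
  exact hp.ne_one hzo.symm

end Cfsg.Agent.Fusion
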