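import Cfsg.Agent.Fusion.AlperinGoldschmidt
import Cfsg.Agent.SylowGraph.Basic
import Cfsg.Agent.Coprime.Elementary
import Cfsg.Prelude.Def_SylowChains

/-!
# The strong form of the Alperin–Goldschmidt fusion theorem
-/

set_option autoImplicit false
set_option maxHeartbeats 800000
set_option linter.unusedSectionVars false
set_option linter.style.haveILetI false

namespace Cfsg.Agent.Fusion.Strong

open Subgroup Cfsg Cfsg.Agent.Fusion Cfsg.Agent.SylowGraph

universe u

variable {G : Type u} [Group G] [Finite G] {p : ℕ} [hp : Fact p.Prime]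

/-- If the Sylow graph is disconnected, two normal subgroups of order divisible by `p` meet in a
subgroup of order divisible by `p`. -/
theorem dvd_card_inf (hc : ¬ IsSylowChainConnected p G) (N₁ N₂ : Subgroup G) [N₁.Normal]
    [N₂.Normal] (h1 : p ∣ Nat.card N₁) (h2 : p ∣ Nat.card N₂) :
    p ∣ Nat.card (N₁ ⊓ N₂ : Subgroup G) := by
  by_contra hK
  obtain ⟨H, hH, hpH, hse⟩ := exists_se_of_not_connected hc
  obtain ⟨T, hTH, -⟩ := exists_sylow_le hpH hse
  obtain ⟨x, hx1, hxo, hxT⟩ := exists_mem_sylow h1 T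
  obtain ⟨y, hy2, hyo, hyT⟩ := exists_mem_sylow h2 T
  have small : ∀ z ∈ N₁ ⊓ N₂, z ∈ (T : Subgroup G) → z = 1 := by
    intro z hz hzT
    obtain ⟨k, hk⟩ := IsPGroup.iff_orderOf.mp T.2 ⟨z, hzT⟩
    rw [orderOf_mk] at hk
    rcases k with _ | k
    · exact orderOf_eq_one_iff.mp (by rw [hk, pow_zero])
    · exact absurd ((dvd_pow_self p k.succ_ne_zero).trans
        (hk ▸ orderOf_dvd_natCard (N₁ ⊓ N₂) hz)) hK
  have hxy : x * y = y * x := by
    have hm : x * y * x⁻¹ * y⁻¹ ∈ N₁ ⊓ N₂ := by
      refine mem_inf.mpr ⟨?_, ?_⟩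
      · rw [show x * y * x⁻¹ * y⁻¹ = x * (y * x⁻¹ * y⁻¹) by group]
        exact mul_mem hx1 (Normal.conj_mem inferInstance _ (inv_mem hx1) y)
      · exact mul_mem (Normal.conj_mem inferInstance _ hy2 x) (inv_mem hy2)
    have := small _ hm (mul_mem (mul_mem (mul_mem hxT hyT) (inv_mem hxT)) (inv_mem hyT))
    calc x * y = x * y * x⁻¹ * y⁻¹ * (y * x) := by group
      _ = y * x := by rw [this, one_mul]
  set E := closure ({x, y} : Set G) with hE
  have hET : E ≤ (T : Subgroup G) := (closure_le _).mpr (by
    rintro z (rfl | rfl)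
    · exact hxT
    · exact hyT)
  have hEc : E ≤ centralizer (E : Set G) := by
    rw [hE, centralizer_closure, closure_le]
    intro z hz
    rw [SetLike.mem_coe, mem_centralizer_iff]
    intro w hw
    rcases hz with rfl | rfl <;> rcases hw with rfl | rfl
    · rfl
    · exact hxy.symm
    · exact hxy
    · rfl
  have hEa : IsElementaryAbelian p E := by
    refine ⟨isMulCommutative_iff.mpr fun a b => Subtype.ext
      (mem_centralizer_iff.mp (hEc b.2) a a.2), fun a ha => ?_⟩
    induction ha using closure_induction with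
    | mem z hz =>
      rcases hz with rfl | rfl
      · rw [← hxo, pow_orderOf_eq_one]
      · rw [← hyo, pow_orderOf_eq_one]
    | one => exact one_pow _
    | mul a b ha hb iha ihb =>
      rw [(show Commute a b from mem_centralizer_iff.mp (hEc hb) a ha).mul_pow, iha, ihb, one_mul]
    | inv a _ ih => rw [inv_pow, ih, inv_one]
  have hE2 : p ^ 2 ≤ Nat.card E := by
    obtain ⟨k, hk⟩ := IsPGroup.iff_card.mp (T.2.to_le hET)
    rw [hk]
    refine Nat.pow_le_pow_right hp.out.pos ?_
    by_contra hlt
    have hle : zpowers x ≤ E := zpowers_le.mpr (subset_closure (Or.inl rfl))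
    have heq : zpowers x = E := eq_of_le_of_card_ge hle (by
      rw [hk, Nat.card_zpowers, hxo]
      exact (Nat.pow_le_pow_right hp.out.pos (show k ≤ 1 by omega)).trans_eq (pow_one p))
    have hy1 : y ∈ N₁ := by
      have : y ∈ zpowers x := heq ▸ subset_closure (Or.inr rfl)
      exact zpowers_le.mpr hx1 this
    have := small y (mem_inf.mpr ⟨hy1, hy2⟩) hyT
    rw [this, orderOf_one] at hyo
    exact hp.out.ne_one hyo.symm
  have hKH : N₁ ⊓ N₂ ≤ H := by
    refine Coprime.ea_le_of_centralizers_le hEa hE2 hK ?_ fun a ha ha1 => ?_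
    · exact (normalizer_eq_top (H := N₁ ⊓ N₂)).symm ▸ le_top
    · exact inf_le_right.trans
        (SylowGraph.centralizer_le hse (Coprime.ea_orderOf hEa ha ha1) (hTH (hET ha)))
  refine not_le_of_normal hH hse h2 fun z hz => ?_
  by_contra hzH
  refine hse z hzH ?_
  have hc1 : z * x * z⁻¹ ∈ H := by
    rw [show z * x * z⁻¹ = z * x * z⁻¹ * x⁻¹ * x by group]
    refine mul_mem (hKH (mem_inf.mpr ⟨?_, ?_⟩)) (hTH hxT)
    · exact mul_mem (Normal.conj_mem inferInstance _ hx1 z) (inv_mem hx1)
    · rw [show z * x * z⁻¹ * x⁻¹ = z * (x * z⁻¹ * x⁻¹) by group]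
      exact mul_mem hz (Normal.conj_mem inferInstance _ (inv_mem hz) x)
  have hm : z * x * z⁻¹ ∈ H ⊓ H.map (MulAut.conj z).toMonoidHom :=
    mem_inf.mpr ⟨hc1, ⟨x, hTH hxT, by simp⟩⟩
  have := orderOf_dvd_natCard _ hm
  rwa [show orderOf (z * x * z⁻¹) = p from
    (MulEquiv.orderOf_eq (MulAut.conj z) x).trans hxo] at this

/-- If the Sylow graph is disconnected there is a least normal subgroup of order divisible
by `p`. -/
theorem exists_least_normal (hc : ¬ IsSylowChainConnected p G) :
    ∃ X : Subgroup G, X.Normal ∧ p ∣ Nat.card X ∧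
      ∀ Y : Subgroup G, Y.Normal → p ∣ Nat.card Y → X ≤ Y := by
  have hpG : p ∣ Nat.card G := by
    obtain ⟨H, -, hpH, -⟩ := exists_se_of_not_connected hc
    exact hpH.trans (card_subgroup_dvd_card H)
  obtain ⟨X, ⟨hXn, hXp⟩, hmin⟩ := Set.exists_min_image
    {X : Subgroup G | X.Normal ∧ p ∣ Nat.card X} (fun X => Nat.card X) (Set.toFinite _)
    ⟨⊤, inferInstance, by rwa [card_top]⟩
  refine ⟨X, hXn, hXp, fun Y hYn hYp => ?_⟩
  haveI := hXn
  haveI := hYn
  have h := hmin (X ⊓ Y) ⟨inferInstance, dvd_card_inf hc X Y hXp hYp⟩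
  exact inf_eq_left.mp (eq_of_le_of_card_ge inf_le_left h)

/-- The conditions on one step of the strong form. -/
structure Data (P : Sylow p G) (D X : Subgroup G) (x : G) : Prop where
  le : D ≤ (P : Subgroup G)
  syl : ¬ p ∣ ((P : Subgroup G) ⊓ normalizer (D : Set G)).relIndex (normalizer (D : Set G))
  cent : (P : Subgroup G) ⊓ centralizer (D : Set G) ≤ D
  layer : (pPrimePCore p ↥(normalizer (D : Set G))).map (normalizer (D : Set G)).subtype =
    D ⊔ centralizer (D : Set G)
  disc : ¬ IsSylowChainConnected p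
    (↥(normalizer (D : Set G)) ⧸ D.subgroupOf (normalizer (D : Set G)))
  least : D ≤ X ∧ X ≤ normalizer (D : Set G) ∧
    (X.subgroupOf (normalizer (D : Set G))).Normal ∧ p ∣ D.relIndex X ∧
    ∀ Y : Subgroup G, D ≤ Y → Y ≤ normalizer (D : Set G) →
      (Y.subgroupOf (normalizer (D : Set G))).Normal → p ∣ D.relIndex Y → X ≤ Y
  mem : x ∈ (pResidual p ↥X).map X.subtype

/-- Chains of steps of the strong form. -/
inductive Steps (P : Sylow p G) : Set G → G → Prop
  | nil (A : Set G) : Steps P A 1
  | cons {A : Set G} {g : G} (x : G) (D X : Subgroup G) (hA : A ⊆ (D : Set G))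
      (hd : Data P D X x) (h : Steps P (conjSet x A) g) : Steps P A (x * g)

/-- `g` is `c w y` with `w` a chain of steps. -/
def Out0 (P : Sylow p G) (A : Set G) (g : G) : Prop :=
  ∃ c ∈ centralizer A, ∃ y ∈ normalizer ((P : Subgroup G) : Set G), ∃ w,
    Steps P A w ∧ g = c * w * y

/-- `Out0` for all the translates under `N(P)`. -/
def Out (P : Sylow p G) (A : Set G) (g : G) : Prop :=
  ∀ y ∈ normalizer ((P : Subgroup G) : Set G), Out0 P (conjSet y⁻¹ A) (y * g * y⁻¹)

variable {P : Sylow p G}

theorem Steps.mono {A B : Set G} {g : G} (h : Steps P A g) (hBA : B ⊆ A) : Steps P B g := by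
  induction h generalizing B with
  | nil A => exact .nil B
  | cons x D X hA hd _ ih => exact .cons x D X (hBA.trans hA) hd (ih (conjSet_mono hBA))

theorem Steps.trans {A : Set G} {g h : G} (h1 : Steps P A g)
    (h2 : Steps P (conjSet g A) h) : Steps P A (g * h) := by
  induction h1 with
  | nil A => simpa [conjSet_one] using h2
  | cons x D X hA hd _ ih =>
    rw [mul_assoc]
    exact .cons x D X hA hd (ih (by rwa [← conjSet_mul]))

theorem Out0.mono {A B : Set G} {g : G} (h : Out0 P A g) (hBA : B ⊆ A) : Out0 P B g := by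
  obtain ⟨c, hc, y, hy, w, hw, rfl⟩ := h
  exact ⟨c, centralizer_le hBA hc, y, hy, w, hw.mono hBA, rfl⟩

theorem Out.mono {A B : Set G} {g : G} (h : Out P A g) (hBA : B ⊆ A) : Out P B g :=
  fun y hy => (h y hy).mono (conjSet_mono hBA)

theorem Out.out0 {A : Set G} {g : G} (h : Out P A g) : Out0 P A g := by
  simpa [conjSet_one] using h 1 (one_mem _)

theorem Out0.trans {A : Set G} {g h : G} (h1 : Out0 P A g) (h2 : Out P (conjSet g A) h) :
    Out0 P A (g * h) := by
  obtain ⟨c, hc, y, hy, w, hw, rfl⟩ := h1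
  have h2' := h2 y hy
  rw [← conjSet_mul, mul_inv_cancel_right, conjSet_mul, conjSet_eq_of_mem_centralizer hc] at h2'
  obtain ⟨c', hc', y', hy', w', hw', he⟩ := h2'
  refine ⟨c * (w * c' * w⁻¹), mul_mem hc ?_, y' * y, mul_mem hy' hy, w * w', hw.trans hw', ?_⟩
  · have h3 := conj_mem_centralizer_conjSet hc' w⁻¹
    rwa [← conjSet_mul, mul_inv_cancel, conjSet_one, inv_inv] at h3
  · calc c * w * y * h = c * w * (y * h * y⁻¹) * y := by group
      _ = c * w * (c' * w' * y') * y := by rw [he]
      _ = c * (w * c' * w⁻¹) * (w * w') * (y' * y) := by group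

theorem Out.trans {A : Set G} {g h : G} (h1 : Out P A g) (h2 : Out P (conjSet g A) h) :
    Out P A (g * h) := by
  intro y hy
  rw [show y * (g * h) * y⁻¹ = (y * g * y⁻¹) * (y * h * y⁻¹) by group]
  refine (h1 y hy).trans fun z hz => ?_
  rw [← conjSet_mul, ← conjSet_mul]
  have h3 := h2 (z * y) (mul_mem hz hy)
  rw [← conjSet_mul] at h3
  rw [show y⁻¹ * (y * g * y⁻¹ * z⁻¹) = g * (z * y)⁻¹ by group,
    show z * (y * h * y⁻¹) * z⁻¹ = z * y * h * (z * y)⁻¹ by group]
  exact h3

theorem out_of_mem_normalizer (A : Set G) {g : G}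
    (hg : g ∈ normalizer ((P : Subgroup G) : Set G)) : Out P A g :=
  fun y hy => ⟨1, one_mem _, y * g * y⁻¹, mul_mem (mul_mem hy hg) (inv_mem hy), 1, .nil _,
    by group⟩

theorem out_of_mem_centralizer {A : Set G} {c : G} (hc : c ∈ centralizer A) : Out P A c := by
  intro y _
  refine ⟨y * c * y⁻¹, ?_, 1, one_mem _, 1, .nil _, by group⟩
  simpa using conj_mem_centralizer_conjSet hc y⁻¹

/-- One step of the strong form for the normaliser of a fully normalised subgroup. -/
theorem out0_of_normalizer (F : Subgroup G) (hFP : F ≤ (P : Subgroup G))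
    (hne : F ≠ (P : Subgroup G))
    (hsyl : ¬ p ∣ ((P : Subgroup G) ⊓ normalizer (F : Set G)).relIndex (normalizer (F : Set G)))
    (IH : ∀ U : Subgroup G, U ≤ (P : Subgroup G) → Nat.card F < Nat.card U → ∀ g : G,
      conjSub g U ≤ (P : Subgroup G) → Out P (U : Set G) g)
    {e : G} (he : e ∈ normalizer (F : Set G)) : Out0 P (F : Set G) e := by
  set N := normalizer (F : Set G) with hN
  set S := (P : Subgroup G) ⊓ N with hS
  have hFp : IsPGroup p F := P.2.to_le hFP
  have hFN : F ≤ N := Subgroup.le_normalizer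
  let S' : Sylow p N := IsPGroup.toSylow (P := S.subgroupOf N)
    ((P.2.to_inf_left (K := N)).comap_of_injective N.subtype N.subtype_injective) hsyl
  have hS' : (S' : Subgroup N) = S.subgroupOf N := rfl
  set F' := F.subgroupOf N with hF'
  haveI : F'.Normal := normal_in_normalizer
  have hF'p : IsPGroup p F' := hFp.comap_of_injective N.subtype N.subtype_injective
  have hF'S : F' ≤ S.subgroupOf N := fun y hy =>
    mem_subgroupOf.mpr (mem_inf.mpr ⟨hFP (mem_subgroupOf.mp hy), y.2⟩)
  have hFS : F < S := lt_inf_normalizer_of_isPGroup P.2 (lt_of_le_of_ne hFP hne)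
  have hfix : ∀ n : N, conjSet (n : G) (F : Set G) = (F : Set G) := fun n =>
    conjSet_eq_of_mem_normalizer n.2
  -- moving through a larger subgroup of `P`
  have move : ∀ (T : Subgroup G), T ≤ (P : Subgroup G) → F < T → ∀ n : G,
      conjSub n T ≤ (P : Subgroup G) → Out P (F : Set G) n := fun T hTP hFT n hn =>
    (IH T hTP (Set.Finite.card_lt_card (Set.toFinite _) (SetLike.coe_ssubset_coe.mpr hFT)) n
      hn).mono (SetLike.coe_subset_coe.mpr hFT.le)
  have move' : ∀ (T : Subgroup N), T ≤ S.subgroupOf N → F' < T → ∀ n ∈ normalizer (T : Set N),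
      Out P (F : Set G) (n : G) := by
    intro T hT hFT n hn
    have hTP : T.map N.subtype ≤ (P : Subgroup G) := by
      rintro _ ⟨t, ht, rfl⟩
      exact (mem_inf.mp (mem_subgroupOf.mp (hT ht))).1
    refine move _ hTP ?_ _ ?_
    · rw [← map_subgroupOf_eq_of_le hFN]
      exact map_lt_map_iff_of_injective N.subtype_injective |>.mpr hFT
    · intro y hy
      rw [mem_conjSub] at hy
      obtain ⟨t, ht, hte⟩ := hy
      refine hTP ⟨n⁻¹ * t * n, ((mem_normalizer_iff''.mp hn) t).mp ht, ?_⟩
      show (n : G)⁻¹ * (t : G) * n = y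
      rw [show (t : G) = (n : G) * y * (n : G)⁻¹ from hte]
      group
  have hcentF : ∀ c ∈ centralizer (F' : Set N), (c : G) ∈ centralizer (F : Set G) := fun c hc =>
    mem_centralizer_iff.mpr fun f hf => congrArg Subtype.val
      (mem_centralizer_iff.mp hc ⟨f, hFN hf⟩ (mem_subgroupOf.mpr hf))
  by_cases h1 : (S' : Subgroup N) ⊓ pPrimePCore p N ≤ F'
  swap
  · -- Frattini in the `p'`-core
    obtain ⟨d, hd, n, hn, hdn⟩ := exists_pPrimeCore_mul S' (⟨e, he⟩ : N)
    have hd' : d ∈ centralizer (F' : Set N) :=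
      le_centralizer_iff.mp ((Core.le_pCore hF'p).trans Core.pCore_le_centralizer_pPrimeCore) hd
    rw [show e = (d : G) * (n : G) from congrArg Subtype.val hdn]
    refine ((out_of_mem_centralizer (hcentF d hd')).trans ?_).out0
    rw [conjSet_eq_of_mem_centralizer (hcentF d hd')]
    refine move' _ inf_le_left ?_ n hn
    exact lt_of_le_of_ne (le_inf hF'S (le_pPrimePCore_of_isPGroup hF'p)) fun e => h1 e.ge
  by_cases h2 : (S' : Subgroup N) ⊓ centralizer (F' : Set N) ≤ F'
  swap
  · -- Frattini in the centralizer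
    haveI : (centralizer (F' : Set N)).Normal := Subgroup.normal_centralizer
    set T0 := (S' : Subgroup N) ⊓ centralizer (F' : Set N) with hT0
    have hx' : (⟨e, he⟩ : N) ∈
        (↑(centralizer (F' : Set N) ⊔ normalizer (T0 : Set N)) : Set N) := by
      rw [sup_comm, normalizer_sylow_inf_sup_eq_top]; trivial
    rw [normal_mul] at hx'
    obtain ⟨c, hc, n, hn, hcn⟩ := hx'
    rw [show e = (c : G) * (n : G) from (congrArg Subtype.val hcn).symm]
    refine ((out_of_mem_centralizer (hcentF c hc)).trans ?_).out0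
    rw [conjSet_eq_of_mem_centralizer (hcentF c hc)]
    refine move' (T0 ⊔ F') (sup_le inf_le_left hF'S) ?_ n ?_
    · exact lt_of_le_of_ne le_sup_right fun e => h2 (le_sup_left.trans e.ge)
    · exact (le_inf le_rfl (by rw [normalizer_eq_top (H := F')]; exact le_top) :
        normalizer (T0 : Set N) ≤ normalizer (T0 : Set N) ⊓ normalizer (F' : Set N)).trans
        (normalizer_inf_normalizer_le_normalizer_sup T0 F') hn
  -- the main case
  obtain ⟨hc, hp1, hp2, hcm, -, hs⟩ := centralizer_le_and_product S' hF'p h1 h2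
  have hCK : pPrimeCore p N ≤ centralizer (F' : Set N) := fun k hk =>
    mem_centralizer_iff.mpr fun f hf => (hcm k hk f hf).symm
  have hmapC : (centralizer (F' : Set N)).map N.subtype = centralizer (F : Set G) := by
    refine le_antisymm ?_ fun c hc' => ?_
    · rintro _ ⟨c, hc', rfl⟩
      exact hcentF c hc'
    · exact ⟨⟨c, centralizer_le_normalizer _ hc'⟩, mem_centralizer_iff.mpr fun y hy =>
        Subtype.ext (mem_centralizer_iff.mp hc' (y : G) (mem_subgroupOf.mp hy)), rfl⟩
  have hmapF : F'.map N.subtype = F := map_subgroupOf_eq_of_le hFN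
  have hlayer : (pPrimePCore p N).map N.subtype = F ⊔ centralizer (F : Set G) := by
    have : pPrimePCore p N = F' ⊔ centralizer (F' : Set N) := by
      refine le_antisymm ?_ (sup_le hp2 hc)
      rw [← hs]
      exact sup_le (hCK.trans le_sup_right) le_sup_left
    rw [this, Subgroup.map_sup, hmapF, hmapC]
  have hcent : (P : Subgroup G) ⊓ centralizer (F : Set G) ≤ F := by
    rintro z ⟨hzP, hzC⟩
    have hzN : z ∈ N := centralizer_le_normalizer _ hzC
    refine mem_subgroupOf.mp (h2 (x := ⟨z, hzN⟩) (mem_inf.mpr ⟨mem_inf.mpr ⟨hzP, hzN⟩, ?_⟩))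
    exact mem_centralizer_iff.mpr fun y hy =>
      Subtype.ext (mem_centralizer_iff.mp hzC (y : G) (mem_subgroupOf.mp hy))
  -- the quotient
  set π := QuotientGroup.mk' F' with hπ
  have hπs : Function.Surjective π := QuotientGroup.mk'_surjective F'
  let R : Sylow p (N ⧸ F') := S'.mapSurjective hπs
  have hmemR : ∀ {a : N}, π a ∈ (R : Subgroup (N ⧸ F')) ↔ a ∈ (S' : Subgroup N) := by
    intro a
    have hR : (R : Subgroup (N ⧸ F')) = (S' : Subgroup N).map π := rfl
    rw [hR, ← mem_comap, comap_map_eq, hπ, QuotientGroup.ker_mk',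
      sup_eq_left.mpr (hF'S.trans hS'.ge)]
  by_cases hcon : IsSylowChainConnected p (N ⧸ F')
  · have key : ∀ U, Relation.ReflTransGen Adj R U → ∀ n : N, π n • R = U →
        Out P (F : Set G) (n : G) := by
      intro U hU
      induction hU with
      | refl =>
        intro n hn
        refine move' _ le_rfl ?_ n ?_
        · rw [hF']
          exact lt_of_le_of_ne hF'S fun h => hFS.ne (by
            rw [← map_subgroupOf_eq_of_le hFN, h, map_subgroupOf_eq_of_le inf_le_right])
        · rw [mem_normalizer_iff]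
          intro a
          show a ∈ (S' : Subgroup N) ↔ n * a * n⁻¹ ∈ (S' : Subgroup N)
          rw [← hmemR (a := a), ← hmemR (a := n * a * n⁻¹), map_mul, map_mul, map_inv]
          exact (mem_normalizer_iff.mp (Sylow.smul_eq_iff_mem_normalizer.mp hn) (π a))
      | @tail V W _ hVW ih =>
        intro n hn
        obtain ⟨q, hq⟩ := MulAction.exists_smul_eq (N ⧸ F') R V
        obtain ⟨d, rfl⟩ := hπs q
        rw [show (n : G) = (d : G) * ((d⁻¹ * n : N) : G) by simp]
        refine (ih d hq).trans ?_
        rw [hfix]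
        set z := d⁻¹ * n with hz
        have hadj : Adj R (π z • R) := by
          have := adj_smul (π d)⁻¹ hVW
          rwa [← hq, inv_smul_smul, ← hn, smul_smul, ← map_inv, ← map_mul] at this
        obtain ⟨⟨q, hq'⟩, hq1⟩ := Subgroup.ne_bot_iff_exists_ne_one.1 hadj.2
        obtain ⟨hqR, hqW⟩ := mem_inf.mp hq'
        obtain ⟨a, rfl⟩ := hπs q
        have ha1 : a ∈ (S' : Subgroup N) := hmemR.mp hqR
        have ha2 : z⁻¹ * a * z ∈ (S' : Subgroup N) := hmemR.mp (by
          rw [map_mul, map_mul, map_inv]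
          exact SylowGraph.mem_smul.mp hqW)
        refine move (S ⊓ conjSub (z : G)⁻¹ S) (inf_le_left.trans inf_le_left) ?_ _ ?_
        · refine lt_of_le_of_ne (le_inf hFS.le ?_) fun h => ?_
          · intro f hf
            rw [mem_conjSub, inv_inv]
            exact hFS.le ((mem_normalizer_iff''.mp z.2 f).mp hf)
          · refine hq1 (Subtype.ext ?_)
            have haF : (a : G) ∈ F := h.ge (mem_inf.mpr ⟨mem_subgroupOf.mp ha1, by
              rw [mem_conjSub, inv_inv]
              exact mem_subgroupOf.mp ha2⟩)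
            show π a = 1
            exact (QuotientGroup.eq_one_iff a).mpr (mem_subgroupOf.mpr haF)
        · intro x hx
          rw [mem_conjSub, mem_inf, mem_conjSub, inv_inv] at hx
          have h3 := hx.2
          rw [show (z : G)⁻¹ * ((z : G) * x * (z : G)⁻¹) * (z : G) = x by group] at h3
          exact (mem_inf.mp h3).1
    exact (key _ (isSylowChainConnected_iff.mp hcon R _) ⟨e, he⟩ rfl).out0
  · obtain ⟨X₀, hX₀n, hX₀p, hmin⟩ := exists_least_normal hcon
    haveI := hX₀n
    set X' := X₀.comap π with hX'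
    haveI : X'.Normal := Normal.comap hX₀n π
    set X := X'.map N.subtype with hX
    have hXN : X ≤ N := map_subtype_le _
    have hXs : X.subgroupOf N = X' := comap_map_eq_self_of_injective N.subtype_injective _
    have hF'X : F' ≤ X' := fun f hf => by
      rw [hX', mem_comap, hπ, show QuotientGroup.mk' F' f = 1 from
        (QuotientGroup.eq_one_iff f).mpr hf]
      exact one_mem _
    have hFX : F ≤ X := hmapF.ge.trans (map_mono hF'X)
    have hrel : ∀ Y : Subgroup N, F'.relIndex Y = Nat.card (Y.map π) := fun Y => by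
      conv_lhs => arg 1; rw [← QuotientGroup.ker_mk' F']
      rw [Subgroup.relIndex_ker]
    have hFXp : p ∣ F.relIndex X := by
      rw [hX, ← hmapF, relIndex_map_map_of_injective _ _ N.subtype_injective, hrel, hX',
        map_comap_eq_self_of_surjective hπs]
      exact hX₀p
    have hnormX : (X.subgroupOf N).Normal := by rw [hXs]; infer_instance
    have hleast : ∀ Y : Subgroup G, F ≤ Y → Y ≤ N → (Y.subgroupOf N).Normal →
        p ∣ F.relIndex Y → X ≤ Y := by
      intro Y hFY hYN hYn hYp
      have hY : (Y.subgroupOf N).map N.subtype = Y := map_subgroupOf_eq_of_le hYN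
      have hle : X' ≤ Y.subgroupOf N := by
        have h3 : X₀ ≤ (Y.subgroupOf N).map π := by
          refine hmin _ (Normal.map hYn π hπs) ?_
          rw [← hrel, ← relIndex_map_map_of_injective _ _ N.subtype_injective, hmapF, hY]
          exact hYp
        refine (comap_mono h3).trans ?_
        rw [comap_map_eq, hπ, QuotientGroup.ker_mk']
        exact sup_le le_rfl fun f hf => mem_subgroupOf.mpr (hFY (mem_subgroupOf.mp hf))
      exact hY ▸ map_mono hle
    -- the Sylow subgroup of `X`
    set T' := (S' : Subgroup N) ⊓ X' with hT'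
    have hTS : T' ≤ S.subgroupOf N := inf_le_left
    have hTi : ¬ p ∣ T'.relIndex X' := by
      rw [hT', inf_relIndex_right]; exact Thompson.not_dvd_relIndex_sylow S' X'
    have hFT : F' < T' := by
      refine lt_of_le_of_ne (le_inf (hF'S.trans hS'.ge) hF'X) fun h => hTi ?_
      rw [← h, ← relIndex_map_map_of_injective _ _ N.subtype_injective, hmapF]
      exact hFXp
    have he' : (⟨e, he⟩ : N) ∈ (↑(X' ⊔ normalizer (T' : Set N)) : Set N) := by
      rw [sup_comm, hT', normalizer_sylow_inf_sup_eq_top]; trivial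
    rw [normal_mul] at he'
    obtain ⟨x, hx, n, hn, hxn⟩ := he'
    have hn' : Out P (F : Set G) (n : G) := move' T' hTS hFT n hn
    set T := T'.map N.subtype with hT
    have hTX : T ≤ X := map_mono inf_le_right
    have hTP : T ≤ (P : Subgroup G) := by
      rintro _ ⟨t, ht, rfl⟩
      exact (mem_inf.mp (mem_subgroupOf.mp (hTS ht))).1
    let TX : Sylow p X := IsPGroup.toSylow (P := T.subgroupOf X)
      ((P.2.to_le hTP).comap_of_injective X.subtype X.subtype_injective)
      (by
        intro h
        refine hTi ?_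
        rw [← relIndex_map_map_of_injective _ _ N.subtype_injective]
        exact h)
    haveI : (pResidual p X).Normal := Fusion.pResidualNormal
    have hx' : (⟨(x : G), mem_map_of_mem N.subtype hx⟩ : X) ∈
        (↑(pResidual p X ⊔ (TX : Subgroup X)) : Set X) := by
      rw [sup_comm, sylow_sup_pResidual]; trivial
    rw [normal_mul] at hx'
    obtain ⟨a, ha, b, hb, hab⟩ := hx'
    have habG : (a : G) * (b : G) = (x : G) := congrArg Subtype.val hab
    have hd : Data P F X (a : G) := ⟨hFP, hsyl, hcent, hlayer, hcon,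
      ⟨hFX, hXN, hnormX, hFXp, hleast⟩, ⟨a, ha, rfl⟩⟩
    have hstep : Out0 P (F : Set G) (a : G) :=
      ⟨1, one_mem _, 1, one_mem _, (a : G) * 1, .cons _ F X subset_rfl hd (.nil _), by simp⟩
    rw [show e = (a : G) * ((b : G) * (n : G)) by
      rw [← mul_assoc, habG]; exact (congrArg Subtype.val hxn).symm]
    refine hstep.trans ?_
    rw [conjSet_eq_of_mem_normalizer (hXN a.2)]
    refine (out_of_mem_normalizer _ (le_normalizer (hTP (mem_subgroupOf.mp hb)))).trans ?_
    rw [conjSet_eq_of_mem_normalizer (hXN b.2)]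
    exact hn'

theorem out0_of_conjSub_le (P : Sylow p G) (U : Subgroup G) (g : G)
    (hU : U ≤ (P : Subgroup G)) (hg : conjSub g U ≤ (P : Subgroup G)) :
    Out P (U : Set G) g := by
  induction hn : Nat.card G - Nat.card U using Nat.strong_induction_on generalizing U g with
  | _ n IH =>
  subst hn
  have big : ∀ V : Subgroup G, V ≤ (P : Subgroup G) → Nat.card U < Nat.card V → ∀ g' : G,
      conjSub g' V ≤ (P : Subgroup G) → Out P (V : Set G) g' := by
    intro V hV hlt g' hg'
    refine IH _ ?_ V g' hV hg' rfl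
    have := Nat.le_of_dvd Nat.card_pos (card_subgroup_dvd_card V)
    omega
  have key : ∀ (A : Set G) (g' : G), GChain P A g' →
      (∀ F : Subgroup G, A ⊆ F → Nat.card U ≤ Nat.card F) → Out P A g' := by
    intro A g' h
    induction h with
    | base c hc => exact fun _ => out_of_mem_centralizer hc
    | @cons A g' x D hA hx hD _ ih =>
      intro hcard
      refine Out.trans (Out.mono ?_ hA) (ih fun E hE => ?_)
      · rcases (hcard D hA).eq_or_lt with heq | hlt
        · intro y hy
          rw [← coe_conjSub]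
          set D' := conjSub y⁻¹ D with hD'
          have hyP : conjSub y⁻¹ (P : Subgroup G) = (P : Subgroup G) :=
            conjSub_eq_of_mem_normalizer (inv_mem hy)
          have hD'P : D' ≤ (P : Subgroup G) := (conjSub_mono hD.le).trans hyP.le
          have hx' : y * x * y⁻¹ ∈ normalizer (D' : Set G) := by
            rw [hD', ← conjSub_normalizer, mem_conjSub]
            rw [show y⁻¹ * (y * x * y⁻¹) * y⁻¹⁻¹ = x by group]
            exact hx
          have hsyl : ¬ p ∣ ((P : Subgroup G) ⊓ normalizer (D' : Set G)).relIndex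
              (normalizer (D' : Set G)) := by
            have h3 : (P : Subgroup G) ⊓ normalizer (D' : Set G) =
                conjSub y⁻¹ ((P : Subgroup G) ⊓ normalizer (D : Set G)) := by
              conv_lhs => rw [← hyP]
              rw [hD', ← conjSub_normalizer]
              exact (map_inf _ _ _ (MulAut.conj y⁻¹⁻¹).injective).symm
            rw [h3, hD', ← conjSub_normalizer, conjSub, conjSub,
              relIndex_map_map_of_injective _ _ (MulAut.conj y⁻¹⁻¹).injective]
            exact hD.sylow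
          by_cases hDP : D' = (P : Subgroup G)
          · exact (out_of_mem_normalizer _ (by rw [← hDP]; exact hx')).out0
          · refine out0_of_normalizer D' hD'P hDP hsyl (fun V hV hlt => big V hV ?_) hx'
            rw [hD', card_conjSub] at hlt
            omega
        · exact big D hD.le hlt x (by rw [conjSub_eq_of_mem_normalizer hx]; exact hD.le)
      · rw [← card_conjSub x⁻¹ E]
        refine hcard _ fun a ha => ?_
        rw [SetLike.mem_coe, mem_conjSub, inv_inv]
        exact hE ⟨a, ha, rfl⟩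
  exact key _ g (gChain_of_conjSub_le P U g hU hg) fun F hF =>
    card_le_of_le (SetLike.coe_subset_coe.mp hF)

theorem Steps.exists_fin {A : Set G} {g : G} (h : Steps P A g) :
    ∃ (n : ℕ) (H X : Fin n → Subgroup G) (x : Fin n → G), g = (List.ofFn x).prod ∧
      ∀ i : Fin n, Data P (H i) (X i) (x i) ∧
        conjSet ((List.ofFn x).take i.val).prod A ⊆ (H i : Set G) := by
  induction h with
  | nil A => exact ⟨0, Fin.elim0, Fin.elim0, Fin.elim0, by simp, fun i => i.elim0⟩
  | @cons A g x D X hA hd _ ih =>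
    obtain ⟨n, Ds, Xs, xs, hprod, h1⟩ := ih
    refine ⟨n + 1, Fin.cons D Ds, Fin.cons X Xs, Fin.cons x xs, ?_, ?_⟩
    · simp [List.ofFn_succ, hprod]
    · intro i
      induction i using Fin.cases with
      | zero => exact ⟨by simpa using hd, by simpa [conjSet_one] using hA⟩
      | succ j =>
        exact ⟨by simpa using (h1 j).1, by simpa [List.ofFn_succ, conjSet_mul] using (h1 j).2⟩

theorem out0_of_subset (P : Sylow p G) {A : Set G} {g : G}
    (hA : A ⊆ ((P : Subgroup G) : Set G)) (hg : conjSet g A ⊆ ((P : Subgroup G) : Set G)) :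
    Out0 P A g := by
  refine ((out0_of_conjSub_le P (closure A) g ((closure_le _).mpr hA) ?_).mono
    subset_closure).out0
  rw [conjSub_le_iff, closure_le]
  intro a ha
  rw [SetLike.mem_coe, mem_conjSub, inv_inv]
  exact hg ⟨a, ha, rfl⟩

end Cfsg.Agent.Fusion.Strong
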