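import Mathlib

/-!
The transfer into a group of order two evaluated at an involution, by counting fixed cosets
modulo a `2`-group of centralizing elements.
-/

set_option autoImplicit false

namespace Cfsg.Agent.Fusion

open Subgroup MulAction

theorem toAdd_eq_one_of_ne :
    ∀ a : Multiplicative (ZMod 2), a ≠ 1 → Multiplicative.toAdd a = 1 := by decide

variable {G : Type*} [Group G] [Finite G] {H : Subgroup G}

/-- If exactly one coset fixed by a `2`-group `T` centralizing the involution `x` contributes to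
the transfer of `x`, the transfer is non-trivial. -/
theorem transfer_two_ne_one_of_unique_fixed (φ : H →* Multiplicative (ZMod 2)) {x : G}
    (hx2 : x * x = 1) (T : Subgroup G) (hT : IsPGroup 2 T) (hTx : ∀ t ∈ T, t * x = x * t)
    (hxT : x ∈ T) (hTH : T ≤ H) (hφx : φ ⟨x, hTH hxT⟩ ≠ 1)
    (huniq : ∀ g : G, (hg : ∀ t ∈ T, g⁻¹ * t * g ∈ H) →
      φ ⟨g⁻¹ * x * g, hg x hxT⟩ ≠ 1 → g ∈ H) :
    MonoidHom.transfer φ x ≠ 1 := by
  classical
  letI : Fintype (G ⧸ H) := Fintype.ofFinite _
  letI : Fintype (Quotient (orbitRel (zpowers x) (G ⧸ H))) := Fintype.ofFinite _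
  -- the contribution of a coset
  let v : G ⧸ H → Multiplicative (ZMod 2) := fun q =>
    if h : q.out⁻¹ * x * q.out ∈ H then φ ⟨_, h⟩ else 1
  have hfix : ∀ q : G ⧸ H, x • q = q ↔ q.out⁻¹ * x * q.out ∈ H := fun q => by
    conv_lhs => rw [← q.out_eq']
    rw [Quotient.smul_mk, smul_eq_mul, eq_comm, QuotientGroup.eq, mul_assoc]
  have hzfix : ∀ q : G ⧸ H, x • q = q → ∀ i : zpowers x, i • q = q := by
    rintro q hq ⟨y, hy⟩
    have : zpowers x ≤ stabilizer G q := zpowers_le.mpr hq
    exact this hy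
  have hV : MonoidHom.transfer φ x = ∏ q : G ⧸ H, v q := by
    rw [MonoidHom.transfer_eq_prod_quotient_orbitRel_zpowers_quot]
    refine Finset.prod_bij_ne_one (fun o _ _ => o.out) (fun o _ _ => Finset.mem_univ _)
      (fun o _ _ o' _ _ h => Quotient.out_injective h) (fun q _ hq => ?_)
      (fun o _ ho => ?_)
    · have hq' : q.out⁻¹ * x * q.out ∈ H := by
        by_contra hc
        exact hq (dif_neg hc)
      have hqf := (hfix q).mpr hq'
      set o : Quotient (orbitRel (zpowers x) (G ⧸ H)) := Quotient.mk _ q with ho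
      have ho' : o.out = q := by
        obtain ⟨i, hi⟩ := (Quotient.mk_out (s := orbitRel (zpowers x) (G ⧸ H)) q :)
        rw [← hi]
        exact hzfix q hqf i
      refine ⟨o, Finset.mem_univ _, ?_, ho'⟩
      refine ne_of_eq_of_ne ?_ hq
      simp only [v, ho', dif_pos hq']
      have hper : Function.minimalPeriod (x • ·) q = 1 :=
        Function.minimalPeriod_eq_one_iff_isFixedPt.mpr hqf
      simp only [hper, pow_one]
    · have hcase : Function.minimalPeriod (x • ·) o.out = 1 := by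
        have hd : Function.minimalPeriod (x • ·) o.out ∣ 2 := by
          refine Function.IsPeriodicPt.minimalPeriod_dvd ?_
          show (x • ·)^[2] o.out = o.out
          simp [Function.iterate_succ_apply', smul_smul, hx2]
        rcases (Nat.dvd_prime Nat.prime_two).mp hd with h | h
        · exact h
        · refine absurd ?_ ho
          simp only [h, pow_two, hx2, mul_one, inv_mul_cancel]
          exact map_one φ
      have hqf : x • o.out = o.out :=
        Function.minimalPeriod_eq_one_iff_isFixedPt.mp hcase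
      simp only [v, dif_pos ((hfix _).mp hqf), hcase, pow_one]
  have hval : ∀ g : G, ∀ h : g⁻¹ * x * g ∈ H, v (g : G ⧸ H) = φ ⟨g⁻¹ * x * g, h⟩ := by
    intro g h
    obtain ⟨k, hk⟩ := QuotientGroup.mk_out_eq_mul H g
    have h' : (g : G ⧸ H).out⁻¹ * x * (g : G ⧸ H).out ∈ H := by
      rw [hk, show (g * k)⁻¹ * x * (g * k) = (k : G)⁻¹ * (g⁻¹ * x * g) * k by group]
      exact H.mul_mem (H.mul_mem (H.inv_mem k.2) h) k.2
    simp only [v, dif_pos h']
    have : (⟨_, h'⟩ : H) = k⁻¹ * ⟨g⁻¹ * x * g, h⟩ * k := Subtype.ext (by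
      show (g : G ⧸ H).out⁻¹ * x * (g : G ⧸ H).out = (k : G)⁻¹ * (g⁻¹ * x * g) * k
      rw [hk]; group)
    rw [this, map_mul, map_mul, map_inv, mul_comm (φ k)⁻¹, mul_assoc, inv_mul_cancel, mul_one]
  -- the set of contributing cosets is invariant under `T`
  let S : Set (G ⧸ H) := {q | v q ≠ 1}
  have hvinv : ∀ (t : G), t ∈ T → ∀ q, v (t • q) = v q := by
    intro t ht q
    obtain ⟨g, rfl⟩ := QuotientGroup.mk_surjective q
    have e : (t * g)⁻¹ * x * (t * g) = g⁻¹ * x * g := by
      rw [show (t * g)⁻¹ * x * (t * g) = g⁻¹ * t⁻¹ * (x * t) * g by group, ← hTx t ht]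
      group
    by_cases h : g⁻¹ * x * g ∈ H
    · rw [hval g h, Quotient.smul_mk, smul_eq_mul]
      exact (hval (t * g) (by rw [e]; exact h)).trans (congrArg φ (Subtype.ext e))
    · have h1 : ∀ g : G, ¬ g⁻¹ * x * g ∈ H → v (g : G ⧸ H) = 1 := by
        intro g hg
        obtain ⟨k, hk⟩ := QuotientGroup.mk_out_eq_mul H g
        refine dif_neg fun hc => hg ?_
        have h2 := H.mul_mem (H.mul_mem k.2 hc) (H.inv_mem k.2)
        rwa [hk, show (k : G) * ((g * k)⁻¹ * x * (g * k)) * (k : G)⁻¹ = g⁻¹ * x * g by group] at h2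
      rw [Quotient.smul_mk, smul_eq_mul, h1 g h]
      exact h1 _ (by rwa [e])
  letI : MulAction T S :=
    { smul := fun t q => ⟨(t : G) • (q : G ⧸ H), by
        show v _ ≠ 1
        rw [hvinv t t.2]; exact q.2⟩
      one_smul := fun q => Subtype.ext (one_smul G (q : G ⧸ H))
      mul_smul := fun a b q => Subtype.ext (mul_smul (a : G) b (q : G ⧸ H)) }
  have h1S : ((1 : G) : G ⧸ H) ∈ S := by
    show v _ ≠ 1
    rw [hval 1 (by simpa using hTH hxT)]
    simpa using hφx
  have hfixS : Nat.card (fixedPoints T S) = 1 := by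
    refine Nat.card_eq_one_iff_exists.mpr ⟨⟨⟨_, h1S⟩, fun t => Subtype.ext ?_⟩, ?_⟩
    · show (t : G) • ((1 : G) : G ⧸ H) = _
      rw [Quotient.smul_mk, smul_eq_mul, mul_one, QuotientGroup.eq, mul_one]
      exact H.inv_mem (hTH t.2)
    · rintro ⟨⟨q, hq⟩, hqf⟩
      refine Subtype.ext (Subtype.ext ?_)
      obtain ⟨g, rfl⟩ := QuotientGroup.mk_surjective q
      have hg : ∀ t ∈ T, g⁻¹ * t * g ∈ H := by
        intro t ht
        have h2 : (t : G) • (g : G ⧸ H) = g := congrArg Subtype.val (hqf ⟨t, ht⟩)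
        rw [Quotient.smul_mk, smul_eq_mul, eq_comm, QuotientGroup.eq, ← mul_assoc] at h2
        exact h2
      have hq' : v (g : G ⧸ H) ≠ 1 := hq
      rw [hval g (hg x hxT)] at hq'
      exact QuotientGroup.eq.mpr (by simpa using huniq g hg hq')
  have : Fact (Nat.Prime 2) := ⟨Nat.prime_two⟩
  have hmod := hT.card_modEq_card_fixedPoints (α := S)
  rw [hfixS] at hmod
  have h2 := toAdd_eq_one_of_ne
  intro hone
  rw [hV] at hone
  have h3 : (∏ q : G ⧸ H, v q) = ∏ q ∈ Finset.univ.filter (· ∈ S), v q := by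
    rw [← Finset.prod_filter_ne_one]
    rfl
  rw [h3, Finset.prod_congr rfl (g := fun _ => Multiplicative.ofAdd (1 : ZMod 2)) (fun q hq => by
    rw [← h2 (v q) (Finset.mem_filter.mp hq).2, ofAdd_toAdd]), Finset.prod_const] at hone
  have h4 := congrArg Multiplicative.toAdd hone
  rw [toAdd_pow, toAdd_ofAdd, nsmul_one, toAdd_one, ZMod.natCast_eq_zero_iff_even] at h4
  have h5 : Nat.card S = (Finset.univ.filter (· ∈ S)).card := by
    rw [Nat.card_eq_fintype_card, Fintype.card_subtype]
  rw [h5] at hmod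
  rw [Nat.even_iff] at h4
  rw [Nat.ModEq, h4] at hmod
  omega

end Cfsg.Agent.Fusion
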